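import Cfsg.Agent.Lib.LocalEven.OnePointFront.Nonfull.Curved.SquareGroup

/-!
# Maximal singular subgroups, and the unitary case

The orthogonal of a maximal singular subgroup `E` exceeds it by a factor at most four.  If
`|Q| = |R|³` and every hyperplane has `(|R|³ - |R|²) / 2` zeros then `2 |E| = |R|²` and the pairing
with an element outside `R` is onto `R`.  Hence an element acting as an involution on `Q / R`
centralises `R`, and a commuting set of them centralising `R` has fewer than `|R|` actions.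
-/

set_option autoImplicit false
set_option linter.style.haveILetI false

namespace CfsgLib.LocalEven.OnePointFront.Nonfull

universe u

variable {G : Type u} [Group G]

/-- `b` acts trivially on `Q / R`. -/
def ActsTriv (R Q : Subgroup G) (b : G) : Prop := ∀ g ∈ Q, b * g * b⁻¹ * g⁻¹ ∈ R

namespace SquareGroup

variable {R Q : Subgroup G} (S : SquareGroup R Q)
include S

theorem pol_conj {g e : G} (hg : g ∈ Q) (he : e ∈ Q) {b : G}
    (hb : ∀ r ∈ R, Commute b r) {r s : G} (hr : r ∈ R) (hs : s ∈ R) {g' e' : G}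
    (hg' : b * g * b⁻¹ = g' * r) (he' : b * e * b⁻¹ = e' * s) (hg'Q : g' ∈ Q) (he'Q : e' ∈ Q) :
    pol g e = pol g' e' := by
  have h1 : b * pol g e * b⁻¹ = pol g e := by
    rw [(hb _ (S.pol_mem hg he)).eq, mul_inv_cancel_right]
  rw [← h1, show b * pol g e * b⁻¹ = pol (b * g * b⁻¹) (b * e * b⁻¹) by simp only [pol]; group,
    hg', he', S.pol_mul_left hg'Q (S.le hr) (mul_mem he'Q (S.le hs)),
    S.pol_mul_right hg'Q he'Q (S.le hs), S.pol_R hg'Q hs,
    ← S.pol_symm (S.le hr) (mul_mem he'Q (S.le hs)), S.pol_R (mul_mem he'Q (S.le hs)) hr,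
    mul_one, mul_one]

variable [Finite G]

/-- A proper subgroup of `R` lies in a hyperplane. -/
theorem exists_hyper {P : Subgroup G} (hP : P ≤ R) (hne : P ≠ R) :
    ∃ H : Subgroup G, IsHyper R H ∧ P ≤ H := by
  haveI : Fact (Nat.Prime 2) := ⟨Nat.prime_two⟩
  have hR : IsPGroup 2 R := fun r => ⟨1, Subtype.ext (by simpa [pow_two] using S.sq r r.2)⟩
  obtain ⟨n, hn⟩ := hR.exists_card_eq
  obtain ⟨i, hi⟩ := (hR.to_le hP).exists_card_eq
  have hlt : i < n := by
    by_contra h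
    exact hne (Subgroup.eq_of_le_of_card_ge hP
      (by rw [hn, hi]; exact Nat.pow_le_pow_right (by norm_num) (not_lt.1 h)))
  obtain ⟨H', hH', hle⟩ := Sylow.exists_subgroup_card_pow_prime_le 2 (G := R) (m := n - 1)
    (by rw [hn]; exact pow_dvd_pow 2 (Nat.sub_le n 1)) (P.subgroupOf R)
    ((Nat.card_congr (Subgroup.subgroupOfEquivOfLe hP).toEquiv).trans hi) (by omega)
  refine ⟨H'.map R.subtype, ⟨Subgroup.map_subtype_le _, ?_⟩, fun p hp => ⟨⟨p, hP hp⟩, hle hp, rfl⟩⟩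
  rw [Subgroup.card_map_of_injective R.subtype_injective, hH', hn, ← pow_succ']
  congr 1
  omega

omit [Finite G] in
/-- The extension of a subgroup containing `R` by one element. -/
theorem exists_extend {E : Subgroup G} (hE : E ≤ Q) (hRE : R ≤ E) {g : G} (hg : g ∈ Q) :
    ∃ E' : Subgroup G, (∀ y, y ∈ E' ↔ y ∈ E ∨ y * g⁻¹ ∈ E) := by
  have hgg : g * g ∈ E := hRE (S.sq_mem g hg)
  have hconj : ∀ {k e : G}, k ∈ Q → e ∈ E → k * e * k⁻¹ ∈ E := fun {k e} hk he => by
    rw [show k * e * k⁻¹ = pol k e * e by simp only [pol]; group]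
    exact mul_mem (hRE (S.pol_mem hk (hE he))) he
  refine ⟨{ carrier := {y | y ∈ E ∨ y * g⁻¹ ∈ E}, one_mem' := Or.inl (one_mem _),
            mul_mem' := ?_, inv_mem' := ?_ }, fun y => Iff.rfl⟩
  · rintro y z (hy | hy) (hz | hz)
    · exact Or.inl (mul_mem hy hz)
    · exact Or.inr (by rw [mul_assoc]; exact mul_mem hy hz)
    · refine Or.inr ?_
      rw [show y * z * g⁻¹ = (y * g⁻¹) * (g * z * g⁻¹) by group]
      exact mul_mem hy (hconj hg hz)
    · refine Or.inl ?_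
      rw [show y * z = (y * g⁻¹) * (g * (z * g⁻¹) * g⁻¹) * (g * g) by group]
      exact mul_mem (mul_mem hy (hconj hg hz)) hgg
  · rintro y (hy | hy)
    · exact Or.inl (inv_mem hy)
    · refine Or.inr ?_
      rw [show y⁻¹ * g⁻¹ = g⁻¹ * (y * g⁻¹)⁻¹ * g⁻¹⁻¹ * (g * g)⁻¹ by group]
      exact mul_mem (hconj (inv_mem hg) (inv_mem hy)) (inv_mem hgg)

/-- The extension has twice the order. -/
theorem card_extend {E E' : Subgroup G} {g : G} (hg : g ∉ E)
    (hE' : ∀ y, y ∈ E' ↔ y ∈ E ∨ y * g⁻¹ ∈ E) : Nat.card E' = 2 * Nat.card E := by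
  let f : E ⊕ E → E' := Sum.elim (fun e => ⟨e, (hE' _).2 (Or.inl e.2)⟩)
    (fun e => ⟨e * g, (hE' _).2 (Or.inr (by rw [mul_inv_cancel_right]; exact e.2))⟩)
  have hf : Function.Bijective f := by
    constructor
    · rintro (e | e) (e' | e') h <;> have h' := congrArg Subtype.val h <;>
        simp only [f, Sum.elim_inl, Sum.elim_inr] at h'
      · exact congrArg Sum.inl (Subtype.ext h')
      · exact absurd (show g ∈ E by
          rw [show g = (e' : G)⁻¹ * e by rw [h']; group]; exact mul_mem (inv_mem e'.2) e.2) hg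
      · exact absurd (show g ∈ E by
          rw [show g = (e : G)⁻¹ * e' by rw [← h']; group]; exact mul_mem (inv_mem e.2) e'.2) hg
      · exact congrArg Sum.inr (Subtype.ext (mul_right_cancel h'))
    · rintro ⟨y, hy⟩
      rcases (hE' y).1 hy with h | h
      · exact ⟨Sum.inl ⟨y, h⟩, rfl⟩
      · exact ⟨Sum.inr ⟨_, h⟩, Subtype.ext (inv_mul_cancel_right y g)⟩
  rw [← Nat.card_eq_of_bijective f hf, Nat.card_sum, two_mul]

variable {H : Subgroup G} (hH : IsHyper R H)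
include hH

/-- A singular subgroup lies in a maximal one, whose orthogonal is small. -/
theorem exists_singular {E₁ : Subgroup G} (hE₁ : E₁ ≤ Q) (hR₁ : R ≤ E₁)
    (h1 : ∀ e ∈ E₁, e * e ∈ H) :
    ∃ E : Subgroup G, E₁ ≤ E ∧ E ≤ Q ∧ R ≤ E ∧ (∀ e ∈ E, e * e ∈ H) ∧
      (∀ g ∈ S.perp H E, g * g ∈ H → g ∈ E) ∧
      (Nat.card (S.perp H E) = Nat.card E ∨ Nat.card (S.perp H E) = 2 * Nat.card E ∨
        Nat.card (S.perp H E) = 4 * Nat.card E ∧ S.perp H Q ⊓ S.perp H E ≤ E) := by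
  classical
  obtain ⟨E, hEmem, hEmax⟩ := Set.Finite.exists_maximalFor (fun E : Subgroup G => Nat.card E)
    {E : Subgroup G | E₁ ≤ E ∧ E ≤ Q ∧ ∀ e ∈ E, e * e ∈ H} (Set.toFinite _)
    ⟨E₁, le_rfl, hE₁, h1⟩
  obtain ⟨hle, hE, hsing⟩ := hEmem
  have hRE : R ≤ E := hR₁.trans hle
  have hU := S.le_perp_self hE hsing
  have hzero : ∀ g ∈ S.perp H E, g * g ∈ H → g ∈ E := by
    intro g hg hgg
    by_contra hgE
    obtain ⟨E', hE'⟩ := S.exists_extend hE hRE hg.1
    have hc := S.card_extend hgE hE'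
    have hmem : E' ∈ {E : Subgroup G | E₁ ≤ E ∧ E ≤ Q ∧ ∀ e ∈ E, e * e ∈ H} := by
      refine ⟨fun e he => (hE' e).2 (Or.inl (hle he)), fun y hy => ?_, fun y hy => ?_⟩
      · rcases (hE' y).1 hy with h | h
        · exact hE h
        · simpa using mul_mem (hE h) hg.1
      · rcases (hE' y).1 hy with h | h
        · exact hsing y h
        · rw [show y = y * g⁻¹ * g by group, S.mul_sq (hE h) hg.1]
          refine mul_mem (mul_mem (hsing _ h) ?_) hgg
          rw [S.pol_symm hg.1 (hE h)]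
          exact ((S.mem_perp hE).1 hg).2 _ h
    have : Nat.card E' ≤ Nat.card E := hEmax hmem (show Nat.card E ≤ Nat.card E' by omega)
    have hpos : 0 < Nat.card E := Nat.card_pos
    omega
  -- the orthogonal of an element outside `E`
  have key : ∀ u ∈ S.perp H E, u ∉ E →
      Nat.card (S.perp H E) = 2 * Nat.card E ∨
      Nat.card (S.perp H E) = 4 * Nat.card E ∧ u ∉ S.perp H (S.perp H E) := by
    intro u hu huE
    obtain ⟨E', hE'⟩ := S.exists_extend hE hRE hu.1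
    have hc := S.card_extend huE hE'
    have hrow : ∀ g : S.perp H E, (1 : G) * pol u (g : G) ∈ H ↔ (g : G) ∈ E' := by
      intro g
      rw [one_mul, hE']
      constructor
      · intro hp
        by_cases hgE : (g : G) ∈ E
        · exact Or.inl hgE
        refine Or.inr (hzero _ (mul_mem g.2 (inv_mem hu)) ?_)
        rw [S.mul_sq g.2.1 (inv_mem hu.1), mul_assoc]
        have hgg : (g : G) * g ∉ H := fun h => hgE (hzero _ g.2 h)
        have huu : u⁻¹ * u⁻¹ ∉ H := fun h => huE (hzero _ hu (by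
          rw [← inv_inv (u * u), mul_inv_rev]; exact inv_mem h))
        have hpp : pol (g : G) u⁻¹ ∈ H := by
          have e : pol (g : G) u * pol (g : G) u⁻¹ = 1 := by
            rw [← S.pol_mul_right g.2.1 hu.1 (inv_mem hu.1), mul_inv_cancel, pol_one_right]
          rw [eq_inv_of_mul_eq_one_right e, S.pol_symm hu.1 g.2.1]
          exact inv_mem hp
        have huu' : pol (g : G) u⁻¹ * (u⁻¹ * u⁻¹) ∉ H := fun h => huu
          ((H.mul_mem_cancel_left hpp).1 h)
        exact mul_mem_of_not_mem hH (S.sq_mem _ g.2.1)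
          (mul_mem (hH.1 hpp) (S.sq_mem _ (inv_mem hu.1))) hgg huu'
      · have huu : pol u u = 1 := by simp only [pol]; group
        rintro (hgE | hgE)
        · exact ((S.mem_perp hE).1 hu).2 _ hgE
        · rw [show (g : G) = (g : G) * u⁻¹ * u by group,
            S.pol_mul_right hu.1 (hE hgE) hu.1, huu, mul_one]
          exact ((S.mem_perp hE).1 hu).2 _ hgE
    have hE'le : E' ≤ S.perp H E := fun y hy => by
      rcases (hE' y).1 hy with h | h
      · exact hU h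
      · simpa using mul_mem (hU h) hu
    by_cases hup : u ∈ S.perp H (S.perp H E)
    · left
      have hle' : S.perp H E ≤ E' := fun g hg => (hrow ⟨g, hg⟩).1 (by
        rw [one_mul]; exact ((S.mem_perp (S.perp_le E)).1 hup).2 g hg)
      rw [le_antisymm hle' hE'le, hc]
    · right
      refine ⟨?_, hup⟩
      have h2 := S.two_mul_row hH (S.perp_le E) hu.1 (one_mem R) hup
      rw [Nat.card_congr (Equiv.subtypeEquivRight hrow),
        show Nat.card {g : S.perp H E // (g : G) ∈ E'} = Nat.card E' from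
          Nat.card_congr (Subgroup.subgroupOfEquivOfLe hE'le).toEquiv, hc] at h2
      omega
  refine ⟨E, hle, hE, hRE, hsing, hzero, ?_⟩
  by_cases hUE : S.perp H E ≤ E
  · exact Or.inl (by rw [le_antisymm hUE hU])
  obtain ⟨u, hu, huE⟩ := SetLike.not_le_iff_exists.1 hUE
  rcases key u hu huE with h | ⟨h, -⟩
  · exact Or.inr (Or.inl h)
  refine Or.inr (Or.inr ⟨h, fun g hg => ?_⟩)
  by_contra hgE
  rcases key g (Subgroup.mem_inf.1 hg).2 hgE with h' | ⟨-, h'⟩
  · have hpos : 0 < Nat.card E := Nat.card_pos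
    omega
  · exact h' ((S.mem_perp (S.perp_le E)).2 ⟨(Subgroup.mem_inf.1 hg).1.1,
      fun e he => ((S.mem_perp le_rfl).1 (Subgroup.mem_inf.1 hg).1).2 e (S.perp_le E he)⟩)

omit hH in
/-- The zero count of the unitary case. -/
def UnitaryCount (R Q : Subgroup G) : Prop :=
  Nat.card Q = Nat.card R ^ 3 ∧ ∀ H : Subgroup G, IsHyper R H →
    2 * Nat.card {g : Q // (g : G) * g ∈ H} + Nat.card R ^ 2 = Nat.card R ^ 3

variable (hc : UnitaryCount R Q)
include hc

theorem unitary_singular {E₁ : Subgroup G} (hE₁ : E₁ ≤ Q) (hR₁ : R ≤ E₁)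
    (h1 : ∀ e ∈ E₁, e * e ∈ H) :
    2 * Nat.card E₁ ≤ Nat.card R ^ 2 ∧ S.perp H Q ≤ R := by
  obtain ⟨E, hle, hE, hRE, hsing, hzero, htri⟩ := S.exists_singular hH hE₁ hR₁ h1
  have hcnt := S.two_card_zero hH hE hsing
  have hU := S.le_perp_self hE hsing
  have hz : Nat.card {g : S.perp H E // (g : G) * g ∈ H} = Nat.card E := by
    rw [Nat.card_congr (Equiv.subtypeEquivRight fun g : S.perp H E =>
      ⟨hzero g g.2, fun h => hsing _ h⟩)]
    exact Nat.card_congr (Subgroup.subgroupOfEquivOfLe hU).toEquiv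
  have h2 := hc.2 H hH
  rw [hz, hc.1] at hcnt
  have hpos : 0 < Nat.card E := Nat.card_pos
  have hq : 0 < Nat.card R ^ 2 := pow_pos Nat.card_pos 2
  rcases htri with h | h | ⟨h, hin⟩
  · omega
  · omega
  have hEq : 2 * Nat.card E = Nat.card R ^ 2 := by omega
  refine ⟨by have := Subgroup.card_le_of_le hle; omega, ?_⟩
  have hperp := S.card_perp hH hE
  rw [h, hc.1] at hperp
  have h0 : Nat.card ↥(E ⊓ S.perp H Q) = Nat.card R := by
    refine Nat.eq_of_mul_eq_mul_right (pow_pos (Nat.card_pos (α := R)) 3) ?_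
    rw [← hperp]
    calc 4 * Nat.card E * Nat.card E = (2 * Nat.card E) * (2 * Nat.card E) := by ring
      _ = _ := by rw [hEq]; ring
  have hRle : R ≤ E ⊓ S.perp H Q := le_inf hRE fun r hr => (S.mem_perp le_rfl).2
    ⟨S.le hr, fun g hg => by
      rw [← S.pol_symm (S.le hr) hg, S.pol_R hg hr]; exact one_mem _⟩
  intro g hg
  have hgU : g ∈ S.perp H E := (S.mem_perp hE).2
    ⟨hg.1, fun e he => ((S.mem_perp le_rfl).1 hg).2 e (hE he)⟩
  have hgE := hin (Subgroup.mem_inf.2 ⟨hg, hgU⟩)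
  rw [Subgroup.eq_of_le_of_card_ge hRle h0.le]
  exact Subgroup.mem_inf.2 ⟨hgE, hg⟩

omit hH in
/-- The pairing with an element outside `R` has kernel of order `|R|²`. -/
theorem unitary_kernel {g : G} (hg : g ∈ Q) (hgR : g ∉ R) :
    Nat.card {e : Q // pol g (e : G) = 1} = Nat.card R ^ 2 := by
  let f : ↥Q →* ↥R :=
    { toFun := fun e => ⟨pol g e, S.pol_mem hg e.2⟩
      map_one' := Subtype.ext (pol_one_right g)
      map_mul' := fun e e' => Subtype.ext (S.pol_mul_right hg e.2 e'.2) }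
  have hsurj : f.range.map R.subtype = R := by
    by_contra hne
    obtain ⟨H, hH, hle⟩ := S.exists_hyper (Subgroup.map_subtype_le f.range) hne
    refine hgR ((S.unitary_singular hH hc (S.le) le_rfl fun r hr => ?_).2
      ((S.mem_perp le_rfl).2 ⟨hg, fun e he => hle ⟨f ⟨e, he⟩, ⟨_, rfl⟩, rfl⟩⟩))
    rw [S.sq r hr]; exact one_mem _
  have h1 : Nat.card f.range = Nat.card R := by
    rw [← Subgroup.card_map_of_injective R.subtype_injective (K := f.range), hsurj]
  have h2 := Subgroup.card_eq_card_quotient_mul_card_subgroup f.ker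
  rw [Nat.card_congr (QuotientGroup.quotientKerEquivRange f).toEquiv, h1, hc.1,
    show Nat.card R ^ 3 = Nat.card R * Nat.card R ^ 2 by ring] at h2
  rw [Nat.eq_of_mul_eq_mul_left Nat.card_pos h2]
  exact Nat.card_congr (Equiv.subtypeEquivRight fun e =>
    ⟨fun h => Subtype.ext h, fun h => congrArg Subtype.val h⟩)

omit hH in
/-- An element acting as an involution on `Q / R` centralises `R`. -/
theorem unitary_commute {t : G} (hQ : t ∈ Subgroup.normalizer (Q : Set G))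
    (hR : t ∈ Subgroup.normalizer (R : Set G)) (ht : ActsTriv R Q (t * t)) :
    ∀ r ∈ R, Commute t r := by
  obtain ⟨E, hRE, hEQ, hfix, hcard⟩ := S.exists_fixed hQ hR ht
  by_contra hne
  push Not at hne
  obtain ⟨r, hr, hne⟩ := hne
  have hP : R ⊓ Subgroup.centralizer ({t} : Set G) ≠ R := fun e => hne
    (Subgroup.mem_centralizer_singleton_iff.1
      (Subgroup.mem_inf.1 (show r ∈ R ⊓ Subgroup.centralizer ({t} : Set G) from e.symm ▸ hr)).2).symm
  obtain ⟨H, hH, hle⟩ := S.exists_hyper inf_le_left hP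
  have h1 := (S.unitary_singular hH hc hEQ hRE fun e he => hle (Subgroup.mem_inf.2
    ⟨S.sq_mem e (hEQ he), Subgroup.mem_centralizer_singleton_iff.2
      (mul_inv_eq_iff_eq_mul.1 (hfix e he)).symm⟩)).1
  rw [hc.1] at hcard
  have hpos : 0 < Nat.card E := Nat.card_pos
  have h2 : (2 * Nat.card E) * (2 * Nat.card E) ≤ Nat.card R ^ 2 * Nat.card R ^ 2 :=
    Nat.mul_le_mul h1 h1
  nlinarith

omit hH in
/-- A group centralising `R` and inducing an elementary group on `Q / R` induces fewer than `|R|`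
actions. -/
theorem unitary_bound (hinv : ∀ g ∈ Q, g * g = 1 → g ∈ R) (hfour : 4 ≤ Nat.card R)
    {B T₀ : Subgroup G} (hT₀ : ∀ b, b ∈ T₀ ↔ b ∈ B ∧ ActsTriv R Q b)
    (hBQ : B ≤ Subgroup.normalizer (Q : Set G)) (hBR : ∀ b ∈ B, ∀ r ∈ R, Commute b r)
    (hB2 : ∀ b ∈ B, ActsTriv R Q (b * b))
    (hBc : ∀ b ∈ B, ∀ b' ∈ B, ActsTriv R Q (b * b' * b⁻¹ * b'⁻¹)) :
    Nat.card B < Nat.card T₀ * Nat.card R := by
  classical
  have hT₀le : T₀ ≤ B := fun b hb => ((hT₀ b).1 hb).1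
  by_contra hlt
  push Not at hlt
  obtain ⟨b₁, hb₁, hb₁0⟩ : ∃ b ∈ B, b ∉ T₀ := by
    by_contra hno
    push Not at hno
    have := Subgroup.card_le_of_le (hno : B ≤ T₀)
    have hpos : 0 < Nat.card T₀ := Nat.card_pos
    nlinarith
  have hq : ∀ {g}, g ∈ Q → ∀ {b}, b ∈ B → b * g * b⁻¹ ∈ Q := fun {g} hg {b} hb =>
    (Subgroup.mem_normalizer_iff.1 (hBQ hb) g).1 hg
  have hcR : ∀ {b}, b ∈ B → ∀ {r}, r ∈ R → b * r * b⁻¹ = r := fun {b} hb {r} hr => by
    rw [(hBR b hb r hr).eq, mul_inv_cancel_right]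
  have hBRn : ∀ {b}, b ∈ B → b ∈ Subgroup.normalizer (R : Set G) := fun {b} hb => by
    refine Subgroup.mem_normalizer_iff.2 fun r => ⟨fun hr => by rwa [hcR hb hr], fun hr => ?_⟩
    have e := hcR (inv_mem hb) hr
    rw [show b⁻¹ * (b * r * b⁻¹) * b⁻¹⁻¹ = r by group] at e
    exact e ▸ hr
  -- the group fixed modulo `R` by an element not acting trivially
  have fixed : ∀ b ∈ B, b ∉ T₀ → ∃ L : Subgroup G, R ≤ L ∧
      (∀ e, e ∈ L ↔ e ∈ Q ∧ b * e * b⁻¹ * e⁻¹ ∈ R) ∧
      Nat.card L = Nat.card R ^ 2 ∧ ∀ e ∈ L, ∀ e' ∈ L, pol e e' = 1 := by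
    intro b hb hb0
    obtain ⟨L, hRL, hLQ, -, hcard, hmem, honto⟩ := S.exists_fixed (hBQ hb) (hBRn hb) (hB2 b hb)
    have hdisp : ∀ g ∈ Q, ∀ e ∈ L, pol (b * g * b⁻¹ * g⁻¹) e = 1 := by
      intro g hg e he
      obtain ⟨heQ, her⟩ := (hmem e).1 he
      have hd : b * g * b⁻¹ * g⁻¹ ∈ Q := mul_mem (hq hg hb) (inv_mem hg)
      have h2 := S.pol_conj hg heQ (hBR b hb) (one_mem R) her
        (show b * g * b⁻¹ = (b * g * b⁻¹ * g⁻¹ * g) * 1 by group)
        (show b * e * b⁻¹ = e * (b * e * b⁻¹ * e⁻¹) by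
          rw [(S.central e heQ _ her).eq, inv_mul_cancel_right])
        (mul_mem hd hg) heQ
      rw [S.pol_mul_left hd hg heQ] at h2
      exact mul_eq_right.1 h2.symm
    obtain ⟨g, hg, hgR⟩ : ∃ g ∈ Q, b * g * b⁻¹ * g⁻¹ ∉ R := by
      by_contra hno
      push Not at hno
      exact hb0 ((hT₀ b).2 ⟨hb, hno⟩)
    have hd : b * g * b⁻¹ * g⁻¹ ∈ Q := mul_mem (hq hg hb) (inv_mem hg)
    have hle : Nat.card L ≤ Nat.card R ^ 2 := by
      rw [← S.unitary_kernel hc hd hgR]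
      exact Nat.card_le_card_of_injective
        (fun e : L => (⟨⟨e, hLQ e.2⟩, hdisp g hg e e.2⟩ :
          {e : Q // pol (b * g * b⁻¹ * g⁻¹) (e : G) = 1}))
        fun e e' h => Subtype.ext (congrArg
          (fun z : {e : Q // pol (b * g * b⁻¹ * g⁻¹) (e : G) = 1} => ((z : Q) : G)) h)
    have heq : Nat.card L = Nat.card R ^ 2 := by
      refine le_antisymm hle ?_
      rw [hc.1] at hcard
      by_contra h
      push Not at h
      nlinarith
    refine ⟨L, hRL, hmem, heq, fun e he e' he' => ?_⟩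
    obtain ⟨k, hk, hr⟩ := honto (by rw [heq, hc.1]; ring) e he
    set z := b * k * b⁻¹ * k⁻¹ with hz
    have hzQ : z ∈ Q := mul_mem (hq hk hb) (inv_mem hk)
    have he2 : e = (z * e⁻¹)⁻¹ * z := by group
    rw [he2, S.pol_mul_left (S.le (inv_mem hr)) hzQ (hLQ he'), hdisp k hk e' he',
      ← S.pol_symm (S.le (inv_mem hr)) (hLQ he'), S.pol_R (hLQ he') (inv_mem hr), mul_one]
  obtain ⟨L, hRL, hL, hLcard, hLpol⟩ := fixed b₁ hb₁ hb₁0
  have hLQ : L ≤ Q := fun e he => ((hL e).1 he).1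
  -- `B` fixes `L` modulo `R`
  have hBL : ∀ b ∈ B, ∀ e ∈ L, b * e * b⁻¹ * e⁻¹ ∈ R := by
    intro b hb e he
    obtain ⟨-, hr⟩ := (hL e).1 he
    set e' := b * e * b⁻¹ with he'
    have he'Q : e' ∈ Q := hq (hLQ he) hb
    have he'L : e' ∈ L := by
      refine (hL e').2 ⟨he'Q, ?_⟩
      set c := b₁ * b * b₁⁻¹ * b⁻¹ with hcdef
      have hcB : c ∈ B := mul_mem (mul_mem (mul_mem hb₁ hb) (inv_mem hb₁)) (inv_mem hb)
      rw [show b₁ * e' * b₁⁻¹ * e'⁻¹ =
        (c * (b * (b₁ * e * b₁⁻¹ * e⁻¹) * b⁻¹) * c⁻¹) * (c * e' * c⁻¹ * e'⁻¹) by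
          rw [hcdef, he']; group, hcR hb hr, hcR hcB hr]
      exact mul_mem hr (hBc b₁ hb₁ b hb e' he'Q)
    refine hinv _ (mul_mem he'Q (inv_mem (hLQ he))) ?_
    rw [S.mul_sq he'Q (inv_mem (hLQ he)), hLpol e' he'L e⁻¹ (inv_mem he), mul_one,
      show e' * e' = b * (e * e) * b⁻¹ by rw [he']; group, hcR hb (S.sq_mem e (hLQ he))]
    group
  have hLb : ∀ b ∈ B, b ∉ T₀ → ∀ v ∈ Q, b * v * b⁻¹ * v⁻¹ ∈ R → v ∈ L := by
    intro b hb hb0 v hv hvr
    obtain ⟨L', -, hL', hcard', -⟩ := fixed b hb hb0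
    rw [Subgroup.eq_of_le_of_card_ge (fun e he => (hL' e).2 ⟨hLQ he, hBL b hb e he⟩)
      (hcard'.trans hLcard.symm).le]
    exact (hL' v).2 ⟨hv, hvr⟩
  -- the displacements of an element outside `L` fill `L`
  have key : ∀ v ∈ Q, v ∉ L → ∀ d ∈ L, pol v d = d * d := by
    intro v hv hvL d hd
    haveI : (R.subgroupOf L).Normal := ⟨fun r hr k => by
      have hr' : (r : G) ∈ R := hr
      show (k : G) * r * (k : G)⁻¹ ∈ R
      rw [(S.central k (hLQ k.2) _ hr').eq, mul_inv_cancel_right]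
      exact hr'⟩
    have hmv : ∀ b : B, (b : G) * v * (b : G)⁻¹ * v⁻¹ ∈ L := by
      intro b
      by_cases hb0 : (b : G) ∈ T₀
      · exact hRL (((hT₀ _).1 hb0).2 v hv)
      obtain ⟨L', -, hL', hcard', -⟩ := fixed b b.2 hb0
      rw [Subgroup.eq_of_le_of_card_ge
        (fun e he => (hL' e).2 ⟨hLQ he, hBL b b.2 e he⟩) (hcard'.trans hLcard.symm).le]
      have hd' : (b : G) * v * (b : G)⁻¹ * v⁻¹ ∈ Q := mul_mem (hq hv b.2) (inv_mem hv)
      refine (hL' _).2 ⟨hd', ?_⟩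
      set δ := (b : G) * v * (b : G)⁻¹ * v⁻¹ with hδ
      rw [show (b : G) * δ * (b : G)⁻¹ * δ⁻¹ =
        ((b : G) * b * v * ((b : G) * b)⁻¹ * v⁻¹) * (δ * δ)⁻¹ by rw [hδ]; group]
      exact mul_mem (hB2 b b.2 v hv) (inv_mem (S.sq_mem δ hd'))
    let Ψ : ↥B →* ↥L ⧸ R.subgroupOf L :=
      { toFun := fun b => QuotientGroup.mk ⟨_, hmv b⟩
        map_one' := by
          rw [show (⟨((1 : ↥B) : G) * v * ((1 : ↥B) : G)⁻¹ * v⁻¹, hmv 1⟩ : ↥L) = 1 from
            Subtype.ext (by simp)]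
          rfl
        map_mul' := fun b b' => by
          rw [← QuotientGroup.mk_mul]
          refine QuotientGroup.eq.2 (Subgroup.mem_subgroupOf.2 ?_)
          set δ := (b : G) * v * (b : G)⁻¹ * v⁻¹ with hδ
          set δ' := (b' : G) * v * (b' : G)⁻¹ * v⁻¹ with hδ'
          show ((b : G) * b' * v * ((b : G) * b')⁻¹ * v⁻¹)⁻¹ * (δ * δ') ∈ R
          have h1 := hBL b b.2 δ' (hmv b')
          set r := (b : G) * δ' * (b : G)⁻¹ * δ'⁻¹ with hr
          rw [show ((b : G) * b' * v * ((b : G) * b')⁻¹ * v⁻¹)⁻¹ * (δ * δ') =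
            δ⁻¹ * δ'⁻¹ * r⁻¹ * (δ * δ') by rw [hr, hδ, hδ']; group,
            (S.central _ (mul_mem (inv_mem (hLQ (hmv b))) (inv_mem (hLQ (hmv b')))) _ (inv_mem h1)).eq,
            mul_assoc,
            show δ⁻¹ * δ'⁻¹ * (δ * δ') = pol δ⁻¹ δ'⁻¹ by simp only [pol]; group,
            hLpol _ (inv_mem (hmv b)) _ (inv_mem (hmv b')), mul_one]
          exact inv_mem h1 }
    have hker : Ψ.ker.map B.subtype ≤ T₀ := by
      rintro _ ⟨b, hb, rfl⟩
      by_contra hb0
      refine hvL (hLb b b.2 hb0 v hv ?_)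
      have h1 := (QuotientGroup.eq_one_iff (⟨_, hmv b⟩ : ↥L)).1 hb
      exact Subgroup.mem_subgroupOf.1 h1
    have hle : Nat.card Ψ.ker ≤ Nat.card T₀ := by
      rw [← Subgroup.card_map_of_injective B.subtype_injective]
      exact Subgroup.card_le_of_le hker
    have hquot : Nat.card (↥L ⧸ R.subgroupOf L) = Nat.card R := by
      have h4 := Subgroup.card_eq_card_quotient_mul_card_subgroup (R.subgroupOf L)
      rw [Nat.card_congr (Subgroup.subgroupOfEquivOfLe hRL).toEquiv, hLcard, pow_two] at h4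
      exact (Nat.eq_of_mul_eq_mul_right Nat.card_pos h4).symm
    have hsurj : Function.Surjective Ψ := by
      have h5 := Subgroup.card_eq_card_quotient_mul_card_subgroup Ψ.ker
      rw [Nat.card_congr (QuotientGroup.quotientKerEquivRange Ψ).toEquiv] at h5
      have htop : Ψ.range = ⊤ := Subgroup.eq_top_of_le_card _ (by
        rw [hquot]
        refine Nat.le_of_mul_le_mul_left ?_ (Nat.card_pos (α := T₀))
        calc Nat.card T₀ * Nat.card R ≤ Nat.card B := hlt
          _ = Nat.card Ψ.range * Nat.card Ψ.ker := h5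
          _ ≤ Nat.card T₀ * Nat.card Ψ.range := by rw [mul_comm]; gcongr)
      exact MonoidHom.range_eq_top.1 htop
    obtain ⟨b, hb⟩ := hsurj (QuotientGroup.mk ⟨d, hd⟩)
    have hr : ((b : G) * v * (b : G)⁻¹ * v⁻¹)⁻¹ * d ∈ R :=
      Subgroup.mem_subgroupOf.1 (QuotientGroup.eq.1 hb)
    set δ := (b : G) * v * (b : G)⁻¹ * v⁻¹ with hδ
    have hδQ : δ ∈ Q := hLQ (hmv b)
    have h6 : δ * δ * pol δ v * (v * v) = v * v := by
      rw [← S.mul_sq hδQ hv, show δ * v * (δ * v) = (b : G) * (v * v) * (b : G)⁻¹ by rw [hδ]; group,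
        hcR b.2 (S.sq_mem v hv)]
    rw [mul_eq_right, S.pol_symm hv hδQ] at h6
    rw [show d = δ * (δ⁻¹ * d) by group, S.pol_mul_right hv hδQ (S.le hr), S.pol_R hv hr, mul_one,
      S.mul_sq hδQ (S.le hr), S.pol_R hδQ hr, S.sq _ hr, mul_one, mul_one,
      eq_inv_of_mul_eq_one_right h6, S.inv_R (S.sq_mem δ hδQ)]
  -- contradiction: the pairing is additive
  have hidx : 2 * Nat.card L < Nat.card Q := by
    rw [hc.1, hLcard, show Nat.card R ^ 3 = Nat.card R * Nat.card R ^ 2 by ring]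
    have : 0 < Nat.card R ^ 2 := pow_pos Nat.card_pos 2
    nlinarith
  obtain ⟨v, hv, hvL⟩ := SetLike.exists_of_lt (lt_of_le_of_ne hLQ fun e => by rw [e] at hidx; omega)
  obtain ⟨L', hL'⟩ := S.exists_extend hLQ hRL hv
  have hc' := S.card_extend hvL hL'
  have hL'Q : L' ≤ Q := fun y hy => by
    rcases (hL' y).1 hy with h | h
    · exact hLQ h
    · simpa using mul_mem (hLQ h) hv
  obtain ⟨w, hw, hwL'⟩ := SetLike.exists_of_lt (lt_of_le_of_ne hL'Q fun e => by rw [e] at hc'; omega)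
  have hwL : w ∉ L := fun h => hwL' ((hL' w).2 (Or.inl h))
  have hwvL : w * v⁻¹ ∉ L := fun h => hwL' ((hL' w).2 (Or.inr h))
  have hone : L ≤ R := fun d hd => by
    refine hinv d (hLQ hd) ?_
    have hv' : v⁻¹ ∉ L := fun h => hvL (by simpa using inv_mem h)
    have e := S.pol_mul_left hw (inv_mem hv) (hLQ hd)
    rw [key _ (mul_mem hw (inv_mem hv)) hwvL d hd, key w hw hwL d hd, key _ (inv_mem hv) hv' d hd] at e
    exact mul_eq_left.1 e.symm
  have h7 := Subgroup.card_le_of_le hone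
  rw [hLcard, pow_two] at h7
  nlinarith

end SquareGroup

end CfsgLib.LocalEven.OnePointFront.Nonfull
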