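import Cfsg.Agent.Lib.LocalEven.OnePointFront.Nonfull.Curved.Data
import Cfsg.Agent.Lib.LocalEven.OnePointFront.Nonfull.Curved.Singular

/-!
# Curved lines: involutive actions on `Q / R`

An element normalising `Q` and inducing an involution on `Q / R` centralises `R`; a group
centralising `R` and inducing an elementary group on `Q / R` induces fewer than `|R|` actions.
-/

set_option autoImplicit false
set_option linter.style.haveILetI false

namespace CfsgLib.LocalEven.OnePointFront.Nonfull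

open MulAction CfsgLib.LocalEven.TIEndgame

universe u v

variable {G : Type u} {Ω : Type v} [Group G] [MulAction G Ω] {D : Set G} {a : Ω} {x : G}
  {K R Q J : Subgroup G}

namespace CurvedLine

variable (L : CurvedLine D a x K R Q J)
include L

theorem squareGroup : SquareGroup R Q := ⟨L.le, L.sq, L.sq_mem, L.central⟩

theorem J_conj_R {j r : G} (hj : j ∈ J) (hr : r ∈ R) : j * r * j⁻¹ ∈ R :=
  (Subgroup.mem_normalizer_iff.1 (Subgroup.mem_inf.1 (L.norm_J hj)).1 r).1 hr

theorem J_conj_Q {j g : G} (hj : j ∈ J) (hg : g ∈ Q) : j * g * j⁻¹ ∈ Q :=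
  (Subgroup.mem_normalizer_iff.1 (Subgroup.mem_inf.1 (L.norm_J hj)).2 g).1 hg

/-- What normalises `Q` normalises `R`. -/
theorem mem_normalizer_R {t : G} (hQ : t ∈ Subgroup.normalizer (Q : Set G)) :
    t ∈ Subgroup.normalizer (R : Set G) := by
  have key : ∀ k ∈ Subgroup.normalizer (Q : Set G), ∀ r ∈ R, k * r * k⁻¹ ∈ R := fun k hk r hr =>
    L.involution _ ((Subgroup.mem_normalizer_iff.1 hk r).1 (L.le hr)) (by
      rw [show k * r * k⁻¹ * (k * r * k⁻¹) = k * (r * r) * k⁻¹ by group, L.sq r hr]; group)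
  refine Subgroup.mem_normalizer_iff.2 fun r => ⟨key t hQ r, fun hr => ?_⟩
  have := key t⁻¹ (inv_mem hQ) _ hr
  rwa [show t⁻¹ * (t * r * t⁻¹) * t⁻¹⁻¹ = r by group] at this

/-- An element of the torus fixing one member centralises `R`. -/
theorem mem_centralizer_of_fixed {j r₀ : G} (hj : j ∈ J) (hr₀ : r₀ ∈ R) (h1 : r₀ ≠ 1)
    (h : j * r₀ * j⁻¹ = r₀) : j ∈ Subgroup.centralizer (R : Set G) := by
  refine Subgroup.mem_centralizer_iff.2 fun r hr => ?_
  rcases eq_or_ne r 1 with rfl | hne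
  · rw [one_mul, mul_one]
  obtain ⟨k, hk, rfl⟩ := L.trans_J r₀ hr₀ r hr h1 hne
  have e := L.abel_J j hj k hk r₀ hr₀
  rw [h] at e
  exact (mul_inv_eq_iff_eq_mul.1 e).symm

/-- The elements of `J` taking a member into a set `P` are counted by `P`. -/
theorem card_J_preimage [Finite G] {r₀ : G} (hr₀ : r₀ ∈ R) (h1 : r₀ ≠ 1) (P : G → Prop) :
    Nat.card {j : J // P ((j : G)⁻¹ * r₀ * j)} =
      Nat.card {r : R // P r ∧ r ≠ 1} * Nat.card ↥(J ⊓ Subgroup.centralizer (R : Set G)) := by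
  classical
  have hex : ∀ r : {r : R // P r ∧ r ≠ 1}, ∃ j ∈ J, (j : G)⁻¹ * r₀ * j = ((r : R) : G) := by
    rintro ⟨r, -, hr⟩
    obtain ⟨j, hj, e⟩ := L.trans_J r r.2 r₀ hr₀ (fun e => hr (Subtype.ext e)) h1
    exact ⟨j, hj, by rw [← e]; group⟩
  choose js hjs hje using hex
  rw [← Nat.card_prod]
  symm
  refine Nat.card_eq_of_bijective (fun p =>
    (⟨⟨(p.2 : G) * js p.1, mul_mem (Subgroup.mem_inf.1 p.2.2).1 (hjs p.1)⟩, ?_⟩ :
      {j : J // P ((j : G)⁻¹ * r₀ * j)})) ⟨?_, ?_⟩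
  · have hc : (p.2 : G)⁻¹ * r₀ * p.2 = r₀ := by
      rw [mul_assoc, Subgroup.mem_centralizer_iff.1 (Subgroup.mem_inf.1 p.2.2).2 r₀ hr₀,
        inv_mul_cancel_left]
    show P (((p.2 : G) * js p.1)⁻¹ * r₀ * ((p.2 : G) * js p.1))
    rw [show ((p.2 : G) * js p.1)⁻¹ * r₀ * ((p.2 : G) * js p.1) =
      (js p.1)⁻¹ * ((p.2 : G)⁻¹ * r₀ * p.2) * js p.1 by group, hc, hje]
    exact p.1.2.1
  · rintro ⟨r, k⟩ ⟨r', k'⟩ h
    have h' : (k : G) * js r = k' * js r' :=
      congrArg (fun z : {j : J // P ((j : G)⁻¹ * r₀ * j)} => ((z : J) : G)) h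
    have hfix : ∀ m : ↥(J ⊓ Subgroup.centralizer (R : Set G)), (m : G)⁻¹ * r₀ * m = r₀ := fun m => by
      rw [mul_assoc, Subgroup.mem_centralizer_iff.1 (Subgroup.mem_inf.1 m.2).2 r₀ hr₀,
        inv_mul_cancel_left]
    have hr : r = r' := by
      refine Subtype.ext (Subtype.ext ?_)
      rw [← hje r, ← hje r', show js r = (k : G)⁻¹ * (k' * js r') by rw [← h']; group]
      calc ((k : G)⁻¹ * (k' * js r'))⁻¹ * r₀ * ((k : G)⁻¹ * (k' * js r'))
          = (js r')⁻¹ * (((k' : G)⁻¹ * k) * r₀ * ((k' : G)⁻¹ * k)⁻¹) * js r' := by group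
        _ = (js r')⁻¹ * r₀ * js r' := by
          rw [show ((k' : G)⁻¹ * k) * r₀ * ((k' : G)⁻¹ * k)⁻¹ = r₀ by
            have e := hfix (k⁻¹ * k')
            simpa [mul_assoc] using e]
    subst hr
    exact Prod.ext rfl (Subtype.ext (mul_right_cancel h'))
  · rintro ⟨⟨j, hj⟩, hP⟩
    have hR : j⁻¹ * r₀ * j ∈ R := by
      simpa using L.J_conj_R (inv_mem hj) hr₀
    let r : {r : R // P r ∧ r ≠ 1} := ⟨⟨_, hR⟩, hP, fun e => h1 (by
      have e' : j⁻¹ * r₀ * j = 1 := congrArg Subtype.val e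
      calc r₀ = j * (j⁻¹ * r₀ * j) * j⁻¹ := by group
        _ = 1 := by rw [e', mul_one, mul_inv_cancel])⟩
    have hk : j * (js r)⁻¹ ∈ J ⊓ Subgroup.centralizer (R : Set G) := by
      refine Subgroup.mem_inf.2 ⟨mul_mem hj (inv_mem (hjs r)),
        L.mem_centralizer_of_fixed (mul_mem hj (inv_mem (hjs r))) hr₀ h1 ?_⟩
      have e : (js r)⁻¹ * r₀ * js r = j⁻¹ * r₀ * j := hje r
      calc j * (js r)⁻¹ * r₀ * (j * (js r)⁻¹)⁻¹ = j * ((js r)⁻¹ * r₀ * js r) * j⁻¹ := by group
        _ = r₀ := by rw [e]; group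
    exact ⟨(r, ⟨_, hk⟩), Subtype.ext (Subtype.ext (inv_mul_cancel_right j (js r)))⟩

/-- The members of a hyperplane of `R`. -/
theorem card_ne_one [Finite G] {H : Subgroup G} (hH : H ≤ R) :
    Nat.card {r : R // (r : G) ∈ H ∧ r ≠ 1} + 1 = Nat.card H := by
  classical
  have e := Nat.card_congr (Equiv.sumCompl fun r : H => (r : H) = 1)
  rw [Nat.card_sum] at e
  haveI : Unique {r : H // r = 1} := ⟨⟨⟨1, rfl⟩⟩, fun r => Subtype.ext r.2⟩
  rw [Nat.card_unique] at e
  have e2 : Nat.card {r : R // (r : G) ∈ H ∧ r ≠ 1} = Nat.card {r : H // ¬ r = 1} := Nat.card_congr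
    { toFun := fun r => ⟨⟨r.1, r.2.1⟩, fun h => r.2.2
        (Subtype.ext (congrArg (fun z : H => (z : G)) h))⟩
      invFun := fun r => ⟨⟨r.1, hH r.1.2⟩, r.1.2, fun h => r.2
        (Subtype.ext (congrArg (fun z : R => (z : G)) h))⟩
      left_inv := fun r => rfl
      right_inv := fun r => rfl }
  omega

/-- The torus elements stabilising a hyperplane of `R` centralise `R`. -/
theorem le_centralizer_of_hyper [Finite G] {H : Subgroup G} (hH : IsHyper R H) :
    J ⊓ Subgroup.normalizer (H : Set G) ≤ Subgroup.centralizer (R : Set G) := by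
  classical
  set JH := J ⊓ Subgroup.normalizer (H : Set G) with hJH
  set C := J ⊓ Subgroup.centralizer (R : Set G) with hC
  have hCJ : C ≤ JH := fun c hc => Subgroup.mem_inf.2 ⟨(Subgroup.mem_inf.1 hc).1,
    Subgroup.centralizer_le_normalizer _
      (Subgroup.centralizer_le (show (H : Set G) ⊆ R from hH.1) (Subgroup.mem_inf.1 hc).2)⟩
  obtain ⟨r₀, hr₀, h1⟩ : ∃ r₀ ∈ R, r₀ ≠ 1 := by
    haveI : Nontrivial R := Finite.one_lt_card_iff_nontrivial.1 (by have := L.four; omega)
    obtain ⟨r, hr⟩ := exists_ne (1 : R)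
    exact ⟨r, r.2, fun e => hr (Subtype.ext e)⟩
  have hRc := L.card_J_preimage hr₀ h1 (fun g => g ∈ R)
  have hHc := L.card_J_preimage hr₀ h1 (fun g => g ∈ H)
  have hall : Nat.card {j : J // (j : G)⁻¹ * r₀ * j ∈ R} = Nat.card J :=
    Nat.card_congr (Equiv.subtypeUnivEquiv fun j : J => by simpa using L.J_conj_R (inv_mem j.2) hr₀)
  rw [hall] at hRc
  -- both counts are multiples of the order of the stabiliser
  have hd1 : Nat.card JH ∣ Nat.card J := Subgroup.card_dvd_of_le inf_le_left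
  have hd2 : Nat.card JH ∣ Nat.card {j : J // (j : G)⁻¹ * r₀ * j ∈ H} := by
    set S : Set J := {j | (j : G)⁻¹ * r₀ * j ∈ H} with hS
    have hst : ∀ j ∈ S, ∀ k ∈ JH.subgroupOf J, j * k ∈ S := fun j hj k hk => by
      have hk' := (Subgroup.mem_inf.1 (Subgroup.mem_subgroupOf.1 hk)).2
      show ((j : G) * k)⁻¹ * r₀ * ((j : G) * k) ∈ H
      rw [show ((j : G) * k)⁻¹ * r₀ * ((j : G) * k) =
        (k : G)⁻¹ * ((j : G)⁻¹ * r₀ * j) * (k : G)⁻¹⁻¹ by group]
      exact (Subgroup.mem_normalizer_iff.1 (inv_mem hk') _).1 hj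
    have hpre : QuotientGroup.mk ⁻¹' ((QuotientGroup.mk : J → J ⧸ JH.subgroupOf J) '' S) = S := by
      refine Set.Subset.antisymm ?_ (Set.subset_preimage_image _ _)
      rintro g ⟨k, hk, e⟩
      have := hst k hk (k⁻¹ * g) (QuotientGroup.eq.1 e)
      rwa [mul_inv_cancel_left] at this
    have h := Nat.card_congr (QuotientGroup.preimageMkEquivSubgroupProdSet (JH.subgroupOf J)
      ((QuotientGroup.mk : J → J ⧸ JH.subgroupOf J) '' S))
    rw [hpre, Nat.card_prod,
      Nat.card_congr (Subgroup.subgroupOfEquivOfLe (inf_le_left : JH ≤ J)).toEquiv] at h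
    exact Dvd.intro _ h.symm
  rw [hRc] at hd1
  rw [hHc] at hd2
  set c := Nat.card C with hc
  set k := Nat.card {r : R // (r : G) ∈ H ∧ r ≠ 1} with hk
  have e1 : Nat.card {r : R // (r : G) ∈ R ∧ r ≠ 1} = 2 * k + 1 := by
    have hh := L.card_ne_one (H := H) hH.1
    have hr := L.card_ne_one (H := R) le_rfl
    have h2 := hH.2
    omega
  rw [e1, add_mul, one_mul, mul_assoc] at hd1
  have hd : Nat.card JH ∣ c := (Nat.dvd_add_right (hd2.mul_left 2)).1 hd1
  rw [← Subgroup.eq_of_le_of_card_ge hCJ (Nat.le_of_dvd Nat.card_pos hd)]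
  exact inf_le_right

end CurvedLine

namespace UnitaryLine

variable (L : UnitaryLine D a x K R Q J) [Finite G]
include L

/-- The zero count: the fibres of squaring outside `R` have the same size. -/
theorem count : SquareGroup.UnitaryCount R Q := by
  classical
  refine ⟨L.card_Q, fun H hH => ?_⟩
  obtain ⟨r₀, hr₀, h1⟩ : ∃ r₀ ∈ R, r₀ ≠ 1 := by
    haveI : Nontrivial R := Finite.one_lt_card_iff_nontrivial.1 (by have := L.four; omega)
    obtain ⟨r, hr⟩ := exists_ne (1 : R)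
    exact ⟨r, r.2, fun e => hr (Subtype.ext e)⟩
  -- the elements whose square is a member in a given set
  have fib : ∀ P : Subgroup G, P ≤ R →
      Nat.card {g : Q // (g : G) * g ∈ P} = Nat.card R +
        Nat.card {r : R // (r : G) ∈ P ∧ r ≠ 1} * Nat.card {g : Q // (g : G) * g = r₀} := by
    intro P hP
    have hex : ∀ r : {r : R // (r : G) ∈ P ∧ r ≠ 1}, ∃ j ∈ J, j * r₀ * j⁻¹ = ((r : R) : G) := by
      rintro ⟨r, -, hr⟩
      exact L.trans_J r₀ hr₀ r r.2 h1 fun e => hr (Subtype.ext e)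
    choose js hjs hje using hex
    rw [← Nat.card_prod, ← Nat.card_sum]
    symm
    refine Nat.card_eq_of_bijective (Sum.elim
      (fun r : R => (⟨⟨r, L.le r.2⟩, by
        show (r : G) * r ∈ P
        rw [L.sq r r.2]; exact one_mem _⟩ : {g : Q // (g : G) * g ∈ P}))
      (fun p => ⟨⟨js p.1 * p.2 * (js p.1)⁻¹, L.J_conj_Q (hjs p.1) p.2.1.2⟩, by
        show js p.1 * (p.2 : Q) * (js p.1)⁻¹ * (js p.1 * (p.2 : Q) * (js p.1)⁻¹) ∈ P
        rw [show js p.1 * ((p.2 : Q) : G) * (js p.1)⁻¹ * (js p.1 * (p.2 : Q) * (js p.1)⁻¹) =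
          js p.1 * (((p.2 : Q) : G) * (p.2 : Q)) * (js p.1)⁻¹ by group, p.2.2, hje]
        exact p.1.2.1⟩)) ⟨?_, ?_⟩
    · have hsq : ∀ p : {r : R // (r : G) ∈ P ∧ r ≠ 1} × {g : Q // (g : G) * g = r₀},
          js p.1 * ((p.2 : Q) : G) * (js p.1)⁻¹ * (js p.1 * (p.2 : Q) * (js p.1)⁻¹) =
            ((p.1 : R) : G) := fun p => by
        rw [show js p.1 * ((p.2 : Q) : G) * (js p.1)⁻¹ * (js p.1 * (p.2 : Q) * (js p.1)⁻¹) =
          js p.1 * (((p.2 : Q) : G) * (p.2 : Q)) * (js p.1)⁻¹ by group, p.2.2, hje]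
      rintro (r | p) (r' | p') h <;>
        have h' := congrArg (fun z : {g : Q // (g : G) * g ∈ P} => ((z : Q) : G)) h <;>
        simp only [Sum.elim_inl, Sum.elim_inr] at h'
      · exact congrArg Sum.inl (Subtype.ext h')
      · have := hsq p'
        rw [← h', L.sq r r.2] at this
        exact absurd (Subtype.ext this.symm) p'.1.2.2
      · have := hsq p
        rw [h', L.sq r' r'.2] at this
        exact absurd (Subtype.ext this.symm) p.1.2.2
      · have e := hsq p
        rw [h', hsq p'] at e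
        have hp : p.1 = p'.1 := Subtype.ext (Subtype.ext e.symm)
        rw [hp] at h'
        exact congrArg Sum.inr (Prod.ext hp
          (Subtype.ext (Subtype.ext (mul_left_cancel (mul_right_cancel h')))))
    · rintro ⟨⟨g, hg⟩, hgP⟩
      by_cases hgg : g * g = 1
      · exact ⟨Sum.inl ⟨g, L.involution g hg hgg⟩, rfl⟩
      let r : {r : R // (r : G) ∈ P ∧ r ≠ 1} :=
        ⟨⟨g * g, L.sq_mem g hg⟩, hgP, fun e => hgg (congrArg Subtype.val e)⟩
      refine ⟨Sum.inr (r, ⟨⟨(js r)⁻¹ * g * js r, ?_⟩, ?_⟩), ?_⟩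
      · simpa using L.J_conj_Q (inv_mem (hjs r)) hg
      · show (js r)⁻¹ * g * js r * ((js r)⁻¹ * g * js r) = r₀
        rw [show (js r)⁻¹ * g * js r * ((js r)⁻¹ * g * js r) = (js r)⁻¹ * (g * g) * js r by group,
          show g * g = js r * r₀ * (js r)⁻¹ from (hje r).symm]
        group
      · refine Subtype.ext (Subtype.ext ?_)
        show js r * ((js r)⁻¹ * g * js r) * (js r)⁻¹ = g
        group
  have hQ := fib R le_rfl
  rw [Nat.card_congr (Equiv.subtypeUnivEquiv fun g : Q => L.sq_mem g g.2), L.card_Q] at hQ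
  have hZ := fib H hH.1
  have hh := L.toCurvedLine.card_ne_one (H := H) hH.1
  have hr := L.toCurvedLine.card_ne_one (H := R) le_rfl
  have h2 := hH.2
  have hfour := L.four
  set q := Nat.card R with hq
  set f := Nat.card {g : Q // (g : G) * g = r₀} with hf
  set k := Nat.card {r : R // (r : G) ∈ H ∧ r ≠ 1} with hk
  rw [show Nat.card {r : R // (r : G) ∈ R ∧ r ≠ 1} = 2 * k + 1 by omega] at hQ
  have hqk : q = 2 * k + 2 := by omega
  have hf' : f = q * (q + 1) := by
    have e : (2 * k + 1) * f = (2 * k + 1) * (q * (q + 1)) := by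
      have e2 : q ^ 3 = q + (2 * k + 1) * (q * (q + 1)) := by rw [hqk]; ring
      omega
    exact Nat.eq_of_mul_eq_mul_left (by omega) e
  rw [hZ, hf', hqk]
  ring

end UnitaryLine

namespace SuzukiLine

variable (L : SuzukiLine D a x K R Q J) [Finite G]
include L

/-- Half of the squares lie in a hyperplane. -/
theorem count {H : Subgroup G} (hH : IsHyper R H) :
    2 * Nat.card {g : Q // (g : G) * g ∈ H} = Nat.card Q := by
  classical
  choose s hs hss using fun r : H => L.sq_onto r (hH.1 r.2)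
  have e : Nat.card (H × R) = Nat.card {g : Q // (g : G) * g ∈ H} := by
    have hsq : ∀ p : H × R, s p.1 * (p.2 : G) * (s p.1 * p.2) = ((p.1 : H) : G) := fun p => by
      rw [L.toCurvedLine.squareGroup.mul_sq (hs p.1) (L.le p.2.2),
        L.toCurvedLine.squareGroup.pol_R (hs p.1) p.2.2, mul_one, L.sq _ p.2.2, mul_one, hss]
    refine Nat.card_eq_of_bijective (fun p : H × R =>
      (⟨⟨s p.1 * p.2, mul_mem (hs p.1) (L.le p.2.2)⟩, by
        show s p.1 * (p.2 : G) * (s p.1 * p.2) ∈ H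
        rw [hsq p]; exact p.1.2⟩ : {g : Q // (g : G) * g ∈ H})) ⟨?_, ?_⟩
    · intro p p' h
      have h' : s p.1 * (p.2 : G) = s p'.1 * p'.2 :=
        congrArg (fun z : {g : Q // (g : G) * g ∈ H} => ((z : Q) : G)) h
      have e1 := hsq p
      rw [h', hsq p'] at e1
      have e2 : p.1 = p'.1 := Subtype.ext e1.symm
      rw [e2] at h'
      exact Prod.ext e2 (Subtype.ext (mul_left_cancel h'))
    · rintro ⟨⟨g, hg⟩, hgH⟩
      refine ⟨(⟨g * g, hgH⟩, ⟨(s ⟨g * g, hgH⟩)⁻¹ * g, ?_⟩), ?_⟩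
      · exact L.sq_inj _ (hs _) g hg (hss _)
      · exact Subtype.ext (Subtype.ext (mul_inv_cancel_left _ g))
  rw [← e, Nat.card_prod, L.card_Q, pow_two, ← mul_assoc, ← hH.2]

/-- The radical of a hyperplane is small. -/
theorem card_radical {H : Subgroup G} (hH : IsHyper R H) :
    Nat.card (L.toCurvedLine.squareGroup.perp H Q) ≤ 2 * Nat.card R := by
  classical
  set S := L.toCurvedLine.squareGroup with hS
  set P := S.perp H Q with hP
  have hRP : R ≤ P := fun r hr => (S.mem_perp le_rfl).2 ⟨L.le hr, fun g hg => by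
    rw [← S.pol_symm (L.le hr) hg, S.pol_R hg hr]; exact one_mem _⟩
  by_cases hex : ∃ e₁ ∈ P, e₁ ∉ R
  swap
  · push Not at hex
    have := Subgroup.card_le_of_le (hex : P ≤ R)
    omega
  obtain ⟨e₁, he₁, he₁R⟩ := hex
  obtain ⟨E', hE'⟩ := S.exists_extend L.le le_rfl he₁.1
  rw [← S.card_extend he₁R hE']
  refine Subgroup.card_le_of_le fun e he => ?_
  rw [hE']
  by_cases heR : e ∈ R
  · exact Or.inl heR
  right
  -- the pairing with such an element is onto `H`
  have himg : ∀ g ∈ P, g ∉ R → ∀ h ∈ H, ∃ k ∈ Q, pol g k = h := by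
    intro g hg hgR
    let f : ↥Q →* ↥R :=
      { toFun := fun k => ⟨pol g k, S.pol_mem hg.1 k.2⟩
        map_one' := Subtype.ext (SquareGroup.pol_one_right g)
        map_mul' := fun k k' => Subtype.ext (S.pol_mul_right hg.1 k.2 k'.2) }
    have hker : Nat.card f.ker ≤ 2 * Nat.card R := by
      obtain ⟨E'', hE''⟩ := S.exists_extend L.le le_rfl hg.1
      rw [← S.card_extend hgR hE'']
      have hsub : f.ker.map Q.subtype ≤ E'' := by
        rintro _ ⟨k, hk, rfl⟩
        have hk1 : pol g (k : G) = 1 := congrArg Subtype.val hk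
        have hcomm : Commute g (k : G) := mul_inv_eq_iff_eq_mul.1 (mul_inv_eq_one.1 hk1)
        rw [hE'']
        rcases L.sq_comm g hg.1 hgR k k.2 hcomm with h | h
        · exact Or.inl h
        · refine Or.inr ?_
          show (k : G) * g⁻¹ ∈ R
          rw [show (k : G) * g⁻¹ = g * (g⁻¹ * k) * g⁻¹ by group, (L.central g hg.1 _ h).eq,
            mul_inv_cancel_right]
          exact h
      rw [← Subgroup.card_map_of_injective Q.subtype_injective]
      exact Subgroup.card_le_of_le hsub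
    have hle : f.range.map R.subtype ≤ H := by
      rintro _ ⟨_, ⟨k, rfl⟩, rfl⟩
      exact ((S.mem_perp le_rfl).1 hg).2 k k.2
    have h2 := Subgroup.card_eq_card_quotient_mul_card_subgroup f.ker
    rw [Nat.card_congr (QuotientGroup.quotientKerEquivRange f).toEquiv, L.card_Q] at h2
    have heq : f.range.map R.subtype = H := Subgroup.eq_of_le_of_card_ge hle (by
      rw [Subgroup.card_map_of_injective R.subtype_injective]
      refine Nat.le_of_mul_le_mul_left ?_ (show 0 < 2 * Nat.card R by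
        have := Nat.card_pos (α := R); omega)
      calc 2 * Nat.card R * Nat.card H = Nat.card R * Nat.card R := by
            rw [hH.2]; ring
        _ = Nat.card f.range * Nat.card f.ker := by rw [← h2, pow_two]
        _ ≤ _ := by rw [mul_comm]; gcongr)
    intro h hh
    obtain ⟨_, ⟨k, rfl⟩, hk⟩ := heq.ge hh
    exact ⟨k, k.2, hk⟩
  -- a torus element carrying `e₁` to `e`
  have hne : ∀ {g : G}, g ∈ Q → g ∉ R → g * g ≠ 1 := fun hg hgR h => hgR (L.involution _ hg h)
  obtain ⟨j, hj, hjr⟩ := L.trans_J (e₁ * e₁) (L.sq_mem _ he₁.1) (e * e) (L.sq_mem _ he.1)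
    (hne he₁.1 he₁R) (hne he.1 heR)
  have hje : (j * e₁ * j⁻¹)⁻¹ * e ∈ R := L.sq_inj _ (L.toCurvedLine.J_conj_Q hj he₁.1) e he.1 (by
    rw [← hjr]; group)
  have hjn : j ∈ Subgroup.normalizer (H : Set G) := by
    have key : ∀ h ∈ H, j * h * j⁻¹ ∈ H := by
      intro h hh
      obtain ⟨k, hk, rfl⟩ := himg e₁ he₁ he₁R h hh
      rw [show j * pol e₁ k * j⁻¹ = pol (j * e₁ * j⁻¹) (j * k * j⁻¹) by simp only [pol]; group]
      have hjk := L.toCurvedLine.J_conj_Q hj hk
      have h3 := ((S.mem_perp le_rfl).1 he).2 _ hjk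
      rw [show e = j * e₁ * j⁻¹ * ((j * e₁ * j⁻¹)⁻¹ * e) by group,
        S.pol_mul_left (L.toCurvedLine.J_conj_Q hj he₁.1) (L.le hje) hjk,
        ← S.pol_symm (L.le hje) hjk, S.pol_R hjk hje, mul_one] at h3
      exact h3
    refine Subgroup.mem_normalizer_iff_map_conj_eq.2 (Subgroup.eq_of_le_of_card_ge
      (by rintro _ ⟨h, hh, rfl⟩; exact key h hh) ?_)
    rw [Subgroup.card_map_of_injective (MulAut.conj j).injective]
  have hjc := L.toCurvedLine.le_centralizer_of_hyper hH (Subgroup.mem_inf.2 ⟨hj, hjn⟩)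
  have hee : e₁ * e₁ = e * e := by
    rw [← hjr, ← Subgroup.mem_centralizer_iff.1 hjc _ (L.sq_mem _ he₁.1), mul_inv_cancel_right]
  have h6 := L.sq_inj e₁ he₁.1 e he.1 hee
  rw [show e * e₁⁻¹ = e₁ * (e₁⁻¹ * e) * e₁⁻¹ by group, (L.central e₁ he₁.1 _ h6).eq,
    mul_inv_cancel_right]
  exact h6

/-- An element acting as an involution on `Q / R` centralises `R`. -/
theorem commute {t : G} (hQ : t ∈ Subgroup.normalizer (Q : Set G))
    (ht : ActsTriv R Q (t * t)) : ∀ r ∈ R, Commute t r := by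
  classical
  set S := L.toCurvedLine.squareGroup
  obtain ⟨E, hRE, hEQ, hfix, hcard, -, -⟩ := S.exists_fixed hQ (L.toCurvedLine.mem_normalizer_R hQ) ht
  by_contra hne
  push Not at hne
  obtain ⟨r, hr, hne⟩ := hne
  have hP : R ⊓ Subgroup.centralizer ({t} : Set G) ≠ R := fun e => hne
    (Subgroup.mem_centralizer_singleton_iff.1
      (Subgroup.mem_inf.1 (show r ∈ R ⊓ Subgroup.centralizer ({t} : Set G) from e.symm ▸ hr)).2).symm
  obtain ⟨H, hH, hle⟩ := S.exists_hyper inf_le_left hP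
  have hsing : ∀ e ∈ E, e * e ∈ H := fun e he => hle (Subgroup.mem_inf.2
    ⟨S.sq_mem e (hEQ he), Subgroup.mem_centralizer_singleton_iff.2
      (mul_inv_eq_iff_eq_mul.1 (hfix e he)).symm⟩)
  have hperp := S.card_perp hH hEQ
  have hrad : Nat.card ↥(E ⊓ S.perp H Q) ≤ 2 * Nat.card R :=
    (Subgroup.card_le_of_le inf_le_right).trans (L.card_radical hH)
  -- the square of the order of `E` is an even power of two
  obtain ⟨n, hn, -, hq⟩ := L.card_R
  haveI : Fact (Nat.Prime 2) := ⟨Nat.prime_two⟩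
  obtain ⟨i, hi⟩ := (L.two.to_le hEQ).exists_card_eq
  have hbig : 2 * (Nat.card Q * Nat.card R) ≤ Nat.card E * Nat.card E := by
    rw [L.card_Q, hq, hi, ← pow_mul, ← pow_add, ← pow_add] at hcard ⊢
    rw [← pow_succ']
    have h3 : n * 2 + n ≤ i + i := (Nat.pow_le_pow_iff_right (by norm_num)).1 hcard
    obtain ⟨k, rfl⟩ := hn
    exact Nat.pow_le_pow_right (by norm_num) (by omega)
  have hU : S.perp H E = E := by
    refine (Subgroup.eq_of_le_of_card_ge (S.le_perp_self hEQ hsing) ?_).symm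
    refine Nat.le_of_mul_le_mul_right ?_ (Nat.card_pos (α := E))
    rw [hperp]
    calc Nat.card ↥(E ⊓ S.perp H Q) * Nat.card Q ≤ 2 * Nat.card R * Nat.card Q :=
          Nat.mul_le_mul_right _ hrad
      _ = 2 * (Nat.card Q * Nat.card R) := by ring
      _ ≤ _ := hbig
  have h2 := S.two_card_zero hH hEQ hsing
  rw [L.count hH, hU, Nat.card_congr (Equiv.subtypeUnivEquiv fun g : E => hsing g g.2)] at h2
  have : 0 < Nat.card E := Nat.card_pos
  omega

omit [Finite G] in
/-- An element centralising `R` acts trivially on `Q / R`. -/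
theorem actsTriv {b : G} (hQ : b ∈ Subgroup.normalizer (Q : Set G))
    (hR : ∀ r ∈ R, Commute b r) : ActsTriv R Q b := by
  intro g hg
  have hbg : b * g * b⁻¹ ∈ Q := (Subgroup.mem_normalizer_iff.1 hQ g).1 hg
  have h := L.sq_inj g hg _ hbg (by
    rw [show b * g * b⁻¹ * (b * g * b⁻¹) = b * (g * g) * b⁻¹ by group,
      (hR _ (L.sq_mem g hg)).eq, mul_inv_cancel_right])
  rw [show b * g * b⁻¹ * g⁻¹ = g * (g⁻¹ * (b * g * b⁻¹)) * g⁻¹ by group, (L.central g hg _ h).eq,
    mul_inv_cancel_right]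
  exact h

end SuzukiLine

/-- A unitary or a Suzuki line. -/
def IsCurved (D : Set G) (a : Ω) (x : G) (K R Q J : Subgroup G) : Prop :=
  UnitaryLine D a x K R Q J ∨ SuzukiLine D a x K R Q J

namespace IsCurved

variable (hL : IsCurved D a x K R Q J) [Finite G]
include hL

omit [Finite G] in
theorem line : CurvedLine D a x K R Q J := hL.elim (·.toCurvedLine) (·.toCurvedLine)

/-- An element normalising `Q` which acts as an involution on `Q / R` centralises `R`. -/
theorem commute {t : G} (hQ : t ∈ Subgroup.normalizer (Q : Set G))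
    (ht : ActsTriv R Q (t * t)) : ∀ r ∈ R, Commute t r := by
  rcases hL with L | L
  · exact L.toCurvedLine.squareGroup.unitary_commute L.count hQ
      (L.toCurvedLine.mem_normalizer_R hQ) ht
  · exact L.commute hQ ht

/-- A group centralising `R` which induces an elementary group on `Q / R` induces fewer than `|R|`
actions. -/
theorem bound {B T₀ : Subgroup G} (hT₀ : ∀ b, b ∈ T₀ ↔ b ∈ B ∧ ActsTriv R Q b)
    (hBQ : B ≤ Subgroup.normalizer (Q : Set G)) (hBR : ∀ b ∈ B, ∀ r ∈ R, Commute b r)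
    (hB2 : ∀ b ∈ B, ActsTriv R Q (b * b))
    (hBc : ∀ b ∈ B, ∀ b' ∈ B, ActsTriv R Q (b * b' * b⁻¹ * b'⁻¹)) :
    Nat.card B < Nat.card T₀ * Nat.card R := by
  rcases hL with L | L
  · exact L.toCurvedLine.squareGroup.unitary_bound L.count L.involution L.four hT₀ hBQ hBR hB2 hBc
  · have e : B = T₀ := le_antisymm
      (fun b hb => (hT₀ b).2 ⟨hb, L.actsTriv (hBQ hb) (hBR b hb)⟩) fun b hb => ((hT₀ b).1 hb).1
    rw [e]
    have h1 : 0 < Nat.card T₀ := Nat.card_pos
    have h2 := L.four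
    nlinarith

end IsCurved

end CfsgLib.LocalEven.OnePointFront.Nonfull
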