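import Cfsg.Agent.Lib.LocalEven.OnePointFront.Basic
import Cfsg.Agent.Lib.LocalEven.OnePointFront.Nonfull.Curved.Rigid
import Cfsg.Agent.Lib.LocalEven.OnePointFront.Nonfull.Linear.CyclicBase

/-!
# Curved lines: the translations of `x`

On a curved line either `Q` lies in the point group `K` or meets it in `R`; in both cases `K ⊓ Q` is
a largest 2-subgroup of `K` centralising `x`.  Without full bad involutions there is a 2-subgroup
`B` of `K` with fibres `K ⊓ Q` realising every translation of `x` inside `x R`; it centralises `R`,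
acts trivially on `Q / R` and is normalised by `Q`, by `x` and by lifts of the torus.
-/

set_option autoImplicit false
set_option linter.style.haveILetI false

namespace CfsgLib.LocalEven.OnePointFront.Nonfull

open MulAction CfsgLib.LocalEven.TIEndgame CfsgLib.Involution

universe u v

variable {G : Type u} [Group G]

/-- The elements normalising `Q` and `R` which act trivially on `Q / R`. -/
def trivGroup (R Q : Subgroup G) : Subgroup G where
  carrier := {g | g ∈ Subgroup.normalizer (Q : Set G) ∧ g ∈ Subgroup.normalizer (R : Set G) ∧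
    ActsTriv R Q g}
  one_mem' := ⟨one_mem _, one_mem _, fun g _ => by simp⟩
  mul_mem' := by
    rintro b c ⟨hb1, hb2, hb3⟩ ⟨hc1, hc2, hc3⟩
    refine ⟨mul_mem hb1 hc1, mul_mem hb2 hc2, fun g hg => ?_⟩
    rw [show b * c * g * (b * c)⁻¹ * g⁻¹ =
      b * (c * g * c⁻¹ * g⁻¹) * b⁻¹ * (b * g * b⁻¹ * g⁻¹) by group]
    exact mul_mem ((Subgroup.mem_normalizer_iff.1 hb2 _).1 (hc3 g hg)) (hb3 g hg)
  inv_mem' := by
    rintro b ⟨hb1, hb2, hb3⟩
    refine ⟨inv_mem hb1, inv_mem hb2, fun g hg => ?_⟩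
    have hg' := (Subgroup.mem_normalizer_iff.1 (inv_mem hb1) g).1 hg
    have h1 := inv_mem (hb3 _ hg')
    rwa [show (b * (b⁻¹ * g * b⁻¹⁻¹) * b⁻¹ * (b⁻¹ * g * b⁻¹⁻¹)⁻¹)⁻¹ =
      b⁻¹ * g * b⁻¹⁻¹ * g⁻¹ by group] at h1

theorem mem_trivGroup {R Q : Subgroup G} {g : G} : g ∈ trivGroup R Q ↔
    g ∈ Subgroup.normalizer (Q : Set G) ∧ g ∈ Subgroup.normalizer (R : Set G) ∧ ActsTriv R Q g :=
  Iff.rfl

/-- An element conjugating a subgroup of a finite group into itself normalises it. -/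
theorem mem_normalizer_of_conj_mem [Finite G] {H : Subgroup G} {g : G}
    (hg : ∀ y ∈ H, g * y * g⁻¹ ∈ H) : g ∈ Subgroup.normalizer (H : Set G) :=
  Subgroup.mem_normalizer_iff_map_conj_eq.2 (Subgroup.eq_of_le_of_card_ge
    (by rintro _ ⟨y, hy, rfl⟩; exact hg y hy)
    (Subgroup.card_map_of_injective (MulAut.conj g).injective).ge)

/-- A 2-subgroup of odd index contains the 2-groups containing it. -/
theorem le_of_odd_relIndex {P V N : Subgroup G} (hodd : Odd (P.relIndex N)) (hV : IsPGroup 2 V)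
    (hPV : P ≤ V) (hVN : V ≤ N) [Finite G] : V ≤ P := by
  haveI : Fact (Nat.Prime 2) := ⟨Nat.prime_two⟩
  rw [← Subgroup.relIndex_eq_one]
  obtain ⟨n, hn⟩ := hV.index (P.subgroupOf V)
  change P.relIndex V = 2 ^ n at hn
  have hd : Odd (P.relIndex V) := by
    rw [← Subgroup.relIndex_mul_relIndex P V N hPV hVN] at hodd
    exact (Nat.odd_mul.1 hodd).1
  rcases n with _ | n
  · simpa using hn
  · rw [hn] at hd
    exact absurd hd (Nat.not_odd_iff_even.2 ⟨2 ^ n, by ring⟩)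

/-- Frattini: modulo `N` the normaliser of a 2-group `V` meeting `N` in odd index. -/
theorem exists_mul_mem_normalizer [Finite G] {N V : Subgroup G} (hV : IsPGroup 2 V)
    (hVN : V ≤ Subgroup.normalizer (N : Set G)) (hodd : Odd ((V ⊓ N).relIndex N)) {g : G}
    (hg : ∀ v ∈ V, g * v * g⁻¹ ∈ N ⊔ V) : ∃ d ∈ N, d * g ∈ Subgroup.normalizer (V : Set G) := by
  haveI : Fact (Nat.Prime 2) := ⟨Nat.prime_two⟩
  set L := N ⊔ V with hL
  have hmem : ∀ l ∈ L, ∃ n ∈ N, ∃ v ∈ V, n * v = l := fun l hl => by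
    rw [hL, ← SetLike.mem_coe, Subgroup.coe_mul_of_right_le_normalizer_left N V hVN] at hl
    exact Set.mem_mul.1 hl
  obtain ⟨W, hW⟩ := (hV.of_equiv
    (Subgroup.subgroupOfEquivOfLe (le_sup_right : V ≤ L)).symm).exists_le_sylow
  have hWV : ∀ w : ↥L, w ∈ (W : Subgroup ↥L) → (w : G) ∈ V := by
    intro w hw
    obtain ⟨n, hn, v, hv, e⟩ := hmem w w.2
    have hnW : n ∈ (W : Subgroup ↥L).map L.subtype ⊓ N := by
      refine Subgroup.mem_inf.2 ⟨⟨w * ⟨v, Subgroup.mem_sup_right hv⟩⁻¹, mul_mem hw (inv_mem (hW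
        (Subgroup.mem_subgroupOf.2 hv))), ?_⟩, hn⟩
      show (w : G) * v⁻¹ = n
      rw [← e, mul_inv_cancel_right]
    have hle := le_of_odd_relIndex hodd ((W.2.map L.subtype).to_le inf_le_left)
      (fun y hy => Subgroup.mem_inf.2 ⟨⟨⟨y, Subgroup.mem_sup_right (Subgroup.mem_inf.1 hy).1⟩,
        hW (Subgroup.mem_subgroupOf.2 (Subgroup.mem_inf.1 hy).1), rfl⟩, (Subgroup.mem_inf.1 hy).2⟩)
      inf_le_right
    rw [← e]
    exact mul_mem (Subgroup.mem_inf.1 (hle hnW)).1 hv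
  let V' : Subgroup G := V.map (MulAut.conj g).toMonoidHom
  have hV'L : V' ≤ L := by rintro _ ⟨v, hv, rfl⟩; exact hg v hv
  obtain ⟨l, hl⟩ := Involution.Basic.exists_conj_le W
    ((hV.map _).of_equiv (Subgroup.subgroupOfEquivOfLe hV'L).symm :
      IsPGroup 2 (V'.subgroupOf L))
  obtain ⟨n, hn, v, hv, e⟩ : ∃ n ∈ N, ∃ v ∈ V, v * n = (l : G) := by
    obtain ⟨n, hn, v, hv, e⟩ := hmem (l : G)⁻¹ (inv_mem l.2)
    exact ⟨n⁻¹, inv_mem hn, v⁻¹, inv_mem hv, by rw [← mul_inv_rev, e, inv_inv]⟩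
  have h1 : (l : G) * g ∈ Subgroup.normalizer (V : Set G) := mem_normalizer_of_conj_mem fun y hy => by
    have h2 := hWV _ (hl ⟨g * y * g⁻¹, hV'L ⟨y, hy, rfl⟩⟩ (Subgroup.mem_subgroupOf.2 ⟨y, hy, rfl⟩))
    rwa [show (l : G) * g * y * ((l : G) * g)⁻¹ = (l : G) * (g * y * g⁻¹) * (l : G)⁻¹ by group]
  refine ⟨n, hn, ?_⟩
  have h2 := mul_mem (inv_mem (Subgroup.le_normalizer hv)) h1
  rwa [← e, mul_assoc v, inv_mul_cancel_left] at h2

/-- The translations by elements of `N` are counted by the index of the centraliser of `x`. -/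
theorem relIndex_shift [Finite G] {x : G} (hx : x * x = 1) {R N : Subgroup G}
    (hN : ∀ k ∈ N, shift x k ∈ R) :
    (N ⊓ Subgroup.centralizer ({x} : Set G)).relIndex N =
      Nat.card {r : R // ∃ k ∈ N, shift x k = r} := by
  let f : ↥N ⧸ (N ⊓ Subgroup.centralizer ({x} : Set G)).subgroupOf N →
      {r : R // ∃ k ∈ N, shift x k = r} :=
    Quotient.lift (fun u : ↥N => ⟨⟨shift x u, hN u u.2⟩, u, u.2, rfl⟩) fun u u' huu =>
      Subtype.ext (Subtype.ext ((shift_eq_iff hx).2 (Subgroup.mem_centralizer_singleton_iff.1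
        (Subgroup.mem_subgroupOf.1 (QuotientGroup.leftRel_apply.1 huu)).2).symm))
  show Nat.card (↥N ⧸ (N ⊓ Subgroup.centralizer ({x} : Set G)).subgroupOf N) = _
  refine Nat.card_eq_of_bijective f ⟨?_, ?_⟩
  · intro q q'
    induction q using QuotientGroup.induction_on
    induction q' using QuotientGroup.induction_on
    rename_i u u'
    intro huu
    have h1 := (shift_eq_iff hx).1 (congrArg (fun z : {r : R // ∃ k ∈ N, shift x k = r} =>
      ((z : R) : G)) huu)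
    exact QuotientGroup.eq.2 (Subgroup.mem_subgroupOf.2 ⟨(u⁻¹ * u').2,
      Subgroup.mem_centralizer_singleton_iff.2 h1.symm.eq⟩)
  · rintro ⟨r, k, hk, hkr⟩
    exact ⟨QuotientGroup.mk ⟨k, hk⟩, Subtype.ext (Subtype.ext hkr)⟩

variable {Ω : Type v} [MulAction G Ω] {D : Set G} {a : Ω} {x : G} {K R Q J : Subgroup G}

namespace CurvedLine

variable (L : CurvedLine D a x K R Q J)
include L

theorem x_sq : x * x = 1 := Dihedral.mul_self L.bad.1

theorem exists_other : ∃ b : Ω, x • b = b ∧ b ≠ a := by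
  obtain ⟨-, p, q, hpq, hp, hq⟩ := id L.bad
  rcases eq_or_ne p a with e | e
  · exact ⟨q, hq, fun hqa => hpq (e.trans hqa.symm)⟩
  · exact ⟨p, hp, e⟩

theorem le_K : R ≤ K := fun r hr => by
  rcases eq_or_ne r 1 with rfl | h
  · exact one_mem _
  · exact L.point.dat_le r (L.member r hr h)

theorem conj_K {g k : G} (hga : g • a = a) (hk : k ∈ K) : g * k * g⁻¹ ∈ K :=
  L.point.conj g (mem_stabilizer_iff.2 hga) k hk

theorem x_notMem (h : ClosedSetting D Ω) : x ∉ K := fun hk => by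
  obtain ⟨-, p, q, hpq, hp, hq⟩ := id L.bad
  exact hpq (h.fixed_unique x (L.point.invol_mem x hk L.bad.1).1 p q hp hq)

variable (h : ClosedSetting D Ω)
include h

/-- A 2-element of `K` fixes only `a`. -/
theorem eq_one_of_fix {k : G} (hk : k ∈ K) (h2 : ∃ n : ℕ, k ^ 2 ^ n = 1) {b : Ω} (hb : k • b = b)
    (hba : b ≠ a) : k = 1 := by
  obtain ⟨n, hn⟩ := h2
  induction n generalizing k with
  | zero => simpa using hn
  | succ n ih =>
    have h1 : k ^ 2 = 1 := by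
      refine ih (pow_mem hk 2) (by rw [pow_two, mul_smul, hb, hb]) ?_
      rw [← pow_mul, ← pow_succ']
      exact hn
    by_contra hne
    have hd := L.point.invol_mem k hk (orderOf_eq_prime h1 hne)
    exact hba (h.fixed_unique k hd.1 b a hb hd.2)

variable [Finite G]

omit h in
/-- `Q` lies in `K` or meets it in `R`. -/
theorem le_or_inf_eq : Q ≤ K ∨ K ⊓ Q = R := by
  rcases L.irred (K ⊓ Q) (le_inf L.le_K L.le) inf_le_right (fun j hj =>
    mem_normalizer_of_conj_mem fun y hy =>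
      ⟨L.conj_K (L.fix_J j hj) hy.1, L.J_conj_Q hj hy.2⟩) with e | e
  · exact Or.inr e
  · exact Or.inl (e ▸ inf_le_left)

/-- If `Q` is not in `K`, the elements of `K` commuting with `x` keep the `R`-classes of its fixed
points. -/
theorem class_of_mem (hQK : ¬ Q ≤ K) {k : G} (hk : k ∈ K) (hxk : Commute x k) {b : Ω}
    (hb : x • b = b) (hba : b ≠ a) {q : G} (hq : q ∈ Q) (he : k • b = q • b) : q ∈ R := by
  haveI : Fact (Nat.Prime 2) := ⟨Nat.prime_two⟩
  set X := coreOf D (Subgroup.centralizer ({x} : Set G)) with hX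
  set C₀ := K ⊓ X ⊓ Subgroup.centralizer ({x} : Set G) with hC₀
  have hcore : ∀ g : G, Commute x g → ∀ y ∈ X, g * y * g⁻¹ ∈ X := fun g hg y hy =>
    h.conj_mem_coreOf (Subgroup.mem_centralizer_singleton_iff.2 hg.symm.eq) hy
  have hnC : ∀ g : G, g • a = a → Commute x g → ∀ y ∈ C₀, g * y * g⁻¹ ∈ C₀ := fun g hga hgx y hy =>
    ⟨⟨L.conj_K hga hy.1.1, hcore g hgx y hy.1.2⟩, Subgroup.mem_centralizer_singleton_iff.2
      ((hgx.mul_right (Subgroup.mem_centralizer_singleton_iff.1 hy.2).symm).mul_right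
        hgx.inv_right).symm.eq⟩
  have hRC : R ≤ C₀ := fun r hr => ⟨⟨L.le_K hr, L.core_Q (L.le hr)⟩,
    Subgroup.mem_centralizer_singleton_iff.2 (L.comm r (L.le hr)).symm.eq⟩
  have hxQ : ∀ {p : G}, p ∈ Q → ∀ {c : Ω}, x • c = c → x • (p • c) = p • c := fun hp c hc => by
    rw [← mul_smul, (L.comm _ hp).eq, mul_smul, hc]
  have hQne : ∀ {p : G}, p ∈ Q → ∀ {c : Ω}, c ≠ a → p • c ≠ a := fun hp c hc e =>
    hc (smul_left_cancel _ (e.trans (L.fix_Q _ hp).symm))
  -- the elements of `C₀` keep the classes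
  have key : ∀ c : Ω, x • c = c → c ≠ a → ∀ k ∈ C₀, ∀ p ∈ Q, k • c = p • c → p ∈ R := by
    intro c hc hca
    let Φ : Subgroup G :=
      { carrier := {p | p ∈ Q ∧ ∃ k ∈ C₀, k • c = p • c}
        one_mem' := ⟨one_mem _, 1, one_mem _, rfl⟩
        mul_mem' := by
          rintro p p' ⟨hp, k, hk, e⟩ ⟨hp', k', hk', e'⟩
          refine ⟨mul_mem hp hp', p * k' * p⁻¹ * k,
            mul_mem (hnC p (L.fix_Q p hp) (L.comm p hp) k' hk') hk, ?_⟩
          rw [mul_smul (p * k' * p⁻¹) k, e, mul_smul (p * k'), inv_smul_smul, mul_smul, e', mul_smul]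
        inv_mem' := by
          rintro p ⟨hp, k, hk, e⟩
          refine ⟨inv_mem hp, p⁻¹ * k⁻¹ * p⁻¹⁻¹, hnC p⁻¹ (L.fix_Q _ (inv_mem hp))
            (L.comm _ (inv_mem hp)) k⁻¹ (inv_mem hk), ?_⟩
          rw [inv_inv, mul_smul, ← e, mul_smul, inv_smul_smul] }
    have hRΦ : R ≤ Φ := fun r hr => ⟨L.le hr, r, hRC hr, rfl⟩
    have hJΦ : ∀ j ∈ J, ∀ p ∈ Φ, j * p * j⁻¹ ∈ Φ := by
      rintro j hj p ⟨hp, k, hk, e⟩
      obtain ⟨t, ht, htc⟩ := L.trans c (j • c) hc
        (by rw [← mul_smul, (L.comm_J j hj).eq, mul_smul, hc]) hca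
        (fun e' => hca (smul_left_cancel j (e'.trans (L.fix_J j hj).symm)))
      have hjp := L.J_conj_Q hj hp
      have h1 : t⁻¹ * (j * p * j⁻¹) * t ∈ Φ := by
        refine ⟨mul_mem (mul_mem (inv_mem ht) hjp) ht, t⁻¹ * (j * k * j⁻¹) * t⁻¹⁻¹,
          hnC t⁻¹ (L.fix_Q _ (inv_mem ht)) (L.comm _ (inv_mem ht)) _
            (hnC j (L.fix_J j hj) (L.comm_J j hj) k hk), ?_⟩
        rw [inv_inv, mul_smul _ t, htc, ← mul_smul,
          show t⁻¹ * (j * k * j⁻¹) * j = t⁻¹ * j * k by group, mul_smul, e, mul_smul _ t, htc,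
          ← mul_smul, ← mul_smul, show t⁻¹ * (j * p * j⁻¹) * j = t⁻¹ * j * p by group]
      have h3 := mul_mem (hRΦ (inv_mem (L.squareGroup.pol_mem (inv_mem ht) hjp))) h1
      rwa [pol, show (t⁻¹ * (j * p * j⁻¹) * t⁻¹⁻¹ * (j * p * j⁻¹)⁻¹)⁻¹ *
        (t⁻¹ * (j * p * j⁻¹) * t) = j * p * j⁻¹ by group] at h3
    rcases L.irred Φ hRΦ (fun p hp => hp.1)
      (fun j hj => mem_normalizer_of_conj_mem (hJΦ j hj)) with e | e
    · intro k hk p hp hkp
      exact e.le ⟨hp, k, hk, hkp⟩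
    · refine absurd (fun p hp => ?_) hQK
      obtain ⟨-, k, hk, hkp⟩ := e.ge hp
      set w := k⁻¹ * p with hw
      have hwc : w • c = c := by rw [hw, mul_smul, ← hkp, inv_smul_smul]
      have hka : k • a = a := mem_stabilizer_iff.1 (L.point.le hk.1.1)
      have hwa : w • a = a := by rw [hw, mul_smul, L.fix_Q p hp, inv_smul_eq_iff, hka]
      have hwx : Commute x w :=
        (Commute.inv_right (Subgroup.mem_centralizer_singleton_iff.1 hk.2).symm).mul_right (L.comm p hp)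
      have hodd := L.core_odd w (mul_mem (inv_mem hk.1.2) (L.core_Q hp)) c hwa hc hca hwc
      have hpow : ∀ i : ℕ, p ^ i * (w ^ i)⁻¹ ∈ C₀ := by
        intro i
        induction i with
        | zero => simp [one_mem]
        | succ i ih =>
          have h1 := mul_mem ih (hnC (w ^ i) (by
            clear ih
            induction i with
            | zero => simp
            | succ i ih' => rw [pow_succ, mul_smul, hwa, ih']) (hwx.pow_right i) k hk)
          rw [pow_succ, pow_succ, show p = k * w by rw [hw, mul_inv_cancel_left]]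
          rw [show p = k * w by rw [hw, mul_inv_cancel_left]] at h1
          rwa [show (k * w) ^ i * (k * w) * (w ^ i * w)⁻¹ =
            (k * w) ^ i * (w ^ i)⁻¹ * (w ^ i * k * (w ^ i)⁻¹) by group]
      have h1 := hpow (orderOf w)
      rw [pow_orderOf_eq_one, inv_one, mul_one] at h1
      obtain ⟨n, hn⟩ := L.two ⟨p, hp⟩
      have hn' : p ^ 2 ^ n = 1 := congrArg Subtype.val hn
      have hco : (orderOf w).Coprime (orderOf p) :=
        Nat.Coprime.coprime_dvd_right (orderOf_dvd_of_pow_eq_one hn')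
          (hodd.coprime_two_right.pow_right n)
      obtain ⟨m, hm⟩ := exists_pow_eq_self_of_coprime hco
      exact hm ▸ pow_mem h1.1.1 m
  -- so `k` translates the classes
  have hall : ∀ j ∈ J, (j * q * j⁻¹) * q⁻¹ ∈ R := by
    intro j hj
    obtain ⟨t, ht, htb⟩ := L.trans b (j • b) hb
      (by rw [← mul_smul, (L.comm_J j hj).eq, mul_smul, hb]) hba
      (fun e' => hba (smul_left_cancel j (e'.trans (L.fix_J j hj).symm)))
    have hka : k • a = a := mem_stabilizer_iff.1 (L.point.le hk)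
    have hcomm : ∀ g : G, g • a = a → Commute x g → g ∈ X → g * k * g⁻¹ * k⁻¹ ∈ C₀ :=
      fun g hga hgx hgX => ⟨⟨K.mul_mem (L.conj_K hga hk) (K.inv_mem hk), by
        rw [show g * k * g⁻¹ * k⁻¹ = g * (k * g⁻¹ * k⁻¹) by group]
        exact X.mul_mem hgX (hcore k hxk _ (X.inv_mem hgX))⟩,
        Subgroup.mem_centralizer_singleton_iff.2
          (((hgx.mul_right hxk).mul_right hgx.inv_right).mul_right hxk.inv_right).symm.eq⟩
    set c₁ := t * k * t⁻¹ * k⁻¹ with hc₁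
    set c₂ := j * k * j⁻¹ * k⁻¹ with hc₂
    set p₁ := t * q with hp₁
    set p₂ := j * q * j⁻¹ * t with hp₂
    have h1 : c₁ • (k • (t • b)) = p₁ • b := by
      rw [← mul_smul, ← mul_smul, show c₁ * k * t = t * k by rw [hc₁]; group, mul_smul, he,
        ← mul_smul]
    have h2 : c₂ • (k • (t • b)) = p₂ • b := by
      rw [hp₂, mul_smul (j * q * j⁻¹) t, htb, ← mul_smul, ← mul_smul, ← mul_smul,
        show c₂ * k * j = j * k by rw [hc₂]; group,
        show j * q * j⁻¹ * j = j * q by group, mul_smul, he, ← mul_smul]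
    have hp₁Q : p₁ ∈ Q := mul_mem ht hq
    have hp₂Q : p₂ ∈ Q := mul_mem (L.J_conj_Q hj hq) ht
    have h3 : (c₂ * c₁⁻¹) • (p₁ • b) = (p₂ * p₁⁻¹) • (p₁ • b) := by
      rw [mul_smul p₂, inv_smul_smul, mul_smul c₂, ← h1, inv_smul_smul, h2]
    have h4 := key (p₁ • b) (hxQ hp₁Q hb) (hQne hp₁Q hba) (c₂ * c₁⁻¹)
      (mul_mem (hcomm j (L.fix_J j hj) (L.comm_J j hj) (L.core_J hj))
        (inv_mem (hcomm t (L.fix_Q t ht) (L.comm t ht) (L.core_Q ht))))
      (p₂ * p₁⁻¹) (mul_mem hp₂Q (inv_mem hp₁Q)) h3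
    rw [hp₁, hp₂] at h4
    have h6 : pol t q⁻¹ ∈ R := L.squareGroup.pol_mem ht (inv_mem hq)
    rw [show j * q * j⁻¹ * t * (t * q)⁻¹ = j * q * j⁻¹ * q⁻¹ * (q * pol t q⁻¹ * q⁻¹) by
      simp only [pol]; group, (L.central q hq _ h6).eq, mul_inv_cancel_right] at h4
    have h7 := mul_mem h4 (inv_mem h6)
    rwa [mul_inv_cancel_right] at h7
  by_contra hqR
  have hq1 : q * q ≠ 1 := fun e => hqR (L.involution q hq e)
  obtain ⟨s, hs, hs1, hsq⟩ : ∃ s ∈ R, s ≠ 1 ∧ s ≠ q * q := by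
    by_contra hno
    push Not at hno
    have : R ≤ Subgroup.zpowers (q * q) := fun s hs => by
      rcases eq_or_ne s 1 with rfl | h1
      · exact one_mem _
      · exact (hno s hs h1).symm ▸ Subgroup.mem_zpowers _
    have h2 := Subgroup.card_le_of_le this
    rw [Nat.card_zpowers] at h2
    have := orderOf_le_of_pow_eq_one (n := 2) two_pos
      (by rw [pow_two]; exact L.sq _ (L.sq_mem q hq) : (q * q) ^ 2 = 1)
    have := L.four
    omega
  obtain ⟨j, hj, hjs⟩ := L.trans_J (q * q) (L.sq_mem q hq) s hs hq1 hs1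
  refine hsq (hjs.symm.trans ?_)
  calc j * (q * q) * j⁻¹ = j * q * j⁻¹ * (j * q * j⁻¹) := by group
    _ = j * q * j⁻¹ * q⁻¹ * (q * (j * q * j⁻¹ * q⁻¹)) * q := by group
    _ = j * q * j⁻¹ * q⁻¹ * ((j * q * j⁻¹ * q⁻¹) * q) * q := by
      rw [(L.central q hq _ (hall j hj)).eq]
    _ = j * q * j⁻¹ * q⁻¹ * (j * q * j⁻¹ * q⁻¹) * (q * q) := by group
    _ = q * q := by rw [L.sq _ (hall j hj), one_mul]

/-- A 2-group of `K` containing `K ⊓ Q` meets the centraliser of `x` in `K ⊓ Q`. -/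
theorem mem_inf {V : Subgroup G} (hV : IsPGroup 2 V) (hVK : V ≤ K) (hle : K ⊓ Q ≤ V) {g : G}
    (hg : g ∈ V) (hxg : Commute x g) : g ∈ K ⊓ Q := by
  obtain ⟨b, hb, hba⟩ := L.exists_other
  have hga : g • a = a := mem_stabilizer_iff.1 (L.point.le (hVK hg))
  obtain ⟨q, hq, hqb⟩ := L.trans b (g • b) hb (by rw [← mul_smul, hxg.eq, mul_smul, hb]) hba
    (fun e => hba (smul_left_cancel g (e.trans hga.symm)))
  have hqK : q ∈ K := by
    by_cases hQK : Q ≤ K
    · exact hQK hq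
    · exact L.le_K (L.class_of_mem h hQK (hVK hg) hxg hb hba hq hqb.symm)
  have hmem : q⁻¹ * g ∈ V := mul_mem (inv_mem (hle ⟨hqK, hq⟩)) hg
  obtain ⟨n, hn⟩ := hV ⟨_, hmem⟩
  have h1 := L.eq_one_of_fix h (hVK hmem) ⟨n, congrArg Subtype.val hn⟩
    (by rw [mul_smul, ← hqb, inv_smul_smul]) hba
  exact inv_mul_eq_one.1 h1 ▸ ⟨hqK, hq⟩

/-- `K ⊓ Q` has odd index in the subgroups of `K` centralising `x` which it normalises. -/
theorem odd_relIndex_inf {N : Subgroup G} (hNK : N ≤ K)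
    (hNx : ∀ g ∈ N, Commute x g) (hle : K ⊓ Q ≤ N) : Odd ((K ⊓ Q).relIndex N) := by
  haveI : Fact (Nat.Prime 2) := ⟨Nat.prime_two⟩
  have h2 : IsPGroup 2 ↥(K ⊓ Q : Subgroup G) := L.two.to_le inf_le_right
  obtain ⟨P, hP⟩ := (h2.of_equiv (Subgroup.subgroupOfEquivOfLe hle).symm).exists_le_sylow
  have e : (P : Subgroup ↥N) = (K ⊓ Q).subgroupOf N := le_antisymm (fun g hg => by
    refine Subgroup.mem_subgroupOf.2 (L.mem_inf h (P.2.map N.subtype)
      (fun y hy => hNK (Subgroup.map_subtype_le _ hy))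
      (fun y hy => ⟨⟨y, hle hy⟩, hP (Subgroup.mem_subgroupOf.2 hy), rfl⟩)
      ⟨g, hg, rfl⟩ (hNx g g.2))) hP
  have h3 := P.not_dvd_index
  rw [e] at h3
  exact Nat.not_even_iff_odd.1 fun he => h3 (even_iff_two_dvd.1 he)

/-- Some element of `K` normalising `R` moves `x` inside `x R`. -/
theorem exists_move (hnf : NoFull D Ω) :
    ∃ g ∈ moveGroup x K R L.x_sq, shift x g ≠ 1 := by
  haveI : Fact (Nat.Prime 2) := ⟨Nat.prime_two⟩
  have h2 : IsPGroup 2 ↥(K ⊓ Q : Subgroup G) := L.two.to_le inf_le_right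
  have hcard : IsPGroup 2 ↥((K ⊓ Q) ⊔ Subgroup.zpowers x) := h2.to_sup_of_normal_left'
    (Involution.Basic.isPGroup_zpowers_of_two L.bad.1)
    (Subgroup.zpowers_le.2 (Subgroup.centralizer_le_normalizer _
      (Subgroup.mem_centralizer_iff.2 fun r hr => (L.comm r hr.2).eq.symm)))
  obtain ⟨S, hS, hle⟩ := exists_top_two hcard
    (sup_le (inf_le_left.trans L.point.le) (Subgroup.zpowers_le.2 (mem_stabilizer_iff.2 L.fix)))
  have hxS : x ∈ S := hle (Subgroup.mem_sup_right (Subgroup.mem_zpowers x))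
  have hQS : K ⊓ Q ≤ S := le_sup_left.trans hle
  have hlt : ¬ S ⊓ K ≤ K ⊓ Q := fun hsub => hnf x ⟨L.bad, a, S, hS, hxS, fun d hd hdS =>
    L.comm d (hsub ⟨hdS, L.point.dat_le d ⟨hd, mem_stabilizer_iff.1 (hS.2.1 hdS)⟩⟩).2⟩
  have hxinv : x⁻¹ = x := inv_eq_of_mul_eq_one_right L.x_sq
  obtain ⟨g, hg, hgA, hgn, hd⟩ := exists_growth (K := K) (A := K ⊓ Q) L.x_sq hxS hS.1
    (fun k hk => by simpa [hxinv] using L.conj_K L.fix hk) (L.x_notMem h)
    (le_inf hQS inf_le_left)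
    (fun v hv => by rwa [(L.comm v hv.2).eq, mul_assoc, L.x_sq, mul_one]) hlt
  have hdisp : disp x g = shift x g := by rw [disp, shift]; group
  rw [hdisp] at hd
  have hgR : g ∈ Subgroup.normalizer (R : Set G) := mem_normalizer_of_conj_mem fun r hr =>
    L.involution _ ((Subgroup.mem_normalizer_iff.1 hgn r).1 ⟨L.le_K hr, L.le hr⟩).2 (by
      rw [show g * r * g⁻¹ * (g * r * g⁻¹) = g * (r * r) * g⁻¹ by group, L.sq r hr]; group)
  have hsR : shift x g ∈ R := by
    refine L.involution _ hd.2 ?_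
    have hc : Commute x (shift x g) := L.comm _ hd.2
    calc shift x g * shift x g = x * shift x g * x * shift x g := by
          rw [hc.eq, mul_assoc (shift x g), L.x_sq, mul_one]
      _ = (x * shift x g) * (x * shift x g) := by group
      _ = 1 := by
          rw [← conj_eq_mul_shift L.x_sq,
            show g * x * g⁻¹ * (g * x * g⁻¹) = g * (x * x) * g⁻¹ by group, L.x_sq]
          group
  exact ⟨g, mem_moveGroup.2 ⟨hg.2, hgR, hsR⟩, fun e => hgA (L.mem_inf h (hS.1.to_le inf_le_left)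
    inf_le_right (le_inf hQS inf_le_left) hg ((shift_eq_one L.x_sq).1 e))⟩

omit h [Finite G] in
/-- One translation gives all of them, by the torus. -/
theorem onto_of_ne {N : Subgroup G} (hshift : ∀ k ∈ N, shift x k ∈ R)
    (hJ : ∀ j ∈ J, ∀ k ∈ N, j * k * j⁻¹ ∈ N) (hne : ∃ g ∈ N, shift x g ≠ 1) :
    ∀ r ∈ R, ∃ g ∈ N, shift x g = r := by
  intro r hr
  obtain ⟨g, hg, hg1⟩ := hne
  rcases eq_or_ne r 1 with rfl | hr1
  · exact ⟨1, one_mem _, shift_one L.x_sq⟩
  obtain ⟨j, hj, e⟩ := L.trans_J _ (hshift g hg) r hr hg1 hr1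
  exact ⟨j * g * j⁻¹, hJ j hj g hg, by rw [shift_conj (L.comm_J j hj), e]⟩

/-- A 2-subgroup of odd index realises as many translations as the whole group. -/
theorem sylow_onto {N P : Subgroup G} (hNK : N ≤ K) (hshift : ∀ k ∈ N, shift x k ∈ R)
    (hQN : K ⊓ Q ≤ N) (honto : ∀ r ∈ R, ∃ g ∈ N, shift x g = r) (hPN : P ≤ N) (hP : IsPGroup 2 P)
    (hodd : Odd (P.relIndex N)) (hQP : K ⊓ Q ≤ P) :
    (∀ r ∈ R, ∃ g ∈ P, shift x g = r) ∧ (K ⊓ Q).relIndex P = Nat.card R := by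
  haveI : Fact (Nat.Prime 2) := ⟨Nat.prime_two⟩
  set C := N ⊓ Subgroup.centralizer ({x} : Set G) with hC
  have hQC : K ⊓ Q ≤ C := le_inf hQN fun q hq =>
    Subgroup.mem_centralizer_singleton_iff.2 (L.comm q hq.2).symm.eq
  have hPC : P ⊓ Subgroup.centralizer ({x} : Set G) = K ⊓ Q := le_antisymm
    (fun g hg => L.mem_inf h hP (hPN.trans hNK) hQP hg.1
      (Subgroup.mem_centralizer_singleton_iff.1 hg.2).symm)
    (le_inf hQP (hQC.trans inf_le_right))
  have hN : C.relIndex N = Nat.card R := (relIndex_shift L.x_sq hshift).trans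
    (Nat.card_congr (Equiv.subtypeUnivEquiv fun r : R => honto r r.2))
  have hP' := relIndex_shift L.x_sq (fun k hk => hshift k (hPN hk)) (N := P) (R := R)
  rw [hPC] at hP'
  have hR2 : IsPGroup 2 R := L.two.to_le L.le
  obtain ⟨n, hn⟩ := hR2.exists_card_eq
  have hd : Nat.card R ∣ (K ⊓ Q).relIndex P := by
    have h1 := Subgroup.relIndex_mul_relIndex (K ⊓ Q) P N hQP hPN
    have h2 := Subgroup.relIndex_mul_relIndex (K ⊓ Q) C N hQC inf_le_left
    rw [hN, ← h1] at h2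
    refine Nat.Coprime.dvd_of_dvd_mul_right ?_ (Dvd.intro_left _ h2)
    rw [hn]
    exact (Nat.coprime_two_left.2 hodd).pow_left _
  have hpos : (K ⊓ Q).relIndex P ≠ 0 :=
    Subgroup.index_ne_zero_of_finite (H := (K ⊓ Q).subgroupOf P)
  have hle : Nat.card R ≤ Nat.card {r : R // ∃ g ∈ P, shift x g = r} :=
    hP' ▸ Nat.le_of_dvd (Nat.pos_of_ne_zero hpos) hd
  have hbij := (Subtype.val_injective (p := fun r : R => ∃ g ∈ P, shift x g = r)).bijective_of_nat_card_le hle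
  refine ⟨fun r hr => ?_, le_antisymm (hP'.le.trans (Finite.card_subtype_le _))
    (Nat.le_of_dvd (Nat.pos_of_ne_zero hpos) hd)⟩
  obtain ⟨⟨_, hy⟩, rfl⟩ := hbij.2 ⟨r, hr⟩
  exact hy

end CurvedLine

/-- The elements of `K` centralising `R`, trivial on `Q / R` and moving `x` inside `x R`. -/
def baseGroup (x : G) (K R Q : Subgroup G) (hx : x * x = 1) : Subgroup G :=
  moveGroup x K R hx ⊓ Subgroup.centralizer (R : Set G) ⊓ trivGroup R Q

/-- A 2-group realising the translations of `x` on a curved line. -/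
structure CurvedBase (D : Set G) (a : Ω) (x : G) (K R Q J B : Subgroup G) : Prop where
  line : CurvedLine D a x K R Q J
  two : IsPGroup 2 B
  le : B ≤ K
  inf_le : K ⊓ Q ≤ B
  card : Nat.card B = Nat.card R * Nat.card ↥(K ⊓ Q)
  cent : B ≤ Subgroup.centralizer (R : Set G)
  normQ : B ≤ Subgroup.normalizer (Q : Set G)
  triv : ∀ b ∈ B, ActsTriv R Q b
  fix : ∀ b ∈ B, Commute x b → b ∈ K ⊓ Q
  shift_mem : ∀ b ∈ B, shift x b ∈ R
  onto : ∀ r ∈ R, ∃ b ∈ B, shift x b = r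
  inv_Q : Q ≤ Subgroup.normalizer (B : Set G)
  inv_x : x ∈ Subgroup.normalizer (B : Set G)
  /-- `B` is maximal among the 2-groups moving `x` inside `x R` -/
  maximal : ∀ P : Subgroup G, IsPGroup 2 P → B ≤ P →
    (∀ p ∈ P, p ∈ K ∧ shift x p ∈ R) → P = B
  /-- the torus normalises `B`, up to elements of `K` acting trivially on the line -/
  torus : ∀ j ∈ J, ∃ c ∈ K, Commute x c ∧ c ∈ Subgroup.centralizer (R : Set G) ∧
    c ∈ trivGroup R Q ∧ c * j ∈ Subgroup.normalizer (B : Set G)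

namespace CurvedBase

variable {B : Subgroup G} [Finite G]

/-- `B`, `Q` and `x` lie in one maximal 2-subgroup of the stabiliser. -/
theorem exists_top (M : CurvedBase D a x K R Q J B) :
    ∃ S : Subgroup G, IsTopTwo S a ∧ B ≤ S ∧ Q ≤ S ∧ x ∈ S := by
  have L := M.line
  have h1 : IsPGroup 2 ↥(Q ⊔ Subgroup.zpowers x) := L.two.to_sup_of_normal_left'
    (Involution.Basic.isPGroup_zpowers_of_two L.bad.1)
    (Subgroup.zpowers_le.2 (Subgroup.centralizer_le_normalizer _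
      (Subgroup.mem_centralizer_iff.2 fun r hr => (L.comm r hr).eq.symm)))
  obtain ⟨S, hS, hle⟩ := exists_top_two (M.two.to_sup_of_normal_left' h1
    (sup_le M.inv_Q (Subgroup.zpowers_le.2 M.inv_x)))
    (sup_le (M.le.trans L.point.le) (sup_le (fun q hq => mem_stabilizer_iff.2 (L.fix_Q q hq))
      (Subgroup.zpowers_le.2 (mem_stabilizer_iff.2 L.fix))))
  exact ⟨S, hS, le_sup_left.trans hle, (le_sup_left.trans le_sup_right).trans hle,
    hle (Subgroup.mem_sup_right (Subgroup.mem_sup_right (Subgroup.mem_zpowers x)))⟩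

end CurvedBase

namespace IsCurved

variable (hL : IsCurved D a x K R Q J) [Finite G]
include hL

/-- An element of `baseGroup` moves `x`. -/
theorem exists_baseGroup_ne (h : ClosedSetting D Ω) (hnf : NoFull D Ω) :
    ∃ g ∈ baseGroup x K R Q hL.line.x_sq, shift x g ≠ 1 := by
  have L := hL.line
  haveI : Fact (Nat.Prime 2) := ⟨Nat.prime_two⟩
  set N := moveGroup x K R L.x_sq with hN
  obtain ⟨g, hg, hg1⟩ := L.exists_move h hnf
  rw [← hN] at hg
  have hQN : ∀ q ∈ Q, ∀ k ∈ N, q * k * q⁻¹ ∈ N := fun q hq k hk => by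
    obtain ⟨h1, h2, h3⟩ := mem_moveGroup.1 hk
    have hqR : q ∈ Subgroup.normalizer (R : Set G) := mem_normalizer_of_conj_mem fun r hr => by
      rwa [(L.central q hq r hr).eq, mul_inv_cancel_right]
    refine mem_moveGroup.2 ⟨L.conj_K (L.fix_Q q hq) h1, mul_mem (mul_mem hqR h2) (inv_mem hqR), ?_⟩
    rw [shift_conj (L.comm q hq), (L.central q hq _ h3).eq, mul_inv_cancel_right]
    exact h3
  set C₁ := K ⊓ Subgroup.centralizer ({x} : Set G) ⊓ Subgroup.centralizer (R : Set G) with hC₁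
  have hC₁N : C₁ ≤ N := fun c hc => mem_moveGroup.2 ⟨hc.1.1,
    Subgroup.centralizer_le_normalizer _ hc.2, by
      rw [(shift_eq_one L.x_sq).2 (Subgroup.mem_centralizer_singleton_iff.1 hc.1.2).symm]
      exact one_mem _⟩
  have hC₁x : ∀ c ∈ C₁, Commute x c := fun c hc =>
    (Subgroup.mem_centralizer_singleton_iff.1 hc.1.2).symm
  have hQC : K ⊓ Q ≤ C₁ := fun q hq => ⟨⟨hq.1,
    Subgroup.mem_centralizer_singleton_iff.2 (L.comm q hq.2).symm.eq⟩,
    Subgroup.mem_centralizer_iff.2 fun r hr => (L.central q hq.2 r hr).eq.symm⟩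
  have hodd₁ : Odd ((K ⊓ Q).relIndex C₁) :=
    L.odd_relIndex_inf h (fun c hc => hc.1.1) hC₁x hQC
  by_cases hQK : Q ≤ K
  swap
  · -- an element of `C₁ g` normalises `Q`
    have hQR := L.le_or_inf_eq.resolve_left hQK
    have hnorm : Q ≤ Subgroup.normalizer (C₁ : Set G) := fun q hq =>
      mem_normalizer_of_conj_mem fun c hc => ⟨⟨L.conj_K (L.fix_Q q hq) hc.1.1,
        Subgroup.mem_centralizer_singleton_iff.2
          (((L.comm q hq).mul_right (hC₁x c hc)).mul_right (L.comm q hq).inv_right).symm.eq⟩,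
        Subgroup.mem_centralizer_iff.2 fun r hr =>
          (((L.central q hq r hr).symm.mul_right
            (show Commute r c from Subgroup.mem_centralizer_iff.1 hc.2 r hr)).mul_right
              (L.central q hq r hr).symm.inv_right).eq⟩
    obtain ⟨hgK, hgR, hgs⟩ := mem_moveGroup.1 hg
    have hgq : ∀ q ∈ Q, g * q * g⁻¹ ∈ C₁ ⊔ Q := by
      intro q hq
      set d := g * q * g⁻¹ * q⁻¹ with hd
      have hdN : d ∈ N := by
        rw [hd, show g * q * g⁻¹ * q⁻¹ = g * (q * g⁻¹ * q⁻¹) by group]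
        exact mul_mem hg (hQN q hq _ (inv_mem hg))
      have hdx : shift x d = 1 := by
        rw [hd, show g * q * g⁻¹ * q⁻¹ = g * (q * g⁻¹ * q⁻¹) by group, shift_mul L.x_sq,
          shift_conj (L.comm q hq),
          (L.central q hq _ (mem_moveGroup.1 (inv_mem hg)).2.2).eq, mul_inv_cancel_right,
          ← shift_mul L.x_sq, mul_inv_cancel, shift_one L.x_sq]
      have hdR : d ∈ Subgroup.centralizer (R : Set G) := by
        refine Subgroup.mem_centralizer_iff.2 fun r hr => (mul_inv_eq_iff_eq_mul.1 ?_).symm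
        have hr' := (Subgroup.mem_normalizer_iff.1 (inv_mem hgR) r).1 hr
        have hc := L.central q hq _ hr'
        calc d * r * d⁻¹
            = g * (q * (g⁻¹ * (q⁻¹ * r * q) * g⁻¹⁻¹) * q⁻¹) * g⁻¹ := by rw [hd]; group
          _ = g * (q * (g⁻¹ * r * g⁻¹⁻¹) * q⁻¹) * g⁻¹ := by
              rw [mul_assoc q⁻¹ r q, ← (L.central q hq r hr).eq, inv_mul_cancel_left]
          _ = r := by rw [hc.eq, mul_inv_cancel_right]; group
      have hdC : d ∈ C₁ := ⟨⟨(mem_moveGroup.1 hdN).1,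
        Subgroup.mem_centralizer_singleton_iff.2 ((shift_eq_one L.x_sq).1 hdx).symm.eq⟩, hdR⟩
      have := mul_mem (Subgroup.mem_sup_left (T := Q) hdC) (Subgroup.mem_sup_right (S := C₁) hq)
      rwa [hd, inv_mul_cancel_right] at this
    have hodd : Odd ((Q ⊓ C₁).relIndex C₁) := by
      rwa [show Q ⊓ C₁ = K ⊓ Q from le_antisymm (fun q hq => ⟨hq.2.1.1, hq.1⟩)
        (le_inf inf_le_right hQC)]
    obtain ⟨d, hd, htQ⟩ := exists_mul_mem_normalizer L.two hnorm hodd hgq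
    set t := d * g with ht
    have htN : t ∈ N := mul_mem (hC₁N hd) hg
    obtain ⟨htK, htR, -⟩ := mem_moveGroup.1 htN
    have hta : t • a = a := mem_stabilizer_iff.1 (L.point.le htK)
    have htriv : ActsTriv R Q t := fun q hq => by
      rw [← hQR]
      refine ⟨?_, Q.mul_mem ((Subgroup.mem_normalizer_iff.1 htQ q).1 hq) (Q.inv_mem hq)⟩
      rw [show t * q * t⁻¹ * q⁻¹ = t * (q * t⁻¹ * q⁻¹) by group]
      exact mul_mem htK (L.conj_K (L.fix_Q q hq) (inv_mem htK))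
    have htC : t ∈ Subgroup.centralizer (R : Set G) := Subgroup.mem_centralizer_iff.2 fun r hr => by
      obtain ⟨q, hq, rfl⟩ := L.sq_onto r hr
      have hy := htriv q hq
      set y := t * q * t⁻¹ * q⁻¹ with hy'
      refine (mul_inv_eq_iff_eq_mul.1 (show t * (q * q) * t⁻¹ = q * q from ?_)).symm
      calc t * (q * q) * t⁻¹ = (y * q) * (y * q) := by rw [hy']; group
        _ = y * (q * y) * q := by group
        _ = y * (y * q) * q := by rw [(L.central q hq y hy).eq]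
        _ = (y * y) * (q * q) := by group
        _ = q * q := by rw [L.sq y hy, one_mul]
    refine ⟨t, ⟨⟨htN, htC⟩, mem_trivGroup.2 ⟨htQ, htR, htriv⟩⟩, ?_⟩
    rw [ht, shift_mul L.x_sq, (shift_eq_one L.x_sq).2 (hC₁x d hd), one_mul,
      ← Subgroup.mem_centralizer_iff.1 hd.2 _ hgs, mul_inv_cancel_right]
    exact hg1
  -- now `Q` lies in `K`
  have hQeq : K ⊓ Q = Q := inf_eq_right.2 hQK
  have hQle : Q ≤ C₁ := hQeq ▸ hQC
  have hQnN : Q ≤ Subgroup.normalizer (N : Set G) := fun q hq =>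
    mem_normalizer_of_conj_mem (hQN q hq)
  have hJR : ∀ j ∈ J, j ∈ Subgroup.normalizer (R : Set G) := fun j hj =>
    (Subgroup.mem_inf.1 (L.norm_J hj)).1
  have hJQ : ∀ j ∈ J, j ∈ Subgroup.normalizer (Q : Set G) := fun j hj =>
    (Subgroup.mem_inf.1 (L.norm_J hj)).2
  have hJN : ∀ j ∈ J, ∀ k ∈ N, j * k * j⁻¹ ∈ N := fun j hj k hk => by
    obtain ⟨h1, h2, h3⟩ := mem_moveGroup.1 hk
    refine mem_moveGroup.2 ⟨L.conj_K (L.fix_J j hj) h1,
      mul_mem (mul_mem (hJR j hj) h2) (inv_mem (hJR j hj)), ?_⟩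
    rw [shift_conj (L.comm_J j hj)]
    exact L.J_conj_R hj h3
  have hsylow : ∀ M : Subgroup G, M ≤ N → Q ≤ M → Q ≤ Subgroup.normalizer (M : Set G) →
      (∀ r ∈ R, ∃ k ∈ M, shift x k = r) → ∃ P ≤ M, IsPGroup 2 P ∧ Q ≤ P ∧
        (∀ p ∈ P, Commute x p → p ∈ Q) ∧ (∀ r ∈ R, ∃ k ∈ P, shift x k = r) ∧
          Q.relIndex P = Nat.card R := by
    intro M hM hQM hnM honto
    obtain ⟨P, hPM, hP, hodd, hinv⟩ := exists_invariant L.two hnM
    have hQP : Q ≤ P := (le_sup_right (a := P)).trans (le_of_odd_relIndex hodd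
      (hP.to_sup_of_normal_left' L.two hinv) le_sup_left (sup_le hPM hQM))
    have hPK : P ≤ K := fun p hp => (mem_moveGroup.1 (hM (hPM hp))).1
    have h1 := L.sylow_onto h (fun p hp => (mem_moveGroup.1 (hM hp)).1)
      (fun p hp => (mem_moveGroup.1 (hM hp)).2.2) (hQeq.symm ▸ hQM) honto hPM hP hodd
      (hQeq.symm ▸ hQP)
    rw [hQeq] at h1
    exact ⟨P, hPM, hP, hQP, fun p hp hxp => (L.mem_inf h hP hPK (hQeq.symm ▸ hQP) hp hxp).2, h1⟩
  set N₀ := N ⊓ Subgroup.centralizer (R : Set G) with hN₀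
  have hQN₀ : Q ≤ N₀ := le_inf (hQle.trans hC₁N) (hQle.trans inf_le_right)
  have hcent : ∀ g : G, g ∈ Subgroup.normalizer (R : Set G) → ∀ k ∈ Subgroup.centralizer (R : Set G),
      g * k * g⁻¹ ∈ Subgroup.centralizer (R : Set G) := fun g hg k hk =>
    Subgroup.mem_centralizer_iff.2 fun r hr => by
      have hr' := (Subgroup.mem_normalizer_iff.1 (inv_mem hg) r).1 hr
      calc r * (g * k * g⁻¹) = g * ((g⁻¹ * r * g⁻¹⁻¹) * k) * g⁻¹ := by group
        _ = g * (k * (g⁻¹ * r * g⁻¹⁻¹)) * g⁻¹ := by rw [Subgroup.mem_centralizer_iff.1 hk _ hr']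
        _ = g * k * g⁻¹ * r := by group
  have hQR : ∀ q ∈ Q, q ∈ Subgroup.normalizer (R : Set G) := fun q hq =>
    L.mem_normalizer_R (Subgroup.le_normalizer hq)
  -- some element centralising `R` moves `x`
  have hne₀ : ∃ k ∈ N₀, shift x k ≠ 1 := by
    by_contra hno
    push Not at hno
    obtain ⟨P, hPN, hP, hQP, hPx, honto, -⟩ := hsylow N le_rfl (hQle.trans hC₁N) hQnN
      (L.onto_of_ne (fun k hk => (mem_moveGroup.1 hk).2.2) hJN ⟨g, hg, hg1⟩)
    have hPR : ∀ p ∈ P, p ∈ Subgroup.centralizer (R : Set G) → p ∈ Q := fun p hp hc =>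
      hPx p hp ((shift_eq_one L.x_sq).1 (hno p ⟨hPN hp, hc⟩))
    have hPn : ∀ p ∈ P, p ∈ Subgroup.normalizer (Q : Set G) := fun p hp =>
      mem_normalizer_of_conj_mem fun q hq => hPR _ (mul_mem (mul_mem hp (hQP hq)) (inv_mem hp))
        (hcent p (mem_moveGroup.1 (hPN hp)).2.1 q (hQN₀ hq).2)
    have hlt : ∃ p ∈ P, p ∉ Q := by
      obtain ⟨r, hr, hr1⟩ : ∃ r ∈ R, r ≠ 1 := by
        haveI : Nontrivial R := Finite.one_lt_card_iff_nontrivial.1 (by have := L.four; omega)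
        obtain ⟨r, hr⟩ := exists_ne (1 : R)
        exact ⟨r, r.2, fun e => hr (Subtype.ext e)⟩
      obtain ⟨p, hp, e⟩ := honto r hr
      exact ⟨p, hp, fun hpQ => hr1 (e ▸ (shift_eq_one L.x_sq).2 (L.comm p hpQ))⟩
    obtain ⟨p, hp, hpQ⟩ := hlt
    obtain ⟨n, hn⟩ := hP ⟨p, hp⟩
    have hn' : p ^ 2 ^ n ∈ Q := by
      rw [show p ^ 2 ^ n = 1 from congrArg Subtype.val hn]; exact one_mem _
    obtain ⟨t, ht, htQ, htt⟩ : ∃ t ∈ P, t ∉ Q ∧ t * t ∈ Q := by
      clear hn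
      induction n generalizing p with
      | zero => exact absurd (by simpa using hn') hpQ
      | succ n ih =>
        by_cases h2 : p * p ∈ Q
        · exact ⟨p, hp, hpQ, h2⟩
        · exact ih (p * p) (mul_mem hp hp) h2 (by
            rwa [← pow_two, ← pow_mul, ← pow_succ'])
    have hact : ActsTriv R Q (t * t) := fun q hq => L.squareGroup.pol_mem htt hq
    exact htQ (hPR t ht (Subgroup.mem_centralizer_iff.2 fun r hr =>
      (hL.commute (hPn t ht) hact r hr).eq.symm))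
  have honto₀ := L.onto_of_ne (N := N₀) (fun k hk => (mem_moveGroup.1 hk.1).2.2)
    (fun j hj k hk => ⟨hJN j hj k hk.1, hcent j (hJR j hj) k hk.2⟩) hne₀
  obtain ⟨B₁, hBN, hB, hQB, hBx, honto, hidx⟩ := hsylow N₀ inf_le_left hQN₀
    (fun q hq => mem_normalizer_of_conj_mem fun k hk =>
      ⟨hQN q hq k hk.1, hcent q (hQR q hq) k hk.2⟩) honto₀
  have hBR : ∀ b ∈ B₁, ∀ r ∈ R, Commute b r := fun b hb r hr =>
    (Subgroup.mem_centralizer_iff.1 (hBN hb).2 r hr).symm
  have hsmem : ∀ b ∈ B₁, shift x b ∈ R := fun b hb => (mem_moveGroup.1 (hBN hb).1).2.2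
  have hhom : ∀ b ∈ B₁, ∀ b' ∈ B₁, shift x (b * b') = shift x b * shift x b' := fun b hb b' hb' => by
    rw [shift_mul L.x_sq, (hBR b hb _ (hsmem b' hb')).eq, mul_inv_cancel_right]
  have hker : ∀ b ∈ B₁, shift x b = 1 → b ∈ Q := fun b hb e =>
    hBx b hb ((shift_eq_one L.x_sq).1 e)
  have hsinv : ∀ b ∈ B₁, shift x b⁻¹ = shift x b := fun b hb => by
    have e := hhom b hb b⁻¹ (inv_mem hb)
    rw [mul_inv_cancel, shift_one L.x_sq] at e
    exact (mul_left_cancel ((L.sq _ (hsmem b hb)).trans e)).symm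
  have hBn : ∀ b ∈ B₁, b ∈ Subgroup.normalizer (Q : Set G) := fun b hb =>
    mem_normalizer_of_conj_mem fun q hq => hker _ (mul_mem (mul_mem hb (hQB hq)) (inv_mem hb)) (by
      rw [hhom _ (mul_mem hb (hQB hq)) _ (inv_mem hb), hhom _ hb _ (hQB hq), hsinv b hb,
        (shift_eq_one L.x_sq).2 (L.comm q hq), mul_one, L.sq _ (hsmem b hb)])
  have hact : ∀ q ∈ Q, ActsTriv R Q q := fun q hq e he => L.squareGroup.pol_mem hq he
  have hB2 : ∀ b ∈ B₁, ActsTriv R Q (b * b) := fun b hb =>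
    hact _ (hker _ (mul_mem hb hb) (by rw [hhom b hb b hb, L.sq _ (hsmem b hb)]))
  have hBc : ∀ b ∈ B₁, ∀ b' ∈ B₁, ActsTriv R Q (b * b' * b⁻¹ * b'⁻¹) := fun b hb b' hb' =>
    hact _ (hker _ (mul_mem (mul_mem (mul_mem hb hb') (inv_mem hb)) (inv_mem hb')) (by
      rw [hhom _ (mul_mem (mul_mem hb hb') (inv_mem hb)) _ (inv_mem hb'),
        hhom _ (mul_mem hb hb') _ (inv_mem hb), hhom b hb b' hb', hsinv b hb, hsinv b' hb',
        (L.central _ (L.le (hsmem b hb)) _ (hsmem b' hb')).eq,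
        mul_assoc _ (shift x b) (shift x b), L.sq _ (hsmem b hb), mul_one, L.sq _ (hsmem b' hb')]))
  have hT : ∀ b, b ∈ B₁ ⊓ trivGroup R Q ↔ b ∈ B₁ ∧ ActsTriv R Q b := fun b =>
    ⟨fun hb => ⟨hb.1, hb.2.2.2⟩, fun hb => ⟨hb.1, hBn b hb.1, L.mem_normalizer_R (hBn b hb.1), hb.2⟩⟩
  have hlt := hL.bound hT (fun b hb => hBn b hb) hBR hB2 hBc
  have hcard : Nat.card B₁ = Nat.card R * Nat.card Q := by
    rw [← hidx, ← Subgroup.card_mul_index (Q.subgroupOf B₁),
      Nat.card_congr (Subgroup.subgroupOfEquivOfLe hQB).toEquiv, mul_comm]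
    rfl
  obtain ⟨t, ht, htQ⟩ : ∃ t ∈ B₁ ⊓ trivGroup R Q, t ∉ Q := by
    by_contra hno
    push Not at hno
    have hle := Subgroup.card_le_of_le (hno : B₁ ⊓ trivGroup R Q ≤ Q)
    rw [hcard, mul_comm] at hlt
    exact absurd (Nat.lt_of_mul_lt_mul_right hlt) (not_lt.2 hle)
  exact ⟨t, ⟨hBN ht.1, ht.2⟩, fun e => htQ (hker t ht.1 e)⟩

/-- The translations of `x` are realised by a base. -/
theorem exists_base (h : ClosedSetting D Ω) (hnf : NoFull D Ω) :
    ∃ B, CurvedBase D a x K R Q J B := by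
  have L := hL.line
  haveI : Fact (Nat.Prime 2) := ⟨Nat.prime_two⟩
  set N := baseGroup x K R Q L.x_sq with hN
  have hmem : ∀ k, k ∈ N ↔ (k ∈ K ∧ k ∈ Subgroup.normalizer (R : Set G) ∧ shift x k ∈ R) ∧
      k ∈ Subgroup.centralizer (R : Set G) ∧
      (k ∈ Subgroup.normalizer (Q : Set G) ∧ k ∈ Subgroup.normalizer (R : Set G) ∧
        ActsTriv R Q k) := fun k => by
    rw [hN, baseGroup, Subgroup.mem_inf, Subgroup.mem_inf, mem_moveGroup, mem_trivGroup, and_assoc]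
  have hconj : ∀ g : G, g • a = a → Commute x g → g ∈ Subgroup.normalizer (Q : Set G) →
      ∀ k ∈ N, g * k * g⁻¹ ∈ N := by
    intro g hga hgx hgQ k hk
    obtain ⟨⟨hkK, hkR, hks⟩, hkC, hkQ, -, hkt⟩ := (hmem k).1 hk
    have hgR := L.mem_normalizer_R hgQ
    refine (hmem _).2 ⟨⟨L.conj_K hga hkK, mul_mem (mul_mem hgR hkR) (inv_mem hgR), ?_⟩, ?_,
      mul_mem (mul_mem hgQ hkQ) (inv_mem hgQ), mul_mem (mul_mem hgR hkR) (inv_mem hgR), ?_⟩
    · rw [shift_conj hgx]
      exact (Subgroup.mem_normalizer_iff.1 hgR _).1 hks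
    · refine Subgroup.mem_centralizer_iff.2 fun r hr => ?_
      have hr' := (Subgroup.mem_normalizer_iff.1 (inv_mem hgR) r).1 hr
      calc r * (g * k * g⁻¹) = g * ((g⁻¹ * r * g⁻¹⁻¹) * k) * g⁻¹ := by group
        _ = g * (k * (g⁻¹ * r * g⁻¹⁻¹)) * g⁻¹ := by rw [Subgroup.mem_centralizer_iff.1 hkC _ hr']
        _ = g * k * g⁻¹ * r := by group
    · intro q hq
      have h1 := (Subgroup.mem_normalizer_iff.1 hgR _).1
        (hkt _ ((Subgroup.mem_normalizer_iff.1 (inv_mem hgQ) q).1 hq))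
      rwa [show g * (k * (g⁻¹ * q * g⁻¹⁻¹) * k⁻¹ * (g⁻¹ * q * g⁻¹⁻¹)⁻¹) * g⁻¹ =
        g * k * g⁻¹ * q * (g * k * g⁻¹)⁻¹ * q⁻¹ by group] at h1
  set Q₀ := K ⊓ Q with hQ₀
  have hQN : Q₀ ≤ N := fun q hq => (hmem q).2 ⟨⟨hq.1, L.mem_normalizer_R (Subgroup.le_normalizer hq.2),
    by rw [(shift_eq_one L.x_sq).2 (L.comm q hq.2)]; exact one_mem _⟩,
    Subgroup.mem_centralizer_iff.2 fun r hr => (L.central q hq.2 r hr).eq.symm,
    Subgroup.le_normalizer hq.2, L.mem_normalizer_R (Subgroup.le_normalizer hq.2),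
    fun e he => L.squareGroup.pol_mem hq.2 he⟩
  have hNK : N ≤ K := fun k hk => ((hmem k).1 hk).1.1
  have hshift : ∀ k ∈ N, shift x k ∈ R := fun k hk => ((hmem k).1 hk).1.2.2
  have honto := L.onto_of_ne hshift (fun j hj => hconj j (L.fix_J j hj) (L.comm_J j hj)
    (Subgroup.mem_inf.1 (L.norm_J hj)).2) (hL.exists_baseGroup_ne h hnf)
  set V := Q ⊔ Subgroup.zpowers x with hV
  have hxQ : x ∈ Subgroup.normalizer (Q : Set G) := mem_normalizer_of_conj_mem fun q hq => by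
    rwa [(L.comm q hq).eq, mul_inv_cancel_right]
  have hV2 : IsPGroup 2 V := L.two.to_sup_of_normal_left'
    (Involution.Basic.isPGroup_zpowers_of_two L.bad.1) (Subgroup.zpowers_le.2 hxQ)
  have hxN : x ∈ Subgroup.normalizer (N : Set G) :=
    mem_normalizer_of_conj_mem (hconj x L.fix (Commute.refl x) hxQ)
  have hQnN : Q ≤ Subgroup.normalizer (N : Set G) := fun q hq =>
    mem_normalizer_of_conj_mem (hconj q (L.fix_Q q hq) (L.comm q hq) (Subgroup.le_normalizer hq))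
  obtain ⟨B, hBN, hB, hodd, hinv⟩ :=
    exists_invariant hV2 (sup_le hQnN (Subgroup.zpowers_le.2 hxN))
  have hQB : Q₀ ≤ B := (le_sup_right (a := B)).trans (le_of_odd_relIndex hodd
    (hB.to_sup_of_normal_left' (L.two.to_le inf_le_right)
      ((inf_le_right.trans le_sup_left).trans hinv)) le_sup_left (sup_le hBN hQN))
  obtain ⟨hBonto, hidx⟩ := L.sylow_onto h hNK hshift hQN honto hBN hB hodd hQB
  refine ⟨B, L, hB, hBN.trans hNK, hQB, ?_, fun b hb => ((hmem b).1 (hBN hb)).2.1,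
    fun b hb => ((hmem b).1 (hBN hb)).2.2.1, fun b hb => ((hmem b).1 (hBN hb)).2.2.2.2,
    fun b hb hxb => L.mem_inf h hB (hBN.trans hNK) hQB hb hxb, fun b hb => hshift b (hBN hb),
    hBonto, le_sup_left.trans hinv,
    hinv (Subgroup.mem_sup_right (Subgroup.mem_zpowers x)), ?_, ?_⟩
  · rw [← hidx, ← Subgroup.card_mul_index (Q₀.subgroupOf B),
      Nat.card_congr (Subgroup.subgroupOfEquivOfLe hQB).toEquiv, mul_comm]
    rfl
  · intro P hP hBP hPm
    refine le_antisymm (fun p hp => ?_) hBP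
    obtain ⟨b, hb, e⟩ := hBonto _ (hPm p hp).2
    have h1 := L.mem_inf h hP (fun y hy => (hPm y hy).1) (hQB.trans hBP)
      (mul_mem (inv_mem (hBP hb)) hp) ((shift_eq_iff L.x_sq).1 e)
    have := mul_mem hb (hQB h1)
    rwa [mul_inv_cancel_left] at this
  · intro j hj
    have hjQ := (Subgroup.mem_inf.1 (L.norm_J hj)).2
    have hQn : Q ≤ Subgroup.normalizer (B : Set G) := le_sup_left.trans hinv
    have hW : IsPGroup 2 ↥(B ⊔ Q) := hB.to_sup_of_normal_left' L.two hQn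
    have hWn : B ⊔ Q ≤ Subgroup.normalizer (N : Set G) :=
      sup_le (hBN.trans Subgroup.le_normalizer) hQnN
    have hWB : (B ⊔ Q) ⊓ N = B := le_antisymm
      (le_of_odd_relIndex hodd (hW.to_le inf_le_left) (le_inf le_sup_left hBN) inf_le_right)
      (le_inf le_sup_left hBN)
    have hjW : ∀ w ∈ B ⊔ Q, j * w * j⁻¹ ∈ N ⊔ (B ⊔ Q) := by
      intro w hw
      have hle : B ⊔ Q ≤ (N ⊔ (B ⊔ Q)).comap (MulAut.conj j).toMonoidHom :=
        sup_le (fun b hb => Subgroup.mem_sup_left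
            (hconj j (L.fix_J j hj) (L.comm_J j hj) hjQ b (hBN hb)))
          (fun q hq => Subgroup.mem_sup_right (Subgroup.mem_sup_right (L.J_conj_Q hj hq)))
      exact hle hw
    obtain ⟨n, hn, hnW⟩ := exists_mul_mem_normalizer hW hWn (hWB.symm ▸ hodd) hjW
    obtain ⟨b, hb, e⟩ := hBonto _ (hshift n hn)
    have hc : b⁻¹ * n ∈ N := mul_mem (inv_mem (hBN hb)) hn
    obtain ⟨⟨hcK, -, -⟩, hcR, hcT⟩ := (hmem _).1 hc
    refine ⟨_, hcK, (shift_eq_iff L.x_sq).1 e, hcR, hcT, ?_⟩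
    rw [mul_assoc]
    refine mul_mem (Subgroup.inv_mem _ (Subgroup.le_normalizer hb)) (mem_normalizer_of_conj_mem fun y hy => ?_)
    rw [← hWB] at hy ⊢
    refine ⟨(Subgroup.mem_normalizer_iff.1 hnW y).1 hy.1, ?_⟩
    rw [show n * j * y * (n * j)⁻¹ = n * (j * y * j⁻¹) * n⁻¹ by group]
    exact N.mul_mem (N.mul_mem hn (hconj j (L.fix_J j hj) (L.comm_J j hj) hjQ y hy.2)) (N.inv_mem hn)

end IsCurved

end CfsgLib.LocalEven.OnePointFront.Nonfull
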