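import Cfsg.Agent.Lib.LocalEven.OnePointFront.Nonfull.Curved.Moved

/-!
# The moved case of a curved line

`MovedCase` is what the analysis of the layers hands over when it finds a moved centre: a maximal
2-subgroup through `x` and `Q` whose central members are moved by `x` and normalised by lifts of the
torus.  It arises from any central group `U` of members moved by `x` onto `x R` and normalised by
such lifts.  On a unitary line with `Q` outside the maximal point group it is impossible; if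
`Q ≤ K` one class excludes it.
-/

set_option autoImplicit false
set_option linter.style.haveILetI false

namespace CfsgLib.LocalEven.OnePointFront.Nonfull

open MulAction CfsgLib.LocalEven.TIEndgame CfsgLib.Involution

universe u v

variable {G : Type u} {Ω : Type v} [Group G] [MulAction G Ω] {D : Set G} {a : Ω} {x : G}
  {K R Q J S U : Subgroup G}

/-- The torus lifts to elements at `a` centralising `x`, normalising `U` and `Q` and acting in the
same way on `R` and on `Q / R`. -/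
def TorusLift (a : Ω) (x : G) (R Q J U : Subgroup G) : Prop :=
  ∀ j ∈ J, ∃ g : G, g • a = a ∧ Commute x g ∧ g ∈ Subgroup.normalizer (U : Set G) ∧
    g ∈ Subgroup.normalizer (Q : Set G) ∧ (∀ r ∈ R, g * r * g⁻¹ = j * r * j⁻¹) ∧
    ∀ q ∈ Q, (g * q * g⁻¹)⁻¹ * (j * q * j⁻¹) ∈ R

/-- The moved case. -/
def MovedCase (D : Set G) (a : Ω) (x : G) (K R Q J : Subgroup G) : Prop :=
  ∃ S : Subgroup G, MovedTop D a x K R Q J S ∧ Q ≤ S ∧
    TorusLift a x R Q J (omCentre (S ⊓ K))

/-- A central group of members moved onto `x R` and normalised by lifts of the torus gives the moved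
case, and is the whole of `Z`. -/
theorem MovedCase.of_central [Finite G] (L : CurvedLine D a x K R Q J) (h : ClosedSetting D Ω)
    (hS : IsTopTwo S a) (hxS : x ∈ S) (hQS : Q ≤ S) (hU : U ≤ omCentre (S ⊓ K)) (hRU : R ≤ U)
    (honto : ∀ r ∈ R, ∃ u ∈ U, u * x * u⁻¹ = x * r) (hlift : TorusLift a x R Q J U) :
    omCentre (S ⊓ K) = U ∧ MovedCase D a x K R Q J := by
  obtain ⟨r, hr, hr1⟩ : ∃ r ∈ R, r ≠ 1 := R.bot_or_exists_ne_one.resolve_left fun e => by
    have := L.four
    rw [e, Subgroup.card_bot] at this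
    omega
  obtain ⟨u₀, hu₀, hu₀x⟩ := honto r hr
  have hxx : x * x = 1 := Dihedral.mul_self L.bad.1
  have hne : ¬ Commute x u₀ := fun hc => hr1 (by
    have h1 : x * r = x := by rw [← hu₀x, ← hc.eq, mul_inv_cancel_right]
    exact mul_left_cancel (h1.trans (mul_one x).symm))
  have M : MovedTop D a x K R Q J S := ⟨L, hS, hxS, hRU.trans hU, u₀, hU hu₀, hne⟩
  have hZ : omCentre (S ⊓ K) = U := by
    refine le_antisymm (fun z hz => ?_) hU
    set Z := omCentre (S ⊓ K) with hZdef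
    have hxi : x⁻¹ = x := inv_eq_of_mul_eq_one_right hxx
    have hw : x * z * x⁻¹ ∈ Z := M.conj_mem_Z hxS hz
    set d : G := z⁻¹ * (x * z * x⁻¹) with hd
    have hdZ : d ∈ Z := mul_mem (inv_mem hz) hw
    have hxd : Commute x d := by
      have h1 : x * d * x⁻¹ = d⁻¹ := by
        calc x * d * x⁻¹ = (x * z⁻¹ * x⁻¹) * ((x * x) * z * (x * x)⁻¹) := by rw [hd]; group
          _ = _ := by rw [hxx, hd]; group
      rw [inv_eq_of_mul_eq_one_right hdZ.2.1] at h1
      exact mul_inv_eq_iff_eq_mul.1 h1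
    obtain ⟨u, hu, hux⟩ := honto d (M.mem_R h hdZ hxd)
    have huR : u * z ∈ R := by
      refine M.mem_R h (mul_mem (hU hu) hz) ?_
      have hxz : z * x * z⁻¹ = x * d := by
        have hzi : z⁻¹ = z := inv_eq_of_mul_eq_one_right hz.2.1
        calc z * x * z⁻¹ = (x * x) * z * x * z⁻¹ := by rw [hxx, one_mul]
          _ = x * ((x * z * x⁻¹) * z⁻¹) := by rw [hxi]; group
          _ = x * d := by rw [hd, (hw.2.2 _ (inv_mem hz.1)).eq]
      have hui : u⁻¹ = u := inv_eq_of_mul_eq_one_right (hU hu).2.1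
      have h2 : u * z * x * (u * z)⁻¹ = x := by
        calc u * z * x * (u * z)⁻¹ = u * (z * x * z⁻¹) * u⁻¹ := by group
          _ = (u * x * u⁻¹) * (u * d * u⁻¹) := by rw [hxz]; group
          _ = x * (d * d) := by
              rw [hux, ((hU hu).2.2 d hdZ.1).eq, mul_inv_cancel_right, mul_assoc]
          _ = x := by rw [hdZ.2.1, mul_one]
      exact (mul_inv_eq_iff_eq_mul.1 h2).symm
    have h3 := mul_mem (inv_mem hu) (hRU huR)
    rwa [inv_mul_cancel_left] at h3
  exact ⟨hZ, S, M, hQS, hZ.symm ▸ hlift⟩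

/-- A torus element of odd order has lifts of odd order. -/
theorem TorusLift.exists_odd [Finite G] (hlift : TorusLift a x R Q J U) {j : G} (hj : j ∈ J)
    (hodd : Odd (orderOf j)) (hfix : ∀ r ∈ R, Commute j r)
    (hfpf : ∀ q ∈ Q, (j * q * j⁻¹) * q⁻¹ ∈ R → q ∈ R) (hcen : ∀ q ∈ Q, ∀ r ∈ R, Commute q r)
    (hjQ : j ∈ Subgroup.normalizer (Q : Set G)) (hRQ : R ≤ Q) :
    ∃ g : G, Odd (orderOf g) ∧ Commute x g ∧ (∀ r ∈ R, Commute g r) ∧
      g ∈ Subgroup.normalizer (Q : Set G) ∧ g ∈ Subgroup.normalizer (U : Set G) ∧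
      ∀ q ∈ Q, (g * q * g⁻¹) * q⁻¹ ∈ R → q ∈ R := by
  obtain ⟨g, -, hgx, hgU, hgQ, hgR, hgq⟩ := hlift j hj
  have hgc : ∀ r ∈ R, Commute g r := fun r hr =>
    mul_inv_eq_iff_eq_mul.1 (by rw [hgR r hr, (hfix r hr).eq, mul_inv_cancel_right])
  -- powers of `g` act as those of `j`
  have hpow : ∀ n : ℕ, ∀ q ∈ Q, (g ^ n * q * (g ^ n)⁻¹)⁻¹ * (j ^ n * q * (j ^ n)⁻¹) ∈ R := by
    intro n
    induction n with
    | zero => intro q _; simp
    | succ n ih =>
      intro q hq
      have hn : g ^ n * q * (g ^ n)⁻¹ ∈ Q :=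
        (Subgroup.mem_normalizer_iff.1 (pow_mem hgQ n) q).1 hq
      have h1 := hgq _ hn
      have h2 := ih q hq
      set r₁ := (g ^ n * q * (g ^ n)⁻¹)⁻¹ * (j ^ n * q * (j ^ n)⁻¹) with hr₁
      have e : (g ^ (n + 1) * q * (g ^ (n + 1))⁻¹)⁻¹ * (j ^ (n + 1) * q * (j ^ (n + 1))⁻¹) =
          (g * (g ^ n * q * (g ^ n)⁻¹) * g⁻¹)⁻¹ * (j * (g ^ n * q * (g ^ n)⁻¹) * j⁻¹) *
            (j * r₁ * j⁻¹) := by
        rw [hr₁, pow_succ', pow_succ']; group
      rw [e]
      refine mul_mem h1 ?_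
      rw [(hfix r₁ h2).eq, mul_inv_cancel_right]
      exact h2
  obtain ⟨k, m, hm, hkm⟩ := Nat.exists_eq_pow_mul_and_not_dvd (orderOf_pos g).ne' 2 (by norm_num)
  obtain ⟨i, hi⟩ := exists_pow_eq_self_of_coprime (x := j) (n := 2 ^ k)
    (Nat.Coprime.pow_left k (Nat.coprime_two_left.2 hodd))
  refine ⟨g ^ (2 ^ k * i), ?_, hgx.pow_right _, fun r hr => (hgc r hr).pow_left _,
    pow_mem hgQ _, pow_mem hgU _, fun q hq hqR => hfpf q hq ?_⟩
  · refine Odd.of_dvd_nat (Nat.not_even_iff_odd.1 fun e => hm (even_iff_two_dvd.1 e))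
      (orderOf_dvd_of_pow_eq_one ?_)
    rw [← pow_mul, show 2 ^ k * i * m = orderOf g * i by rw [hkm]; ring, pow_mul,
      pow_orderOf_eq_one, one_pow]
  · have h1 := hpow (2 ^ k * i) q hq
    rw [pow_mul j, hi] at h1
    set p := g ^ (2 ^ k * i) * q * (g ^ (2 ^ k * i))⁻¹ with hp
    have hpQ : p ∈ Q := (Subgroup.mem_normalizer_iff.1 (pow_mem hgQ _) q).1 hq
    rw [show j * q * j⁻¹ * q⁻¹ = p * (p⁻¹ * (j * q * j⁻¹)) * q⁻¹ by group,
      (hcen p hpQ _ h1).eq, mul_assoc]
    exact mul_mem h1 hqR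

/-- One class excludes the moved case if `Q ≤ K`. -/
theorem MovedCase.false_of_le [Finite G] [Finite Ω] (hM : MovedCase D a x K R Q J)
    (h : ClosedSetting D Ω) (hgen : Subgroup.closure D = ⊤) (hmax : MaxRank D Ω R) (hQK : Q ≤ K)
    (hclass : ∀ S : Subgroup G, MovedTop D a x K R Q J S → Q ≤ S →
      TorusLift a x R Q J (omCentre (S ⊓ K)) → ∃ S' : Subgroup G,
        MovedTop D a x K R Q J S' ∧ Q ≤ S' ∧ OneClass K S' x) : False := by
  obtain ⟨S, hS, hQS, hlift⟩ := hM
  obtain ⟨S', hS', hQS', h1⟩ := hclass S hS hQS hlift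
  exact hS'.false_of_le h hgen hmax hQK hQS' h1

/-- No moved case on a unitary line with `Q` outside the maximal point group. -/
theorem MovedCase.false_of_unitary {Ω : Type u} [MulAction G Ω] {a : Ω} [Finite G] [Finite Ω]
    [FaithfulSMul G Ω] (hM : MovedCase D a x K R Q J) (L : UnitaryLine D a x K R Q J)
    (h : ClosedSetting D Ω) (hmax : MaxRank D Ω R) (hK : MaxPointGroup D a K)
    (hc : ∀ V : Subgroup G, IsPGroup 2 V → V ≤ K → R ≤ V → (∀ v ∈ V, Commute x v) → V = R) :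
    False := by
  obtain ⟨S, hS, hQS, hlift⟩ := hM
  obtain ⟨j, hj, hodd, hjR, hfpf⟩ := L.norm_one
  obtain ⟨g, hgo, hgx, hgR, hgQ, hgU, hgf⟩ :=
    hlift.exists_odd hj hodd hjR hfpf L.central (L.norm_J hj).2 L.le
  refine false_of_moved_unitary hS h hmax hK hQS (fun t ht hxt => ?_) hgo hgx hgR hgQ hgU hgf
  have hV : (S ⊓ K) ⊓ Subgroup.centralizer ({x} : Set G) = R :=
    hc _ (hS.two_T.to_le inf_le_left) (inf_le_left.trans inf_le_right)
      (le_inf (hS.central.trans (omCentre_le _)) fun r hr =>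
        Subgroup.mem_centralizer_singleton_iff.2 (L.comm r (L.le hr)).symm)
      fun v hv => (Subgroup.mem_centralizer_singleton_iff.1 hv.2).symm
  exact hV.le (show t ∈ (S ⊓ K) ⊓ Subgroup.centralizer ({x} : Set G) from
    ⟨ht, Subgroup.mem_centralizer_singleton_iff.2 hxt.symm⟩)

end CfsgLib.LocalEven.OnePointFront.Nonfull
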