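import Cfsg.Agent.Lib.LocalEven.OnePointFront.Nonfull.Curved.Pointless
import Cfsg.Agent.Lib.LocalEven.OnePointFront.Nonfull.Curved.MovedCase

/-!
# Curved lines with `Q` outside the point group: the moved case with its torus

The base `B` of the translations is the part in `K` of a maximal 2-subgroup `S ⊇ Q⟨x⟩`: that part is
elementary, like the one found by `exists_movedTop`.  So `omCentre (S ⊓ K) = B` is normalised by lifts
of the torus.
-/

set_option autoImplicit false
set_option linter.style.haveILetI false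
set_option linter.unusedSectionVars false

namespace CfsgLib.LocalEven.OnePointFront.Nonfull

open MulAction CfsgLib.LocalEven.TIEndgame CfsgLib.Involution

universe u

variable {G : Type u} {Ω : Type u} [Group G] [MulAction G Ω] [Finite G] [Finite Ω] [FaithfulSMul G Ω]
  {D : Set G} {a : Ω} {x : G} {K R Q J S : Subgroup G}

/-- In the moved case with `T = S ⊓ K` the centralisers of `T` at `a` lie in the maximal point
group, if `x` centralises only `R` in `T`. -/
theorem MovedTop.centralizer_le (M : MovedTop D a x K R Q J S) (h : ClosedSetting D Ω)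
    (hmax : MaxRank D Ω R) (hK : MaxPointGroup D a K) (hc : ∀ t ∈ S ⊓ K, Commute x t → t ∈ R) :
    stabilizer G a ⊓ Subgroup.centralizer ((S ⊓ K : Subgroup G) : Set G) ≤ K := by
  have hTZ : omCentre (S ⊓ K) = S ⊓ K := M.eq_omCentre h hc
  set T := S ⊓ K with hT
  have hTN : T ≤ stabilizer G a ⊓ Subgroup.centralizer (T : Set G) :=
    le_inf (inf_le_left.trans M.top.2.1) fun t ht =>
      Subgroup.mem_centralizer_iff.2 fun s hs => ((hTZ.ge hs).2.2 t ht).eq
  refine hK.le_of_no_bad h M.two_T inf_le_right M.odd_T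
    (le_inf inf_le_left (inf_le_right.trans (Subgroup.centralizer_le_normalizer _))) ?_ ?_
  · intro g hg n hn
    refine ⟨(stabilizer G a).mul_mem ((stabilizer G a).mul_mem hg.1 hn.1)
      ((stabilizer G a).inv_mem hg.1), Subgroup.mem_centralizer_iff.2 fun t ht => ?_⟩
    have h1 := (Subgroup.mem_normalizer_iff.1 (inv_mem hg.2) t).1 ht
    rw [inv_inv] at h1
    calc t * (g * n * g⁻¹) = g * ((g⁻¹ * t * g) * n) * g⁻¹ := by group
      _ = g * (n * (g⁻¹ * t * g)) * g⁻¹ := by rw [Subgroup.mem_centralizer_iff.1 hn.2 _ h1]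
      _ = g * n * g⁻¹ * t := by group
  · intro v hv hbad
    rw [sup_eq_right.2 hTN] at hv
    obtain ⟨z, hz, hne⟩ := M.not_centralise h hmax hbad
    exact hne (Subgroup.mem_centralizer_iff.1 hv.2 z hz.1).symm

/-- **A curved line with `Q` outside the maximal point group is in the moved case**, at a maximal
2-subgroup `S` whose part in `K` is elementary and meets `C(x)` in `R`. -/
theorem IsCurved.exists_moved_lift (hL : IsCurved D a x K R Q J) (h : ClosedSetting D Ω)
    (hnf : NoFull D Ω) (hK : MaxPointGroup D a K) (hpsi : MaxPsi a K R x) (hQK : ¬ Q ≤ K) :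
    ∃ S : Subgroup G, MovedTop D a x K R Q J S ∧ Q ≤ S ∧
      TorusLift a x R Q J (omCentre (S ⊓ K)) ∧ omCentre (S ⊓ K) = S ⊓ K ∧
      (∀ t ∈ S ⊓ K, t * t = 1) ∧ ∀ t ∈ S ⊓ K, Commute x t → t ∈ R := by
  haveI : Fact (Nat.Prime 2) := ⟨Nat.prime_two⟩
  have L := hL.line
  have hQR := L.le_or_inf_eq.resolve_left hQK
  obtain ⟨S₀, M₀, -, helem₀, -⟩ := L.exists_movedTop h hnf hK hpsi hQK
  obtain ⟨B, MB⟩ := hL.exists_base h hnf
  obtain ⟨S, hS, hBS, hQS, hxS⟩ := MB.exists_top
  set T := S ⊓ K with hT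
  have hT2 : IsPGroup 2 T := hS.1.to_le inf_le_left
  have hBT : B ≤ T := le_inf hBS MB.le
  -- `T` is elementary, being conjugate into `S₀ ⊓ K`
  have helem : ∀ t ∈ T, t * t = 1 := by
    obtain ⟨l, hl⟩ := Involution.Basic.exists_conj_le
      ((M₀.two_T.of_equiv (Subgroup.subgroupOfEquivOfLe inf_le_right).symm).toSylow
        fun hd => Nat.not_even_iff_odd.2 M₀.odd_T (even_iff_two_dvd.2 hd))
      (hT2.of_equiv (Subgroup.subgroupOfEquivOfLe (inf_le_right : T ≤ K)).symm)
    intro t ht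
    have h1 := helem₀ ((l : G) * t * (l : G)⁻¹) (hl ⟨t, ht.2⟩ ht)
    rw [show (l : G) * t * (l : G)⁻¹ * ((l : G) * t * (l : G)⁻¹) = l * (t * t) * (l : G)⁻¹ by group,
      mul_inv_eq_one, mul_eq_left] at h1
    exact h1
  have hcomm : ∀ s ∈ T, ∀ t ∈ T, Commute s t := fun s hs t ht => by
    have hi : ∀ g ∈ T, g⁻¹ = g := fun g hg => inv_eq_of_mul_eq_one_right (helem g hg)
    show s * t = t * s
    rw [← hi (s * t) (mul_mem hs ht), mul_inv_rev, hi s hs, hi t ht]
  have hc : ∀ t ∈ T, Commute x t → t ∈ R := fun t ht hxt =>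
    hQR ▸ L.mem_inf h hT2 inf_le_right (MB.inf_le.trans hBT) ht hxt
  -- so `T = B`
  have hxi : x⁻¹ = x := inv_eq_of_mul_eq_one_right L.x_sq
  have hTB : T = B := by
    refine MB.maximal T hT2 hBT fun p hp => ⟨hp.2, ?_⟩
    have hpi : p⁻¹ = p := inv_eq_of_mul_eq_one_right (helem p hp)
    have hxp : x * p * x ∈ T := ⟨S.mul_mem (S.mul_mem hxS hp.1) hxS, by
      simpa [hxi] using L.conj_K L.fix hp.2⟩
    have e : shift x p = x * p * x * p := by rw [shift, hpi]; group
    refine hc _ (e ▸ mul_mem hxp hp) ?_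
    rw [e]
    have e1 : x * (x * p * x) = p * x := by rw [← mul_assoc, ← mul_assoc, L.x_sq, one_mul]
    have e2 : x * p * x * x = x * p := by rw [mul_assoc, L.x_sq, mul_one]
    calc x * (x * p * x * p) = x * (x * p * x) * p := (mul_assoc _ _ _).symm
      _ = p * (x * p * x * x) := by rw [e1, e2, mul_assoc]
      _ = p * (x * p * x) * x := (mul_assoc _ _ _).symm
      _ = x * p * x * p * x := by rw [(hcomm p hp _ hxp).eq]
  have hZ : omCentre T = T := le_antisymm (fun z hz => hz.1) fun t ht =>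
    ⟨ht, helem t ht, hcomm t ht⟩
  have hlift : TorusLift a x R Q J B := by
    intro j hj
    obtain ⟨c, hcK, hcx, hcR, ⟨hcQ, -, hct⟩, hcB⟩ := MB.torus j hj
    refine ⟨c * j, by rw [mul_smul, L.fix_J j hj, mem_stabilizer_iff.1 (L.point.le hcK)],
      hcx.mul_right (L.comm_J j hj), hcB,
      Subgroup.mul_mem _ hcQ (Subgroup.mem_inf.1 (L.norm_J hj)).2, fun r hr => ?_, fun q hq => ?_⟩
    · rw [show c * j * r * (c * j)⁻¹ = c * (j * r * j⁻¹) * c⁻¹ by group,
        ← Subgroup.mem_centralizer_iff.1 hcR _ (L.J_conj_R hj hr), mul_inv_cancel_right]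
    · have hp := L.J_conj_Q hj hq
      have hw := hct _ hp
      rw [show (c * j * q * (c * j)⁻¹)⁻¹ * (j * q * j⁻¹) = (j * q * j⁻¹)⁻¹ *
          (c * (j * q * j⁻¹) * c⁻¹ * (j * q * j⁻¹)⁻¹)⁻¹ * (j * q * j⁻¹) by group,
        (L.central _ (inv_mem hp) _ (inv_mem hw)).eq, inv_mul_cancel_right]
      exact inv_mem hw
  have hRB : R ≤ B := hQR ▸ MB.inf_le
  obtain ⟨r, hr, hr1⟩ : ∃ r ∈ R, r ≠ 1 := R.bot_or_exists_ne_one.resolve_left fun e => by
    have := L.four
    rw [e, Subgroup.card_bot] at this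
    omega
  obtain ⟨b, hb, hbr⟩ := MB.onto r hr
  refine ⟨S, ⟨L, hS, hxS, hZ.symm ▸ hTB.symm ▸ hRB, b, hZ.symm ▸ hBT hb,
    fun e => hr1 (hbr ▸ (shift_eq_one L.x_sq).2 e)⟩, hQS, ?_, hZ, helem, hc⟩
  rw [hZ, hTB]
  exact hlift

/-- A curved line with `Q` outside the maximal point group is in the moved case. -/
theorem IsCurved.movedCase_of_not_le (hL : IsCurved D a x K R Q J) (h : ClosedSetting D Ω)
    (hnf : NoFull D Ω) (hK : MaxPointGroup D a K) (hpsi : MaxPsi a K R x) (hQK : ¬ Q ≤ K) :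
    MovedCase D a x K R Q J := by
  obtain ⟨S, hM, hQS, hlift, -⟩ := hL.exists_moved_lift h hnf hK hpsi hQK
  exact ⟨S, hM, hQS, hlift⟩

end CfsgLib.LocalEven.OnePointFront.Nonfull
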