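import Cfsg.Agent.Lib.LocalEven.OnePointFront.Nonfull.Assembly
import Cfsg.Agent.Lib.LocalEven.OnePointFront.Nonfull.Curved.MovedCase
import Cfsg.Agent.Lib.LocalEven.OnePointFront.Nonfull.Curved.Base
import Cfsg.Agent.Lib.LocalEven.OnePointFront.Nonfull.Curved.PointlessTorus
import Cfsg.Agent.Lib.LocalEven.OnePointFront.Nonfull.Moved.Layer
import Cfsg.Agent.Lib.LocalEven.OnePointFront.Nonfull.Moved.Shears

/-!
# No curved line of a maximally chosen bad involution

The analysis of the layers over `B` hands over the moved case (or a contradiction, from which it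
follows); the moved case is excluded by one class if `Q ≤ K`, by the norm-one torus element on a
unitary line and by the shears on a Suzuki line.
-/

set_option autoImplicit false
set_option linter.style.haveILetI false

namespace CfsgLib.LocalEven.OnePointFront.Nonfull

open MulAction CfsgLib.LocalEven.TIEndgame

universe u v

section

variable {G : Type u} {Ω : Type v} [Group G] [MulAction G Ω] {D : Set G} {a : Ω} {x : G}
  {K R Q J B : Subgroup G}

/-- The lifts of the torus normalising a base. -/
theorem CurvedBase.torusLift (M : CurvedBase D a x K R Q J B) : TorusLift a x R Q J B := by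
  have L := M.line
  intro j hj
  obtain ⟨c, hcK, hxc, hcR, hct, hcB⟩ := M.torus j hj
  refine ⟨c * j, ?_, hxc.mul_right (L.comm_J j hj), hcB, mul_mem hct.1 (L.norm_J hj).2,
    fun r hr => ?_, fun q hq => ?_⟩
  · rw [mul_smul, L.fix_J j hj, mem_stabilizer_iff.1 (L.point.le hcK)]
  · calc c * j * r * (c * j)⁻¹ = c * (j * r * j⁻¹) * c⁻¹ := by group
      _ = j * r * j⁻¹ := by
        rw [← Subgroup.mem_centralizer_iff.1 hcR _
          ((Subgroup.mem_normalizer_iff.1 (L.norm_J hj).1 r).1 hr), mul_inv_cancel_right]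
  · set y := j * q * j⁻¹ with hy
    have hyQ : y ∈ Q := (Subgroup.mem_normalizer_iff.1 (L.norm_J hj).2 q).1 hq
    have h1 := inv_mem (hct.2.2 y hyQ)
    have h2 : (c * j * q * (c * j)⁻¹)⁻¹ * y = y⁻¹ * (c * y * c⁻¹ * y⁻¹)⁻¹ * y := by rw [hy]; group
    rw [h2, (L.central _ (inv_mem hyQ) _ h1).eq, inv_mul_cancel_right]
    exact h1

end

variable {G : Type u} {Ω : Type u} [Group G] [MulAction G Ω] {D : Set G}

/-- Unitary lines with `Q ≤ K`: only the moved case remains. -/
def UnitaryInHyp (D : Set G) (Ω : Type u) [MulAction G Ω] : Prop :=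
  ∀ (a : Ω) (x : G) (K R Q J B : Subgroup G), UnitaryLine D a x K R Q J → MaxPointGroup D a K →
    MaxRank D Ω R → MaxPsi a K R x → CurvedBase D a x K R Q J B → Q ≤ K →
      MovedCase D a x K R Q J

/-- Suzuki lines with `Q ≤ K`: only the moved case remains. -/
def SuzukiInHyp (D : Set G) (Ω : Type u) [MulAction G Ω] : Prop :=
  ∀ (a : Ω) (x : G) (K R Q J B : Subgroup G), SuzukiLine D a x K R Q J → MaxPointGroup D a K →
    MaxRank D Ω R → MaxPsi a K R x → CurvedBase D a x K R Q J B → Q ≤ K →
      MovedCase D a x K R Q J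

variable [Finite G] [Finite Ω] [FaithfulSMul G Ω]

/-- No unitary line of a maximally chosen bad involution. -/
theorem unitaryHyp (h : ClosedSetting D Ω) (hgen : Subgroup.closure D = ⊤) (hnf : NoFull D Ω)
    (hin : UnitaryInHyp D Ω) : UnitaryHyp D Ω := by
  intro a x K R Q J L hK hrank hpsi
  obtain ⟨B, hB⟩ := IsCurved.exists_base (K := K) (R := R) (Q := Q) (J := J) (Or.inl L) h hnf
  by_cases hQ : Q ≤ K
  · exact Moved.false_of_movedCase_le (hin a x K R Q J B L hK hrank hpsi hB hQ) h hgen hrank hQ
  · have hQR := L.toCurvedLine.le_or_inf_eq.resolve_left hQ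
    exact (IsCurved.movedCase_of_not_le (Or.inl L) h hnf hK hpsi hQ).false_of_unitary L h hrank hK
      fun V hV hVK hRV hxV => le_antisymm (fun v hv =>
        hQR.le (L.toCurvedLine.mem_inf h hV hVK (hQR.le.trans hRV) hv (hxV v hv))) hRV

/-- No Suzuki line of a maximally chosen bad involution. -/
theorem suzukiHyp (h : ClosedSetting D Ω) (hgen : Subgroup.closure D = ⊤) (hnf : NoFull D Ω)
    (hin : SuzukiInHyp D Ω) : SuzukiHyp D Ω := by
  intro a x K R Q J L hK hrank hpsi
  obtain ⟨B, hB⟩ := IsCurved.exists_base (K := K) (R := R) (Q := Q) (J := J) (Or.inr L) h hnf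
  by_cases hQ : Q ≤ K
  · exact Moved.false_of_movedCase_le (hin a x K R Q J B L hK hrank hpsi hB hQ) h hgen hrank hQ
  · exact (IsCurved.movedCase_of_not_le (Or.inr L) h hnf hK hpsi hQ).false_of_suzuki L h hgen hrank
      hK hQ

end CfsgLib.LocalEven.OnePointFront.Nonfull
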