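import Cfsg.Agent.Lib.LocalEven.OnePointFront.Nonfull.Curved.SuzukiGrowth
import Cfsg.Agent.Lib.LocalEven.OnePointFront.Nonfull.Curved.Assembly

/-!
# A Suzuki line in `K` without shear, with `c = 0`: the moved case

The involutions `U` of the base (`wc = 0`) are central there.  The elements of `K` which normalise
`B`, centralise `R` and move `x` inside `x B` form a group on which `q p := wc (shift x p)` is
additive; its kernel acts on `B` as an element of `Q` does, and additivity in the torus orbit of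
one with `q = 1` shows that all of them centralise `U`.  A maximal 2-subgroup over `B` meets `K`
inside this group, so `U` is its group of central involutions.
-/

set_option autoImplicit false
set_option linter.style.haveILetI false
set_option linter.unusedSectionVars false

namespace CfsgLib.LocalEven.OnePointFront.Nonfull

open MulAction CfsgLib.LocalEven.TIEndgame CfsgLib.Involution SuzukiForm

universe u v

namespace SuzukiForm

variable {F : Type u} [Field F] [Finite F] [CharP F 2]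

/-- The field is not `{0, 1}`. -/
theorem exists_ne_bit (hr : ∃ r : ℕ, Odd r ∧ 3 ≤ r ∧ Nat.card F = 2 ^ r) :
    ∃ v : F, v ≠ 0 ∧ v ≠ 1 := by
  obtain ⟨r, -, hr3, hcard⟩ := hr
  by_contra hall
  push Not at hall
  have hsub : (Set.univ : Set F) ⊆ {0, 1} := fun v _ => by
    by_cases h : v = 0
    · exact Or.inl h
    · exact Or.inr (hall v h)
  have := (Set.ncard_le_ncard hsub (Set.toFinite _)).trans (Set.ncard_insert_le _ _)
  rw [Set.ncard_univ, hcard, Set.ncard_singleton] at this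
  have h8 : 2 ^ 3 ≤ 2 ^ r := Nat.pow_le_pow_right (by norm_num) hr3
  omega

/-- In a field of odd degree a semilinear map of 2-power order is the identity. -/
theorem eq_id_of_semilinear (hr : ∃ r : ℕ, Odd r ∧ 3 ≤ r ∧ Nat.card F = 2 ^ r) {c₀ : F}
    (hc₀ : c₀ ≠ 0) (ψ : F →+* F) (L : F → F) (hL : ∀ y, L y = c₀ * ψ y) {k : ℕ}
    (hk : ∀ y, L^[2 ^ k] y = y) (y : F) : L y = y := by
  obtain ⟨r, hodd, -, hcard⟩ := hr
  letI : Algebra (ZMod 2) F := ZMod.algebra F 2
  haveI : Fact (Nat.Prime 2) := ⟨Nat.prime_two⟩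
  have hit : ∀ n, ∃ d : F, d ≠ 0 ∧ ∀ z, L^[n] z = d * ψ^[n] z := by
    intro n
    induction n with
    | zero => exact ⟨1, one_ne_zero, fun z => (one_mul z).symm⟩
    | succ n ih =>
      obtain ⟨d, hd, hd'⟩ := ih
      refine ⟨c₀ * ψ d, mul_ne_zero hc₀ ((map_ne_zero ψ).2 hd), fun z => ?_⟩
      rw [Function.iterate_succ_apply', hd', hL, map_mul, Function.iterate_succ_apply', mul_assoc]
  obtain ⟨d, -, hd⟩ := hit (2 ^ k)
  have hd1 : d = 1 := by
    have := hd 1
    rw [hk, iterate_map_one, mul_one] at this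
    exact this.symm
  have hψk : ∀ z, ψ^[2 ^ k] z = z := fun z => by
    have := hd z
    rw [hk, hd1, one_mul] at this
    exact this.symm
  let σ : F ≃ₐ[ZMod 2] F := AlgEquiv.ofRingEquiv
    (f := RingEquiv.ofBijective ψ (Finite.injective_iff_bijective.1 ψ.injective)) fun z => by
    show ψ (algebraMap (ZMod 2) F z) = algebraMap (ZMod 2) F z
    rw [← RingHom.comp_apply]
    exact RingHom.congr_fun (Subsingleton.elim _ _) z
  have hσ : ∀ (n : ℕ) (z : F), (σ ^ n) z = ψ^[n] z := by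
    intro n
    induction n with
    | zero => intro z; rfl
    | succ n ih =>
      intro z
      rw [pow_succ', AlgEquiv.mul_apply, ih, Function.iterate_succ_apply']
      rfl
  have hfr : Nat.card (F ≃ₐ[ZMod 2] F) = r := by
    rw [IsGalois.card_aut_eq_finrank]
    have := Module.natCard_eq_pow_finrank (K := ZMod 2) (V := F)
    rw [Nat.card_zmod, hcard] at this
    exact (Nat.pow_right_injective le_rfl this).symm
  have h2 : orderOf σ ∣ 2 ^ k := orderOf_dvd_of_pow_eq_one (AlgEquiv.ext fun z => by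
    rw [hσ, hψk]; rfl)
  have h3 : orderOf σ ∣ r := hfr ▸ orderOf_dvd_natCard σ
  have hσ1 : σ = 1 := orderOf_eq_one_iff.1 (Nat.eq_one_of_dvd_coprimes
    ((hodd.coprime_two_left).pow_left k) h2 h3)
  have hψ : ∀ z, ψ z = z := fun z => by
    have := hσ 1 z
    rw [pow_one, hσ1] at this
    exact this.symm
  have hlin : ∀ n, L^[n] 1 = c₀ ^ n := by
    intro n
    induction n with
    | zero => simp
    | succ n ih => rw [Function.iterate_succ_apply', ih, hL, hψ, pow_succ']
  have hc1 : c₀ = 1 := (iterateFrobenius F 2 k).injective (by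
    rw [iterateFrobenius_def, map_one, ← hlin, hk])
  rw [hL, hψ, hc1, one_mul]

end SuzukiForm

variable {G : Type u} {Ω : Type v} [Group G] [MulAction G Ω] {D : Set G} {a : Ω} {x : G}
  {K R Q J B : Subgroup G} {F : Type u} [Field F] {θ : F ≃+* F} {ρ uc wc : G → F}

namespace Coords

variable (C : Coords D a x K R Q J B θ 0 0 ρ uc wc)
include C

/-- The involutions of the base. -/
def invPart : Subgroup G where
  carrier := {b | b ∈ B ∧ wc b = 0}
  one_mem' := ⟨one_mem _, C.coords_one.2⟩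
  mul_mem' := by
    rintro b b' ⟨hb, hw⟩ ⟨hb', hw'⟩
    exact ⟨mul_mem hb hb', by rw [C.wc_mul b hb b' hb', hw, hw', add_zero]⟩
  inv_mem' := by
    rintro b ⟨hb, hw⟩
    exact ⟨inv_mem hb, by rw [C.wc_inv hb, hw]⟩

theorem mem_invPart {b : G} : b ∈ C.invPart ↔ b ∈ B ∧ wc b = 0 := Iff.rfl

/-- The elements of `K` at `R` and `B` moving `x` inside `x B`. -/
def moverGroup : Subgroup G where
  carrier := {p | p ∈ K ∧ p ∈ Subgroup.normalizer (B : Set G) ∧
    p ∈ Subgroup.centralizer (R : Set G) ∧ shift x p ∈ B}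
  one_mem' := ⟨one_mem _, one_mem _, one_mem _, by rw [shift_one C.x_sq]; exact one_mem _⟩
  mul_mem' := by
    rintro p p' ⟨h1, h2, h3, h4⟩ ⟨h1', h2', h3', h4'⟩
    refine ⟨mul_mem h1 h1', mul_mem h2 h2', mul_mem h3 h3', ?_⟩
    rw [shift_mul C.x_sq]
    exact mul_mem h4 ((Subgroup.mem_normalizer_iff.1 h2 _).1 h4')
  inv_mem' := by
    rintro p ⟨h1, h2, h3, h4⟩
    refine ⟨inv_mem h1, inv_mem h2, inv_mem h3, ?_⟩
    rw [shift_inv C.x_sq]
    refine inv_mem ?_
    have := (Subgroup.mem_normalizer_iff.1 (inv_mem h2) _).1 h4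
    rwa [inv_inv] at this

theorem mem_moverGroup {p : G} : p ∈ C.moverGroup ↔ p ∈ K ∧ p ∈ Subgroup.normalizer (B : Set G) ∧
    p ∈ Subgroup.centralizer (R : Set G) ∧ shift x p ∈ B := Iff.rfl

theorem le_moverGroup : B ≤ C.moverGroup := fun b hb =>
  ⟨C.base.le hb, Subgroup.le_normalizer hb, C.base.cent hb, C.R_le (C.base.shift_mem b hb)⟩

theorem invPart_comm {b u : G} (hb : b ∈ B) (hu : u ∈ C.invPart) : Commute b u :=
  (C.commute_iff hb hu.1).2 (by simp [polF, hu.2])

theorem invPart_sq {u : G} (hu : u ∈ C.invPart) : u * u = 1 :=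
  C.ρ_inj _ (C.sq_mem u hu.1) (by rw [C.sq u hu.1, hu.2]; simp [sqF])

theorem mem_invPart_of_sq {b : G} (hb : b ∈ B) (h2 : b * b = 1) : b ∈ C.invPart := by
  refine ⟨hb, ?_⟩
  have h := C.sq b hb
  rw [h2, C.ρ_one] at h
  simp only [sqF, zero_mul, zero_add, add_zero] at h
  rcases mul_eq_zero.1 h.symm with e | e
  · exact e
  · exact (map_eq_zero θ).1 e

theorem R_le_invPart : R ≤ C.invPart := fun _ hr => ⟨C.R_le hr, (C.coords_R hr).2⟩

theorem conj_invPart {t u : G} (ht : t ∈ Subgroup.normalizer (B : Set G)) (hu : u ∈ C.invPart) :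
    t * u * t⁻¹ ∈ C.invPart :=
  C.mem_invPart_of_sq ((Subgroup.mem_normalizer_iff.1 ht u).1 hu.1) (by
    rw [show t * u * t⁻¹ * (t * u * t⁻¹) = t * (u * u) * t⁻¹ by group, C.invPart_sq hu]; group)

variable [Finite G]

/-- A 2-element normalising `B` and `R` centralises `R`. -/
theorem centralises_R {t : G} (htB : t ∈ Subgroup.normalizer (B : Set G))
    (htR : t ∈ Subgroup.normalizer (R : Set G)) (h2 : ∃ n : ℕ, t ^ 2 ^ n = 1) :
    t ∈ Subgroup.centralizer (R : Set G) := by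
  haveI := C.char2
  haveI := C.finite
  choose rs hrs hρ using C.ρ_onto
  have hρinv : ∀ r ∈ R, rs (ρ r) = r := fun r hr => C.ρ_eq (hrs _) hr (hρ _)
  have htR' : ∀ r ∈ R, t * r * t⁻¹ ∈ R := fun r hr => (Subgroup.mem_normalizer_iff.1 htR r).1 hr
  let L : F →+ F := AddMonoidHom.mk' (fun y => ρ (t * rs y * t⁻¹)) fun y z => by
    have e : rs (y + z) = rs y * rs z := C.ρ_eq (hrs _) (mul_mem (hrs _) (hrs _))
      (by rw [C.ρ_mul _ (hrs _) _ (hrs _), hρ, hρ, hρ])
    rw [e, show t * (rs y * rs z) * t⁻¹ = t * rs y * t⁻¹ * (t * rs z * t⁻¹) by group,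
      C.ρ_mul _ (htR' _ (hrs _)) _ (htR' _ (hrs _))]
  have hL : ∀ r ∈ R, L (ρ r) = ρ (t * r * t⁻¹) := fun r hr => by
    show ρ (t * rs (ρ r) * t⁻¹) = _
    rw [hρinv r hr]
  have hLinj : Function.Injective L := fun y z e => by
    have h1 := C.ρ_eq (htR' _ (hrs y)) (htR' _ (hrs z)) e
    rw [← hρ y, ← hρ z, mul_left_cancel (mul_right_cancel h1)]
  choose ys hys hyu hyw using fun w : F => C.onto 0 w
  have htB' : ∀ y ∈ B, t * y * t⁻¹ ∈ B := fun y hy => (Subgroup.mem_normalizer_iff.1 htB y).1 hy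
  have hwd : ∀ y ∈ B, wc (t * y * t⁻¹) = wc (t * ys (wc y) * t⁻¹) := fun y hy => by
    have hv : (ys (wc y))⁻¹ * y ∈ C.invPart := ⟨mul_mem (inv_mem (hys _)) hy, by
      rw [C.wc_mul _ (inv_mem (hys _)) y hy, C.wc_inv (hys _), hyw, CharTwo.add_self_eq_zero]⟩
    rw [show t * y * t⁻¹ = t * ys (wc y) * t⁻¹ * (t * ((ys (wc y))⁻¹ * y) * t⁻¹) by group,
      C.wc_mul _ (htB' _ (hys _)) _ (C.conj_invPart htB hv).1, (C.conj_invPart htB hv).2, add_zero]
  let A : F →+ F := AddMonoidHom.mk' (fun w => wc (t * ys w * t⁻¹)) fun w w' => by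
    have h1 := hwd _ (mul_mem (hys w) (hys w'))
    rw [C.wc_mul _ (hys w) _ (hys w'), hyw, hyw] at h1
    rw [← h1, show t * (ys w * ys w') * t⁻¹ = t * ys w * t⁻¹ * (t * ys w' * t⁻¹) by group,
      C.wc_mul _ (htB' _ (hys w)) _ (htB' _ (hys w'))]
  have hA : ∀ w, L (w * θ w) = A w * θ (A w) := fun w => by
    have h1 := hL _ (C.sq_mem _ (hys w))
    rw [C.sq _ (hys w), show t * (ys w * ys w) * t⁻¹ = t * ys w * t⁻¹ * (t * ys w * t⁻¹) by group,
      C.sq _ (htB' _ (hys w)), hyw] at h1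
    simpa [sqF, A] using h1
  obtain ⟨c₀, hc₀, ψ, hψ⟩ := TIEndgame.SuzukiSquare.exists_semilinear θ C.fixed
    (norm_surj C.card C.fixed) L A (Finite.injective_iff_bijective.1 hLinj) hA
  obtain ⟨k, hk⟩ := h2
  have hit : ∀ n, ∀ r ∈ R, L^[n] (ρ r) = ρ (t ^ n * r * (t ^ n)⁻¹) := by
    intro n
    induction n with
    | zero => intro r _; simp
    | succ n ih =>
      intro r hr
      rw [Function.iterate_succ_apply', ih r hr,
        hL _ ((Subgroup.mem_normalizer_iff.1 (pow_mem htR n) r).1 hr), pow_succ']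
      congr 1
      group
  have hid : ∀ y, L y = y := SuzukiForm.eq_id_of_semilinear C.card hc₀ ψ L hψ (k := k) fun y => by
    rw [← hρ y, hit _ _ (hrs y), hk, one_mul, inv_one, mul_one]
  refine Subgroup.mem_centralizer_iff.2 fun r hr => ?_
  have h1 := C.ρ_eq (htR' r hr) hr (by rw [← hL r hr, hid])
  exact (mul_inv_eq_iff_eq_mul.1 h1).symm

/-- An element centralising `R` fixes `wc`. -/
theorem wc_conj {p y : G} (hpB : p ∈ Subgroup.normalizer (B : Set G))
    (hpR : p ∈ Subgroup.centralizer (R : Set G)) (hy : y ∈ B) : wc (p * y * p⁻¹) = wc y := by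
  haveI := C.char2
  haveI := C.finite
  refine norm_inj C.card C.fixed (θ := θ) ?_
  have hy' := (Subgroup.mem_normalizer_iff.1 hpB y).1 hy
  have h := C.sq _ hy'
  rw [show p * y * p⁻¹ * (p * y * p⁻¹) = p * (y * y) * p⁻¹ by group,
    ← Subgroup.mem_centralizer_iff.1 hpR _ (C.sq_mem y hy), mul_inv_cancel_right, C.sq y hy] at h
  simpa [sqF] using h.symm

/-- The class of the translation is additive on the movers. -/
theorem wc_shift_mul {p p' : G} (hp : p ∈ C.moverGroup) (hp' : p' ∈ C.moverGroup) :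
    wc (shift x (p * p')) = wc (shift x p) + wc (shift x p') := by
  rw [shift_mul C.x_sq, C.wc_mul _ hp.2.2.2 _
    ((Subgroup.mem_normalizer_iff.1 hp.2.1 _).1 hp'.2.2.2), C.wc_conj hp.2.1 hp.2.2.1 hp'.2.2.2]

theorem wc_shift_inv {p : G} (hp : p ∈ C.moverGroup) : wc (shift x p⁻¹) = wc (shift x p) := by
  haveI := C.char2
  have h := C.wc_shift_mul (inv_mem hp) hp
  rw [inv_mul_cancel, shift_one C.x_sq, C.coords_one.2] at h
  exact CharTwo.add_eq_zero.1 h.symm

/-- The translation of a mover is inverted. -/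
theorem uc_shift_mover {p : G} (hp : p ∈ C.moverGroup) :
    uc (shift x p) = wc (shift x p) * θ (wc (shift x p)) := by
  have h := (C.inv_iff hp.2.2.2).1 (by
    rw [← conj_eq_mul_shift C.x_sq, show p * x * p⁻¹ * (p * x * p⁻¹) = p * (x * x) * p⁻¹ by group,
      C.x_sq]; group)
  simpa [sqF] using h.symm

/-- A mover changes `uc` by a polar value. -/
theorem uc_conj {p y : G} (hp : p ∈ C.moverGroup) (hy : y ∈ B) :
    uc (p * y * p⁻¹) =
      uc y + (wc y * θ (wc (shift x p)) + wc (shift x p) * θ (wc y)) := by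
  haveI := C.char2
  set b := shift x p with hb
  set y' := p * y * p⁻¹ with hy'def
  have hy' : y' ∈ B := (Subgroup.mem_normalizer_iff.1 hp.2.1 y).1 hy
  have hσ := C.base.shift_mem y hy
  have hσ' := C.base.shift_mem y' hy'
  have hpol := C.squareGroup.pol_mem hy' hp.2.2.2
  have hpx : p * x * p⁻¹ = x * b := conj_eq_mul_shift C.x_sq p
  have e : shift x y' * pol y' b = shift x y := by
    refine mul_left_cancel (a := x) (mul_right_cancel (b := b) ?_)
    calc x * (shift x y' * pol y' b) * b = x * shift x y' * (y' * b * y'⁻¹) := by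
          simp only [pol]; group
      _ = y' * x * y'⁻¹ * (y' * b * y'⁻¹) := by rw [conj_eq_mul_shift C.x_sq y']
      _ = y' * (p * x * p⁻¹) * y'⁻¹ := by rw [hpx]; group
      _ = p * (y * x * y⁻¹) * p⁻¹ := by rw [hy'def]; group
      _ = (p * x * p⁻¹) * (p * shift x y * p⁻¹) := by rw [conj_eq_mul_shift C.x_sq y]; group
      _ = x * (b * shift x y) := by
          rw [hpx, ← Subgroup.mem_centralizer_iff.1 hp.2.2.1 _ hσ, mul_inv_cancel_right, mul_assoc]
      _ = x * shift x y * b := by rw [(C.R_comm hσ hp.2.2.2).eq, mul_assoc]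
  have h := congrArg ρ e
  rw [C.ρ_mul _ hσ' _ hpol, ← C.uc_shift y' hy', ← C.uc_shift y hy, C.pol_eq hy' hp.2.2.2,
    show wc y' = wc y from C.wc_conj hp.2.1 hp.2.2.1 hy] at h
  simp only [polF, zero_mul, zero_add] at h
  linear_combination h - (wc y * θ (wc b) + wc b * θ (wc y)) * (CharTwo.two_eq_zero : (2 : F) = 0)

/-- A mover carries an element to its class modulo `R` if it does not change `uc`. -/
theorem pol_mem_R {p y : G} (hp : p ∈ C.moverGroup) (hy : y ∈ B)
    (h0 : wc y * θ (wc (shift x p)) + wc (shift x p) * θ (wc y) = 0) : pol p y ∈ R := by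
  have hy' := (Subgroup.mem_normalizer_iff.1 hp.2.1 y).1 hy
  have h1 := C.mem_of_eq hy hy' (by rw [C.uc_conj hp hy, h0, add_zero])
    (C.wc_conj hp.2.1 hp.2.2.1 hy).symm
  rw [show pol p y = y * (y⁻¹ * (p * y * p⁻¹)) * y⁻¹ by simp only [pol]; group,
    (C.R_comm h1 hy).eq, mul_inv_cancel_right]
  exact h1

theorem pol_prod {p p' y : G} (hp : p ∈ C.moverGroup) (hR : pol p' y ∈ R) :
    pol (p * p') y = pol p' y * pol p y := by
  calc pol (p * p') y = p * pol p' y * p⁻¹ * pol p y := by simp only [pol]; group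
    _ = _ := by rw [← Subgroup.mem_centralizer_iff.1 hp.2.2.1 _ hR, mul_inv_cancel_right]

/-- A mover with translation in `R` acts on `B` as an element of `Q`. -/
theorem exists_ker_action (h : ClosedSetting D Ω) {k : G} (hk : k ∈ C.moverGroup) (h0 : wc (shift x k) = 0) :
    ∃ q₀ : F, ∀ y ∈ B, pol k y ∈ R ∧ ρ (pol k y) = q₀ * θ (wc y) + wc y * θ q₀ := by
  haveI := C.char2
  haveI : Fact (Nat.Prime 2) := ⟨Nat.prime_two⟩
  have L := C.base.line
  have hzero : ∀ {p : G}, wc (shift x p) = 0 → ∀ y,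
      wc y * θ (wc (shift x p)) + wc (shift x p) * θ (wc y) = 0 := fun e y => by simp [e]
  have hσR : shift x k ∈ R := C.kernel _ hk.2.2.2 (by rw [C.uc_shift_mover hk, h0, zero_mul]) h0
  obtain ⟨b, hb, hbu, hbw⟩ := C.onto (ρ (shift x k)) 0
  have hbs : shift x b = shift x k :=
    C.ρ_eq (C.base.shift_mem b hb) hσR (by rw [← C.uc_shift b hb, hbu])
  set k' := b⁻¹ * k with hk'def
  have hk' : k' ∈ C.moverGroup := mul_mem (inv_mem (C.le_moverGroup hb)) hk
  have hk'x : Commute x k' := (shift_eq_iff C.x_sq).1 hbs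
  have hk'0 : wc (shift x k') = 0 := by rw [(shift_eq_one C.x_sq).2 hk'x, C.coords_one.2]
  have hk'Q : k' ∈ Subgroup.normalizer (Q : Set G) := mem_normalizer_of_conj_mem fun q hq =>
    (C.base.fix _ ((Subgroup.mem_normalizer_iff.1 hk'.2.1 q).1 (C.Q_le hq))
      ((hk'x.mul_right (L.comm q hq)).mul_right hk'x.inv_right)).2
  obtain ⟨e, m, hm, hem⟩ := Nat.exists_eq_pow_mul_and_not_dvd (orderOf_pos k').ne' 2 (by norm_num)
  obtain ⟨i, rfl⟩ := Nat.not_even_iff_odd.1 fun he => hm (even_iff_two_dvd.1 he)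
  set v := k' ^ (2 * i + 1) with hv
  have hv2 : v ^ 2 ^ e = 1 := by
    rw [hv, ← pow_mul, mul_comm, ← hem, pow_orderOf_eq_one]
  have hvV : IsPGroup 2 ↥(Q ⊔ Subgroup.zpowers v) := L.two.to_sup_of_normal_left'
    (IsPGroup.of_card (n := _) (Nat.dvd_prime_pow Nat.prime_two |>.1
      ((Nat.card_zpowers v).symm ▸ orderOf_dvd_of_pow_eq_one hv2)).choose_spec.2)
    (Subgroup.zpowers_le.2 (pow_mem hk'Q _))
  have hvQ : v ∈ Q := (L.mem_inf h hvV (sup_le C.below (Subgroup.zpowers_le.2 (pow_mem hk'.1 _)))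
    (inf_le_right.trans le_sup_left) (Subgroup.mem_sup_right (Subgroup.mem_zpowers v))
    (hk'x.pow_right _)).2
  refine ⟨wc v, fun y hy => ⟨C.pol_mem_R hk hy (hzero h0 y), ?_⟩⟩
  have hR' := C.pol_mem_R hk' hy (hzero hk'0 y)
  have hpow : ∀ n : ℕ, pol (k' ^ n) y = pol k' y ^ n := by
    intro n
    induction n with
    | zero => simp [pol]
    | succ n ih =>
      rw [pow_succ', C.pol_prod hk' (ih ▸ pow_mem hR' n), ih, pow_succ]
  have h1 : pol v y = pol k' y := by
    rw [hv, hpow, pow_succ, pow_mul, pow_two, C.base.line.sq _ hR', one_pow, one_mul]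
  have h2 : pol k y = pol k' y := by
    rw [show k = b * k' by rw [hk'def, mul_inv_cancel_left],
      C.pol_prod (C.le_moverGroup hb) hR']
    rw [show pol b y = 1 by
      simp only [pol, (C.invPart_comm hy ⟨hb, hbw⟩).eq.symm]; group, mul_one]
  rw [h2, ← h1, C.pol_eq (C.Q_le hvQ) hy]
  simp [polF]

/-- The movers centralise the involutions of the base. -/
theorem mover_comm (h : ClosedSetting D Ω) {p u : G} (hp : p ∈ C.moverGroup) (hu : u ∈ C.invPart) : Commute p u := by
  haveI := C.char2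
  haveI := C.finite
  have hzero : ∀ (t : G), ∀ u ∈ C.invPart,
      wc u * θ (wc (shift x t)) + wc (shift x t) * θ (wc u) = 0 := fun t u hu => by simp [hu.2]
  have hcomm : ∀ {t u : G}, pol t u = 1 → Commute t u := fun e =>
    mul_inv_eq_iff_eq_mul.1 (mul_inv_eq_one.1 e)
  have hker : ∀ k ∈ C.moverGroup, wc (shift x k) = 0 → ∀ u ∈ C.invPart, pol k u = 1 := by
    intro k hk h0 u hu
    obtain ⟨q₀, hq⟩ := C.exists_ker_action h hk h0
    exact C.ρ_inj _ (hq u hu.1).1 (by rw [(hq u hu.1).2, hu.2]; simp)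
  have hsame : ∀ s ∈ C.moverGroup, ∀ t ∈ C.moverGroup, wc (shift x s) = wc (shift x t) →
      ∀ u ∈ C.invPart, pol s u = pol t u := by
    intro s hs t ht e u hu
    have h1 := hker _ (mul_mem (inv_mem ht) hs)
      (by rw [C.wc_shift_mul (inv_mem ht) hs, C.wc_shift_inv ht, e, CharTwo.add_self_eq_zero]) u hu
    calc pol s u = pol (t * (t⁻¹ * s)) u := by rw [mul_inv_cancel_left]
      _ = pol t u := by rw [C.pol_prod ht (h1 ▸ one_mem R), h1, one_mul]
  refine hcomm ?_
  by_cases hq : wc (shift x p) = 0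
  · exact hker p hp hq u hu
  -- scale to `q = 1`
  have hscale : ∀ t ∈ C.moverGroup, ∀ μ : F, μ ≠ 0 → ∃ g : G,
      g ∈ Subgroup.normalizer (B : Set G) ∧ g * t * g⁻¹ ∈ C.moverGroup ∧
      wc (shift x (g * t * g⁻¹)) = μ * wc (shift x t) ∧
      (∀ r ∈ R, ρ (g * r * g⁻¹) = μ * θ μ * ρ r) ∧
      ∀ u ∈ B, uc (g * u * g⁻¹) = μ * θ μ * uc u := by
    intro t ht μ hμ
    obtain ⟨g, hga, hgx, hgB, hgR, hg⟩ := C.scale μ hμ
    refine ⟨g, hgB, ⟨C.base.line.conj_K hga ht.1, mul_mem (mul_mem hgB ht.2.1) (inv_mem hgB),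
      Subgroup.mem_centralizer_iff.2 fun r hr => ?_, ?_⟩, ?_,
      fun r hr => C.ρ_conj hgx hgB (fun b hb => (hg b hb).1) hr, fun u hu => (hg u hu).1⟩
    · have hr' := (Subgroup.mem_normalizer_iff.1 (inv_mem hgR) r).1 hr
      calc r * (g * t * g⁻¹) = g * ((g⁻¹ * r * g⁻¹⁻¹) * t) * g⁻¹ := by group
        _ = g * (t * (g⁻¹ * r * g⁻¹⁻¹)) * g⁻¹ := by
            rw [Subgroup.mem_centralizer_iff.1 ht.2.2.1 _ hr']
        _ = g * t * g⁻¹ * r := by group
    · rw [shift_conj hgx]; exact (Subgroup.mem_normalizer_iff.1 hgB _).1 ht.2.2.2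
    · rw [shift_conj hgx]; exact (hg _ ht.2.2.2).2
  obtain ⟨g₀, hg₀B, htM, hq1, -, -⟩ := hscale p hp _ (inv_ne_zero hq)
  rw [inv_mul_cancel₀ hq] at hq1
  set t := g₀ * p * g₀⁻¹ with ht
  choose us hus husu husw using fun y : F => C.onto y 0
  have husU : ∀ y, us y ∈ C.invPart := fun y => ⟨hus y, husw y⟩
  have hRt : ∀ u ∈ C.invPart, pol t u ∈ R := fun u hu => C.pol_mem_R htM hu.1 (hzero t u hu)
  set φ : F → F := fun y => ρ (pol t (us y)) with hφ
  have hφu : ∀ u ∈ C.invPart, ρ (pol t u) = φ (uc u) := fun u hu => by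
    have h1 := C.mem_of_eq (hus (uc u)) hu.1 (husu _) ((husw _).trans hu.2.symm)
    set r := (us (uc u))⁻¹ * u with hr
    have e : u = us (uc u) * r := by rw [hr, mul_inv_cancel_left]
    show ρ (pol t u) = ρ (pol t (us (uc u)))
    rw [show pol t u = pol t (us (uc u)) from ?_]
    calc pol t u = pol t (us (uc u) * r) := by rw [← e]
      _ = t * us (uc u) * (r * t⁻¹) * r⁻¹ * (us (uc u))⁻¹ := by simp only [pol]; group
      _ = _ := by
          rw [Subgroup.mem_centralizer_iff.1 (inv_mem htM.2.2.1) r h1]; simp only [pol]; group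
  have hadd : ∀ y z, φ (y + z) = φ y + φ z := fun y z => by
    have hm := mul_mem (husU y) (husU z)
    rw [show y + z = uc (us y * us z) by rw [C.uc_mul _ (hus y) _ (hus z), husu, husu], ← hφu _ hm,
      hφ, ← C.ρ_mul _ (hRt _ (husU y)) _ (hRt _ (husU z))]
    congr 1
    calc pol t (us y * us z) = pol t (us y) * (us y * pol t (us z) * (us y)⁻¹) := by
          simp only [pol]; group
      _ = _ := by rw [(C.R_comm (hRt _ (husU z)) (hus y)).eq, mul_inv_cancel_right]
  have hφ0 : φ 0 = 0 := by have := hadd 0 0; rw [add_zero] at this; exact left_eq_add.1 this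
  -- the orbit of `t`
  have horbit : ∀ μ : F, μ ≠ 0 → ∀ s ∈ C.moverGroup, wc (shift x s) = μ →
      ∀ u ∈ C.invPart, ρ (pol s u) = μ * θ μ * φ (uc u / (μ * θ μ)) := by
    intro μ hμ s hs hsq u hu
    obtain ⟨g, hgB, hgM, hgq, hgρ, hgu⟩ := hscale t htM μ hμ
    rw [hsame s hs _ hgM (by rw [hgq, hsq, hq1, mul_one]) u hu]
    have hu' := C.conj_invPart (inv_mem hgB) hu
    set u' := g⁻¹ * u * g⁻¹⁻¹ with hu'def
    have hN : μ * θ μ ≠ 0 := mul_ne_zero hμ ((map_ne_zero θ).2 hμ)
    have e := hgu u' hu'.1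
    rw [show g * u' * g⁻¹ = u by rw [hu'def]; group] at e
    rw [show pol (g * t * g⁻¹) u = g * pol t u' * g⁻¹ by simp only [pol, hu'def]; group,
      hgρ _ (hRt _ hu'), hφu _ hu', e, mul_div_cancel_left₀ _ hN]
  have hrel : ∀ μ : F, μ ≠ 0 → μ ≠ 1 → ∀ y, μ * θ μ * φ (y / (μ * θ μ)) + φ y =
      (μ + 1) * θ (μ + 1) * φ (y / ((μ + 1) * θ (μ + 1))) := by
    intro μ hμ hμ1 y
    obtain ⟨g, -, hgM, hgq, -, -⟩ := hscale t htM μ hμ
    rw [hq1, mul_one] at hgq
    have hs : wc (shift x (g * t * g⁻¹ * t)) = μ + 1 := by rw [C.wc_shift_mul hgM htM, hgq, hq1]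
    have h1 := horbit _ (fun e => hμ1 (CharTwo.add_eq_zero.1 e)) _ (mul_mem hgM htM) hs _ (husU y)
    rw [C.pol_prod hgM (hRt _ (husU y)), C.ρ_mul _ (hRt _ (husU y)) _
      (C.pol_mem_R hgM (hus y) (hzero _ _ (husU y))), hφu _ (husU y),
      horbit μ hμ _ hgM hgq _ (husU y), husu] at h1
    rw [← h1, add_comm]
  -- the square of `t`
  have hkq : wc (shift x (t * t)) = 0 := by
    rw [C.wc_shift_mul htM htM, CharTwo.add_self_eq_zero]
  obtain ⟨q₀, hq₀⟩ := C.exists_ker_action h (mul_mem htM htM) hkq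
  have hH : ∀ w, φ (θ w + w) = q₀ * θ w + w * θ q₀ := by
    intro w
    obtain ⟨y, hy, hyu, hyw⟩ := C.onto 0 w
    have hty := (Subgroup.mem_normalizer_iff.1 htM.2.1 y).1 hy
    set z := pol t y with hz
    have hzB : z ∈ B := by rw [hz, pol]; exact mul_mem hty (inv_mem hy)
    have hzw : wc z = 0 := by
      rw [hz, pol, C.wc_mul _ hty _ (inv_mem hy), C.wc_inv hy, C.wc_conj htM.2.1 htM.2.2.1 hy,
        CharTwo.add_self_eq_zero]
    have hzu : uc z = θ w + w := by
      rw [hz, pol, C.uc_mul _ hty _ (inv_mem hy), C.uc_inv hy, C.uc_conj htM hy, hq1, hyu, hyw,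
        map_one, one_mul, mul_one, add_zero, zero_add, add_comm]
    have hzU : z ∈ C.invPart := ⟨hzB, hzw⟩
    have e : pol (t * t) y = pol t z := by
      calc pol (t * t) y = pol t z * (z * z) := by simp only [hz, pol]; group
        _ = _ := by rw [C.invPart_sq hzU, mul_one]
    rw [← hzu, ← hφu z hzU, ← e, (hq₀ y hy).2, hyw]
  have hq01 : q₀ = 0 ∨ q₀ = 1 := C.fixed q₀ (by
    have := hH 1
    rw [map_one, CharTwo.add_self_eq_zero, hφ0, mul_one, one_mul] at this
    exact (CharTwo.add_eq_zero.1 this.symm).symm)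
  have hone : (1 : F) ∉ TIEndgame.SuzukiSquare.polarRange θ := fun hm => by
    obtain ⟨y, hy⟩ := (TIEndgame.SuzukiSquare.mem_polarRange θ).1 hm
    exact one_ne_add (θ := θ) C.card y hy
  set H := TIEndgame.SuzukiSquare.polarRange θ with hHdef
  have hidx : H.index = 2 := TIEndgame.SuzukiSquare.index_polarRange θ C.fixed
  have hφH : ∀ y ∈ H, φ y = q₀ * y := fun y hy => by
    obtain ⟨w, rfl⟩ := (TIEndgame.SuzukiSquare.mem_polarRange θ).1 hy
    rcases hq01 with e | e <;> rw [hH w, e] <;> simp [mul_add]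
  classical
  set δ := φ 1 + q₀ with hδ
  have hform : ∀ y, φ y = q₀ * y + δ * (if y ∈ H then 0 else 1) := fun y => by
    by_cases hy : y ∈ H
    · rw [if_pos hy, hφH y hy, mul_zero, add_zero]
    · have h1 : y + 1 ∈ H := (AddSubgroup.add_mem_iff_of_index_two hidx).2 (iff_of_false hy hone)
      have h2 := hφH _ h1
      rw [hadd] at h2
      rw [if_neg hy, hδ]
      linear_combination h2 - φ 1 * (CharTwo.two_eq_zero : (2 : F) = 0)
  -- the relation on `δ`
  have hrel' : ∀ μ : F, μ ≠ 0 → μ ≠ 1 → ∀ y, q₀ * y + δ * ((if y ∈ H then 0 else 1) +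
      μ * θ μ * (if y / (μ * θ μ) ∈ H then 0 else 1) +
      (μ + 1) * θ (μ + 1) * (if y / ((μ + 1) * θ (μ + 1)) ∈ H then 0 else 1)) = 0 := by
    intro μ hμ hμ1 y
    have hμ1' : μ + 1 ≠ 0 := fun e => hμ1 (CharTwo.add_eq_zero.1 e)
    have hN : μ * θ μ ≠ 0 := mul_ne_zero hμ ((map_ne_zero θ).2 hμ)
    have hN' : (μ + 1) * θ (μ + 1) ≠ 0 := mul_ne_zero hμ1' ((map_ne_zero θ).2 hμ1')
    have h1 := hrel μ hμ hμ1 y
    rw [hform, hform y, hform (y / ((μ + 1) * θ (μ + 1)))] at h1
    have e1 : μ * θ μ * (y / (μ * θ μ)) = y := mul_div_cancel₀ y hN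
    have e2 : (μ + 1) * θ (μ + 1) * (y / ((μ + 1) * θ (μ + 1))) = y := mul_div_cancel₀ y hN'
    linear_combination h1 - q₀ * e1 + q₀ * e2 +
      (δ * ((μ + 1) * θ (μ + 1) * (if y / ((μ + 1) * θ (μ + 1)) ∈ H then 0 else 1))) *
        (CharTwo.two_eq_zero : (2 : F) = 0)
  have hindep : ∀ μ : F, μ ≠ 0 → μ ≠ 1 → ∀ e e' : F, (e = 0 ∨ e = 1) → (e' = 0 ∨ e' = 1) →
      1 + μ * θ μ * e + (μ + 1) * θ (μ + 1) * e' ≠ 0 := by
    intro μ hμ hμ1 e e' he he'
    have hn1 : μ * θ μ ≠ 1 := fun h1 => hμ1 (norm_inj C.card C.fixed (θ := θ) (by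
      rw [h1, map_one, mul_one]))
    rcases he with rfl | rfl <;> rcases he' with rfl | rfl <;> intro h0
    · simp at h0
    · have : (μ + 1) * θ (μ + 1) = 1 := by
        linear_combination h0 - (CharTwo.two_eq_zero : (2 : F) = 0)
      have := norm_inj C.card C.fixed (θ := θ) (p := μ + 1) (q := 1) (by rw [this, map_one, mul_one])
      exact hμ (by simpa using this)
    · exact hn1 (by linear_combination h0 - (CharTwo.two_eq_zero : (2 : F) = 0))
    · refine (C.fixed μ ?_).elim hμ hμ1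
      rw [map_add, map_one] at h0
      linear_combination h0 - (1 + μ * θ μ + μ) * (CharTwo.two_eq_zero : (2 : F) = 0)
  have hbit : ∀ y, (if y ∈ H then (0 : F) else 1) = 0 ∨ (if y ∈ H then (0 : F) else 1) = 1 :=
    fun y => by by_cases hy : y ∈ H <;> simp [hy]
  obtain ⟨v₀, hv0, hv1⟩ := SuzukiForm.exists_ne_bit C.card
  obtain ⟨hq₀0, hδ0⟩ : q₀ = 0 ∧ δ = 0 := by
    rcases hq01 with e0 | e1
    · refine ⟨e0, ?_⟩
      have h1 := hrel' v₀ hv0 hv1 1
      rw [e0, zero_mul, zero_add, if_neg hone] at h1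
      exact (mul_eq_zero.1 h1).resolve_right (hindep v₀ hv0 hv1 _ _ (hbit _) (hbit _))
    · exfalso
      subst e1
      have hd : δ ≠ 0 := fun e => by
        have := hrel' v₀ hv0 hv1 1
        rw [e, zero_mul, add_zero, one_mul] at this
        exact one_ne_zero this
      -- the value at `δ`
      have key : ∀ μ : F, μ ≠ 0 → μ ≠ 1 → δ ∉ H ∧ δ / (μ * θ μ) ∈ H := by
        intro μ hμ hμ1
        have h1 := hrel' μ hμ hμ1 δ
        rw [one_mul] at h1
        have h2 : 1 + ((if δ ∈ H then (0 : F) else 1) +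
            μ * θ μ * (if δ / (μ * θ μ) ∈ H then 0 else 1) +
            (μ + 1) * θ (μ + 1) * (if δ / ((μ + 1) * θ (μ + 1)) ∈ H then 0 else 1)) = 0 := by
          refine (mul_eq_zero.1 ?_).resolve_left hd
          linear_combination h1
        have hδH : δ ∉ H := fun hm => by
          rw [if_pos hm, zero_add, ← add_assoc] at h2
          exact hindep μ hμ hμ1 _ _ (hbit _) (hbit _) h2
        rw [if_neg hδH] at h2
        refine ⟨hδH, by_contra fun hm => ?_⟩
        rw [if_neg hm] at h2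
        have h3 : μ * θ μ + (μ + 1) * θ (μ + 1) *
            (if δ / ((μ + 1) * θ (μ + 1)) ∈ H then 0 else 1) = 0 := by
          linear_combination h2 - (CharTwo.two_eq_zero : (2 : F) = 0)
        rcases hbit (δ / ((μ + 1) * θ (μ + 1))) with e | e <;> rw [e] at h3
        · simp [hμ] at h3
        · rw [mul_one] at h3
          have := norm_inj C.card C.fixed (θ := θ) (CharTwo.add_eq_zero.1 h3)
          simp at this
      have hall : ∀ v : F, v ≠ 0 → v ≠ 1 → δ * v ∈ H := fun v hv hv' => by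
        obtain ⟨μ, hμ⟩ := norm_surj (θ := θ) C.card C.fixed v⁻¹
        have hμ' : μ * θ μ = v⁻¹ := hμ
        have h0 : μ ≠ 0 := fun e => inv_ne_zero hv (by rw [← hμ', e, zero_mul])
        have h1 : μ ≠ 1 := fun e => hv' (inv_eq_one.1 (by rw [← hμ', e, map_one, one_mul]))
        have := (key μ h0 h1).2
        rwa [hμ', div_inv_eq_mul] at this
      obtain ⟨hδH, -⟩ := key v₀ hv0 hv1
      refine hδH ?_
      have h1 := add_mem (hall v₀ hv0 hv1) (hall (v₀ + 1) (fun e => hv1 (CharTwo.add_eq_zero.1 e))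
        (fun e => hv0 (add_eq_right.1 e)))
      rwa [← mul_add, ← add_assoc, CharTwo.add_self_eq_zero, zero_add, mul_one] at h1
  -- conclusion, undoing the scaling
  have hu₀ := C.conj_invPart hg₀B hu
  have hzero' : pol t (g₀ * u * g₀⁻¹) = 1 := C.ρ_inj _ (hRt _ hu₀)
    (by rw [hφu _ hu₀, hform, hq₀0, hδ0]; simp)
  rw [show pol p u = g₀⁻¹ * pol t (g₀ * u * g₀⁻¹) * g₀ by simp only [ht, pol]; group, hzero']
  group

/-- The translation of a mover whose square centralises the base lies in `R`. -/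
theorem shift_mem_R {p : G} (hp : p ∈ C.moverGroup)
    (h : ∀ w : F, w * θ (wc (shift x p)) + wc (shift x p) * θ w = 0) : shift x p ∈ R := by
  haveI := C.char2
  haveI := C.finite
  set q := wc (shift x p) with hq
  have h1 := h 1
  rw [one_mul, map_one, mul_one] at h1
  have hq0 : q = 0 := by
    refine (C.fixed q (CharTwo.add_eq_zero.1 h1)).resolve_right fun e => ?_
    obtain ⟨v, hv0, hv1⟩ := SuzukiForm.exists_ne_bit C.card
    have := h v
    rw [e, map_one, mul_one, one_mul] at this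
    exact (C.fixed v (CharTwo.add_eq_zero.1 this).symm).elim hv0 hv1
  exact C.kernel _ hp.2.2.2 (by rw [C.uc_shift_mover hp, ← hq, hq0, zero_mul]) hq0

variable (h : ClosedSetting D Ω) {S : Subgroup G} (hS : IsTopTwo S a) (hxS : x ∈ S) (hBS : B ≤ S)
include h hS hxS hBS

/-- A maximal 2-subgroup meets `K` in the movers. -/
theorem inf_le_moverGroup : S ⊓ K ≤ C.moverGroup := by
  haveI := C.char2
  set P := C.moverGroup ⊓ S with hP
  have hBP : B ≤ P := le_inf C.le_moverGroup hBS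
  have hxB : x ∈ Subgroup.normalizer (B : Set G) := C.base.inv_x
  have hxxM : ∀ v ∈ C.moverGroup, x * v * x ∈ C.moverGroup := by
    intro v hv
    have hxi := C.x_inv
    refine ⟨?_, ?_, ?_, ?_⟩
    · have := C.base.line.conj_K C.base.line.fix hv.1
      rwa [hxi] at this
    · have := mul_mem (mul_mem hxB hv.2.1) hxB
      exact this
    · have hxR : x ∈ Subgroup.centralizer (R : Set G) := Subgroup.mem_centralizer_iff.2 fun r hr =>
        (C.base.line.comm r (C.base.line.le hr)).eq.symm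
      exact mul_mem (mul_mem hxR hv.2.2.1) hxR
    · have e : shift x (x * v * x) = x * shift x v * x⁻¹ := by
        simp only [shift]
        rw [mul_inv_rev, mul_inv_rev, hxi,
          show x * (x * v * x * x * (x * (v⁻¹ * x))) = x * x * v * (x * x) * x * v⁻¹ * x by group,
          show x * (x * (v * x * v⁻¹)) * x = x * x * v * x * v⁻¹ * x by group, C.x_sq]
        group
      rw [e]
      exact (Subgroup.mem_normalizer_iff.1 hxB _).1 hv.2.2.2
  by_contra hlt
  have hlt' : ¬ S ⊓ K ≤ P := fun hle => hlt (hle.trans inf_le_left)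
  obtain ⟨n, hn, hnP, hnn, hd⟩ := exists_growth (K := K) (A := P) C.x_sq hxS hS.1
    (fun k hk => by have := C.base.line.conj_K C.base.line.fix hk; rwa [C.x_inv] at this)
    (C.base.line.x_notMem h) (le_inf inf_le_right (inf_le_left.trans fun p hp => hp.1))
    (fun v hv => Subgroup.mem_inf.2 ⟨hxxM v hv.1, mul_mem (mul_mem hxS hv.2) hxS⟩) hlt'
  rw [show disp x n = shift x n by simp only [shift, disp]; group] at hd
  set d := shift x n with hddef
  have hnx : n * x * n⁻¹ = x * d := conj_eq_mul_shift C.x_sq n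
  have hinv : (x * d) * (x * d) = 1 := by
    rw [← hnx, show n * x * n⁻¹ * (n * x * n⁻¹) = n * (x * x) * n⁻¹ by group, C.x_sq]; group
  -- `d` lies in the base
  have hdB : d ∈ B := by
    obtain ⟨hdM, hdS⟩ := Subgroup.mem_inf.1 hd
    have hsd : shift x d = (d * d)⁻¹ := by
      have hxd : x * d * x = d⁻¹ := eq_inv_of_mul_eq_one_left (by
        rwa [show x * d * x * d = x * d * (x * d) by group])
      rw [show shift x d = (x * d * x) * d⁻¹ by simp only [shift]; group, hxd, mul_inv_rev]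
    have hddB : d * d ∈ B := inv_mem_iff.1 (hsd ▸ hdM.2.2.2)
    have hq : wc (d * d) = wc (shift x d) := by rw [hsd, C.wc_inv hddB]
    have hR : shift x d ∈ R := by
      refine C.shift_mem_R hdM fun w => ?_
      obtain ⟨y, hy, hyu, hyw⟩ := C.onto 0 w
      have hdy := (Subgroup.mem_normalizer_iff.1 hdM.2.1 y).1 hy
      have hzU : pol d y ∈ C.invPart := by
        refine ⟨mul_mem hdy (inv_mem hy), ?_⟩
        rw [show pol d y = d * y * d⁻¹ * y⁻¹ from rfl, C.wc_mul _ hdy _ (inv_mem hy), C.wc_inv hy,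
          C.wc_conj hdM.2.1 hdM.2.2.1 hy, CharTwo.add_self_eq_zero]
      have hc : Commute (d * d) y := by
        refine mul_inv_eq_iff_eq_mul.1 (mul_inv_eq_one.1 ?_)
        calc d * d * y * (d * d)⁻¹ * y⁻¹ = (d * pol d y * d⁻¹) * pol d y := by
              simp only [pol]; group
          _ = 1 := by rw [(C.mover_comm h hdM hzU).eq, mul_inv_cancel_right, C.invPart_sq hzU]
      have h0 := (C.commute_iff hddB hy).1 hc
      rw [hyw, hq] at h0
      simpa [polF, add_comm] using h0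
    exact C.mem_of_shift h hS hxS hBS ⟨hdS, hdM.1⟩
      (Subgroup.centralizer_le_normalizer _ hdM.2.2.1) hR
  -- the involutions of the base are the central ones of `P`
  have hU : omCentre P = C.invPart := by
    refine le_antisymm (fun z hz => ?_) fun u hu => ⟨hBP hu.1, C.invPart_sq hu, fun p hp =>
      (C.mover_comm h hp.1 hu).symm⟩
    obtain ⟨hzP, hz2, hzc⟩ := hz
    obtain ⟨hzM, hzS⟩ := Subgroup.mem_inf.1 hzP
    refine C.mem_invPart_of_sq (C.mem_of_shift h hS hxS hBS ⟨hzS, hzM.1⟩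
      (Subgroup.centralizer_le_normalizer _ hzM.2.2.1) (C.shift_mem_R hzM fun w => ?_)) hz2
    obtain ⟨y, hy, hyu, hyw⟩ := C.onto 0 w
    have e := C.uc_conj hzM hy
    rw [(hzc y (hBP hy)).eq, mul_inv_cancel_right, hyw] at e
    exact left_eq_add.1 e
  have hnU : n ∈ Subgroup.normalizer (C.invPart : Set G) := hU ▸ normalizer_le_omCentre P hnn
  have hnR : ∀ r ∈ R, n * r * n⁻¹ ∈ R := by
    intro r hr
    obtain ⟨u, hu, huu, huw⟩ := C.onto (ρ r) 0
    have hs : shift x u = r := C.ρ_eq (C.base.shift_mem u hu) hr (by rw [← C.uc_shift u hu, huu])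
    set u' := n * u * n⁻¹ with hu'def
    have hu' : u' ∈ C.invPart := (Subgroup.mem_normalizer_iff.1 hnU u).1 ⟨hu, huw⟩
    have hσ := C.base.shift_mem u' hu'.1
    have e : n * r * n⁻¹ = shift x u' := by
      calc n * r * n⁻¹ = (n * x * n⁻¹) * (u' * (n * x * n⁻¹) * u'⁻¹) := by
            rw [← hs, hu'def]; simp only [shift]; group
        _ = x * d * (u' * x * u'⁻¹ * (u' * d * u'⁻¹)) := by rw [hnx]; group
        _ = x * d * (x * shift x u' * d) := by
            rw [conj_eq_mul_shift C.x_sq, ← (C.invPart_comm hdB hu').eq, mul_inv_cancel_right]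
        _ = x * d * (x * (d * shift x u')) := by
            rw [mul_assoc x (shift x u') d, (C.R_comm hσ hdB).eq]
        _ = (x * d * (x * d)) * shift x u' := by group
        _ = _ := by rw [hinv, one_mul]
    exact e ▸ hσ
  have hnB : n ∈ Subgroup.normalizer (B : Set G) := mem_normalizer_of_conj_mem fun y hy => by
    set p := n * y * n⁻¹ with hp
    have hpP : p ∈ P := (Subgroup.mem_normalizer_iff.1 hnn y).1 (hBP hy)
    obtain ⟨hpM, hpS⟩ := Subgroup.mem_inf.1 hpP
    have hr' := hnR _ (C.base.shift_mem y hy)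
    have hpd := (Subgroup.mem_normalizer_iff.1 hpM.2.1 d).1 hdB
    have e : shift x p * (p * d * p⁻¹) = d * (n * shift x y * n⁻¹) := by
      refine mul_left_cancel (a := x) ?_
      rw [← mul_assoc, ← conj_eq_mul_shift C.x_sq, ← mul_assoc x d, ← hnx]
      calc p * x * p⁻¹ * (p * d * p⁻¹) = p * (x * d) * p⁻¹ := by group
        _ = n * (y * x * y⁻¹) * n⁻¹ := by rw [← hnx, hp]; group
        _ = _ := by rw [conj_eq_mul_shift C.x_sq]; group
    have h1 := congrArg wc e
    rw [C.wc_mul _ hpM.2.2.2 _ hpd, C.wc_mul _ hdB _ (C.R_le hr'), (C.coords_R hr').2, add_zero,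
      C.wc_conj hpM.2.1 hpM.2.2.1 hdB, add_eq_right] at h1
    refine C.mem_of_shift h hS hxS hBS ⟨hpS, hpM.1⟩
      (Subgroup.centralizer_le_normalizer _ hpM.2.2.1) ?_
    exact C.kernel _ hpM.2.2.2 (by rw [C.uc_shift_mover hpM, h1, zero_mul]) h1
  obtain ⟨k, hk⟩ := hS.1 ⟨n, hn.1⟩
  exact hnP (Subgroup.mem_inf.2 ⟨⟨hn.2, hnB, C.centralises_R hnB
    (mem_normalizer_of_conj_mem hnR) ⟨k, congrArg Subtype.val hk⟩, hdB⟩, hn.1⟩)

omit hS hxS hBS in
/-- Without shear and with `c = 0` a Suzuki line in `K` is in the moved case. -/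
theorem movedCase_of_central : MovedCase D a x K R Q J := by
  obtain ⟨S, hS, hBS, hQS, hxS⟩ := C.base.exists_top
  refine (MovedCase.of_central (U := C.invPart) C.base.line h hS hxS hQS (fun u hu =>
    ⟨⟨hBS hu.1, C.base.le hu.1⟩, C.invPart_sq hu, fun s hs =>
      (C.mover_comm h (C.inf_le_moverGroup h hS hxS hBS hs) hu).symm⟩) C.R_le_invPart
    (fun r hr => ?_) fun j hj => ?_).2
  · obtain ⟨u, hu, huu, huw⟩ := C.onto (ρ r) 0
    exact ⟨u, ⟨hu, huw⟩, by
      rw [conj_eq_mul_shift C.x_sq, C.ρ_eq (C.base.shift_mem u hu) hr (by rw [← C.uc_shift u hu, huu])]⟩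
  · obtain ⟨g, hga, hgx, hgB, hgQ, hgR, hgq⟩ := C.base.torusLift j hj
    exact ⟨g, hga, hgx, mem_normalizer_of_conj_mem fun u hu => C.conj_invPart hgB hu, hgQ, hgR, hgq⟩

end Coords

end CfsgLib.LocalEven.OnePointFront.Nonfull
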