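import Cfsg.Agent.Lib.LocalEven.OnePointFront.Nonfull.Moved.ShearWeights
import Mathlib.Algebra.Module.ZMod

/-!
# Coordinates of a Suzuki square map with a shear

`sq : E → R` is a bijection with biadditive polarisation which vanishes only on dependent pairs,
and a pair `(σE, σR)` of automorphisms commutes with it, `σR` generating a group transitive on
`R`.  In a field `F` the map is `w ↦ w θ w`; an equivariant pairing `E × R → R` is
`(w, u) ↦ κ θ⁻¹ (u w)`, with `θ θ` the squaring if `κ ≠ 0`, and an equivariant additive map of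
`R` is a scalar.
-/

set_option autoImplicit false
set_option linter.style.haveILetI false

namespace CfsgLib.LocalEven.OnePointFront.Nonfull.SuzukiForm

universe u

/-- Maschke for an automorphism of odd order: an invariant summand has an equivariant retraction. -/
theorem exists_retraction {V E : Type*} [AddCommGroup V] [AddCommGroup E]
    (hV : ∀ v : V, v + v = 0) (hE : ∀ e : E, e + e = 0) (ι : E →+ V) (hι : Function.Injective ι)
    (σ : V ≃+ V) (τ : E ≃+ E) (hc : ∀ e, σ (ι e) = ι (τ e)) {n : ℕ} (hn : Odd n)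
    (hσ : ∀ v, σ^[n] v = v) :
    ∃ p : V →+ E, (∀ e, p (ι e) = e) ∧ ∀ v, p (σ v) = τ (p v) := by
  letI : Module (ZMod 2) V := AddCommGroup.zmodModule fun v => by rw [two_nsmul, hV]
  letI : Module (ZMod 2) E := AddCommGroup.zmodModule fun e => by rw [two_nsmul, hE]
  obtain ⟨g, hg⟩ := LinearMap.exists_leftInverse_of_injective (ι.toZModLinearMap 2)
    (LinearMap.ker_eq_bot.2 hι)
  have hg' : ∀ e, g (ι e) = e := fun e => LinearMap.congr_fun hg e
  have hpow : ∀ k e, σ^[k] (ι e) = ι (τ^[k] e) := fun k e =>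
    ((Function.Semiconj.iterate_right (f := ι) (fun e => (hc e).symm) k) e).symm
  have hτn : ∀ e, τ^[n] e = e := fun e => hι (by rw [← hpow, hσ])
  let p : V →+ E := AddMonoidHom.mk' (fun v => ∑ i ∈ Finset.range n, τ^[i] (g (σ^[n - i] v)))
    fun v w => by
      rw [← Finset.sum_add_distrib]
      exact Finset.sum_congr rfl fun i _ => by rw [iterate_map_add, map_add, iterate_map_add]
  refine ⟨p, fun e => ?_, fun v => ?_⟩
  · show ∑ i ∈ Finset.range n, τ^[i] (g (σ^[n - i] (ι e))) = e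
    rw [Finset.sum_congr rfl fun i hi => by
      rw [hpow, hg', ← Function.iterate_add_apply, Nat.add_sub_cancel' (Finset.mem_range.1 hi).le,
        hτn], Finset.sum_const, Finset.card_range]
    obtain ⟨k, rfl⟩ := hn
    rw [add_nsmul, mul_comm, mul_nsmul, one_nsmul, two_nsmul, hE, zero_add]
  · set f : ℕ → E := fun i => τ^[i] (g (σ^[n + 1 - i] v)) with hf
    have h1 := (Finset.sum_range_succ f n).symm.trans (Finset.sum_range_succ' f n)
    have h0 : f 0 = f n := by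
      simp only [hf, Function.iterate_zero, id, tsub_zero, Nat.add_sub_cancel_left, hτn,
        Function.iterate_succ_apply', hσ]
    rw [h0, add_left_inj] at h1
    show ∑ i ∈ Finset.range n, τ^[i] (g (σ^[n - i] (σ v))) =
      τ (∑ i ∈ Finset.range n, τ^[i] (g (σ^[n - i] v)))
    rw [map_sum]
    refine Eq.trans (Finset.sum_congr rfl fun i hi => ?_) (h1.trans (Finset.sum_congr rfl fun i _ => ?_))
    · rw [hf]
      simp only
      rw [← Function.iterate_succ_apply, Nat.succ_eq_add_one,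
        show n - i + 1 = n + 1 - i by have := Finset.mem_range.1 hi; omega]
    · rw [hf]
      simp only
      rw [Function.iterate_succ_apply', Nat.add_sub_add_right]

/-- The coordinates. -/
theorem exists_square_coords {E R : Type u} [AddCommGroup E] [AddCommGroup R] [Finite E] [Finite R]
    (hE2 : ∀ e : E, e + e = 0) (hR2 : ∀ r : R, r + r = 0) (hR : 8 ≤ Nat.card R)
    (sq : E → R) (hsq : Function.Bijective sq) (hsq0 : sq 0 = 0)
    (hPl : ∀ a b c : E, sq (a + b + c) + sq (a + b) + sq c =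
      sq (a + c) + sq a + sq c + (sq (b + c) + sq b + sq c))
    (hcomm : ∀ a b : E, a ≠ 0 → sq (a + b) = sq a + sq b → b = 0 ∨ b = a)
    (σE : E ≃+ E) (σR : R ≃+ R) (hs : ∀ e, sq (σE e) = σR (sq e))
    (htr : ∀ r s : R, r ≠ 0 → s ≠ 0 → ∃ k : ℕ, σR^[k] r = s)
    (β : E → R → R) (hl : ∀ a b r, β (a + b) r = β a r + β b r)
    (hr : ∀ e r s, β e (r + s) = β e r + β e s) (heq : ∀ e r, β (σE e) (σR r) = σR (β e r))
    (f : R →+ R) (hf : ∀ r, f (σR r) = σR (f r)) :
    ∃ (F : Type u) (_ : Field F) (_ : Finite F) (_ : CharP F 2) (φ : E ≃+ F) (ψ : R ≃+ F)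
      (θ : F ≃+* F) (c κ : F),
      (∀ y, θ y = y → y = 0 ∨ y = 1) ∧ (κ ≠ 0 → ∀ y, θ (θ y) = y ^ 2) ∧
      (∀ e, ψ (sq e) = φ e * θ (φ e)) ∧ (∀ e r, ψ (β e r) = κ * θ.symm (ψ r * φ e)) ∧
      (∀ r, ψ (f r) = c * ψ r) ∧
      ∀ μ : F, μ ≠ 0 → ∃ k : ℕ, (∀ e, φ (σE^[k] e) = μ * φ e) ∧
        ∀ r, ψ (σR^[k] r) = μ * θ μ * ψ r := by
  classical
  let T : Set ((E ≃+ E) × (R ≃+ R)) :=
    {p | ∃ k : ℕ, (∀ e, p.1 e = σE^[k] e) ∧ ∀ r, p.2 r = σR^[k] r}
  have hT : ∀ k : ℕ, ∃ p ∈ T, (∀ e, p.1 e = σE^[k] e) ∧ ∀ r, p.2 r = σR^[k] r := by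
    intro k
    induction k with
    | zero => exact ⟨⟨AddEquiv.refl E, AddEquiv.refl R⟩, ⟨0, fun _ => rfl, fun _ => rfl⟩,
        fun _ => rfl, fun _ => rfl⟩
    | succ k ih =>
      obtain ⟨p, -, h1, h2⟩ := ih
      have e1 : ∀ e, p.1.trans σE e = σE^[k + 1] e := fun e => by
        rw [Function.iterate_succ_apply', ← h1]; rfl
      have e2 : ∀ r, p.2.trans σR r = σR^[k + 1] r := fun r => by
        rw [Function.iterate_succ_apply', ← h2]; rfl
      exact ⟨⟨p.1.trans σE, p.2.trans σR⟩, ⟨k + 1, e1, e2⟩, e1, e2⟩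
  have hTs : ∀ p ∈ T, ∀ e, sq (p.1 e) = p.2 (sq e) := by
    rintro p ⟨k, h1, h2⟩ e
    rw [h1, h2]
    exact ((Function.Semiconj.iterate_right (f := sq) hs k) e)
  have hTc : ∀ p ∈ T, ∀ q ∈ T, ∀ r, p.2 (q.2 r) = q.2 (p.2 r) := by
    rintro p ⟨k, -, h⟩ q ⟨l, -, h'⟩ r
    rw [h, h', h', h, ← Function.iterate_add_apply, ← Function.iterate_add_apply, add_comm]
  have hTt : ∀ r s : R, r ≠ 0 → s ≠ 0 → ∃ p ∈ T, p.2 r = s := fun r s hr0 hs0 => by
    obtain ⟨k, hk⟩ := htr r s hr0 hs0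
    obtain ⟨p, hp, -, h2⟩ := hT k
    exact ⟨p, hp, by rw [h2, hk]⟩
  have hTβ : ∀ p ∈ T, ∀ e r, β (p.1 e) (p.2 r) = p.2 (β e r) := by
    rintro p ⟨k, h1, h2⟩ e r
    rw [h1, h2, h2]
    clear h1 h2
    induction k with
    | zero => rfl
    | succ k ih => simp only [Function.iterate_succ_apply', heq, ih]
  have hTf : ∀ p ∈ T, ∀ r, f (p.2 r) = p.2 (f r) := by
    rintro p ⟨k, -, h2⟩ r
    rw [h2, h2]
    exact (Function.Semiconj.iterate_right (f := f) hf k) r
  obtain ⟨r₀, hr₀⟩ : ∃ r : R, r ≠ 0 := by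
    haveI : Nontrivial R := Finite.one_lt_card_iff_nontrivial.1 (by omega)
    exact exists_ne 0
  obtain ⟨e₀, rfl⟩ := hsq.2 r₀
  have he₀ : e₀ ≠ 0 := fun h => hr₀ (by rw [h, hsq0])
  obtain ⟨F₁, _, _, _, φE, hφE1, hφE⟩ := Moved.exists_coords hE2 (Prod.fst '' T)
    (by
      rintro _ ⟨p, hp, rfl⟩ _ ⟨q, hq, rfl⟩ e
      exact hsq.1 (by rw [hTs p hp, hTs q hq, hTs q hq, hTs p hp, hTc p hp q hq]))
    (fun a b ha hb => by
      obtain ⟨p, hp, e⟩ := hTt (sq a) (sq b) (fun h => ha (hsq.1 (h.trans hsq0.symm)))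
        (fun h => hb (hsq.1 (h.trans hsq0.symm)))
      exact ⟨p.1, ⟨p, hp, rfl⟩, hsq.1 (by rw [hTs p hp, e])⟩) he₀
  obtain ⟨F, _, _, _, φR, hφR1, hφR⟩ := Moved.exists_coords hR2 (Prod.snd '' T)
    (by rintro _ ⟨p, hp, rfl⟩ _ ⟨q, hq, rfl⟩ r; exact hTc p hp q hq r)
    (fun a b ha hb => by
      obtain ⟨p, hp, e⟩ := hTt a b ha hb
      exact ⟨p.2, ⟨p, hp, rfl⟩, e⟩) hr₀
  haveI : Fintype F := Fintype.ofFinite F
  haveI : Fintype F₁ := Fintype.ofFinite F₁
  let ι : F₁ ≃+* F := FiniteField.ringEquivOfCardEq (by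
    rw [← Nat.card_eq_fintype_card, ← Nat.card_eq_fintype_card, ← Nat.card_congr φE.toEquiv,
      ← Nat.card_congr φR.toEquiv, Nat.card_eq_of_bijective sq hsq])
  set φ : E ≃+ F := φE.trans ι.toAddEquiv with hφ
  have hφ1 : φ e₀ = 1 := by
    show ι (φE e₀) = 1
    rw [hφE1, map_one]
  have hsym : φ.symm 1 = e₀ := φ.injective (by rw [φ.apply_symm_apply, hφ1])
  have hφm : ∀ p ∈ T, ∀ e, φ (p.1 e) = φ (p.1 e₀) * φ e := fun p hp e => by
    show ι (φE (p.1 e)) = ι (φE (p.1 e₀)) * ι (φE e)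
    rw [← map_mul, hφE p.1 ⟨p, hp, rfl⟩]
  have hT' : ∀ μ : F, μ ≠ 0 → ∃ p ∈ T, φ (p.1 e₀) = μ := fun μ hμ => by
    have hm : φ.symm μ ≠ 0 := fun h => hμ (by rw [← φ.apply_symm_apply μ, h, map_zero])
    obtain ⟨p, hp, e⟩ := hTt (sq e₀) (sq (φ.symm μ)) hr₀
      (fun h => hm (hsq.1 (h.trans hsq0.symm)))
    refine ⟨p, hp, ?_⟩
    rw [hsq.1 (show sq (p.1 e₀) = sq (φ.symm μ) by rw [hTs p hp, e])]
    exact φ.apply_symm_apply μ
  let N : F → F := fun x => φR (sq (φ.symm x))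
  have hNsq : ∀ e, φR (sq e) = N (φ e) := fun e => by simp only [N, φ.symm_apply_apply]
  have hN1 : N 1 = 1 := by
    show φR (sq (φ.symm 1)) = 1
    rw [hsym, hφR1]
  have hN0 : N 0 = 0 := by
    show φR (sq (φ.symm 0)) = 0
    rw [map_zero, hsq0, map_zero]
  have hscal : ∀ p ∈ T, ∀ r, φR (p.2 r) = N (φ (p.1 e₀)) * φR r := fun p hp r => by
    rw [hφR p.2 ⟨p, hp, rfl⟩, ← hTs p hp, hNsq]
  have hNm : ∀ x y, N (x * y) = N x * N y := by
    intro x y
    by_cases hx : x = 0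
    · rw [hx, zero_mul, hN0, zero_mul]
    obtain ⟨p, hp, rfl⟩ := hT' x hx
    have : φ.symm (φ (p.1 e₀) * y) = p.1 (φ.symm y) := φ.injective (by
      rw [φ.apply_symm_apply, hφm p hp (φ.symm y), φ.apply_symm_apply])
    show φR (sq (φ.symm (φ (p.1 e₀) * y))) = _
    rw [this, hTs p hp, hscal p hp]
  let NN : F →*₀ F := { toFun := N, map_zero' := hN0, map_one' := hN1, map_mul' := hNm }
  have hNne : ∀ x : F, x ≠ 0 → N x ≠ 0 := fun x hx h => hx (by
    have h' : sq (φ.symm x) = 0 := φR.injective (h.trans (map_zero φR).symm)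
    rw [← φ.apply_symm_apply x, hsq.1 (h'.trans hsq0.symm), map_zero])
  obtain ⟨g₀, hg₀⟩ : ∃ x : F, x ^ 4 ≠ x := by
    by_contra hcon
    push Not at hcon
    have hcF : 8 ≤ Fintype.card F := by
      rw [← Nat.card_eq_fintype_card, ← Nat.card_congr φR.toEquiv]; exact hR
    have h0 : (Polynomial.X ^ 4 - Polynomial.X : Polynomial F) ≠ 0 :=
      FiniteField.X_pow_card_sub_X_ne_zero F (by norm_num)
    have hsub : (Finset.univ : Finset F).val ≤ (Polynomial.X ^ 4 - Polynomial.X : Polynomial F).roots := by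
      rw [Finset.val_le_iff_val_subset]
      intro x _
      simp [Polynomial.mem_roots h0, hcon x]
    have h4 := (Multiset.card_le_card hsub).trans (Polynomial.card_roots' _)
    rw [FiniteField.X_pow_card_sub_X_natDegree_eq F (by norm_num)] at h4
    simp only [Finset.card_val, Finset.card_univ] at h4
    omega
  -- the polarisation gives `N` as a product of two homomorphisms
  let P : F → F → F := fun x y => N (x + y) + N x + N y
  have hPl' : ∀ a b y, P (a + b) y = P a y + P b y := fun a b y => by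
    have e := congrArg φR (hPl (φ.symm a) (φ.symm b) (φ.symm y))
    simp only [← map_add φ.symm] at e
    simp only [map_add] at e
    simp only [P, N]
    simp only [map_add φ.symm] at e ⊢
    exact e
  have hPs : ∀ a b, P a b = P b a := fun a b => by
    show N (a + b) + N a + N b = N (b + a) + N b + N a
    rw [add_comm b a]; ring
  have hPeq : ∀ μ, μ ≠ 0 → ∀ y, P μ ((MonoidWithZeroHom.id F) μ * y) = NN μ * P 1 y := fun μ _ y => by
    show N (μ + μ * y) + N μ + N (μ * y) = N μ * (N (1 + y) + N 1 + N y)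
    rw [show μ + μ * y = μ * (1 + y) by ring, hNm, hNm, hN1]; ring
  obtain ⟨S, a, χ, hχ, hB⟩ := Shear.exists_weights P hPl'
    (fun x a b => by rw [hPs, hPl', hPs a, hPs b]) (MonoidWithZeroHom.id F) NN
    (fun x hx => hx) hPeq
  obtain ⟨σ₀, hσ₀⟩ : S.Nonempty := by
    rw [Finset.nonempty_iff_ne_empty]
    intro hS
    obtain ⟨b, hb0, hb1⟩ : ∃ b : F, b ≠ 0 ∧ b ≠ 1 :=
      ⟨g₀, fun e => hg₀ (by rw [e]; norm_num), fun e => hg₀ (by rw [e, one_pow])⟩
    have h0 := hB 1 b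
    rw [hS, Finset.sum_empty] at h0
    simp only [P, N, add_assoc, CharTwo.add_eq_zero] at h0
    rw [← map_add φR, map_add φ.symm] at h0
    rcases hcomm _ _ (by rw [hsym]; exact he₀) (φR.injective h0) with e | e
    · exact hb0 (φ.symm.injective (e.trans (map_zero _).symm))
    · exact hb1 (φ.symm.injective e)
  obtain ⟨α, γ, hαγ, hNe⟩ : ∃ α γ : F →+* F, α ≠ γ ∧ ∀ x, α x * γ x = N x := by
    refine ⟨χ σ₀, σ₀, fun hh => ?_, hχ σ₀ hσ₀⟩
    have hN2 : ∀ z, N z = σ₀ z * σ₀ z := fun z => by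
      show NN z = _
      rw [← hχ σ₀ hσ₀ z, hh]
      rfl
    have hb : φ.symm g₀ ≠ 0 ∧ φ.symm g₀ ≠ e₀ := ⟨fun e => hg₀ (by
        rw [← φ.apply_symm_apply g₀, e, map_zero]; norm_num), fun e => hg₀ (by
        rw [← φ.apply_symm_apply g₀, e, hφ1, one_pow])⟩
    rcases hcomm e₀ (φ.symm g₀) he₀ (φR.injective (by
        rw [map_add φR, hNsq, hNsq, hNsq, map_add φ, hN2, hN2, hN2, map_add σ₀]
        exact CharTwo.add_mul_self _ _)) with e | e
    · exact hb.1 e
    · exact hb.2 e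
  -- the shear in coordinates
  let B : F → F → F := fun x y => φR (β (φ.symm x) (φR.symm y))
  have hBeq : ∀ μ, μ ≠ 0 → ∀ y, B μ (NN μ * y) = NN μ * B 1 y := fun μ hμ y => by
    obtain ⟨p, hp, rfl⟩ := hT' μ hμ
    show φR (β (φ.symm (φ (p.1 e₀))) (φR.symm (N (φ (p.1 e₀)) * y))) =
      N (φ (p.1 e₀)) * φR (β (φ.symm 1) (φR.symm y))
    have e : φR.symm (N (φ (p.1 e₀)) * y) = p.2 (φR.symm y) := φR.injective (by
      rw [φR.apply_symm_apply, hscal p hp, φR.apply_symm_apply])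
    rw [e, φ.symm_apply_apply, hsym, hTβ p hp, hscal p hp]
  obtain ⟨S', a', χ', hχ', hB'⟩ := Shear.exists_weights B
    (fun a b y => by simp only [B]; rw [map_add, hl, map_add])
    (fun x a b => by simp only [B]; rw [map_add, hr, map_add]) NN NN hNne hBeq
  have hsqr : ∀ δ : F →+* F, Shear.sqr.comp δ ≠ δ := fun δ e => hg₀ (by
    obtain ⟨z, hz⟩ := Finite.injective_iff_surjective.1 δ.injective g₀
    have h := RingHom.congr_fun e z
    rw [RingHom.comp_apply, Shear.sqr_apply, hz] at h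
    rw [show g₀ ^ 4 = g₀ * g₀ * (g₀ * g₀) by ring, h, h])
  have key : ∀ σ ∈ S', (σ.comp γ = α ∧ χ' σ = σ.comp α ∧ Shear.sqr.comp (σ.comp α) = γ) ∨
      (σ.comp α = γ ∧ χ' σ = σ.comp γ ∧ Shear.sqr.comp (σ.comp γ) = α) := by
    intro σ hσ
    have h3 : ∀ x, χ' σ x * σ.comp α x * σ.comp γ x = α x * γ x := fun x => by
      rw [RingHom.comp_apply, RingHom.comp_apply, mul_assoc, ← map_mul, hNe]
      exact (hχ' σ hσ x).trans rfl
    rcases Shear.three_hom h3 with e | e | e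
    · rcases Shear.two_hom (α := Shear.sqr.comp (σ.comp α)) (β := σ.comp γ) (fun x => by
        rw [← h3 x, e, RingHom.comp_apply Shear.sqr, Shear.sqr_apply]) with ⟨e1, e2⟩ | ⟨e1, e2⟩
      · have hid : σ = RingHom.id F := RingHom.ext fun z => by
          obtain ⟨x, rfl⟩ := Finite.injective_iff_surjective.1 γ.injective z
          exact RingHom.congr_fun e2 x
        rw [hid, RingHom.id_comp] at e1
        exact absurd e1 (hsqr α)
      · exact Or.inl ⟨e2, e, e1⟩
    · exact absurd (RingHom.ext fun x => σ.injective (RingHom.congr_fun e x)) hαγ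
    · rcases Shear.two_hom (α := σ.comp α) (β := Shear.sqr.comp (σ.comp γ)) (fun x => by
        rw [← h3 x, ← e, RingHom.comp_apply Shear.sqr, Shear.sqr_apply]; ring) with ⟨e1, e2⟩ | ⟨e1, e2⟩
      · have hid : σ = RingHom.id F := RingHom.ext fun z => by
          obtain ⟨x, rfl⟩ := Finite.injective_iff_surjective.1 α.injective z
          exact RingHom.congr_fun e1 x
        rw [hid, RingHom.id_comp] at e2
        exact absurd e2 (hsqr γ)
      · exact Or.inr ⟨e1, e.symm, e2⟩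
  -- choose which factor of `N` becomes the identity
  obtain ⟨α', γ', hN', κ, hκ, hβ⟩ : ∃ α' γ' : F →+* F, (∀ x, α' x * γ' x = N x) ∧ ∃ κ : F,
      (κ ≠ 0 → ∃ σ : F →+* F, σ.comp γ' = α' ∧ Shear.sqr.comp (σ.comp α') = γ') ∧
      ∀ x y, ∃ σ : F →+* F, B x y = κ * σ (α' x * y) ∧ (κ ≠ 0 → σ.comp γ' = α') := by
    by_cases hS' : S' = ∅
    · refine ⟨α, γ, hNe, 0, fun h => absurd rfl h, fun x y => ⟨RingHom.id F, ?_, fun h => absurd rfl h⟩⟩
      rw [hB' x y, hS', Finset.sum_empty, zero_mul]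
    obtain ⟨σ₁, hσ₁⟩ := Finset.nonempty_iff_ne_empty.2 hS'
    have hboth : ∀ σ τ : F →+* F, Shear.sqr.comp (σ.comp α) = γ → τ.comp α = γ →
        Shear.sqr.comp (τ.comp γ) = α → σ.comp γ = α → False := by
      intro σ τ h1 h2 h3 h4
      refine hg₀ ?_
      obtain ⟨z, hz⟩ := Finite.injective_iff_surjective.1 α.injective g₀
      have a1 : α z = τ (γ z) * τ (γ z) := by
        rw [← RingHom.congr_fun h3 z, RingHom.comp_apply, Shear.sqr_apply]; rfl
      have a2 : τ (γ z) = τ (σ (α z)) * τ (σ (α z)) := by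
        rw [← RingHom.congr_fun h1 z, RingHom.comp_apply, Shear.sqr_apply, map_mul]; rfl
      obtain ⟨t, ht⟩ := Finite.injective_iff_surjective.1 γ.injective (α z)
      have a3 : τ (σ (α z)) = α z := by
        calc τ (σ (α z)) = τ (σ.comp γ t) := by rw [RingHom.comp_apply, ht]
          _ = τ.comp α t := by rw [h4]; rfl
          _ = α z := by rw [h2, ht]
      rw [a3] at a2
      rw [a2, hz] at a1
      rw [show g₀ ^ 4 = g₀ * g₀ * (g₀ * g₀) by ring]
      exact a1.symm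
    have cancel : ∀ {ρ σ τ : F →+* F}, σ.comp ρ = τ.comp ρ → σ = τ := fun {ρ σ τ} h =>
      RingHom.ext fun z => by
        obtain ⟨x, rfl⟩ := Finite.injective_iff_surjective.1 ρ.injective z
        exact RingHom.congr_fun h x
    have huniq : ∀ σ ∈ S', σ = σ₁ := by
      intro σ hσ
      rcases key σ hσ with ⟨h1, -, h1'⟩ | ⟨h1, -, h1'⟩ <;>
        rcases key σ₁ hσ₁ with ⟨h2, -, h2'⟩ | ⟨h2, -, h2'⟩
      · exact cancel (h1.trans h2.symm)
      · exact (hboth σ σ₁ h1' h2 h2' h1).elim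
      · exact (hboth σ₁ σ h2' h1 h1' h2).elim
      · exact cancel (h1.trans h2.symm)
    have hBf : ∀ x y, B x y = a' σ₁ * (χ' σ₁ x * σ₁ y) := fun x y => by
      rw [hB' x y, Finset.sum_eq_single σ₁ (fun σ hσ h => absurd (huniq σ hσ) h)
        (fun h => absurd hσ₁ h)]
    rcases key σ₁ hσ₁ with ⟨h1, h2, h3⟩ | ⟨h1, h2, h3⟩
    · refine ⟨α, γ, hNe, a' σ₁, fun _ => ⟨σ₁, h1, h3⟩, fun x y => ⟨σ₁, ?_, fun _ => h1⟩⟩
      rw [hBf, h2, map_mul]; rfl
    · refine ⟨γ, α, fun x => by rw [mul_comm, hNe], a' σ₁, fun _ => ⟨σ₁, h1, h3⟩,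
        fun x y => ⟨σ₁, ?_, fun _ => h1⟩⟩
      rw [hBf, h2, map_mul]; rfl
  let αe : F ≃+* F := RingEquiv.ofBijective α'
    ⟨α'.injective, Finite.injective_iff_surjective.1 α'.injective⟩
  let γe : F ≃+* F := RingEquiv.ofBijective γ'
    ⟨γ'.injective, Finite.injective_iff_surjective.1 γ'.injective⟩
  let θ : F ≃+* F := αe.symm.trans γe
  have hθ : ∀ x, θ (α' x) = γ' x := fun x => by
    show γe (αe.symm (αe x)) = γ' x
    rw [αe.symm_apply_apply]; rfl
  let φ' : E ≃+ F := φ.trans αe.toAddEquiv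
  have hφ' : ∀ e, φ' e = α' (φ e) := fun e => rfl
  have hsqc : ∀ e, φR (sq e) = φ' e * θ (φ' e) := fun e => by rw [hNsq, hφ', hθ, hN']
  refine ⟨F, inferInstance, inferInstance, inferInstance, φ', φR, θ, φR (f (sq e₀)), κ,
    ?_, ?_, hsqc, ?_, ?_, ?_⟩
  · intro y hy
    have h1 : φ' e₀ = 1 := by rw [hφ', hφ1, map_one]
    rcases hcomm e₀ (φ'.symm y) he₀ (φR.injective (by
      rw [map_add φR, hsqc, hsqc, hsqc, map_add φ', φ'.apply_symm_apply, h1, map_add θ, map_one θ,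
        hy]
      linear_combination y * (CharTwo.two_eq_zero : (2 : F) = 0))) with e | e
    · exact Or.inl (by rw [← φ'.apply_symm_apply y, e, map_zero])
    · exact Or.inr (by rw [← φ'.apply_symm_apply y, e, h1])
  · intro h y
    obtain ⟨σ, h1, h2⟩ := hκ h
    obtain ⟨z, rfl⟩ := Finite.injective_iff_surjective.1 α'.injective y
    obtain ⟨w, hw⟩ := Finite.injective_iff_surjective.1 γ'.injective (α' z)
    have e2 : γ' z = α' w * α' w := by
      rw [← RingHom.congr_fun h2 z, RingHom.comp_apply Shear.sqr, Shear.sqr_apply,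
        RingHom.comp_apply, ← hw, ← RingHom.comp_apply σ γ', h1]
    rw [hθ, e2, map_mul θ, hθ, hw, pow_two]
  · intro e r
    obtain ⟨σ, he, h1⟩ := hβ (φ e) (φR r)
    simp only [B, φ.symm_apply_apply, φR.symm_apply_apply] at he
    rcases eq_or_ne κ 0 with h0 | h0
    · rw [he, h0, zero_mul, zero_mul]
    rw [he, hφ', mul_comm (φR r)]
    congr 1
    apply θ.injective
    rw [θ.apply_symm_apply]
    obtain ⟨w, hw⟩ := Finite.injective_iff_surjective.1 γ'.injective (α' (φ e) * φR r)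
    rw [← hw, ← RingHom.comp_apply σ γ', h1 h0, hθ]
  · intro r
    by_cases hr0 : r = 0
    · simp [hr0]
    obtain ⟨p, hp, rfl⟩ := hTt (sq e₀) r hr₀ hr0
    rw [hTf p hp, hscal p hp, hscal p hp, hφR1]
    ring
  · intro μ hμ
    obtain ⟨p, hp, he⟩ := hT' (αe.symm μ) (by simpa using hμ)
    obtain ⟨k, h1, h2⟩ := id hp
    have hμ' : α' (φ (p.1 e₀)) = μ := by rw [he]; exact αe.apply_symm_apply μ
    refine ⟨k, fun e => ?_, fun r => ?_⟩
    · rw [← h1, hφ', hφm p hp, map_mul, hμ', hφ']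
    · rw [← h2, hscal p hp, ← hN', ← hθ, hμ']

end CfsgLib.LocalEven.OnePointFront.Nonfull.SuzukiForm
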