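import Cfsg.Agent.Lib.LocalEven.OnePointFront.Nonfull.Curved.SuzukiFrame
import Cfsg.Agent.Lib.LocalEven.OnePointFront.Nonfull.Curved.SuzukiWeights

/-!
# A Suzuki line in `K`: the coordinates exist

The squares of the base `B` lie in `R`: otherwise the only elements of `x B` inverted by `x` are
those of `x R`, so `B` is the part in `K` of a maximal 2-subgroup, all its members lie in `R` and
`x` is full.  So `B / R` is elementary, a torus lift of odd order splits it over `Q / R`, and the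
pieces of the square map have the weights of `SuzukiWeights`.
-/

set_option autoImplicit false
set_option linter.style.haveILetI false
set_option linter.unusedSectionVars false

namespace CfsgLib.LocalEven.OnePointFront.Nonfull

open MulAction CfsgLib.LocalEven.TIEndgame CfsgLib.Involution SuzukiForm

universe u v

variable {G : Type u} [Group G] [Finite G] {Ω : Type v} [MulAction G Ω] {D : Set G} {a : Ω}
  {x : G} {K R Q J B : Subgroup G}

/-- Conjugation by a normalising element on `Q / R`. -/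
noncomputable def conjQuot (R Q : Subgroup G) [(R.subgroupOf Q).Normal] {g : G}
    (hQ : g ∈ Subgroup.normalizer (Q : Set G)) (hR : g ∈ Subgroup.normalizer (R : Set G)) :
    MulAut (↥Q ⧸ R.subgroupOf Q) :=
  QuotientGroup.congr _ _ (Q.normalizerMonoidHom ⟨g, hQ⟩) <| Subgroup.eq_of_le_of_card_ge
    (by
      rintro _ ⟨y, hy, rfl⟩
      exact (Subgroup.mem_normalizer_iff.1 hR _).1 hy)
    (Subgroup.card_map_of_injective (Q.normalizerMonoidHom ⟨g, hQ⟩).injective).ge

theorem conjQuot_mk (R Q : Subgroup G) [(R.subgroupOf Q).Normal] {g : G}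
    (hQ : g ∈ Subgroup.normalizer (Q : Set G)) (hR : g ∈ Subgroup.normalizer (R : Set G)) (q : ↥Q) :
    conjQuot R Q hQ hR (QuotientGroup.mk q) =
      QuotientGroup.mk ⟨g * q * g⁻¹, (Subgroup.mem_normalizer_iff.1 hQ q).1 q.2⟩ := rfl

namespace SuzukiLine

variable (L : SuzukiLine D a x K R Q J) (h : ClosedSetting D Ω) (hnf : NoFull D Ω)
  (M : CurvedBase D a x K R Q J B) (hQK : Q ≤ K)
include L h hnf M hQK

/-- The squares of the base lie in `R`. -/
theorem sq_mem_base : ∀ b ∈ B, b * b ∈ R := by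
  have LC := L.toCurvedLine
  have hxx := LC.x_sq
  have hQB : Q ≤ B := fun q hq => M.inf_le ⟨hQK hq, hq⟩
  have hfix : ∀ {b}, b ∈ B → shift x b = 1 → b ∈ Q := fun hb e =>
    (M.fix _ hb ((shift_eq_one hxx).1 e)).2
  by_cases hex : ∃ b₀ ∈ B, b₀ ∉ Q ∧ b₀ * b₀ ∈ R
  · obtain ⟨b₀, hb₀, hb₀Q, hb₀R⟩ := hex
    intro b hb
    by_cases hbQ : b ∈ Q
    · exact L.sq_mem b hbQ
    have h0 : shift x b₀ ≠ 1 := fun e => hb₀Q (hfix hb₀ e)
    have h1 : shift x b ≠ 1 := fun e => hbQ (hfix hb e)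
    obtain ⟨j, hj, e⟩ := L.trans_J _ (M.shift_mem b₀ hb₀) _ (M.shift_mem b hb) h0 h1
    obtain ⟨c, -, hcx, hcR, -, hcB⟩ := M.torus j hj
    have hgR : c * j ∈ Subgroup.normalizer (R : Set G) :=
      mul_mem (Subgroup.centralizer_le_normalizer _ hcR) (Subgroup.mem_inf.1 (L.norm_J hj)).1
    set b' := c * j * b₀ * (c * j)⁻¹ with hb'
    have hb'B : b' ∈ B := (Subgroup.mem_normalizer_iff.1 hcB b₀).1 hb₀
    have hb'R : b' * b' ∈ R := by
      rw [hb', show c * j * b₀ * (c * j)⁻¹ * (c * j * b₀ * (c * j)⁻¹) =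
        c * j * (b₀ * b₀) * (c * j)⁻¹ by group]
      exact (Subgroup.mem_normalizer_iff.1 hgR _).1 hb₀R
    have hs : shift x b' = shift x b := by
      rw [hb', shift_conj (hcx.mul_right (L.comm_J j hj)),
        show c * j * shift x b₀ * (c * j)⁻¹ = c * (j * shift x b₀ * j⁻¹) * c⁻¹ by group, e,
        ← Subgroup.mem_centralizer_iff.1 hcR _ (M.shift_mem b hb), mul_inv_cancel_right]
    set q := b'⁻¹ * b with hq
    have hqQ : q ∈ Q := (M.fix _ (mul_mem (inv_mem hb'B) hb) ((shift_eq_iff hxx).1 hs)).2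
    rw [show b * b = (b' * b') * (b'⁻¹ * q * b'⁻¹⁻¹ * q⁻¹) * (q * q) by rw [hq]; group]
    exact mul_mem (mul_mem hb'R (M.triv _ (inv_mem hb'B) q hqQ)) (L.sq_mem q hqQ)
  · push Not at hex
    exfalso
    obtain ⟨S, hS, hBS, -, hxS⟩ := M.exists_top
    have hinv : ∀ y ∈ B, y * y = 1 → y ∈ R := fun y hy e => by
      refine L.involution y ?_ e
      by_contra hyQ
      exact hex y hy hyQ (e ▸ one_mem R)
    have hsub : S ⊓ K ≤ B := by
      by_contra hlt
      have hxi : x⁻¹ = x := inv_eq_of_mul_eq_one_right hxx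
      have hxB : ∀ v ∈ B, x * v * x ∈ B := fun v hv => by
        simpa [hxi] using (Subgroup.mem_normalizer_iff.1 M.inv_x v).1 hv
      obtain ⟨t, ht, htB, htn, htd⟩ := exists_growth (K := K) (A := B) hxx hxS hS.1
        (fun k hk => by simpa [hxi] using LC.conj_K L.fix hk)
        (LC.x_notMem h) (le_inf hBS M.le) hxB hlt
      have hst : shift x t = disp x t := by rw [disp, shift]; group
      rw [← hst] at htd
      set b := shift x t with hb
      have hi : shift x b * (b * b) = 1 := by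
        calc shift x b * (b * b) = (x * b) * (x * b) := by simp only [shift]; group
          _ = t * (x * x) * t⁻¹ := by rw [hb, ← conj_eq_mul_shift hxx]; group
          _ = 1 := by rw [hxx]; group
      have hbsq : b * b ∈ R := by
        rw [eq_inv_of_mul_eq_one_right hi]
        exact inv_mem (M.shift_mem b htd)
      have hbQ : b ∈ Q := by
        by_contra hn
        exact hex b htd hn hbsq
      have hbR : b ∈ R := hinv b htd (by
        rwa [(shift_eq_one hxx).2 (L.comm b hbQ), one_mul] at hi)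
      have htR : t ∈ Subgroup.normalizer (R : Set G) := mem_normalizer_of_conj_mem fun r hr => by
        refine hinv _ ((Subgroup.mem_normalizer_iff.1 htn r).1 (hQB (L.le hr))) ?_
        rw [show t * r * t⁻¹ * (t * r * t⁻¹) = t * (r * r) * t⁻¹ by group, L.sq r hr]
        group
      set P := (moveGroup x K R hxx) ⊓ S
      have hBP : B ≤ P := fun v hv => Subgroup.mem_inf.2 ⟨mem_moveGroup.2 ⟨M.le hv,
        Subgroup.centralizer_le_normalizer _ (M.cent hv), M.shift_mem v hv⟩, hBS hv⟩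
      have e := M.maximal P (hS.1.to_le inf_le_right) hBP fun p hp =>
        ⟨(mem_moveGroup.1 hp.1).1, (mem_moveGroup.1 hp.1).2.2⟩
      exact htB (e ▸ Subgroup.mem_inf.2 ⟨mem_moveGroup.2 ⟨ht.2, htR, hbR⟩, ht.1⟩)
    exact hnf x ⟨L.bad, a, S, hS, hxS, fun d hd hdS => L.comm d (L.le (hinv d (hsub
      (Subgroup.mem_inf.2 ⟨hdS, L.point.dat_le d ⟨hd, mem_stabilizer_iff.1 (hS.2.1 hdS)⟩⟩))
      (h.toOnePoint.mul_self hd)))⟩

/-- The coordinates of the base. -/
theorem exists_coords : ∃ (F : Type u) (_ : Field F) (θ : F ≃+* F) (c κ : F) (ρ uc wc : G → F),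
    Coords D a x K R Q J B θ c κ ρ uc wc := by
  classical
  have LC := L.toCurvedLine
  have hxx := LC.x_sq
  have hQB : Q ≤ B := fun q hq => M.inf_le ⟨hQK hq, hq⟩
  have hsqB := L.sq_mem_base h hnf M hQK
  have hcB : ∀ b ∈ B, ∀ r ∈ R, Commute b r := fun b hb r hr =>
    (Subgroup.mem_centralizer_iff.1 (M.cent hb) r hr).symm
  have SB : SquareGroup R B := ⟨L.le.trans hQB, L.sq, hsqB, hcB⟩
  have hnormal : ∀ {P : Subgroup G}, (∀ g ∈ P, ∀ r ∈ R, Commute g r) → (R.subgroupOf P).Normal :=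
    fun {P} hc => ⟨fun r hr g => by
      show (g : G) * r * (g : G)⁻¹ ∈ R
      rwa [(hc g g.2 _ (Subgroup.mem_subgroupOf.1 hr)).eq, mul_inv_cancel_right]⟩
  haveI : (R.subgroupOf Q).Normal := hnormal L.central
  haveI : (R.subgroupOf B).Normal := hnormal hcB
  have hel : ∀ {P : Subgroup G} [(R.subgroupOf P).Normal], (∀ g ∈ P, g * g ∈ R) →
      ∀ v : ↥P ⧸ R.subgroupOf P, v * v = 1 := fun {P} _ hs v => by
    induction v using QuotientGroup.induction_on with
    | H g => exact (QuotientGroup.eq_one_iff (g * g)).2 (Subgroup.mem_subgroupOf.2 (hs g g.2))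
  have hcm : ∀ {A : Type u} [Group A], (∀ v : A, v * v = 1) → ∀ v w : A, v * w = w * v :=
    fun {A} _ hs v w => by
      have hi : ∀ y : A, y⁻¹ = y := fun y => inv_eq_of_mul_eq_one_right (hs y)
      rw [← hi (v * w), mul_inv_rev, hi, hi]
  letI : CommGroup ↥R := { (inferInstance : Group ↥R) with
    mul_comm := hcm fun r => Subtype.ext (L.sq r r.2) }
  letI : CommGroup (↥Q ⧸ R.subgroupOf Q) := { (inferInstance : Group (↥Q ⧸ R.subgroupOf Q)) with
    mul_comm := hcm (hel L.sq_mem) }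
  letI : CommGroup (↥B ⧸ R.subgroupOf B) := { (inferInstance : Group (↥B ⧸ R.subgroupOf B)) with
    mul_comm := hcm (hel hsqB) }
  let E := Additive (↥Q ⧸ R.subgroupOf Q)
  let V := Additive (↥B ⧸ R.subgroupOf B)
  let Rr := Additive ↥R
  have hE2 : ∀ e : E, e + e = 0 := fun e => hel L.sq_mem (Additive.toMul e)
  have hV2 : ∀ v : V, v + v = 0 := fun v => hel hsqB (Additive.toMul v)
  have hR2 : ∀ r : Rr, r + r = 0 := fun r => Subtype.ext (L.sq _ (Additive.toMul r).2)
  let mkV : ↥B → V := fun b => Additive.ofMul (QuotientGroup.mk b)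
  let mkE : ↥Q → E := fun b => Additive.ofMul (QuotientGroup.mk b)
  let mkR : ∀ r : G, r ∈ R → Rr := fun r hr => Additive.ofMul ⟨r, hr⟩
  have hsurjV : Function.Surjective mkV := fun v => QuotientGroup.mk_surjective (Additive.toMul v)
  have hsurjE : Function.Surjective mkE := fun v => QuotientGroup.mk_surjective (Additive.toMul v)
  have hmkV : ∀ b b' : ↥B, mkV (b * b') = mkV b + mkV b' := fun _ _ => rfl
  -- the inclusion, the translation and the square
  let ι : E →+ V := MonoidHom.toAdditive (QuotientGroup.map (R.subgroupOf Q) (R.subgroupOf B)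
    (Subgroup.inclusion hQB) fun r hr => hr)
  have hι : ∀ q : ↥Q, ι (mkE q) = mkV ⟨q, hQB q.2⟩ := fun q => rfl
  have hιinj : Function.Injective ι := fun e e' he => by
    obtain ⟨q, rfl⟩ := hsurjE e
    obtain ⟨q', rfl⟩ := hsurjE e'
    exact QuotientGroup.eq.2 (Subgroup.mem_subgroupOf.2
      (Subgroup.mem_subgroupOf.1 (QuotientGroup.eq.1 he) :))
  let sh : ↥B →* ↥R := MonoidHom.mk' (fun b => ⟨shift x b, M.shift_mem b b.2⟩) fun b b' =>
    Subtype.ext (by
      show shift x ((b : G) * b') = shift x b * shift x b'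
      rw [shift_mul hxx, (hcB b b.2 _ (M.shift_mem b' b'.2)).eq, mul_inv_cancel_right])
  let u : V →+ Rr := MonoidHom.toAdditive (QuotientGroup.lift (R.subgroupOf B) sh fun r hr =>
    MonoidHom.mem_ker.2 (Subtype.ext ((shift_eq_one hxx).2 (LC.comm _ (L.le hr)))))
  have hu : ∀ b : ↥B, u (mkV b) = mkR (shift x b) (M.shift_mem b b.2) := fun b => rfl
  have huι : ∀ e, u (ι e) = 0 := fun e => by
    obtain ⟨q, rfl⟩ := hsurjE e
    exact Subtype.ext ((shift_eq_one hxx).2 (L.comm q q.2))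
  have hker : ∀ v, u v = 0 → ∃ e, ι e = v := fun v hv => by
    obtain ⟨b, rfl⟩ := hsurjV v
    exact ⟨mkE ⟨b, (M.fix b b.2 ((shift_eq_one hxx).1 (congrArg (fun r : Rr =>
      ((Additive.toMul r : ↥R) : G)) hv))).2⟩, rfl⟩
  let Sq : V → Rr := fun v => Quotient.liftOn' (Additive.toMul v)
    (fun b : ↥B => mkR ((b : G) * b) (hsqB b b.2)) fun b b' hbb => Subtype.ext <| by
      have hr : (b : G)⁻¹ * b' ∈ R := Subgroup.mem_subgroupOf.1 (QuotientGroup.leftRel_apply.1 hbb)
      show (b : G) * b = b' * b'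
      conv_rhs => rw [show (b' : G) = b * ((b : G)⁻¹ * b') by group]
      rw [SB.mul_sq b.2 (SB.le hr), SB.pol_R b.2 hr, SB.sq _ hr, mul_one, mul_one]
  have hSq : ∀ b : ↥B, Sq (mkV b) = mkR ((b : G) * b) (hsqB b b.2) := fun b => rfl
  have hrr : ∀ r s : Rr, r + s = 0 → r = s := fun r s e => by
    rw [← add_zero r, ← hR2 s, ← add_assoc, e, zero_add]
  let P : V → V → Rr := fun v w => Sq (v + w) + Sq v + Sq w
  have hP : ∀ b b' : ↥B, P (mkV b) (mkV b') = mkR (pol (b : G) b') (SB.pol_mem b.2 b'.2) := fun b b' => by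
    show Sq (mkV (b * b')) + Sq (mkV b) + Sq (mkV b') = _
    refine hrr _ _ (Subtype.ext ?_)
    show (b : G) * b' * ((b : G) * b') * ((b : G) * b) * ((b' : G) * b') * pol (b : G) b' = 1
    have c1 := SB.sq _ (hsqB b b.2)
    have c2 := SB.sq _ (hsqB b' b'.2)
    have c3 := SB.sq _ (SB.pol_mem b.2 b'.2)
    have d1 : Commute ((b' : G) * b') ((b : G) * b) := hcB _ (SB.le (hsqB b' b'.2)) _ (hsqB b b.2)
    have d2 : Commute (pol (b : G) b') ((b : G) * b) :=
      hcB _ (SB.le (SB.pol_mem b.2 b'.2)) _ (hsqB b b.2)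
    have d3 : Commute (pol (b : G) b') ((b' : G) * b') :=
      hcB _ (SB.le (SB.pol_mem b.2 b'.2)) _ (hsqB b' b'.2)
    rw [SB.mul_sq b.2 b'.2]
    generalize (b : G) * b = s at *
    generalize (b' : G) * b' = s' at *
    generalize pol (b : G) b' = p at *
    calc s * p * s' * s * s' * p = s * p * (s' * s) * s' * p := by group
      _ = s * p * (s * s') * s' * p := by rw [d1.eq]
      _ = s * (p * s) * (s' * s') * p := by group
      _ = s * (s * p) * p := by rw [d2.eq, c2, mul_one]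
      _ = (s * s) * (p * p) := by group
      _ = 1 := by rw [c1, c3, one_mul]
  have hPl : ∀ a b y, P (a + b) y = P a y + P b y := fun a b y => by
    obtain ⟨a, rfl⟩ := hsurjV a
    obtain ⟨b, rfl⟩ := hsurjV b
    obtain ⟨y, rfl⟩ := hsurjV y
    rw [← hmkV, hP, hP, hP]
    exact Subtype.ext (SB.pol_mul_left a.2 b.2 y.2)
  have hPs : ∀ a b, P a b = P b a := fun a b => by
    show Sq (a + b) + Sq a + Sq b = Sq (b + a) + Sq b + Sq a
    rw [add_comm a b]; abel
  have hPr : ∀ a b y, P a (b + y) = P a b + P a y := fun a b y => by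
    rw [hPs, hPl, hPs b, hPs y]
  have hSqP : ∀ v w, Sq (v + w) = Sq v + P v w + Sq w := fun v w => by
    show Sq (v + w) = Sq v + (Sq (v + w) + Sq v + Sq w) + Sq w
    rw [show Sq v + (Sq (v + w) + Sq v + Sq w) + Sq w =
      Sq (v + w) + ((Sq v + Sq v) + (Sq w + Sq w)) by abel, hR2, hR2, add_zero, add_zero]
  have hSq0 : Sq 0 = 0 := Subtype.ext (mul_one (1 : G))
  -- a generator of the torus
  obtain ⟨r, hr, hr3, hcard⟩ := L.card_R
  obtain ⟨r₀, hr₀, hr₀1⟩ : ∃ y ∈ R, y ≠ 1 := R.bot_or_exists_ne_one.resolve_left fun e => by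
    have := L.four
    rw [e, Subgroup.card_bot] at this
    omega
  obtain ⟨F₁, _, _, _, φ₁, hφ₁1, hφ₁⟩ := Moved.exists_coords hR2
    {p : Rr ≃+ Rr | ∃ j ∈ J, ∀ s : Rr, ((Additive.toMul (p s) : ↥R) : G) =
      j * (Additive.toMul s : ↥R) * j⁻¹}
    (by
      rintro p ⟨i, hi, hp⟩ q ⟨j, hj, hq⟩ s
      refine Subtype.ext ?_
      show ((Additive.toMul (p (q s)) : ↥R) : G) = ((Additive.toMul (q (p s)) : ↥R) : G)
      rw [hp, hq, hq, hp]
      exact L.abel_J i hi j hj _ (Additive.toMul s).2)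
    (fun s t hs ht => by
      obtain ⟨j, hj, e⟩ := L.trans_J _ (Additive.toMul s).2 _ (Additive.toMul t).2
        (fun e => hs (Subtype.ext e)) (fun e => ht (Subtype.ext e))
      exact ⟨MulEquiv.toAdditive (R.normalizerMonoidHom ⟨j, (Subgroup.mem_inf.1 (L.norm_J hj)).1⟩),
        ⟨j, hj, fun s => rfl⟩, Subtype.ext e⟩)
    (r₀ := mkR r₀ hr₀) (fun e => hr₀1 (congrArg Subtype.val e))
  obtain ⟨g₁, hg₁0, hg₁⟩ := Shear.exists_gen (F := F₁)
  obtain ⟨j, hj, hje⟩ := L.trans_J r₀ hr₀ _ (Additive.toMul (φ₁.symm g₁)).2 hr₀1 fun e =>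
    hg₁0 (by rw [← φ₁.apply_symm_apply g₁, show φ₁.symm g₁ = 0 from Subtype.ext e, map_zero])
  obtain ⟨c₁, hc₁K, hc₁x, hc₁R, hc₁Q, hc₁B⟩ := M.torus j hj
  set g := c₁ * j with hg
  have hgQ : g ∈ Subgroup.normalizer (Q : Set G) :=
    mul_mem (mem_trivGroup.1 hc₁Q).1 (Subgroup.mem_inf.1 (L.norm_J hj)).2
  have hgR : g ∈ Subgroup.normalizer (R : Set G) :=
    mul_mem (Subgroup.centralizer_le_normalizer _ hc₁R) (Subgroup.mem_inf.1 (L.norm_J hj)).1
  have hgx : Commute x g := hc₁x.mul_right (L.comm_J j hj)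
  have hga : g • a = a := by
    rw [hg, mul_smul, L.fix_J j hj, mem_stabilizer_iff.1 (L.point.le hc₁K)]
  let τR : Rr ≃+ Rr := MulEquiv.toAdditive (R.normalizerMonoidHom ⟨g, hgR⟩)
  let τE : E ≃+ E := MulEquiv.toAdditive (conjQuot R Q hgQ hgR)
  let τV : V ≃+ V := MulEquiv.toAdditive (conjQuot R B hc₁B hgR)
  have hτu : ∀ v, u (τV v) = τR (u v) := fun v => by
    obtain ⟨b, rfl⟩ := hsurjV v
    exact Subtype.ext (shift_conj hgx (b : G))
  have hτι : ∀ e, τV (ι e) = ι (τE e) := fun e => by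
    obtain ⟨q, rfl⟩ := hsurjE e
    rfl
  have hτSq : ∀ v, Sq (τV v) = τR (Sq v) := fun v => by
    obtain ⟨b, rfl⟩ := hsurjV v
    refine Subtype.ext ?_
    show g * b * g⁻¹ * (g * b * g⁻¹) = g * ((b : G) * b) * g⁻¹
    group
  have hgen : ∀ s : Rr, φ₁ (τR s) = g₁ * φ₁ s := fun s => by
    have hc : ∀ y ∈ R, g * y * g⁻¹ = j * y * j⁻¹ := fun y hy => by
      rw [hg, show c₁ * j * y * (c₁ * j)⁻¹ = c₁ * (j * y * j⁻¹) * c₁⁻¹ by group,
        ← Subgroup.mem_centralizer_iff.1 hc₁R _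
          ((Subgroup.mem_normalizer_iff.1 (Subgroup.mem_inf.1 (L.norm_J hj)).1 y).1 hy),
        mul_inv_cancel_right]
    rw [hφ₁ τR ⟨j, hj, fun s => hc _ (Additive.toMul s).2⟩,
      show τR (mkR r₀ hr₀) = φ₁.symm g₁ from Subtype.ext ((hc r₀ hr₀).trans hje),
      φ₁.apply_symm_apply]
  have hpow : ∀ (k : ℕ) (s : Rr), φ₁ (τR^[k] s) = g₁ ^ k * φ₁ s := fun k s => by
    induction k with
    | zero => rw [Function.iterate_zero, id, pow_zero, one_mul]
    | succ k ih => rw [Function.iterate_succ_apply', hgen, ih, pow_succ', mul_assoc]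
  -- its square has odd order on `B / R`
  haveI : Fintype F₁ := Fintype.ofFinite F₁
  set n := Fintype.card F₁ - 1 with hn
  have hcF : Fintype.card F₁ = 2 ^ r := by
    rw [← Nat.card_eq_fintype_card, ← Nat.card_congr φ₁.toEquiv]
    exact hcard
  have hnodd : Odd n := by
    have h2 : 2 ∣ 2 ^ r := dvd_pow_self 2 (by omega)
    have h3 : 0 < 2 ^ r := by positivity
    rw [hn, hcF, Nat.odd_iff]
    omega
  have hτRn : ∀ s, τR^[n] s = s := fun s => φ₁.injective (by
    rw [hpow, hn, FiniteField.pow_card_sub_one_eq_one g₁ hg₁0, one_mul])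
  let sqE : E → Rr := fun e => Sq (ι e)
  have hsqEs : Function.Bijective sqE := by
    refine ⟨fun e e' he => ?_, fun s => ?_⟩
    · obtain ⟨q, rfl⟩ := hsurjE e
      obtain ⟨q', rfl⟩ := hsurjE e'
      exact QuotientGroup.eq.2 (Subgroup.mem_subgroupOf.2 (L.sq_inj q q.2 q' q'.2
        (congrArg (fun r : Rr => ((Additive.toMul r : ↥R) : G)) he)))
    · obtain ⟨q, hq, e⟩ := L.sq_onto _ (Additive.toMul s).2
      exact ⟨mkE ⟨q, hq⟩, Subtype.ext e⟩
  have hτEsq : ∀ e, sqE (τE e) = τR (sqE e) := fun e => by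
    show Sq (ι (τE e)) = τR (Sq (ι e))
    rw [← hτι, hτSq]
  have hτEn : ∀ e, τE^[n] e = e := fun e => hsqEs.1 (by
    rw [(Function.Semiconj.iterate_right (f := sqE) hτEsq n).eq, hτRn])
  have hτV2n : ∀ v, τV^[2 * n] v = v := fun v => by
    have e1 : u (τV^[n] v) = u v := by
      rw [(Function.Semiconj.iterate_right (f := u) hτu n).eq, hτRn]
    obtain ⟨e, he⟩ := hker (τV^[n] v + v) (by rw [map_add, e1, hR2])
    have e2 : τV^[n] v = ι e + v := by rw [he, add_assoc, hV2, add_zero]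
    rw [two_mul, Function.iterate_add_apply, e2, iterate_map_add, e2,
      ← (Function.Semiconj.iterate_right (f := ι) (fun e => (hτι e).symm) n).eq, hτEn,
      ← add_assoc, hV2, zero_add]
  let σR : Rr ≃+ Rr := τR.trans τR
  let σE : E ≃+ E := τE.trans τE
  let σV : V ≃+ V := τV.trans τV
  have hσV : ∀ v, σV^[n] v = v := fun v => by
    rw [show (⇑σV) = τV^[2] from rfl, ← Function.iterate_mul]
    exact hτV2n v
  have hσR : ∀ (k : ℕ) (s : Rr), φ₁ (σR^[k] s) = g₁ ^ k * g₁ ^ k * φ₁ s := fun k s => by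
    rw [show (⇑σR) = τR^[2] from rfl, ← Function.iterate_mul, hpow, two_mul, pow_add]
  have hscal : ∀ μ : F₁, μ ≠ 0 → ∃ k : ℕ, ∀ s, φ₁ (σR^[k] s) = μ * φ₁ s := fun μ hμ => by
    obtain ⟨y, rfl⟩ : ∃ y, y * y = μ := Finite.injective_iff_surjective.1
      (fun x y e => frobenius_inj F₁ 2 (by simpa [frobenius_def, sq] using e) :
        Function.Injective fun x : F₁ => x * x) μ
    obtain ⟨k, hk⟩ := hg₁ y (left_ne_zero_of_mul hμ)
    exact ⟨k, fun s => by rw [hσR, hk]⟩
  have hσι : ∀ e, σV (ι e) = ι (σE e) := fun e => by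
    show τV (τV (ι e)) = ι (τE (τE e))
    rw [hτι, hτι]
  have hσu : ∀ v, u (σV v) = σR (u v) := fun v => by
    show u (τV (τV v)) = τR (τR (u v))
    rw [hτu, hτu]
  have hσSq : ∀ v, Sq (σV v) = σR (Sq v) := fun v => by
    show Sq (τV (τV v)) = τR (τR (Sq v))
    rw [hτSq, hτSq]
  -- the complement
  obtain ⟨p, hpι, hpσ⟩ := exists_retraction hV2 hE2 ι hιinj σV σE hσι hnodd hσV
  choose! sec hsec using fun s : Rr => show ∃ v, p v = 0 ∧ u v = s by
    obtain ⟨b, hb, e⟩ := M.onto _ (Additive.toMul s).2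
    refine ⟨mkV ⟨b, hb⟩ + ι (p (mkV ⟨b, hb⟩)), ?_, ?_⟩
    · rw [map_add, hpι, hE2]
    · rw [map_add, huι, add_zero]
      exact Subtype.ext e
  have huniq : ∀ v s, p v = 0 → u v = s → v = sec s := fun v s h1 h2 => by
    obtain ⟨e, he⟩ := hker (v + sec s) (by rw [map_add, h2, (hsec s).2, hR2])
    have he0 : e = 0 := by rw [← hpι e, he, map_add, h1, (hsec s).1, add_zero]
    rw [he0, map_zero] at he
    rw [← add_zero v, ← hV2 (sec s), ← add_assoc, ← he, zero_add]
  have hsplit : ∀ v, v = ι (p v) + sec (u v) := fun v => by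
    rw [← huniq (ι (p v) + v) (u v) (by rw [map_add, hpι, hE2])
      (by rw [map_add, huι, zero_add]), ← add_assoc, hV2, zero_add]
  have hsecadd : ∀ s t, sec (s + t) = sec s + sec t := fun s t => (huniq _ _
    (by rw [map_add, (hsec s).1, (hsec t).1, add_zero]) (by rw [map_add, (hsec s).2, (hsec t).2])).symm
  have hsecσ : ∀ s, sec (σR s) = σV (sec s) := fun s => (huniq _ _
    (by rw [hpσ, (hsec s).1, map_zero]) (by rw [hσu, (hsec s).2])).symm
  have hPσ : ∀ v w, P (σV v) (σV w) = σR (P v w) := fun v w => by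
    show Sq (σV v + σV w) + Sq (σV v) + Sq (σV w) = σR (Sq (v + w) + Sq v + Sq w)
    rw [← map_add σV, hσSq, hσSq, hσSq, map_add, map_add]
  have hPσk : ∀ (k : ℕ) v w, P (σV^[k] v) (σV^[k] w) = σR^[k] (P v w) := fun k v w => by
    induction k with
    | zero => rfl
    | succ k ih => simp only [Function.iterate_succ_apply', hPσ, ih]
  have hPself : ∀ v, P v v = 0 := fun v => by
    show Sq (v + v) + Sq v + Sq v = 0
    rw [hV2, hSq0, zero_add, hR2]
  -- no commutators in the complement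
  have hPsec : ∀ s t, P (sec s) (sec t) = 0 := by
    intro s t
    have key := Shear.pairing_E (fun y z => φ₁ (P (sec (φ₁.symm y)) (sec (φ₁.symm z))))
      (fun a b y => by simp only [map_add, hsecadd, hPl])
      (fun x a b => by simp only [map_add, hsecadd, hPr])
      (fun x => by simp only [hPself, map_zero])
      (fun μ hμ y z => by
        obtain ⟨k, hk⟩ := hscal μ hμ
        have hsk : ∀ s, sec (σR^[k] s) = σV^[k] (sec s) :=
          (Function.Semiconj.iterate_right (f := sec) hsecσ k).eq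
        have hsym : ∀ y, φ₁.symm (μ * y) = σR^[k] (φ₁.symm y) := fun y => φ₁.injective (by
          rw [hk, φ₁.apply_symm_apply, φ₁.apply_symm_apply])
        show φ₁ (P (sec (φ₁.symm (μ * y))) (sec (φ₁.symm (μ * z)))) = _
        rw [hsym, hsym, hsk, hsk, hPσk, hk]) (φ₁ s) (φ₁ t)
    simp only [φ₁.symm_apply_apply] at key
    exact φ₁.injective (key.trans (map_zero φ₁).symm)
  let f : Rr →+ Rr := AddMonoidHom.mk' (fun s => Sq (sec s)) fun s t => by
    rw [hsecadd, hSqP, hPsec, add_zero]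
  have hRc : 8 ≤ Nat.card Rr := by
    rw [show Nat.card Rr = Nat.card R from rfl, hcard]
    exact (Nat.pow_le_pow_right (by norm_num) hr3 : 2 ^ 3 ≤ 2 ^ r)
  obtain ⟨F, _, hfin, hchar, φ, ψ, θ, c, κ, hθfix, hθ2, hψsq, hψβ, hψf, hψscal⟩ :=
    exists_square_coords hE2 hR2 hRc sqE hsqEs (by show Sq (ι 0) = 0; rw [map_zero, hSq0])
      (fun a b y => by
        have e := hPl (ι a) (ι b) (ι y)
        simp only [P, ← map_add] at e
        exact e)
      (fun e e' he hadd => by
        obtain ⟨q, rfl⟩ := hsurjE e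
        obtain ⟨q', rfl⟩ := hsurjE e'
        have h1 : P (ι (mkE q)) (ι (mkE q')) = 0 := by
          show Sq (ι (mkE q) + ι (mkE q')) + Sq (ι (mkE q)) + Sq (ι (mkE q')) = 0
          rw [← map_add]
          show sqE (mkE q + mkE q') + sqE (mkE q) + sqE (mkE q') = 0
          rw [hadd, add_assoc, hR2]
        rw [hι, hι, hP] at h1
        have hc : Commute (q : G) q' := mul_inv_eq_iff_eq_mul.1 (mul_inv_eq_one.1
          (congrArg (fun r : Rr => ((Additive.toMul r : ↥R) : G)) h1))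
        have hqR : (q : G) ∉ R := fun hq =>
          he ((QuotientGroup.eq_one_iff q).2 (Subgroup.mem_subgroupOf.2 hq))
        rcases L.sq_comm q q.2 hqR q' q'.2 hc with h2 | h2
        · exact Or.inl ((QuotientGroup.eq_one_iff q').2 (Subgroup.mem_subgroupOf.2 h2))
        · exact Or.inr (QuotientGroup.eq.2 (Subgroup.mem_subgroupOf.2 h2)).symm)
      σE σR (fun e => by
        show Sq (ι (σE e)) = σR (Sq (ι e))
        rw [← hσι, hσSq])
      (fun s t hs ht => by
        obtain ⟨k, hk⟩ := hscal (φ₁ t * (φ₁ s)⁻¹)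
          (mul_ne_zero (by simpa using ht) (inv_ne_zero (by simpa using hs)))
        exact ⟨k, φ₁.injective (by
          rw [hk, inv_mul_cancel_right₀ (by simpa using hs)])⟩)
      (fun e s => P (ι e) (sec s)) (fun a b s => by rw [map_add, hPl])
      (fun e s t => by rw [hsecadd, hPr])
      (fun e s => by rw [← hσι, hsecσ, hPσ])
      f (fun s => by
        show Sq (sec (σR s)) = σR (Sq (sec s))
        rw [hsecσ, hσSq])
  let ρ : G → F := fun y => if hy : y ∈ R then ψ (mkR y hy) else 0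
  let wc : G → F := fun y => if hy : y ∈ B then φ (p (mkV ⟨y, hy⟩)) else 0
  have hρ : ∀ {y : G} (hy : y ∈ R), ρ y = ψ (mkR y hy) := fun hy => dif_pos hy
  have hwc : ∀ {y : G} (hy : y ∈ B), wc y = φ (p (mkV ⟨y, hy⟩)) := fun hy => dif_pos hy
  have huc : ∀ {y : G} (hy : y ∈ B), ρ (shift x y) = ψ (u (mkV ⟨y, hy⟩)) := fun hy =>
    hρ (M.shift_mem _ hy)
  refine ⟨F, inferInstance, θ, c, κ, ρ, fun y => ρ (shift x y), wc,
    { line := L, base := M, below := hQK, char2 := hchar, finite := hfin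
      card := ⟨r, hr, hr3, by rw [← Nat.card_congr ψ.toEquiv]; exact hcard⟩
      fixed := hθfix, twist := hθ2
      ρ_mul := fun y hy z hz => by
        rw [hρ (mul_mem hy hz), hρ hy, hρ hz, ← map_add ψ]; rfl
      ρ_inj := fun y hy e => by
        rw [hρ hy, ← map_zero ψ] at e
        exact congrArg (fun r : Rr => ((Additive.toMul r : ↥R) : G)) (ψ.injective e)
      ρ_onto := fun y => ⟨_, (Additive.toMul (ψ.symm y)).2, by
        rw [hρ (Additive.toMul (ψ.symm y)).2]; exact ψ.apply_symm_apply y⟩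
      uc_mul := fun b hb b' hb' => by
        rw [huc (mul_mem hb hb'), huc hb, huc hb', ← map_add ψ, ← map_add u]; rfl
      wc_mul := fun b hb b' hb' => by
        rw [hwc (mul_mem hb hb'), hwc hb, hwc hb', ← map_add φ, ← map_add p]; rfl
      onto := fun y z => ?_
      kernel := fun b hb h1 h2 => ?_
      uc_shift := fun _ _ => rfl
      sq_mem := hsqB
      sq := fun b hb => ?_
      scale := fun μ hμ => ?_ }⟩
  · obtain ⟨⟨b, hb⟩, e⟩ := hsurjV (ι (φ.symm z) + sec (ψ.symm y))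
    refine ⟨b, hb, ?_, ?_⟩
    · rw [huc hb, e, map_add, huι, zero_add, (hsec _).2, ψ.apply_symm_apply]
    · rw [hwc hb, e, map_add, hpι, (hsec _).1, add_zero, φ.apply_symm_apply]
  · rw [huc hb, ← map_zero ψ] at h1
    rw [hwc hb, ← map_zero φ] at h2
    have h3 : mkV ⟨b, hb⟩ = 0 := by
      rw [hsplit (mkV ⟨b, hb⟩), φ.injective h2, ψ.injective h1, map_zero, zero_add]
      exact (huniq 0 0 (map_zero p) (map_zero u)).symm
    exact Subgroup.mem_subgroupOf.1 ((QuotientGroup.eq_one_iff (⟨b, hb⟩ : ↥B)).1 h3)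
  · rw [hρ (hsqB b hb), huc hb, hwc hb, show mkR (b * b) (hsqB b hb) = Sq (mkV ⟨b, hb⟩) from rfl]
    set v := mkV ⟨b, hb⟩
    conv_lhs => rw [hsplit v, hSqP, map_add, map_add]
    rw [show Sq (ι (p v)) = sqE (p v) from rfl, hψsq, hψβ,
      show Sq (sec (u v)) = f (u v) from rfl, hψf, sqF]
    ring
  · obtain ⟨k, hkE, hkR⟩ := hψscal μ hμ
    have hgB : g ^ (2 * k) ∈ Subgroup.normalizer (B : Set G) := pow_mem hc₁B _
    refine ⟨g ^ (2 * k), mem_stabilizer_iff.1 (pow_mem (mem_stabilizer_iff.2 hga) _),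
      hgx.pow_right _, hgB, pow_mem hgR _, fun b hb => ?_⟩
    have hit : ∀ m : ℕ, ∀ y : ↥B, τV^[m] (mkV y) =
        mkV ⟨g ^ m * y * (g ^ m)⁻¹, (Subgroup.mem_normalizer_iff.1 (pow_mem hc₁B m) y).1 y.2⟩ := by
      intro m
      induction m with
      | zero => intro y; exact congrArg mkV (Subtype.ext (by simp))
      | succ m ih =>
        intro y
        rw [Function.iterate_succ_apply', ih]
        refine congrArg mkV (Subtype.ext ?_)
        show g * (g ^ m * y * (g ^ m)⁻¹) * g⁻¹ = g ^ (m + 1) * y * (g ^ (m + 1))⁻¹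
        rw [pow_succ']; group
    have hb' := (Subgroup.mem_normalizer_iff.1 hgB b).1 hb
    have e : mkV ⟨_, hb'⟩ = σV^[k] (mkV ⟨b, hb⟩) := by
      rw [show (⇑σV) = τV^[2] from rfl, ← Function.iterate_mul, hit]
    refine ⟨?_, ?_⟩
    · rw [huc hb', e, (Function.Semiconj.iterate_right (f := u) hσu k).eq, hkR, huc hb]
    · rw [hwc hb', e, (Function.Semiconj.iterate_right (f := p) hpσ k).eq, hkE, hwc hb]

end SuzukiLine

end CfsgLib.LocalEven.OnePointFront.Nonfull
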