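import Cfsg.Agent.Lib.LocalEven.OnePointFront.Nonfull.BStar

/-!
# A member commuting with elements whose squares cover `R`

If in a maximal 2-subgroup `S` at `a` the involutions that are squares of elements of `K` lie in `R`
and so do the central involutions of `S ⊓ K`, then a member outside `R` does not commute with
elements of a 2-subgroup of `K` whose squares cover `R`: it is central in some maximal 2-subgroup
containing them.
-/

set_option autoImplicit false
set_option linter.style.haveILetI false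

namespace CfsgLib.LocalEven.OnePointFront.Nonfull

open MulAction CfsgLib.LocalEven.TIEndgame CfsgLib.Involution

universe u v

variable {G : Type u} {Ω : Type v} [Group G] [Finite G] [MulAction G Ω] [Finite Ω] {D : Set G}

/-- No member outside `R` commutes with a 2-subgroup `Y` of `K`, if the elements at `a` conjugating
`Y` into `S` normalise `R`. -/
theorem false_of_member_conj (h : ClosedSetting D Ω) {a : Ω} {K R S Y : Subgroup G}
    (hK : PointGroup D a K) (hab : ∃ b : Ω, b ≠ a) (hS : IsTopTwo S a)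
    (hconj : ∀ c : G, c • a = a → (∀ y ∈ Y, c * y * c⁻¹ ∈ S) → ∀ r ∈ R, c * r * c⁻¹ ∈ R)
    (hZ : omCentre (S ⊓ K) ≤ R) {d : G} (hd : d ∈ dat D a) (hdR : d ∉ R)
    (hY : IsPGroup 2 Y) (hYK : Y ≤ K) (hYd : ∀ y ∈ Y, Commute d y) : False := by
  classical
  haveI : Fact (Nat.Prime 2) := ⟨Nat.prime_two⟩
  obtain ⟨b, hba⟩ := hab
  -- a member central in `S`
  obtain ⟨z, hz, hzc⟩ := h.covers a S hS.1 hS.2.1
  have hzS : z ∈ S := by
    have h2 : IsPGroup 2 ↥(S ⊔ Subgroup.zpowers z) := by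
      refine hS.1.to_sup_of_normal_left' ?_ (Subgroup.zpowers_le.2
        (Subgroup.centralizer_le_normalizer _ (Subgroup.mem_centralizer_iff.2 fun y hy =>
          (hzc y hy).eq)))
      exact IsPGroup.of_card_dvd_pow (n := 1) (by
        rw [Nat.card_zpowers, h.orderOf_eq z hz.1, pow_one])
    have := hS.2.2 _ h2 (sup_le hS.2.1 (Subgroup.zpowers_le.2 (mem_stabilizer_iff.2 hz.2)))
      le_sup_left
    rw [← this]
    exact Subgroup.mem_sup_right (Subgroup.mem_zpowers z)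
  have hzR : z ∈ R := hZ ⟨Subgroup.mem_inf.2 ⟨hzS, hK.dat_le z hz⟩, h.toOnePoint.mul_self hz.1,
    fun s hs => (hzc s (Subgroup.mem_inf.1 hs).1).symm⟩
  -- an element at `a` carries `d` to `z` and `Y` into `S`
  obtain ⟨g, hg, hge⟩ := h.toOnePoint.exists_conj_swapCore (Ne.symm hba) hz hd
    (OnePoint.dat_nonempty h.covers b)
  have hga : g • a = a := mem_stabilizer_iff.1 (swapCore_le a b hg).1
  set C := stabilizer G a ⊓ Subgroup.centralizer ({d} : Set G) with hC
  have hSg : S.map (MulAut.conj g).toMonoidHom ≤ C := by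
    rintro _ ⟨s, hs, rfl⟩
    refine Subgroup.mem_inf.2 ⟨mem_stabilizer_iff.2 ?_, Subgroup.mem_centralizer_singleton_iff.2 ?_⟩
    · show (g * s * g⁻¹) • a = a
      rw [mul_smul, mul_smul, inv_smul_eq_iff.2 hga.symm, mem_stabilizer_iff.1 (hS.2.1 hs), hga]
    · have := (hzc s hs).map (MulAut.conj g).toMonoidHom
      rw [← hge]
      simpa [mul_assoc] using this.eq
  have hYC : Y ≤ C := fun y hy => Subgroup.mem_inf.2
    ⟨hK.le (hYK hy), Subgroup.mem_centralizer_singleton_iff.2 (hYd y hy).eq.symm⟩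
  obtain ⟨P, hP⟩ := ((hS.1.map (MulAut.conj g).toMonoidHom).comap_subtype
    (K := C)).exists_le_sylow
  have hPS : (P : Subgroup ↥C).map C.subtype = S.map (MulAut.conj g).toMonoidHom := by
    refine le_antisymm ?_ fun w hw => ⟨⟨w, hSg hw⟩, hP hw, rfl⟩
    intro w hw
    have h1 := hS.2.2 (((P : Subgroup ↥C).map C.subtype).map (MulAut.conj g⁻¹).toMonoidHom)
      ((P.2.map _).map _) ?_ ?_
    · have h2 : g⁻¹ * w * g ∈ S := h1.le ⟨w, hw, by simp⟩
      exact ⟨_, h2, by simp [mul_assoc]⟩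
    · rintro _ ⟨v, hv, rfl⟩
      have hva : v • a = a :=
        mem_stabilizer_iff.1 (Subgroup.mem_inf.1 (Subgroup.map_subtype_le _ hv)).1
      refine mem_stabilizer_iff.2 ?_
      simp [mul_smul, hga, hva, inv_smul_eq_iff.2 hga.symm]
    · intro s hs
      exact ⟨g * s * g⁻¹, ⟨⟨_, hSg ⟨s, hs, rfl⟩⟩, hP ⟨s, hs, rfl⟩, rfl⟩, by simp [mul_assoc]⟩
  obtain ⟨k, hk⟩ := Involution.Basic.exists_conj_le P (hY.comap_subtype (K := C))
  set c : G := g⁻¹ * (k : G) with hc
  have hkC := Subgroup.mem_inf.1 k.2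
  have hca : c • a = a := by
    rw [hc, mul_smul, mem_stabilizer_iff.1 hkC.1, inv_smul_eq_iff.2 hga.symm]
  have hcd : c * d * c⁻¹ = z := by
    have h1 : (k : G) * d * (k : G)⁻¹ = d := by
      rw [mul_inv_eq_iff_eq_mul]
      exact Subgroup.mem_centralizer_singleton_iff.1 hkC.2
    calc c * d * c⁻¹ = g⁻¹ * ((k : G) * d * (k : G)⁻¹) * g := by rw [hc]; group
      _ = z := by rw [h1, ← hge]; group
  have hcR : ∀ r ∈ R, c * r * c⁻¹ ∈ R := by
    refine hconj c hca fun y hy => ?_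
    have h2 : (k : G) * y * (k : G)⁻¹ ∈ (P : Subgroup ↥C).map C.subtype :=
      ⟨_, hk _ (show (⟨y, hYC hy⟩ : ↥C) ∈ Y.subgroupOf C from hy), rfl⟩
    rw [hPS] at h2
    obtain ⟨s, hs, hse⟩ := h2
    have hse' : g * s * g⁻¹ = (k : G) * y * (k : G)⁻¹ := hse
    rwa [show c * y * c⁻¹ = g⁻¹ * ((k : G) * y * (k : G)⁻¹) * g by rw [hc]; group, ← hse',
      show g⁻¹ * (g * s * g⁻¹) * g = s by group]
  obtain ⟨r, hre⟩ := Finite.injective_iff_surjective.1
    (show Function.Injective (fun r : ↥R => (⟨c * r * c⁻¹, hcR r r.2⟩ : ↥R)) from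
      fun r s e => Subtype.ext (mul_left_cancel (mul_right_cancel (congrArg Subtype.val e))))
    ⟨z, hzR⟩
  have hrz : c * (r : G) * c⁻¹ = z := congrArg Subtype.val hre
  rw [← hcd] at hrz
  exact hdR (mul_left_cancel (mul_right_cancel hrz) ▸ r.2)

/-- No member outside `R` commutes with a 2-subgroup of `K` whose squares cover `R`. -/
theorem false_of_member_squares (h : ClosedSetting D Ω) {a : Ω} {K R S Y : Subgroup G}
    (hK : PointGroup D a K) (hab : ∃ b : Ω, b ≠ a) (hS : IsTopTwo S a)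
    (hsq : ∀ t ∈ S ⊓ K, t * t * (t * t) = 1 → t * t ∈ R)
    (hZ : omCentre (S ⊓ K) ≤ R) (hR : ∀ r ∈ R, r * r = 1) {d : G} (hd : d ∈ dat D a) (hdR : d ∉ R)
    (hY : IsPGroup 2 Y) (hYK : Y ≤ K) (hYd : ∀ y ∈ Y, Commute d y)
    (hcov : ∀ r ∈ R, r ≠ 1 → ∃ y ∈ Y, y * y = r) : False := by
  refine false_of_member_conj h hK hab hS ?_ hZ hd hdR hY hYK hYd
  intro c hca hc r hr
  by_cases h1 : r = 1
  · simp [h1]
  obtain ⟨y, hy, rfl⟩ := hcov r hr h1
  have hsqy : c * (y * y) * c⁻¹ = c * y * c⁻¹ * (c * y * c⁻¹) := by group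
  rw [hsqy]
  refine hsq _ (Subgroup.mem_inf.2 ⟨hc y hy, hK.conj c (mem_stabilizer_iff.2 hca) y (hYK hy)⟩) ?_
  rw [← hsqy, show c * (y * y) * c⁻¹ * (c * (y * y) * c⁻¹) = c * (y * y * (y * y)) * c⁻¹ by group,
    hR _ hr]
  group

end CfsgLib.LocalEven.OnePointFront.Nonfull
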