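import Cfsg.Agent.Lib.LocalEven.OnePointFront.Nonfull.Curved.SuzukiLevel
import Cfsg.Agent.Lib.LocalEven.OnePointFront.Nonfull.BStar

/-!
# Suzuki lines: the central involutions over a level

The central involutions of `S ⊓ K`, for a 2-subgroup `S` containing `x`, `Q` and a level `A`, lie
in `R`: such an involution commutes with `A` and `Q`, so it fixes the class.
-/

set_option autoImplicit false
set_option linter.style.haveILetI false
set_option linter.unusedSectionVars false

namespace CfsgLib.LocalEven.OnePointFront.Nonfull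

open MulAction CfsgLib.LocalEven.TIEndgame

universe u v

variable {G : Type u} [Group G] [Finite G] {Ω : Type v} [MulAction G Ω] {D : Set G} {a : Ω} {x : G}
  {K R Q J A S : Subgroup G} {i : ℕ}

/-- The central involutions of `S ⊓ K` lie in `R`. -/
theorem InvLevel.omCentre_le (L : InvLevel D a x K R Q J A i) (h : ClosedSetting D Ω)
    (hS : IsPGroup 2 S) (hxS : x ∈ S) (hQS : Q ≤ S) (hAS : A ≤ S) : omCentre (S ⊓ K) ≤ R := by
  have LC := L.line.toCurvedLine
  have hxinv : x⁻¹ = x := inv_eq_of_mul_eq_one_right L.x_sq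
  have hQT : Q ≤ S ⊓ K := le_inf hQS L.below
  have hAT : A ≤ S ⊓ K := le_inf hAS L.le
  have hW : IsPGroup 2 ↥(S ⊓ K : Subgroup G) := hS.to_le inf_le_left
  have hxT : x ∈ Subgroup.normalizer ((S ⊓ K : Subgroup G) : Set G) :=
    mem_normalizer_of_conj_mem fun t ht => Subgroup.mem_inf.2
      ⟨S.mul_mem (S.mul_mem hxS ht.1) (S.inv_mem hxS), LC.conj_K L.line.fix ht.2⟩
  intro z hz
  obtain ⟨hzT, hzz, hzc⟩ := hz
  have hzi : z⁻¹ = z := inv_eq_of_mul_eq_one_right hzz
  -- the translation by `z` is a central involution of `S ⊓ K` commuting with `x`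
  set s := shift x z with hs
  have hxz : x * z * x ∈ omCentre (S ⊓ K) := by
    have h1 := normalizer_le_omCentre (S ⊓ K) hxT
    have := (Subgroup.mem_normalizer_iff.1 h1 z).1 ⟨hzT, hzz, hzc⟩
    rwa [hxinv] at this
  have hse : s = (x * z * x) * z := by
    rw [hs, shift, hzi]; group
  have hsO : s ∈ omCentre (S ⊓ K) := hse ▸ mul_mem hxz ⟨hzT, hzz, hzc⟩
  have hsx : Commute x s := by
    have e : x * s * x = s := by
      calc x * s * x = (x * x) * z * (x * z * x) := by rw [hse]; group
        _ = z * (x * z * x) := by rw [L.x_sq, one_mul]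
        _ = s := by rw [hse, (hzc _ hxz.1).eq]
    show x * s = s * x
    calc x * s = x * s * (x * x) := by rw [L.x_sq, mul_one]
      _ = (x * s * x) * x := by group
      _ = s * x := by rw [e]
  have hsR : s ∈ R := LC.involution s
    (LC.mem_inf h hW inf_le_right (inf_le_right.trans hQT) hsO.1 hsx).2 hsO.2.1
  have hnorm : ∀ W : Subgroup G, W ≤ S ⊓ K → z ∈ Subgroup.normalizer (W : Set G) := fun W hWT =>
    Subgroup.centralizer_le_normalizer _
      (Subgroup.mem_centralizer_iff.2 fun y hy => (hzc y (hWT hy)).eq.symm)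
  have hzm : z ∈ L.moves := ⟨hzT.2, hnorm Q hQT, hnorm A hAT,
    fun r hr => hzc r (hQT (L.line.le hr)), L.R_le hsR⟩
  have hz1 : cls x i z = 1 := by
    obtain ⟨m, hm⟩ : ∃ m, i = m + 1 := Nat.exists_eq_add_of_le' L.pos
    rw [cls, hm, pow_succ', pow_mul, pow_two, ← hs, L.square.sq _ hsR, one_pow]
  refine L.invol z (L.mem_A_of_centr (L.two_zero h hW inf_le_right ?_ hzT hzm hz1)
    fun p hp => hzc p (hQT hp)) hzz
  exact L.kerGroup_eq ▸ sup_le hQT hAT

end CfsgLib.LocalEven.OnePointFront.Nonfull
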