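import Cfsg.Agent.Lib.LocalEven.OnePointFront.Nonfull.Curved.SuzukiLevel
import Cfsg.Agent.Lib.LocalEven.OnePointFront.Nonfull.Moved.ShearWeights

/-!
# Suzuki lines: a layer with locally inner shears centralises `Q` on every class

Otherwise only the trivial class has an element of the layer centralising `Q`.  The pairs
(class, shear) form a group invariant under the torus; averaging an additive section over the torus
gives an equivariant pairing `Q / R × R → R`, non-singular by `shear_surjective`.  So for some `r`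
the shear of class `r` takes `w` to `w²`, which is no commutator with `w`.
-/

set_option autoImplicit false
set_option linter.style.haveILetI false
set_option linter.unusedSectionVars false

namespace CfsgLib.LocalEven.OnePointFront.Nonfull

open MulAction CfsgLib.LocalEven.TIEndgame

universe u v

/-- An invariant group of shears onto `R` cannot avoid both zero and the square map. -/
theorem false_of_invariant_shears {E R : Type u} [AddCommGroup E] [AddCommGroup R] [Finite E]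
    [Finite R] (hE2 : ∀ e : E, e + e = 0) (hR2 : ∀ r : R, r + r = 0) (hR : 8 ≤ Nat.card R)
    (hev : Even (Nat.card R)) (sq : E → R) (hsq : Function.Bijective sq) (hsq0 : sq 0 = 0)
    (hPl : ∀ a b c : E, sq (a + b + c) + sq (a + b) + sq c =
      sq (a + c) + sq a + sq c + (sq (b + c) + sq b + sq c))
    (hP : ∃ a b : E, sq (a + b) ≠ sq a + sq b)
    (T : Set ((E ≃+ E) × (R ≃+ R))) (hTc : ∀ p ∈ T, ∀ q ∈ T, ∀ r, p.2 (q.2 r) = q.2 (p.2 r))
    (hTs : ∀ p ∈ T, ∀ e, sq (p.1 e) = p.2 (sq e))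
    (hTt : ∀ r s : R, r ≠ 0 → s ≠ 0 → ∃ p ∈ T, p.2 r = s)
    (U : AddSubgroup (R × (E → R))) (honto : ∀ r, ∃ φ, (r, φ) ∈ U)
    (hadd : ∀ p ∈ U, ∀ a b, p.2 (a + b) = p.2 a + p.2 b)
    (hU : ∀ t ∈ T, ∀ p ∈ U, (t.2 p.1, fun e => t.2 (p.2 (t.1.symm e))) ∈ U)
    (hz : ∀ r, (r, 0) ∈ U → r = 0) (hns : ∀ p ∈ U, ∀ e, p.2 e = sq e → e = 0) : False := by
  classical
  haveI : Fintype R := Fintype.ofFinite R
  haveI : Nontrivial R := Finite.one_lt_card_iff_nontrivial.1 (by omega)
  obtain ⟨r₀, hr₀⟩ := exists_ne (0 : R)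
  -- an additive section
  letI : Module (ZMod 2) R := AddCommGroup.zmodModule fun r => by rw [two_nsmul]; exact hR2 r
  letI : Module (ZMod 2) U := AddCommGroup.zmodModule fun p => by
    rw [two_nsmul]
    exact Subtype.ext (Prod.ext (hR2 _) (funext fun _ => hR2 _))
  let pr : U →ₗ[ZMod 2] R := ((AddMonoidHom.fst R (E → R)).comp U.subtype).toZModLinearMap 2
  obtain ⟨s, hs⟩ := pr.exists_rightInverse_of_surjective (LinearMap.range_eq_top.2 fun r => by
    obtain ⟨φ, hφ⟩ := honto r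
    exact ⟨⟨(r, φ), hφ⟩, rfl⟩)
  let f : R → E → R := fun r => (s r).1.2
  have hfU : ∀ r, (r, f r) ∈ U := fun r => by
    have e : (s r).1.1 = r := LinearMap.congr_fun hs r
    have h := (s r).2
    rwa [← Prod.mk.eta (p := (s r).1), e] at h
  have hf : ∀ r r' e, f (r + r') e = f r e + f r' e := fun r r' e => by
    simp only [f, map_add, AddSubgroup.coe_add, Prod.snd_add, Pi.add_apply]
  -- one element of the torus for each nonzero element
  choose kp hkT hk using fun i : {r : R // r ≠ 0} => hTt r₀ i hr₀ i.2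
  let β : E → R → R := fun e r => ∑ i, (kp i).2 (f ((kp i).2.symm r) ((kp i).1.symm e))
  have hmem : ∀ r, (r, fun e => β e r) ∈ U := by
    intro r
    have h := U.sum_mem (t := Finset.univ) fun i _ => hU _ (hkT i) _ (hfU ((kp i).2.symm r))
    convert h using 1
    refine Prod.ext ?_ (funext fun e => ?_)
    · obtain ⟨m, hm⟩ := hev
      have hc : Fintype.card {r : R // r ≠ 0} = m - 1 + (m - 1) + 1 := by
        have h1 : Fintype.card {r : R // r ≠ 0} = Nat.card R - 1 := by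
          simp [Fintype.card_subtype_compl, Nat.card_eq_fintype_card]
        omega
      simp only [Prod.fst_sum, AddEquiv.apply_symm_apply, Finset.sum_const, Finset.card_univ, hc,
        add_nsmul, hR2, one_nsmul, zero_add]
    · simp only [Prod.snd_sum, Finset.sum_apply, β]
  have hl : ∀ a b r, β (a + b) r = β a r + β b r := fun a b r => hadd _ (hmem r) a b
  have hr : ∀ e r r', β e (r + r') = β e r + β e r' := fun e r r' => by
    simp only [β, map_add, hf, Finset.sum_add_distrib]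
  have heq : ∀ p ∈ T, ∀ e r, β (p.1 e) (p.2 r) = p.2 (β e r) := by
    intro p hp e r
    let π : {r : R // r ≠ 0} ≃ {r : R // r ≠ 0} := p.2.toEquiv.subtypeEquiv fun r => by simp
    have hπ : ∀ i y, (kp (π i)).2 y = p.2 ((kp i).2 y) := fun i y => by
      by_cases hy : y = 0
      · simp [hy]
      obtain ⟨q, hq, rfl⟩ := hTt r₀ y hr₀ hy
      rw [hTc _ (hkT _) q hq, hk, hTc _ (hkT i) q hq, hTc p hp q hq, hk]
      rfl
    have hπE : ∀ i y, (kp (π i)).1 y = p.1 ((kp i).1 y) := fun i y =>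
      hsq.1 (by rw [hTs _ (hkT _), hTs p hp, hTs _ (hkT i), hπ])
    show ∑ i, _ = p.2 (∑ i, _)
    rw [map_sum]
    refine (Equiv.sum_comp π _).symm.trans (Finset.sum_congr rfl fun i _ => ?_)
    have e1 : (kp (π i)).2.symm (p.2 r) = (kp i).2.symm r :=
      (kp (π i)).2.injective (by rw [AddEquiv.apply_symm_apply, hπ, AddEquiv.apply_symm_apply])
    have e2 : (kp (π i)).1.symm (p.1 e) = (kp i).1.symm e :=
      (kp (π i)).1.injective (by rw [AddEquiv.apply_symm_apply, hπE, AddEquiv.apply_symm_apply])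
    rw [e1, e2, hπ]
  have hne : ∃ e r, β e r ≠ 0 := by
    by_contra hall
    push Not at hall
    refine hr₀ (hz r₀ ?_)
    have h := hmem r₀
    simp only [hall] at h
    exact h
  have hsurj := fun {w : R} (hw : w ≠ 0) => Moved.shear_surjective hE2 hR2 hR sq hsq hsq0 hPl hP T
    hTc hTs hTt β hl hr heq hne hw
  obtain ⟨e₀, he⟩ := hsq.2 r₀
  have he₀ : e₀ ≠ 0 := fun h => hr₀ (by rw [← he, h, hsq0])
  let B : R →+ R := AddMonoidHom.mk' (β e₀) (hr e₀)
  have hB : Function.Injective B := (injective_iff_map_eq_zero B).2 fun r h => by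
    by_contra hr1
    have hinj := (Finite.injective_iff_surjective_of_equiv (Equiv.ofBijective sq hsq)).2
      (hsurj hr1)
    have h0 : β 0 r = 0 := by simpa using hl 0 0 r
    exact he₀ (hinj (h.trans h0.symm))
  obtain ⟨r, hr'⟩ := Finite.injective_iff_surjective.1 hB (sq e₀)
  exact he₀ (hns _ (hmem r) e₀ hr')

variable {G : Type u} [Group G] [Finite G] {Ω : Type v} [MulAction G Ω] {D : Set G} {a : Ω}
  {x : G} {K R Q J A V : Subgroup G} {i : ℕ}

/-- If all shears are locally inner, every class has an element centralising `Q`. -/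
theorem Layer.exists_central (M : Layer D a x K R Q J A V i) (_h : ClosedSetting D Ω)
    (hli : ∀ b ∈ V, ∀ w ∈ Q, ∃ t ∈ Q, pol b w = pol w t) :
    ∀ r ∈ R, ∃ b ∈ V, (∀ w ∈ Q, Commute b w) ∧ cls x i b = r := by
  classical
  have L := M.level
  have S := L.square
  intro r₁ hr₁
  by_contra hno
  have hzero : ∀ b ∈ V, (∀ w ∈ Q, Commute b w) → cls x i b = 1 := by
    intro b hb hc
    by_contra hb1
    refine hno ?_
    rcases eq_or_ne r₁ 1 with rfl | h1
    · exact ⟨1, one_mem V, fun w _ => Commute.one_left w, L.cls_one⟩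
    obtain ⟨j, hj, e⟩ := L.line.trans_J _ (L.cls_mem (M.le hb)) r₁ hr₁ hb1 h1
    obtain ⟨g, -, hgx, hgQ, -, hgV, hgj⟩ := M.torus j hj
    refine ⟨_, (Subgroup.mem_normalizer_iff.1 hgV b).1 hb, fun w hw => ?_,
      (L.cls_conj hgx b).trans ((hgj _ (L.cls_mem (M.le hb))).trans e)⟩
    have h1 := (hc _ ((Subgroup.mem_normalizer_iff.1 (inv_mem hgQ) w).1 hw)).map
      (MulAut.conj g).toMonoidHom
    simpa [mul_assoc] using h1
  set R' := R.subgroupOf Q with hR'
  haveI hn : R'.Normal := ⟨fun r hr q => by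
    rw [hR', Subgroup.mem_subgroupOf] at hr ⊢
    push_cast
    rwa [(S.central q q.2 _ hr).eq, mul_inv_cancel_right]⟩
  letI : CommGroup (↥Q ⧸ R') :=
    { (inferInstance : Group (↥Q ⧸ R')) with
      mul_comm := by
        rintro ⟨p⟩ ⟨q⟩
        refine QuotientGroup.eq.2 (Subgroup.mem_subgroupOf.2 ?_)
        have h1 := S.pol_mem (inv_mem q.2) (inv_mem p.2)
        simpa [pol, mul_assoc] using h1 }
  letI : CommGroup R :=
    { (inferInstance : Group R) with
      mul_comm := fun p q => Subtype.ext (S.central p (S.le p.2) q q.2).eq }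
  let E := Additive (↥Q ⧸ R')
  let mk : Q → E := fun q => Additive.ofMul (q : ↥Q ⧸ R')
  let val : Additive R → G := fun u => ((Additive.toMul u : R) : G)
  have hEq : ∀ {u w : Additive R}, val u = val w → u = w := fun {u w} e =>
    congrArg Additive.ofMul (Subtype.ext e : Additive.toMul u = Additive.toMul w)
  have hrep : ∀ e : E, ∃ q : Q, mk q = e := fun e => by
    obtain ⟨q, hq⟩ := QuotientGroup.mk_surjective (Additive.toMul e)
    exact ⟨q, congrArg Additive.ofMul hq⟩
  have hout : ∀ q : Q, (q : G)⁻¹ * (((Additive.toMul (mk q)).out : Q) : G) ∈ R := fun q =>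
    Subgroup.mem_subgroupOf.1 (QuotientGroup.eq.1 (QuotientGroup.out_eq' (q : ↥Q ⧸ R')).symm)
  have hQR : ∀ q : Q, mk q = 0 ↔ (q : G) ∈ R := fun q =>
    (QuotientGroup.eq_one_iff q).trans Subgroup.mem_subgroupOf
  -- the square map
  let sq : E → Additive R := fun e => Additive.ofMul
    ⟨((Additive.toMul e).out : G) * (Additive.toMul e).out,
      S.sq_mem _ (Additive.toMul e).out.2⟩
  have hsqv : ∀ q : Q, val (sq (mk q)) = (q : G) * q := fun q => by
    set o : G := (((Additive.toMul (mk q)).out : Q) : G) with ho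
    show o * o = _
    rw [show o = q * ((q : G)⁻¹ * o) by group, S.mul_sq q.2 (S.le (hout q)),
      S.pol_R q.2 (hout q), mul_one, S.sq _ (hout q), mul_one]
  have hpol : ∀ p q : Q, val (sq (mk p + mk q) + sq (mk p) + sq (mk q)) = pol (p : G) q := by
    intro p q
    show val (sq (mk (p * q))) * val (sq (mk p)) * val (sq (mk q)) = _
    rw [hsqv, hsqv, hsqv, Subgroup.coe_mul, S.mul_sq p.2 q.2]
    have c1 : Commute (pol (p : G) q) ((q : G) * q) :=
      S.central _ (S.le (S.pol_mem p.2 q.2)) _ (S.sq_mem q q.2)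
    have c2 : Commute ((p : G) * p) (pol (p : G) q * (q * q)) :=
      S.central _ (S.le (S.sq_mem p p.2)) _ (mul_mem (S.pol_mem p.2 q.2) (S.sq_mem q q.2))
    rw [mul_assoc ((p : G) * p) (pol (p : G) q), c2.eq,
      mul_assoc (pol (p : G) q * ((q : G) * q)) ((p : G) * p) ((p : G) * p),
      S.sq _ (S.sq_mem p p.2), mul_one, mul_assoc, S.sq _ (S.sq_mem q q.2), mul_one]
  -- the lifts of the torus
  let Lift := {k : G // Commute x k ∧ k ∈ Subgroup.normalizer (Q : Set G) ∧
    k ∈ Subgroup.normalizer (V : Set G) ∧ ∃ j ∈ J, ∀ r ∈ R, k * r * k⁻¹ = j * r * j⁻¹}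
  let aQ : Lift → MulAut Q := fun k => Q.normalizerMonoidHom ⟨k, k.2.2.1⟩
  let aR : Lift → MulAut R := fun k =>
    R.normalizerMonoidHom ⟨k, L.line.toCurvedLine.mem_normalizer_R k.2.2.1⟩
  have hmapR : ∀ k : Lift, R'.map (aQ k).toMonoidHom = R' := fun k => by
    refine Subgroup.eq_of_le_of_card_ge ?_
      (Subgroup.card_map_of_injective (aQ k).injective).ge
    rintro _ ⟨q, hq, rfl⟩
    exact Subgroup.mem_subgroupOf.2 (aR k ⟨q, Subgroup.mem_subgroupOf.1 hq⟩).2
  let bQ : Lift → (↥Q ⧸ R' ≃* ↥Q ⧸ R') := fun k => QuotientGroup.congr R' R' (aQ k) (hmapR k)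
  let T : Set ((E ≃+ E) × (Additive R ≃+ Additive R)) :=
    Set.range fun k : Lift => ((bQ k).toAdditive, (aR k).toAdditive)
  -- the pairs (class, shear)
  let U : AddSubgroup (Additive R × (E → Additive R)) :=
    { carrier := {p | ∃ b ∈ V, val p.1 = cls x i b ∧ ∀ q : Q, val (p.2 (mk q)) = pol b q}
      zero_mem' := ⟨1, one_mem V, L.cls_one.symm, fun q => (M.pol_one (q : G)).symm⟩
      add_mem' := by
        rintro p p' ⟨b, hb, hc, hp⟩ ⟨b', hb', hc', hp'⟩
        refine ⟨b * b', mul_mem hb hb', ?_, fun q => ?_⟩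
        · rw [L.cls_mul (M.le hb) (M.le hb'), ← hc, ← hc']
          rfl
        · rw [M.pol_mul hb hb' q.2,
            (S.central _ (S.le (M.pol_mem hb' q.2)) _ (M.pol_mem hb q.2)).eq, ← hp, ← hp']
          rfl
      neg_mem' := by
        rintro p ⟨b, hb, hc, hp⟩
        refine ⟨b⁻¹, inv_mem hb, ?_, fun q => ?_⟩
        · rw [L.cls_inv (M.le hb), ← hc]
          exact S.inv_R (Additive.toMul p.1).2
        · rw [M.pol_inv hb q.2, ← hp]
          exact S.inv_R (Additive.toMul (p.2 (mk q))).2 }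
  obtain ⟨n, -, hn3, hcard⟩ := L.line.card_R
  refine false_of_invariant_shears (E := E) (R := Additive R) ?_ ?_ ?_ ?_ sq ?_ ?_ ?_ ?_ T ?_ ?_ ?_
    U ?_ ?_ ?_ ?_ ?_
  · intro e
    obtain ⟨q, rfl⟩ := hrep e
    exact (hQR (q * q)).2 (S.sq_mem q q.2)
  · exact fun u => hEq (S.sq _ (Additive.toMul u).2)
  · show 8 ≤ Nat.card R
    rw [hcard]
    exact le_trans (by norm_num : 8 ≤ 2 ^ 3) (Nat.pow_le_pow_right (by norm_num) hn3)
  · show Even (Nat.card R)
    rw [hcard]
    exact (Nat.even_pow.2 ⟨even_two, by omega⟩)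
  · refine ⟨fun e e' he => ?_, fun u => ?_⟩
    · obtain ⟨q, rfl⟩ := hrep e
      obtain ⟨q', rfl⟩ := hrep e'
      exact congrArg Additive.ofMul (QuotientGroup.eq.2 (Subgroup.mem_subgroupOf.2
        (L.line.sq_inj q q.2 q' q'.2 (by rw [← hsqv, ← hsqv, he]))))
    · obtain ⟨q, hq, e⟩ := L.line.sq_onto _ (Additive.toMul u).2
      exact ⟨mk ⟨q, hq⟩, hEq ((hsqv ⟨q, hq⟩).trans e)⟩
  · exact hEq ((hsqv 1).trans (one_mul 1))
  · intro e₁ e₂ e₃
    obtain ⟨p, rfl⟩ := hrep e₁
    obtain ⟨q, rfl⟩ := hrep e₂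
    obtain ⟨s, rfl⟩ := hrep e₃
    apply hEq
    show val (sq (mk (p * q) + mk s) + sq (mk (p * q)) + sq (mk s)) =
      val (sq (mk p + mk s) + sq (mk p) + sq (mk s)) *
        val (sq (mk q + mk s) + sq (mk q) + sq (mk s))
    rw [hpol, hpol, hpol]
    exact S.pol_mul_left p.2 q.2 s.2
  · by_contra hall
    push Not at hall
    refine L.line.ne (le_antisymm (fun g hg => L.mem_R_of_central hg fun w hw => ?_) S.le)
    have h1 := hpol ⟨g, hg⟩ ⟨w, hw⟩
    rw [hall, add_assoc (sq _), add_left_comm, ← add_assoc (sq _) (sq _) (sq _)] at h1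
    have h2 : pol g w = 1 := by
      rw [← h1]
      simp only [val, toMul_add, Subgroup.coe_mul]
      simp only [mul_assoc, S.sq _ (Additive.toMul (sq (mk ⟨w, hw⟩))).2, mul_one,
        S.sq _ (Additive.toMul (sq (mk ⟨g, hg⟩))).2]
    exact mul_inv_eq_iff_eq_mul.1 (mul_inv_eq_one.1 h2)
  · rintro _ ⟨k, rfl⟩ _ ⟨l, rfl⟩ u
    obtain ⟨j, hj, hkj⟩ := k.2.2.2.2
    obtain ⟨j', hj', hlj⟩ := l.2.2.2.2
    refine hEq ?_
    show (k : G) * ((l : G) * val u * (l : G)⁻¹) * (k : G)⁻¹ =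
      (l : G) * ((k : G) * val u * (k : G)⁻¹) * (l : G)⁻¹
    have hu : val u ∈ R := (Additive.toMul u).2
    rw [hlj _ hu, hkj _ hu, hkj _ (L.line.toCurvedLine.J_conj_R hj' hu),
      hlj _ (L.line.toCurvedLine.J_conj_R hj hu)]
    exact L.line.abel_J j hj j' hj' _ hu
  · rintro _ ⟨k, rfl⟩ e
    obtain ⟨q, rfl⟩ := hrep e
    refine hEq ?_
    show val (sq (mk (aQ k q))) = (k : G) * val (sq (mk q)) * (k : G)⁻¹
    rw [hsqv, hsqv]
    show (k : G) * q * (k : G)⁻¹ * ((k : G) * q * (k : G)⁻¹) = _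
    group
  · intro r s hr hs
    obtain ⟨j, hj, e⟩ := L.line.trans_J _ (Additive.toMul r).2 _ (Additive.toMul s).2
      (fun e => hr (hEq e)) (fun e => hs (hEq e))
    obtain ⟨g, -, hgx, hgQ, -, hgV, hgj⟩ := M.torus j hj
    exact ⟨_, ⟨⟨g, hgx, hgQ, hgV, j, hj, hgj⟩, rfl⟩,
      hEq ((hgj _ (Additive.toMul r).2).trans e)⟩
  · intro u
    obtain ⟨b, hb, e⟩ := M.onto _ (Additive.toMul u).2
    refine ⟨fun e => Additive.ofMul ⟨_, M.pol_mem hb (Additive.toMul e).out.2⟩, b, hb, e.symm,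
      fun q => ?_⟩
    show pol b (((Additive.toMul (mk q)).out : Q) : G) = _
    rw [← mul_inv_cancel_left (q : G) (((Additive.toMul (mk q)).out : Q) : G),
      M.pol_mul_right hb q.2 (S.le (hout q)), M.pol_R hb (hout q), mul_one]
  · rintro p ⟨b, hb, -, hp⟩ e e'
    obtain ⟨q, rfl⟩ := hrep e
    obtain ⟨q', rfl⟩ := hrep e'
    refine hEq ?_
    show val (p.2 (mk (q * q'))) = val (p.2 (mk q)) * val (p.2 (mk q'))
    rw [hp, hp, hp]
    exact M.pol_mul_right hb q.2 q'.2
  · rintro _ ⟨k, rfl⟩ p ⟨b, hb, hc, hp⟩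
    refine ⟨(k : G) * b * (k : G)⁻¹, (Subgroup.mem_normalizer_iff.1 k.2.2.2.1 b).1 hb, ?_,
      fun q => ?_⟩
    · rw [L.cls_conj k.2.1 b, ← hc]
      rfl
    · obtain ⟨q, rfl⟩ := (aQ k).surjective q
      have e : (bQ k).toAdditive.symm (mk (aQ k q)) = mk q :=
        (bQ k).toAdditive.symm_apply_apply (mk q)
      show (k : G) * val (p.2 ((bQ k).toAdditive.symm (mk (aQ k q)))) * (k : G)⁻¹ =
        pol ((k : G) * b * (k : G)⁻¹) ((k : G) * q * (k : G)⁻¹)
      rw [e, hp, pol, pol]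
      group
  · rintro u ⟨b, hb, hc, hp⟩
    exact hEq (hc.trans (hzero b hb fun w hw =>
      mul_inv_eq_iff_eq_mul.1 (mul_inv_eq_one.1 (hp ⟨w, hw⟩).symm)))
  · rintro p ⟨b, hb, -, hp⟩ e he
    obtain ⟨q, rfl⟩ := hrep e
    obtain ⟨t, ht, hpt⟩ := hli b hb q q.2
    have e1 : pol (q : G) t = q * q := by rw [← hpt, ← hp, he, hsqv]
    refine (hQR q).2 ?_
    have h1 : t⁻¹ * (t * q) ∈ R := L.line.sq_inj t ht _ (mul_mem ht q.2) (by
      rw [S.mul_sq ht q.2, ← S.pol_symm ht q.2, e1, mul_assoc, S.sq _ (S.sq_mem q q.2), mul_one])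
    rwa [inv_mul_cancel_left] at h1

end CfsgLib.LocalEven.OnePointFront.Nonfull
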