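import Cfsg.Agent.Lib.LocalEven.OnePointFront.Nonfull.Curved.SuzukiTwisted
import Cfsg.Agent.Lib.LocalEven.OnePointFront.Nonfull.BStar

/-!
# Suzuki lines: the top of a twisted layer

For a twisted layer `V` in `T = S ⊓ K` the centraliser of `R` in `T` is `V`, an element outside `V`
with square in `V` fixes few elements of `R`, and the commutative conjugates of `C` in `T` keep
their deepest powers in `R`.  So `T` normalises `R` and the conjugation of `R` is controlled; an
involution central in `T` is one of `C`, so lies in `R`.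
-/

set_option autoImplicit false
set_option linter.style.haveILetI false
set_option linter.unusedSectionVars false

namespace CfsgLib.LocalEven.OnePointFront.Nonfull

open MulAction CfsgLib.LocalEven.TIEndgame

universe u v

variable {G : Type u} [Group G] [Finite G] {Ω : Type v} [MulAction G Ω] {D : Set G} {a : Ω} {x : G}
  {K R Q J A V C S : Subgroup G} {i : ℕ}

namespace Twisted

variable (M : Twisted D a x K R Q J A V C S i) (h : ClosedSetting D Ω)
include M

theorem Q_C {c : G} (hc : c ∈ C) (hQ : c ∈ Q) : c ∈ R :=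
  M.layer.level.mem_R_of_central hQ fun _ hp => M.comm_Q c hc _ hp

/-- Two decompositions differ by an element of `R`. -/
theorem eq_mod {w w' u u' : G} (hw : w ∈ Q) (hw' : w' ∈ Q) (hu : u ∈ C) (hu' : u' ∈ C)
    (e : w * u = w' * u') : w⁻¹ * w' ∈ R := by
  refine M.Q_C (c := w⁻¹ * w') ?_ (mul_mem (inv_mem hw) hw')
  rw [show w⁻¹ * w' = u * u'⁻¹ by
    rw [eq_mul_inv_iff_mul_eq, mul_assoc, ← e, inv_mul_cancel_left]]
  exact mul_mem hu (inv_mem hu')

/-- What normalises the layer normalises `C`, its centre. -/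
theorem conj_C {g c : G} (hn : g ∈ Subgroup.normalizer (V : Set G)) (hc : c ∈ C) :
    g * c * g⁻¹ ∈ C := by
  have hz := (Subgroup.mem_normalizer_iff.1 hn c).1 (M.C_le hc)
  have hcent : ∀ b ∈ V, Commute (g * c * g⁻¹) b := fun b hb => by
    have h1 := (M.cent ((Subgroup.mem_normalizer_iff.1 (inv_mem hn) b).1 hb) hc).symm.map
      (MulAut.conj g).toMonoidHom
    simpa [mul_assoc] using h1
  obtain ⟨p, hp, d, hd, e⟩ := M.cover _ hz
  rw [← e] at hcent ⊢
  refine mul_mem (M.R_C (M.layer.level.mem_R_of_central hp fun q hq => ?_)) hd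
  have h1 := (hcent q (M.layer.Q_le hq)).mul_left (M.comm_Q d hd q hq).inv_left
  rwa [mul_inv_cancel_right] at h1

/-- The twist is a translation. -/
theorem shift_C {c : G} (hc : c ∈ C) : shift x c = x * c * x * c * (c⁻¹ * c⁻¹) := by
  simp only [shift]; group

theorem conj_x {p c : G} (hp : p ∈ Q) : x * (p * c) * x = p * (x * c * x * c) * c⁻¹ := by
  calc x * (p * c) * x = (x * p) * c * x := by group
    _ = (p * x) * c * x := by rw [(M.layer.level.line.comm p hp).eq]
    _ = _ := by group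

/-- The square of the `Q`-part of an inverted element. -/
theorem inverted_sq {p c : G} (hp : p ∈ Q) (hc : c ∈ C) (hi : x * (p * c) * x = (p * c)⁻¹) :
    p * p = x * c * x * c := by
  rw [M.conj_x hp, mul_inv_rev, ← ((M.comm_Q c hc p hp).inv_inv).symm.eq] at hi
  have h1 : p * (x * c * x * c) = p⁻¹ := mul_right_cancel hi
  have h2 : p * p * (x * c * x * c) = 1 := by rw [mul_assoc, h1, mul_inv_cancel]
  rw [eq_inv_of_mul_eq_one_left h2, M.layer.level.square.inv_R (M.twist c hc)]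

theorem x_inv : x⁻¹ = x := inv_eq_of_mul_eq_one_right M.layer.level.x_sq

theorem conj_x_K {k : G} (hk : k ∈ K) : x * k * x ∈ K := by
  have := M.layer.level.line.toCurvedLine.conj_K M.layer.level.line.fix hk
  rwa [M.x_inv] at this

theorem shift_mem_top {g : G} (hg : g ∈ S ⊓ K) : shift x g ∈ S ⊓ K := by
  have e : shift x g = x * g * x * g⁻¹ := by simp only [shift]; group
  rw [e]
  exact ⟨S.mul_mem (S.mul_mem (S.mul_mem M.x_mem hg.1) M.x_mem) (S.inv_mem hg.1),
    K.mul_mem (M.conj_x_K hg.2) (K.inv_mem hg.2)⟩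

include h in
/-- An element moving `x` inside `x C` lies in the layer. -/
theorem mem_V_of_shift {g : G} (hg : g ∈ S ⊓ K) (hs : shift x g ∈ C) : g ∈ V := by
  have L := M.layer.level
  obtain ⟨b, hb, e⟩ := M.layer.exists_shift (M.untwist _ hs (shift_inverted L.x_sq g))
  have hq := L.line.toCurvedLine.mem_inf h (V := S ⊓ K) (M.top.1.to_le inf_le_left) inf_le_right
    (le_inf ((inf_le_right.trans M.layer.Q_le).trans M.le_top) inf_le_left)
    (mul_mem (inv_mem (Subgroup.mem_inf.2 ⟨M.le_top hb, M.layer.le_K hb⟩)) hg)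
    ((shift_eq_iff L.x_sq).1 e)
  have := mul_mem hb (M.layer.Q_le hq.2)
  rwa [mul_inv_cancel_left] at this

include h in
/-- An element normalising `V` with translation `p c` carries `Q` into `Q A`. -/
theorem conj_form {g p c w : G} (hn : g ∈ Subgroup.normalizer (V : Set G)) (hp : p ∈ Q)
    (hc : c ∈ C) (hs : shift x g = p * c) (hw : w ∈ Q) :
    ∃ w' ∈ Q, ∃ u ∈ A, g * w * g⁻¹ = w' * u ∧
      g * (w * w) * g⁻¹ = w' * w' * pol p w' := by
  have N := M.layer
  have L := N.level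
  set z := g * w * g⁻¹ with hz
  set v := shift x g with hv
  have hvV : v ∈ V := hs ▸ mul_mem (N.Q_le hp) (M.C_le hc)
  have hzV : z ∈ V := (Subgroup.mem_normalizer_iff.1 hn w).1 (N.Q_le hw)
  have hxzx : x * z * x = v * z * v⁻¹ := by
    have hcz : Commute (x * v) z := by
      rw [hv, ← conj_eq_mul_shift L.x_sq, hz]
      have := (L.line.comm w hw).map (MulAut.conj g).toMonoidHom
      simpa [mul_assoc] using this
    calc x * z * x = x * (z * (x * v)) * v⁻¹ := by group
      _ = x * ((x * v) * z) * v⁻¹ := by rw [hcz.eq]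
      _ = (x * x) * (v * z) * v⁻¹ := by group
      _ = _ := by rw [L.x_sq, one_mul]
  obtain ⟨q, hq, d, hd, ezd⟩ := M.cover z hzV
  have hpolR : pol v z ∈ R := by
    have e : pol v z = pol p q := by
      rw [hs, ← ezd]
      have h1 : Commute (p * c) d := M.cent (mul_mem (N.Q_le hp) (M.C_le hc)) hd
      calc pol (p * c) (q * d) = p * (c * q) * d * (c⁻¹ * p⁻¹) * d⁻¹ * q⁻¹ := by
            simp only [pol]; group
        _ = p * (q * c) * d * (c⁻¹ * p⁻¹) * d⁻¹ * q⁻¹ := by rw [(M.comm_Q c hc q hq).eq]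
        _ = p * q * (c * d * c⁻¹) * p⁻¹ * d⁻¹ * q⁻¹ := by group
        _ = p * q * (d * p⁻¹) * d⁻¹ * q⁻¹ := by
          rw [(M.comm c hc d hd).eq, mul_inv_cancel_right]; group
        _ = p * q * (p⁻¹ * d) * d⁻¹ * q⁻¹ := by rw [((M.comm_Q d hd p hp).inv_right).eq]
        _ = _ := by simp only [pol]; group
    exact e ▸ L.square.pol_mem hp hq
  have hsz : shift x z = pol v z := by
    rw [shift_eq_disp, disp, hxzx]; rfl
  obtain ⟨m, hm⟩ : ∃ m, i = m + 1 := Nat.exists_eq_add_of_le' L.pos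
  have hcls : cls x i z = 1 := by
    rw [cls, hsz, hm, pow_succ', pow_mul, pow_two, L.square.sq _ hpolR, one_pow]
  obtain ⟨w', hw', u, hu, e⟩ := N.zero h hzV hcls
  refine ⟨w', hw', u, hu, e.symm, ?_⟩
  have huC := M.A_le hu
  have hδ : pol p w' ∈ R := L.square.pol_mem hp hw'
  have e2 : v * z * v⁻¹ = w' * (pol p w' * u) := by
    rw [hs, ← e]
    calc p * c * (w' * u) * (p * c)⁻¹ = p * (c * w' * (u * c⁻¹)) * p⁻¹ := by group
      _ = p * (w' * (c * u * c⁻¹)) * p⁻¹ := by rw [(M.comm_Q c hc w' hw').eq]; group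
      _ = p * w' * (u * p⁻¹) := by
        rw [(M.comm c hc u huC).eq, mul_inv_cancel_right]; group
      _ = p * w' * (p⁻¹ * u) := by rw [((M.comm_Q u huC p hp).inv_right).eq]
      _ = pol p w' * w' * u := by simp only [pol]; group
      _ = _ := by rw [← (L.line.central w' hw' _ hδ).eq, mul_assoc]
  have e1 : x * z * x = w' * u⁻¹ := by
    rw [← e]
    calc x * (w' * u) * x = (x * w') * u * x := by group
      _ = w' * (x * u * x) := by rw [(L.line.comm w' hw').eq]; group
      _ = _ := by rw [L.inv u hu]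
  have e3 : u⁻¹ = pol p w' * u := mul_left_cancel (e1.symm.trans (hxzx.trans e2))
  have e4 : u * u = pol p w' := by
    calc u * u = pol p w' * (pol p w' * u) * u := by
          rw [← mul_assoc (pol p w'), L.square.sq _ hδ, one_mul]
      _ = pol p w' := by rw [← e3, mul_assoc, inv_mul_cancel, mul_one]
  rw [← e4, ← (L.comm_Q u hu w' hw').mul_mul_mul_comm w' u, e, hz]
  group

include h in
/-- The map induced on `Q / R`. -/
theorem exists_map {g p c : G} (hn : g ∈ Subgroup.normalizer (V : Set G)) (hp : p ∈ Q)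
    (hc : c ∈ C) (hs : shift x g = p * c) :
    ∃ σ : G → G, (∀ w ∈ Q, σ w ∈ Q) ∧
      (∀ w ∈ Q, ∃ u ∈ A, g * w * g⁻¹ = σ w * u) ∧
      (∀ w ∈ Q, g * (w * w) * g⁻¹ = σ w * σ w * pol p (σ w)) ∧
      (∀ w ∈ Q, ∀ w' ∈ Q, (σ (w * w'))⁻¹ * (σ w * σ w') ∈ R) ∧ ∀ r ∈ R, σ r ∈ R := by
  have L := M.layer.level
  choose! σ hσ u hu he hsq using fun w (hw : w ∈ Q) => M.conj_form h hn hp hc hs hw
  refine ⟨σ, hσ, fun w hw => ⟨u w, hu w hw, he w hw⟩, hsq, fun w hw w' hw' => ?_, fun r hr => ?_⟩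
  · refine M.eq_mod (hσ _ (mul_mem hw hw')) (mul_mem (hσ w hw) (hσ w' hw'))
      (M.A_le (hu _ (mul_mem hw hw'))) (M.A_le (mul_mem (hu w hw) (hu w' hw'))) ?_
    rw [← he _ (mul_mem hw hw'), ← (L.comm_Q _ (hu w hw) _ (hσ w' hw')).mul_mul_mul_comm,
      ← he w hw, ← he w' hw']
    group
  · have hrQ := L.line.le hr
    have h1 := he r hrQ
    refine L.inter ?_ (hσ r hrQ)
    rw [show σ r = g * r * g⁻¹ * (u r)⁻¹ by rw [h1, mul_inv_cancel_right]]
    exact mul_mem (L.R_le (M.layer.conj_mem_R h hn hr)) (inv_mem (hu r hrQ))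

include h in
/-- If the square of `g` lies in `V`, at least a square root of `Q / R` is fixed. -/
theorem exists_fixed {g p c : G} (hn : g ∈ Subgroup.normalizer (V : Set G)) (hp : p ∈ Q)
    (hc : c ∈ C) (hs : shift x g = p * c) (hgg : g * g ∈ V) :
    ∃ E : Subgroup G, E ≤ Q ∧ Nat.card Q * Nat.card R ≤ Nat.card E * Nat.card E ∧
      ∀ e ∈ E, g * (e * e) * g⁻¹ = e * e * pol p e := by
  have L := M.layer.level
  obtain ⟨σ, hσ, hA, hsq, hmul, hσR⟩ := M.exists_map h hn hp hc hs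
  obtain ⟨E, -, hEQ, hE, hcard⟩ := L.square.exists_fixed_map σ hσ hmul hσR fun w hw => by
    obtain ⟨u, hu, e⟩ := hA w hw
    obtain ⟨u', hu', e'⟩ := hA _ (hσ w hw)
    obtain ⟨q, hq, d, hd, ed⟩ := M.cover _ hgg
    have hpol : pol q w ∈ R := L.square.pol_mem hq hw
    refine M.eq_mod hw (hσ _ (hσ w hw)) (M.R_C hpol)
      (mul_mem (M.A_le hu') (M.conj_C hn (M.A_le hu))) ?_
    calc w * pol q w = pol q w * w := (L.line.central w hw _ hpol).eq
      _ = q * w * q⁻¹ := by simp only [pol]; group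
      _ = q * (d * w * d⁻¹) * q⁻¹ := by rw [(M.comm_Q d hd w hw).eq, mul_inv_cancel_right]
      _ = (g * g) * w * (g * g)⁻¹ := by rw [← ed]; group
      _ = (g * σ w * g⁻¹) * (g * u * g⁻¹) := by
        rw [show (g * g) * w * (g * g)⁻¹ = g * (g * w * g⁻¹) * g⁻¹ by group, e]; group
      _ = _ := by rw [e', mul_assoc]
  refine ⟨E, hEQ, hcard, fun e he => ?_⟩
  obtain ⟨heQ, hr⟩ := (hE e).1 he
  set r := e⁻¹ * σ e with hr'
  have hσe : σ e = e * r := by rw [hr', mul_inv_cancel_left]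
  rw [hsq e heQ, hσe, L.square.mul_sq heQ (L.line.le hr), L.square.pol_R heQ hr,
    L.square.sq r hr, L.square.pol_mul_right hp heQ (L.line.le hr), L.square.pol_R hp hr, mul_one,
    mul_one, mul_one]

theorem rank : ∃ n : ℕ, Odd n ∧ 3 ≤ n ∧ Nat.card R = 2 ^ n := M.layer.level.line.card_R

/-- Pairing with an element outside `R` has kernel at most twice `R`. -/
theorem card_le_of_pol {p : G} (hp : p ∈ Q) (hpR : p ∉ R) {E H : Subgroup G} (hE : E ≤ Q)
    (himg : ∀ e ∈ E, pol p e ∈ H) : Nat.card E ≤ 2 * Nat.card R * Nat.card H := by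
  classical
  have L := M.layer.level.line
  set Sq := M.layer.level.square
  let f : ↥E →* ↥R :=
    { toFun := fun t => ⟨pol p t, Sq.pol_mem hp (hE t.2)⟩
      map_one' := Subtype.ext (SquareGroup.pol_one_right p)
      map_mul' := fun t t' => Subtype.ext (Sq.pol_mul_right hp (hE t.2) (hE t'.2)) }
  obtain ⟨E', hE'⟩ := Sq.exists_extend L.le le_rfl hp
  have hker : Nat.card f.ker ≤ 2 * Nat.card R := by
    rw [← Sq.card_extend hpR hE', ← Subgroup.card_map_of_injective E.subtype_injective]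
    refine Subgroup.card_le_of_le ?_
    rintro _ ⟨k, hk, rfl⟩
    have hk1 : pol p (k : G) = 1 := congrArg Subtype.val hk
    have hcomm : Commute p (k : G) := mul_inv_eq_iff_eq_mul.1 (mul_inv_eq_one.1 hk1)
    rw [hE']
    rcases L.sq_comm p hp hpR k (hE k.2) hcomm with h1 | h1
    · exact Or.inl h1
    · refine Or.inr ?_
      show (k : G) * p⁻¹ ∈ R
      rw [show (k : G) * p⁻¹ = p * (p⁻¹ * k) * p⁻¹ by group, (L.central p hp _ h1).eq,
        mul_inv_cancel_right]
      exact h1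
  have hrange : Nat.card f.range ≤ Nat.card H := by
    rw [← Subgroup.card_map_of_injective R.subtype_injective]
    refine Subgroup.card_le_of_le ?_
    rintro _ ⟨_, ⟨t, rfl⟩, rfl⟩
    exact himg t t.2
  rw [Subgroup.card_eq_card_quotient_mul_card_subgroup f.ker,
    Nat.card_congr (QuotientGroup.quotientKerEquivRange f).toEquiv, mul_comm]
  exact Nat.mul_le_mul hker hrange

include h in
/-- An element of `S ⊓ K` centralising `R` lies in the layer. -/
theorem cent_R {g : G} (hg : g ∈ S ⊓ K) (hgR : ∀ r ∈ R, Commute g r) : g ∈ V := by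
  classical
  have N := M.layer
  have L := N.level
  have hxR : ∀ r ∈ R, Commute x r := fun r hr => L.line.comm r (L.line.le hr)
  suffices hsub : S ⊓ (K ⊓ Subgroup.centralizer (R : Set G)) ≤ V from
    hsub ⟨hg.1, hg.2, Subgroup.mem_centralizer_iff.2 fun r hr => (hgR r hr).eq.symm⟩
  by_contra hsub
  obtain ⟨g, ⟨hgS, hgK, hgC⟩, hgV, hn, hd⟩ := exists_growth (K := K ⊓ Subgroup.centralizer (R : Set G))
    (A := V) L.x_sq M.x_mem M.top.1
    (fun k hk => ⟨M.conj_x_K hk.1, mul_mem (mul_mem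
        (Subgroup.mem_centralizer_iff.2 fun r hr => (hxR r hr).eq.symm) hk.2)
        (Subgroup.mem_centralizer_iff.2 fun r hr => (hxR r hr).eq.symm)⟩)
    (fun hk => L.line.toCurvedLine.x_notMem h hk.1)
    (le_inf M.le_top fun b hb => ⟨N.le_K hb,
      Subgroup.mem_centralizer_iff.2 fun r hr => ((N.le hb).2.2.2.1 r hr).eq.symm⟩)
    (fun v hv => by
      have := (Subgroup.mem_normalizer_iff.1 N.x_mem v).1 hv
      rwa [M.x_inv] at this) hsub
  have hgT : g ∈ S ⊓ K := ⟨hgS, hgK⟩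
  rw [← shift_eq_disp] at hd
  obtain ⟨p, hp, c, hc, e⟩ := M.cover _ hd
  have hpR : p ∉ R := fun hpR => hgV (M.mem_V_of_shift h hgT (e ▸ mul_mem (M.R_C hpR) hc))
  have hgR : ∀ r ∈ R, g * r * g⁻¹ = r := fun r hr => by
    rw [← Subgroup.mem_centralizer_iff.1 hgC r hr, mul_inv_cancel_right]
  obtain ⟨σ, hσ, hA, hsq, -, -⟩ := M.exists_map h hn hp hc e.symm
  have hs := hσ p hp
  have hps : p * σ p ∈ R := by
    refine L.line.involution _ (mul_mem hp hs) ?_
    have h1 := hsq p hp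
    rw [hgR _ (L.line.sq_mem p hp)] at h1
    rw [L.square.mul_sq hp hs, mul_assoc, ← (L.line.central _ (mul_mem hs hs) _
      (L.square.pol_mem hp hs)).eq, ← h1, L.square.sq _ (L.line.sq_mem p hp)]
  obtain ⟨u, hu, eu⟩ := hA p hp
  have hgg : g * g ∈ V := by
    refine M.mem_V_of_shift h (mul_mem hgT hgT) ?_
    rw [shift_mul L.x_sq, ← e, show g * (p * c) * g⁻¹ = (g * p * g⁻¹) * (g * c * g⁻¹) by group, eu,
      show p * c * (σ p * u * (g * c * g⁻¹)) = p * (c * σ p) * (u * (g * c * g⁻¹)) by group,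
      (M.comm_Q c hc _ hs).eq,
      show p * (σ p * c) * (u * (g * c * g⁻¹)) = (p * σ p) * (c * (u * (g * c * g⁻¹))) by group]
    exact mul_mem (M.R_C hps) (mul_mem hc (mul_mem (M.A_le hu) (M.conj_C hn hc)))
  obtain ⟨E, hEQ, hcard, hE⟩ := M.exists_fixed h hn hp hc e.symm hgg
  have hle := M.card_le_of_pol (H := ⊥) hp hpR hEQ fun t ht => Subgroup.mem_bot.2 (by
    have h1 := hE t ht
    rw [hgR _ (L.line.sq_mem t (hEQ ht)), left_eq_mul] at h1
    exact h1)
  rw [Subgroup.card_bot, mul_one] at hle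
  obtain ⟨n, -, hn3, hq⟩ := M.rank
  have h8 : 8 ≤ Nat.card R := hq ▸ (Nat.pow_le_pow_right two_pos hn3 : 2 ^ 3 ≤ 2 ^ n)
  rw [L.line.card_Q, pow_two] at hcard
  have h2 := hcard.trans (Nat.mul_le_mul hle hle)
  nlinarith


theorem le_normTop : V ≤ S ⊓ K ⊓ Subgroup.normalizer (R : Set G) :=
  le_inf (le_inf M.le_top M.layer.le_K) fun b hb => mem_normalizer_of_conj_mem fun r hr => by
    rw [M.layer.conj_R hb hr]; exact hr

include h in
theorem normTop_V {g : G} (hg : g ∈ S ⊓ K ⊓ Subgroup.normalizer (R : Set G)) :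
    g ∈ Subgroup.normalizer (V : Set G) :=
  mem_normalizer_of_conj_mem fun b hb => M.cent_R h
    (mul_mem (mul_mem hg.1 (Subgroup.mem_inf.2 ⟨M.le_top hb, M.layer.le_K hb⟩)) (inv_mem hg.1))
    fun r hr => by
      have hr' := (Subgroup.mem_normalizer_iff.1 (inv_mem hg.2) r).1 hr
      have := ((M.layer.le hb).2.2.2.1 _ hr').map (MulAut.conj g).toMonoidHom
      simpa [mul_assoc] using this

include h in
theorem normTop_shift {g : G} (hg : g ∈ S ⊓ K ⊓ Subgroup.normalizer (R : Set G)) :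
    shift x g ∈ V := by
  refine M.cent_R h (M.shift_mem_top hg.1) fun r hr => ?_
  have hr' : g⁻¹ * r * g ∈ R := by
    have := (Subgroup.mem_normalizer_iff.1 (inv_mem hg.2) r).1 hr
    rwa [inv_inv] at this
  have hxr : Commute x r := M.layer.level.line.comm r (M.layer.level.line.le hr)
  have h1 : Commute (g * x * g⁻¹) r := by
    have := (M.layer.level.line.comm _ (M.layer.level.line.le hr')).map (MulAut.conj g).toMonoidHom
    simpa [mul_assoc] using this
  exact hxr.mul_left h1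

include h in
theorem card_normTop : Nat.card ↥(S ⊓ K ⊓ Subgroup.normalizer (R : Set G)) ≤
    Nat.card R * Nat.card V := by
  classical
  have N := M.layer
  have L := N.level
  set P := S ⊓ K ⊓ Subgroup.normalizer (R : Set G) with hP
  have hQP : Q ≤ P := N.Q_le.trans M.le_normTop
  have hf : ∀ g ∈ P, ∀ k ∈ P, shift x g = shift x k ↔ g⁻¹ * k ∈ Q := by
    intro g hg k hk
    rw [shift_eq_iff L.x_sq]
    exact ⟨fun hc => (L.line.toCurvedLine.mem_inf h (V := P)
        (M.top.1.to_le (inf_le_left.trans inf_le_left)) (inf_le_left.trans inf_le_right)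
        (inf_le_right.trans hQP) (mul_mem (inv_mem hg) hk) hc).2,
      fun hq => L.line.comm _ hq⟩
  have h1 := card_fibres hQP (shift x) hf
  choose! root hroot hroot' using L.line.sq_onto
  have h2 : Nat.card (shift x '' (P : Set G) : Set G) ≤ Nat.card C := by
    let f : C → G := fun c => root (x * c * x * c) * c
    refine le_trans ?_ (Nat.card_le_card_of_surjective (Set.rangeFactorization f)
      Set.rangeFactorization_surjective)
    refine Nat.card_mono (Set.toFinite _) ?_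
    rintro _ ⟨g, hg, rfl⟩
    obtain ⟨p, hp, c, hc, e⟩ := M.cover _ (M.normTop_shift h hg)
    have hp2 := M.inverted_sq hp hc (e ▸ shift_inverted L.x_sq g)
    set s := root (x * c * x * c)
    have hs : s ∈ Q := hroot _ (M.twist c hc)
    have hsR : s⁻¹ * p ∈ R := L.line.sq_inj s hs p hp ((hroot' _ (M.twist c hc)).trans hp2.symm)
    have hsC : s⁻¹ * p * c ∈ C := mul_mem (M.R_C hsR) hc
    refine ⟨⟨_, hsC⟩, ?_⟩
    show root (x * (s⁻¹ * p * c) * x * (s⁻¹ * p * c)) * (s⁻¹ * p * c) = shift x g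
    have e2 : x * (s⁻¹ * p * c) * x * (s⁻¹ * p * c) = x * c * x * c := by
      rw [M.conj_x (L.line.le hsR)]
      have hρ := M.twist c hc
      calc s⁻¹ * p * (x * c * x * c) * c⁻¹ * (s⁻¹ * p * c)
          = s⁻¹ * p * (x * c * x * c) * (c⁻¹ * (s⁻¹ * p)) * c := by group
        _ = s⁻¹ * p * ((x * c * x * c) * (s⁻¹ * p)) * (c⁻¹ * c) := by
          rw [((M.comm_Q c hc _ (L.line.le hsR)).inv_left).eq]; group
        _ = (s⁻¹ * p) * (s⁻¹ * p) * (x * c * x * c) := by
          rw [← (L.line.central _ (L.line.le hsR) _ hρ).eq]; group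
        _ = _ := by rw [L.square.sq _ hsR, one_mul]
    rw [e2, ← e]
    show s * (s⁻¹ * p * c) = p * c
    group
  have h3 : Nat.card Q * Nat.card C ≤ Nat.card R * Nat.card V := by
    have hQC : Q ⊓ C = R := le_antisymm (fun y hy => M.Q_C hy.2 hy.1) (le_inf L.line.le M.R_C)
    have e1 := Subgroup.relIndex_mul_relIndex (⊥ : Subgroup G) (C ⊓ Q) Q bot_le inf_le_right
    rw [Subgroup.relIndex_bot_left, Subgroup.inf_relIndex_right, inf_comm, hQC,
      Subgroup.relIndex_bot_left] at e1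
    have e2 := Subgroup.relIndex_mul_relIndex (⊥ : Subgroup G) C V bot_le M.C_le
    rw [Subgroup.relIndex_bot_left, Subgroup.relIndex_bot_left] at e2
    have e3 : C.relIndex Q ≤ C.relIndex V :=
      Subgroup.relIndex_le_of_le_right N.Q_le (Subgroup.index_ne_zero_of_finite (H := C.subgroupOf V))
    calc Nat.card Q * Nat.card C = Nat.card R * C.relIndex Q * Nat.card C := by rw [e1]
      _ ≤ Nat.card R * C.relIndex V * Nat.card C :=
        Nat.mul_le_mul_right _ (Nat.mul_le_mul_left _ e3)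
      _ = _ := by rw [← e2]; ring
  rw [h1]
  exact (Nat.mul_le_mul_left _ h2).trans h3

include h in
/-- An element of the normaliser of `R` outside `V`, with square in `V`, fixes few of `R`. -/
theorem card_fix {g : G} (hg : g ∈ S ⊓ K ⊓ Subgroup.normalizer (R : Set G)) (hgV : g ∉ V)
    (hgg : g * g ∈ V) :
    Nat.card ↥(R ⊓ Subgroup.centralizer ({g} : Set G)) *
      Nat.card ↥(R ⊓ Subgroup.centralizer ({g} : Set G)) ≤ 2 * Nat.card R := by
  classical
  haveI : Fact (Nat.Prime 2) := ⟨Nat.prime_two⟩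
  have L := M.layer.level
  obtain ⟨p, hp, c, hc, e⟩ := M.cover _ (M.normTop_shift h hg)
  have hpR : p ∉ R := fun hpR => hgV (M.mem_V_of_shift h hg.1 (e ▸ mul_mem (M.R_C hpR) hc))
  obtain ⟨E, hEQ, hcard, hE⟩ := M.exists_fixed h (M.normTop_V h hg) hp hc e.symm hgg
  have hgr : ∀ r ∈ R, g * r * g⁻¹ ∈ R := fun r hr => (Subgroup.mem_normalizer_iff.1 hg.2 r).1 hr
  let f : ↥R →* ↥R := MonoidHom.mk' (fun r => r * ⟨g * r * g⁻¹, hgr r r.2⟩) fun r s => Subtype.ext (by
    show (r : G) * s * (g * (r * s) * g⁻¹) = r * (g * r * g⁻¹) * (s * (g * s * g⁻¹))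
    calc (r : G) * s * (g * (r * s) * g⁻¹)
        = r * (s * (g * r * g⁻¹)) * (g * s * g⁻¹) := by group
      _ = _ := by rw [(L.line.central _ (L.line.le s.2) _ (hgr r r.2)).eq]; group)
  set H := f.range.map R.subtype with hH
  have hle := M.card_le_of_pol (H := H) hp hpR hEQ fun t ht => by
    refine ⟨f ⟨t * t, L.line.sq_mem t (hEQ ht)⟩, ⟨_, rfl⟩, ?_⟩
    show t * t * (g * (t * t) * g⁻¹) = pol p t
    rw [hE t ht, ← mul_assoc, L.square.sq _ (L.line.sq_mem t (hEQ ht)), one_mul]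
  have hker : Nat.card ↥(R ⊓ Subgroup.centralizer ({g} : Set G)) ≤ Nat.card f.ker := by
    rw [← (Subgroup.card_map_of_injective R.subtype_injective :
      Nat.card (f.ker.map R.subtype) = Nat.card f.ker)]
    refine Subgroup.card_le_of_le fun r hr => ⟨⟨r, hr.1⟩, Subtype.ext ?_, rfl⟩
    show r * (g * r * g⁻¹) = 1
    rw [← Subgroup.mem_centralizer_singleton_iff.1 hr.2, mul_inv_cancel_right]
    exact L.square.sq r hr.1
  have hHc : Nat.card H * Nat.card ↥(R ⊓ Subgroup.centralizer ({g} : Set G)) ≤ Nat.card R := by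
    rw [hH, Subgroup.card_map_of_injective R.subtype_injective,
      Subgroup.card_eq_card_quotient_mul_card_subgroup f.ker,
      Nat.card_congr (QuotientGroup.quotientKerEquivRange f).toEquiv]
    exact Nat.mul_le_mul_left _ hker
  set q := Nat.card R with hq
  set k := Nat.card ↥(R ⊓ Subgroup.centralizer ({g} : Set G))
  have hq0 : 0 < q := Nat.card_pos
  have h1 : q * q * q * (k * k) ≤ q * q * q * (4 * q) := by
    calc q * q * q * (k * k) ≤ Nat.card E * Nat.card E * (k * k) := Nat.mul_le_mul_right _ (by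
          rw [L.line.card_Q, pow_two] at hcard; exact hcard)
      _ ≤ (2 * q * Nat.card H) * (2 * q * Nat.card H) * (k * k) :=
        Nat.mul_le_mul_right _ (Nat.mul_le_mul hle hle)
      _ = (2 * q) * (2 * q) * ((Nat.card H * k) * (Nat.card H * k)) := by ring
      _ ≤ (2 * q) * (2 * q) * (q * q) := Nat.mul_le_mul_left _ (Nat.mul_le_mul hHc hHc)
      _ = _ := by ring
  have h2 := Nat.le_of_mul_le_mul_left h1 (by positivity)
  obtain ⟨n, hodd, -, hn⟩ := M.rank
  obtain ⟨m, hm⟩ := ((L.line.two.to_le L.line.le).to_le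
    (inf_le_left : R ⊓ Subgroup.centralizer ({g} : Set G) ≤ R)).exists_card_eq
  change k = 2 ^ m at hm
  rw [hm, hq, hn, ← pow_add, show (4 : ℕ) = 2 ^ 2 by norm_num, ← pow_add] at h2
  have h3 := (Nat.pow_le_pow_iff_right one_lt_two).1 h2
  obtain ⟨t, rfl⟩ := hodd
  rw [hm, hq, hn, ← pow_add, ← pow_succ']
  exact Nat.pow_le_pow_right two_pos (by omega)

include h in
/-- An element outside `V` fixes fewer of `R` than its square. -/
theorem two_mul_fix {b : G} (hb : b ∈ S ⊓ K ⊓ Subgroup.normalizer (R : Set G)) (hbV : b ∉ V) :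
    2 * Nat.card ↥(R ⊓ Subgroup.centralizer ({b} : Set G)) ≤
      Nat.card ↥(R ⊓ Subgroup.centralizer ({b * b} : Set G)) := by
  classical
  haveI : Fact (Nat.Prime 2) := ⟨Nat.prime_two⟩
  have L := M.layer.level
  have hle : R ⊓ Subgroup.centralizer ({b} : Set G) ≤ R ⊓ Subgroup.centralizer ({b * b} : Set G) := by
    intro r hr
    have hc : Commute r b := Subgroup.mem_centralizer_singleton_iff.1 hr.2
    exact ⟨hr.1, Subgroup.mem_centralizer_singleton_iff.2 (hc.mul_right hc).eq⟩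
  have hne : R ⊓ Subgroup.centralizer ({b} : Set G) ≠ R ⊓ Subgroup.centralizer ({b * b} : Set G) := by
    intro e
    refine hbV (M.cent_R h hb.1 fun r hr => ?_)
    have hbn : ∀ (j : ℕ) (r : G), r ∈ R → b ^ 2 ^ j * r * (b ^ 2 ^ j)⁻¹ ∈ R := fun j r hr =>
      (Subgroup.mem_normalizer_iff.1 (pow_mem hb.2 _) r).1 hr
    have key : ∀ (j : ℕ) (r : G), r ∈ R → b ^ 2 ^ j * r * (b ^ 2 ^ j)⁻¹ = r → Commute b r := by
      intro j
      induction j with
      | zero =>
        intro r hr e1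
        rw [pow_zero, pow_one, mul_inv_eq_iff_eq_mul] at e1
        exact e1
      | succ j ih =>
        intro r hr e1
        set y := b ^ 2 ^ j with hy
        rw [pow_succ, pow_mul, ← hy, pow_two] at e1
        set s := r * (y * r * y⁻¹) with hs
        have hsR : s ∈ R := mul_mem hr (hbn j r hr)
        have hcs : Commute b s := ih s hsR (by
          rw [hs, show y * (r * (y * r * y⁻¹)) * y⁻¹ = (y * r * y⁻¹) * (y * y * r * (y * y)⁻¹)
            by group, e1]
          exact (L.line.central _ (L.line.le (hbn j r hr)) _ hr).eq)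
        set t := r * (b * r * b⁻¹) with ht
        have hbr : b * r * b⁻¹ ∈ R := by simpa using hbn 0 r hr
        have htR : t ∈ R := mul_mem hr hbr
        have hct : Commute b t := ih t htR (by
          have e2 : b * s * b⁻¹ = s := by rw [hcs.eq, mul_inv_cancel_right]
          have hby : Commute b y := (Commute.refl b).pow_right _
          have e3 : b * (y * r * y⁻¹) * b⁻¹ = y * (b * r * b⁻¹) * y⁻¹ := by
            calc b * (y * r * y⁻¹) * b⁻¹ = (b * y) * r * (b * y)⁻¹ := by group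
              _ = _ := by rw [hby.eq]; group
          rw [hs, show b * (r * (y * r * y⁻¹)) * b⁻¹ = (b * r * b⁻¹) * (b * (y * r * y⁻¹) * b⁻¹) by group,
            e3] at e2
          rw [ht, show y * (r * (b * r * b⁻¹)) * y⁻¹ = (y * r * y⁻¹) * (y * (b * r * b⁻¹) * y⁻¹)
            by group]
          have hR1 := hbn j r hr
          have hR2 := hbn j _ hbr
          calc y * r * y⁻¹ * (y * (b * r * b⁻¹) * y⁻¹)
              = y * r * y⁻¹ * ((b * r * b⁻¹)⁻¹ * ((b * r * b⁻¹) * (y * (b * r * b⁻¹) * y⁻¹))) := by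
                rw [inv_mul_cancel_left]
            _ = y * r * y⁻¹ * ((b * r * b⁻¹) * (r * (y * r * y⁻¹))) := by
                rw [e2, L.square.inv_R hbr]
            _ = (y * r * y⁻¹) * (b * r * b⁻¹ * r) * (y * r * y⁻¹) := by group
            _ = (b * r * b⁻¹ * r) * (y * r * y⁻¹) * (y * r * y⁻¹) := by
                rw [(L.line.central _ (L.line.le hR1) _ (mul_mem hbr hr)).eq]
            _ = _ := by
                rw [mul_assoc, L.square.sq _ hR1, mul_one,
                  (L.line.central _ (L.line.le hbr) _ hr).eq])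
        have e4 : r ∈ R ⊓ Subgroup.centralizer ({b * b} : Set G) := by
          refine ⟨hr, Subgroup.mem_centralizer_singleton_iff.2 ?_⟩
          have e5 : b * t * b⁻¹ = t := by rw [hct.eq, mul_inv_cancel_right]
          rw [ht, show b * (r * (b * r * b⁻¹)) * b⁻¹ = (b * r * b⁻¹) * (b * b * r * (b * b)⁻¹) by group,
            (L.line.central _ (L.line.le hr) _ hbr).eq] at e5
          exact (mul_inv_eq_iff_eq_mul.1 (mul_left_cancel e5)).symm
        rw [← e] at e4
        exact (Subgroup.mem_centralizer_singleton_iff.1 e4.2).symm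
    obtain ⟨j, hj⟩ := (M.top.1 ⟨b, hb.1.1⟩)
    have hj' : b ^ 2 ^ j = 1 := congrArg Subtype.val hj
    exact key j r hr (by rw [hj']; group)
  obtain ⟨m₁, hm₁⟩ := ((L.line.two.to_le L.line.le).to_le
    (inf_le_left : R ⊓ Subgroup.centralizer ({b} : Set G) ≤ R)).exists_card_eq
  obtain ⟨m₂, hm₂⟩ := ((L.line.two.to_le L.line.le).to_le
    (inf_le_left : R ⊓ Subgroup.centralizer ({b * b} : Set G) ≤ R)).exists_card_eq
  have hlt : m₁ < m₂ := by
    by_contra hge
    exact hne (Subgroup.eq_of_le_of_card_ge hle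
      (by rw [hm₁, hm₂]; exact Nat.pow_le_pow_right two_pos (by omega)))
  rw [hm₁, hm₂, ← pow_succ']
  exact Nat.pow_le_pow_right two_pos hlt

include h in
/-- A conjugate of `C` in the normaliser of `R` has its deepest powers in `R`. -/
theorem conj_R_of_le {c : G}
    (hc : ∀ y ∈ C, c * y * c⁻¹ ∈ S ⊓ K ⊓ Subgroup.normalizer (R : Set G)) :
    ∀ r ∈ R, c * r * c⁻¹ ∈ R := by
  classical
  haveI : Fact (Nat.Prime 2) := ⟨Nat.prime_two⟩
  have N := M.layer
  have L := N.level
  set P := S ⊓ K ⊓ Subgroup.normalizer (R : Set G) with hP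
  set A₁ := C.map (MulAut.conj c).toMonoidHom with hA₁
  have hAP : A₁ ≤ P := by rintro _ ⟨y, hy, rfl⟩; exact hc y hy
  have hcomm : ∀ u ∈ A₁, ∀ v ∈ A₁, Commute u v := by
    rintro _ ⟨u, hu, rfl⟩ _ ⟨v, hv, rfl⟩
    exact (M.comm u hu v hv).map _
  suffices hkey : ∀ y ∈ A₁, y ^ 2 ^ i ∈ V by
    intro r hr
    obtain ⟨y, hy, hyr⟩ := M.root r hr
    have h1 := hkey _ ⟨y, hy, rfl⟩
    have e : c * r * c⁻¹ = (MulAut.conj c).toMonoidHom y ^ 2 ^ i * (MulAut.conj c).toMonoidHom y ^ 2 ^ i := by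
      rw [← pow_add, ← two_mul, ← pow_succ', ← map_pow, hyr]; rfl
    refine L.invol _ (e ▸ N.sq_mem_A h h1) ?_
    rw [show c * r * c⁻¹ * (c * r * c⁻¹) = c * (r * r) * c⁻¹ by group, L.square.sq r hr]
    group
  by_contra hno
  push Not at hno
  obtain ⟨y, hy, hyV⟩ := hno
  have hexp : ∀ u ∈ A₁, u ^ 2 ^ (i + 2) = 1 := by
    rintro _ ⟨u, hu, rfl⟩
    rw [← map_pow, M.exp u hu, map_one]
  obtain ⟨b, hb, hzV, hzz⟩ : ∃ b ∈ A₁, b * b ∉ V ∧ (b * b) * (b * b) ∈ V := by
    obtain ⟨m, rfl⟩ : ∃ m, i = m + 1 := Nat.exists_eq_add_of_le' L.pos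
    have e : ∀ (z : G) (k : ℕ), z ^ 2 ^ (k + 1) = z ^ 2 ^ k * z ^ 2 ^ k := fun z k => by
      rw [pow_succ, pow_mul, pow_two]
    by_cases h1 : y ^ 2 ^ (m + 1 + 1) ∈ V
    · refine ⟨y ^ 2 ^ m, pow_mem hy _, ?_, ?_⟩
      · rwa [← e]
      · rwa [← e, ← e]
    · refine ⟨y ^ 2 ^ (m + 1), pow_mem hy _, ?_, ?_⟩
      · rwa [← e]
      · rw [← e, ← e, hexp y hy]
        exact one_mem _
  have hbV : b ∉ V := fun hv => hzV (mul_mem hv hv)
  set q := Nat.card R with hq
  set k := Nat.card ↥(R ⊓ Subgroup.centralizer ({b} : Set G))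
  have hk : 2 * (k * k) ≤ q := by
    have h1 := M.two_mul_fix h (hAP hb) hbV
    have h2 := (Nat.mul_le_mul h1 h1).trans (M.card_fix h (mul_mem (hAP hb) (hAP hb)) hzV hzz)
    nlinarith
  have hroot : ∀ r' ∈ R.map (MulAut.conj c).toMonoidHom, ∃ u ∈ A₁, u ^ 2 ^ (i + 1) = r' := by
    rintro _ ⟨r, hr, rfl⟩
    obtain ⟨u, hu, e⟩ := M.root r hr
    exact ⟨_, ⟨u, hu, rfl⟩, by rw [← map_pow, e]⟩
  have hR₁ : Nat.card ↥(R.map (MulAut.conj c).toMonoidHom) = q :=
    Subgroup.card_map_of_injective (MulAut.conj c).injective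
  have h1 : q ^ (i + 1 + 1) ≤ Nat.card A₁ := by
    have h' := pow_le_card_of_roots hcomm (Subgroup.map_mono M.R_C) (by
      rintro _ ⟨r, hr, rfl⟩
      rw [← map_mul, L.square.sq r hr, map_one]) (i + 1) hroot
    rwa [hR₁] at h'
  set E := A₁ ⊓ V with hE
  have h2 : Nat.card A₁ ≤ q * Nat.card E := by
    have e1 := Subgroup.relIndex_mul_relIndex (⊥ : Subgroup G) E A₁ bot_le inf_le_left
    rw [Subgroup.relIndex_bot_left, Subgroup.relIndex_bot_left, hE, Subgroup.inf_relIndex_left,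
      ← hE] at e1
    have e2 := Subgroup.relIndex_mul_relIndex (⊥ : Subgroup G) V P bot_le M.le_normTop
    rw [Subgroup.relIndex_bot_left, Subgroup.relIndex_bot_left] at e2
    have e3 : V.relIndex P ≤ q := by
      have := M.card_normTop h
      rw [← hP, ← e2, mul_comm (Nat.card R)] at this
      exact Nat.le_of_mul_le_mul_left this Nat.card_pos
    rw [← e1, mul_comm q]
    exact Nat.mul_le_mul_left _ ((Subgroup.relIndex_le_of_le_right hAP
      (Subgroup.index_ne_zero_of_finite (H := V.subgroupOf P))).trans e3)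
  have hEc : ∀ u ∈ E, ∀ v ∈ E, Commute u v := fun u hu v hv => hcomm u hu.1 v hv.1
  have h3 : Nat.card (sqKer E hEc) ≤ q := by
    rw [← hR₁]
    refine Subgroup.card_le_of_le ?_
    rintro u ⟨⟨⟨w, hw, rfl⟩, -⟩, hu⟩
    rw [← map_mul, ← map_one (MulAut.conj c).toMonoidHom] at hu
    exact ⟨w, M.invol w hw ((MulAut.conj c).injective hu), rfl⟩
  have h4 : Nat.card (sqImage E hEc) ≤ k ^ (i + 1) := by
    refine card_le_pow_of_exponent ?_ ?_ (i + 1) ?_
    · rintro _ ⟨u, hu, rfl⟩ _ ⟨v, hv, rfl⟩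
      exact ((hEc u hu v hv).mul_right (hEc u hu v hv)).mul_left
        ((hEc u hu v hv).mul_right (hEc u hu v hv))
    · rintro _ ⟨u, hu, rfl⟩ hu2
      refine ⟨L.invol _ (N.sq_mem_A h hu.2) hu2, Subgroup.mem_centralizer_singleton_iff.2 ?_⟩
      exact ((hcomm u hu.1 b hb).mul_left (hcomm u hu.1 b hb)).eq
    · rintro _ ⟨u, hu, rfl⟩
      rw [← pow_two, ← pow_mul, ← pow_succ']
      exact hexp u hu.1
  have h5 : q ^ (i + 1 + 1) ≤ q * (q * k ^ (i + 1)) := by
    rw [card_sqImage E hEc] at h2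
    exact h1.trans (h2.trans (Nat.mul_le_mul_left _ (Nat.mul_le_mul h3 h4)))
  have hq0 : 0 < q := Nat.card_pos
  rw [pow_succ', pow_succ'] at h5
  have h6 : q ^ i ≤ k ^ (i + 1) :=
    Nat.le_of_mul_le_mul_left (Nat.le_of_mul_le_mul_left h5 hq0) hq0
  have h7 : 2 ^ (i + 1) * (q ^ i * q ^ i) ≤ q ^ (i + 1) := by
    calc 2 ^ (i + 1) * (q ^ i * q ^ i) ≤ 2 ^ (i + 1) * (k ^ (i + 1) * k ^ (i + 1)) :=
          Nat.mul_le_mul_left _ (Nat.mul_le_mul h6 h6)
      _ = (2 * (k * k)) ^ (i + 1) := by rw [mul_pow, mul_pow]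
      _ ≤ _ := Nat.pow_le_pow_left hk _
  have h8 : q ^ (i + 1) ≤ q ^ i * q ^ i := by
    rw [← pow_add]
    exact Nat.pow_le_pow_right hq0 (by have := L.pos; omega)
  have h9 : 2 ^ (i + 1) * (q ^ i * q ^ i) ≤ 1 * (q ^ i * q ^ i) := by
    rw [one_mul]; exact h7.trans h8
  have h10 := Nat.le_of_mul_le_mul_right h9 (by positivity)
  have h11 : 2 ≤ 2 ^ (i + 1) := Nat.le_self_pow (by omega) 2
  omega

include h in
/-- The top normalises `R`. -/
theorem top_le : S ⊓ K ≤ Subgroup.normalizer (R : Set G) := by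
  classical
  haveI : Fact (Nat.Prime 2) := ⟨Nat.prime_two⟩
  set P := S ⊓ K ⊓ Subgroup.normalizer (R : Set G) with hP
  haveI : Group.IsNilpotent ↥(S ⊓ K) := (M.top.1.to_le inf_le_left).isNilpotent
  by_contra hlt
  have hne : P.subgroupOf (S ⊓ K) < ⊤ := lt_top_iff_ne_top.2 fun e =>
    hlt fun t ht => (Subgroup.mem_inf.1 (show t ∈ P from Subgroup.mem_subgroupOf.1
      (e ▸ Subgroup.mem_top (⟨t, ht⟩ : ↥(S ⊓ K))))).2
  obtain ⟨t, htn, htP⟩ :=
    SetLike.exists_of_lt (Group.normalizerCondition_of_isNilpotent (G := ↥(S ⊓ K)) _ hne)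
  refine htP (Subgroup.mem_subgroupOf.2 ⟨t.2, mem_normalizer_of_conj_mem (M.conj_R_of_le h ?_)⟩)
  intro y hy
  have hyP : y ∈ P := M.le_normTop (M.C_le hy)
  exact Subgroup.mem_subgroupOf.1 ((Subgroup.mem_normalizer_iff.1 htn ⟨y, hyP.1⟩).1
    (Subgroup.mem_subgroupOf.2 hyP))

/-- The conjugates of `R` from conjugates of `C` in the top. -/
theorem conj_R (h : ClosedSetting D Ω) :
    ∀ c : G, c • a = a → (∀ y ∈ C, c * y * c⁻¹ ∈ S) → ∀ r ∈ R, c * r * c⁻¹ ∈ R := by
  intro c hca hc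
  refine M.conj_R_of_le h fun y hy => ?_
  have hyT : c * y * c⁻¹ ∈ S ⊓ K :=
    ⟨hc y hy, M.layer.level.line.toCurvedLine.conj_K hca (M.C_K hy)⟩
  exact ⟨hyT, M.top_le h hyT⟩

/-- The involutions central in the top lie in `R`. -/
theorem omCentre_le (h : ClosedSetting D Ω) : omCentre (S ⊓ K) ≤ R := by
  intro z hz
  obtain ⟨hzT, hz2, hzc⟩ := mem_omCentre.1 hz
  have hVT : V ≤ S ⊓ K := le_inf M.le_top M.layer.le_K
  have hzV : z ∈ V := M.cent_R h hzT fun r hr => hzc r (hVT (M.C_le (M.R_C hr)))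
  obtain ⟨p, hp, d, hd, e⟩ := M.cover z hzV
  have hpR : p ∈ R := M.layer.level.mem_R_of_central hp fun q hq => by
    have h1 := (hzc q (hVT (M.layer.Q_le hq))).mul_left (M.comm_Q d hd q hq).inv_left
    rwa [← e, mul_inv_cancel_right] at h1
  exact M.invol z (e ▸ mul_mem (M.R_C hpR) hd) hz2

end Twisted

end CfsgLib.LocalEven.OnePointFront.Nonfull
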