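import Cfsg.Agent.Lib.LocalEven.OnePointFront.Nonfull.Curved.SuzukiClimb
import Cfsg.Agent.Lib.LocalEven.OnePointFront.Nonfull.Curved.SuzukiShear
import Cfsg.Agent.Lib.LocalEven.OnePointFront.Nonfull.Curved.SuzukiTop
import Cfsg.Agent.Lib.LocalEven.OnePointFront.Nonfull.Curved.SuzukiCentre
import Cfsg.Agent.Lib.LocalEven.OnePointFront.Nonfull.Curved.MemberSquares

/-!
# Suzuki lines with an inverted layer centralising `Q`

If `B = Q Y` with `Y` of order `|R|²` commutative, inverted by `x` and centralising `Q`, there is a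
member outside `R` commuting with the top level over `Y` and with its twisted layer, against the
conjugation form of the member lemma.
-/

set_option autoImplicit false
set_option linter.style.haveILetI false
set_option linter.unusedSectionVars false

namespace CfsgLib.LocalEven.OnePointFront.Nonfull

open MulAction CfsgLib.LocalEven.TIEndgame

universe u v

variable {G : Type u} [Group G] {Ω : Type v} [MulAction G Ω] {D : Set G} {a : Ω} {x : G}
  {K R Q J B Y : Subgroup G}

/-- An abelian part `Y` of the base, inverted by `x` and centralising `Q`. -/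
structure InvertedLayer (D : Set G) (a : Ω) (x : G) (K R Q J B Y : Subgroup G) : Prop where
  line : SuzukiLine D a x K R Q J
  base : CurvedBase D a x K R Q J B
  below : Q ≤ K
  le : Y ≤ B
  R_le : R ≤ Y
  inf_Q : Y ⊓ Q ≤ R
  card : Nat.card Y = Nat.card R ^ 2
  comm : ∀ u ∈ Y, ∀ v ∈ Y, Commute u v
  comm_Q : ∀ u ∈ Y, ∀ g ∈ Q, Commute u g
  inv : ∀ u ∈ Y, x * u * x = u⁻¹
  invol : ∀ u ∈ Y, u * u = 1 → u ∈ R
  torus : ∀ j ∈ J, ∃ c ∈ K, Commute x c ∧ c ∈ Subgroup.centralizer (R : Set G) ∧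
    c ∈ trivGroup R Q ∧ c * j ∈ Subgroup.normalizer (B : Set G) ∧
    c * j ∈ Subgroup.normalizer (Y : Set G)

namespace InvertedLayer

variable [Finite G] (L : InvertedLayer D a x K R Q J B Y)
include L

/-- `Y` is a level of exponent four. -/
theorem level : InvLevel D a x K R Q J Y 1 := by
  have LC := L.line.toCurvedLine
  have hx := LC.x_sq
  have hsqR : ∀ u ∈ Y, u * u ∈ R := by
    intro u hu
    have h1 := L.base.shift_mem u (L.le hu)
    have e : shift x u = x * u * x * u⁻¹ := by rw [shift]; group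
    rw [e, L.inv u hu, ← mul_inv_rev] at h1
    exact inv_mem_iff.1 h1
  have honto : ∀ r ∈ R, ∃ u ∈ Y, u * u = r := by
    set H := sqImage Y L.comm with hH
    have hHR : H ≤ R := by rintro _ ⟨u, hu, rfl⟩; exact hsqR u hu
    have hcard : Nat.card R ≤ Nat.card H := by
      have h1 := card_sqImage Y L.comm
      rw [L.card] at h1
      have h2 : Nat.card (sqKer Y L.comm) ≤ Nat.card R :=
        Subgroup.card_le_of_le fun u hu => L.invol u hu.1 hu.2
      refine Nat.le_of_mul_le_mul_left ?_ (Nat.card_pos (α := R))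
      calc Nat.card R * Nat.card R = Nat.card (sqKer Y L.comm) * Nat.card H := by rw [← h1, pow_two]
        _ ≤ _ := Nat.mul_le_mul_right _ h2
    intro r hr
    exact (Subgroup.eq_of_le_of_card_ge hHR hcard).ge hr
  refine ⟨L.line, L.below, le_rfl, L.le.trans L.base.le, L.R_le, L.comm, L.comm_Q, L.inv, L.invol,
    fun r hr => ?_, fun u hu => ?_, fun j hj => ?_⟩
  · obtain ⟨u, hu, e⟩ := honto r hr
    exact ⟨u, hu, by rw [pow_one, pow_two, e]⟩
  · rw [show (2 : ℕ) ^ (1 + 1) = 2 * 2 from rfl, pow_mul, pow_two, pow_two]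
    exact L.line.sq _ (hsqR u hu)
  · obtain ⟨c, hcK, hcx, hcR, hcT, -, hcY⟩ := L.torus j hj
    refine ⟨c * j, ?_, hcx.mul_right (L.line.comm_J j hj),
      mul_mem (mem_trivGroup.1 hcT).1 (Subgroup.mem_inf.1 (L.line.norm_J hj)).2, hcY, fun r hr => ?_⟩
    · rw [mul_smul, L.line.fix_J j hj, mem_stabilizer_iff.1 (L.line.point.le hcK)]
    · rw [show c * j * r * (c * j)⁻¹ = c * (j * r * j⁻¹) * c⁻¹ by group,
        ← Subgroup.mem_centralizer_iff.1 hcR _ (LC.J_conj_R hj hr), mul_inv_cancel_right]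

variable (h : ClosedSetting D Ω)
include h

/-- A member outside `R` is the product of an element of `Y` and one of `Q`. -/
theorem exists_member : ∃ y ∈ Y, ∃ q ∈ Q, y * q ∈ dat D a ∧ y * q ∉ R := by
  have L₁ := L.level
  obtain ⟨q, hq, hqR⟩ : ∃ q ∈ Q, q ∉ R := by
    by_contra hno
    push Not at hno
    exact L.line.ne (le_antisymm hno L.line.le)
  obtain ⟨y, hy, hyq⟩ := L₁.root (q * q) (L.line.sq_mem q hq)
  rw [pow_one, pow_two] at hyq
  have hdR : y * q ∉ R := fun hd => hqR (by
    have hyQ : y ∈ Q := by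
      have := mul_mem (L.line.le hd) (inv_mem hq)
      rwa [mul_inv_cancel_right] at this
    have := mul_mem (inv_mem (L.inf_Q ⟨hy, hyQ⟩)) hd
    rwa [inv_mul_cancel_left] at this)
  have hd1 : y * q ≠ 1 := fun e => hdR (e ▸ one_mem R)
  have hsq : (y * q) * (y * q) = 1 := by
    rw [(L.comm_Q y hy q hq).symm.mul_mul_mul_comm, hyq, L.line.sq _ (L.line.sq_mem q hq)]
  exact ⟨y, hy, q, hq, L.line.point.invol_mem _ (mul_mem (L₁.le hy) (L.below hq))
    (orderOf_eq_prime (by rw [pow_two]; exact hsq) hd1), hdR⟩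

variable [Finite Ω]

/-- An inverted layer does not exist. -/
theorem «false» : False := by
  have LC := L.line.toCurvedLine
  obtain ⟨b, -, hba⟩ := LC.exists_other
  obtain ⟨y, hy, q, hq, hd, hdR⟩ := L.exists_member h
  obtain ⟨A, i, hYA, LA, hcase⟩ := L.level.climb h fun A V i M hli => M.exists_central h hli
  rcases hcase with ⟨S, hS, hxS, hQS, hAS, hsq⟩ | ⟨V, C, S, M⟩
  · refine false_of_member_squares (Y := A) h LC.point ⟨b, hba⟩ hS
      (fun t ht h4 => LA.invol _ (hsq t ht) h4) (LA.omCentre_le h hS.1 hxS hQS hAS) L.line.sq hd hdR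
      LA.two LA.le (fun u hu => ?_) fun r hr _ => ?_
    · exact (LA.comm y (hYA hy) u hu).mul_left (LA.comm_Q u hu q hq).symm
    · obtain ⟨u, hu, e⟩ := LA.root r hr
      obtain ⟨m, hm⟩ : ∃ m, i = m + 1 := Nat.exists_eq_add_of_le' LA.pos
      exact ⟨u ^ 2 ^ m, pow_mem hu _, by rw [← pow_add, ← two_mul, ← pow_succ', ← hm, e]⟩
  · exact false_of_member_conj (Y := C) h LC.point ⟨b, hba⟩ M.top (M.conj_R h)
      (LA.omCentre_le h M.top.1 M.x_mem (M.layer.Q_le.trans M.le_top)
        (M.layer.A_le.trans M.le_top)) hd hdR (M.layer.two.to_le M.C_le) M.C_K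
      (fun c hc => (M.comm y (M.A_le (hYA hy)) c hc).mul_left (M.comm_Q c hc q hq).symm)

end InvertedLayer

end CfsgLib.LocalEven.OnePointFront.Nonfull
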