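import Cfsg.Agent.Lib.LocalEven.OnePointFront.Nonfull.Curved.SuzukiMember
import Cfsg.Agent.Lib.LocalEven.OnePointFront.Nonfull.Curved.SuzukiCentral
import Cfsg.Agent.Lib.LocalEven.OnePointFront.Nonfull.Curved.SuzukiCoords
import Cfsg.Agent.Lib.LocalEven.OnePointFront.Nonfull.Curved.SuzukiInverted

/-!
# Suzuki lines in `K`: only the moved case remains

In coordinates `(c, κ)` of the base: `(0, 0)` gives the moved case; `(1, 0)` an inverted layer and
otherwise `B` is the intersection of a maximal 2-subgroup with `K`, both impossible.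
-/

set_option autoImplicit false
set_option linter.style.haveILetI false
set_option linter.unusedSectionVars false

namespace CfsgLib.LocalEven.OnePointFront.Nonfull

open MulAction CfsgLib.LocalEven.TIEndgame CfsgLib.Involution SuzukiForm

universe u

variable {G Ω : Type u} [Group G] [MulAction G Ω] {D : Set G} {a : Ω} {x : G}
  {K R Q J B S : Subgroup G} {F : Type u} [Field F] {θ : F ≃+* F} {ρ uc wc : G → F}

/-- The layer of the elements without class, on a line without shear and with `c = 1`. -/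
theorem Coords.invertedLayer [Finite G] (C : Coords D a x K R Q J B θ 1 0 ρ uc wc) :
    ∃ Y : Subgroup G, InvertedLayer D a x K R Q J B Y := by
  haveI := C.char2
  let Y : Subgroup G :=
    { carrier := {b | b ∈ B ∧ wc b = 0}
      one_mem' := ⟨one_mem B, C.coords_one.2⟩
      mul_mem' := fun hb hb' => ⟨mul_mem hb.1 hb'.1, by
        rw [C.wc_mul _ hb.1 _ hb'.1, hb.2, hb'.2, add_zero]⟩
      inv_mem' := fun hb => ⟨inv_mem hb.1, by rw [C.wc_inv hb.1, hb.2]⟩ }
  have hY : ∀ b ∈ B, (b ∈ Y ↔ (x * b) * (x * b) = 1) := fun b hb => by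
    rw [C.inv_iff hb, show (b ∈ Y ↔ wc b = 0) from ⟨And.right, fun e => ⟨hb, e⟩⟩]
    simp [sqF]
  have hRY : R ≤ Y := fun r hr => ⟨C.R_le hr, (C.coords_R hr).2⟩
  refine ⟨Y, ⟨C.line, C.base, C.below, fun b hb => hb.1, hRY, fun b hb => ?_, ?_,
    fun b hb b' hb' => (C.commute_iff hb.1 hb'.1).2 (by simp [polF, hb.2, hb'.2]),
    fun b hb q hq => (C.commute_iff hb.1 (C.Q_le hq)).2 (by simp [polF, hb.2]),
    fun b hb => eq_inv_of_mul_eq_one_left (by
      rw [show x * b * x * b = x * b * (x * b) by group]; exact (hY b hb.1).1 hb),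
    fun b hb hbb => C.kernel b hb.1 ?_ hb.2, fun j hj => ?_⟩⟩
  · exact C.kernel b hb.1.1 (C.uc_Q hb.2) hb.1.2
  · have hF : Nat.card F = Nat.card R := (Nat.card_eq_of_bijective (fun r : R => ρ r)
      ⟨fun r s e => Subtype.ext (C.ρ_eq r.2 s.2 e), fun y => by
        obtain ⟨r, hr, e⟩ := C.ρ_onto y; exact ⟨⟨r, hr⟩, e⟩⟩).symm
    choose v hv hvu hvw using fun y : F => C.onto y 0
    have huc : ∀ (y : F) (r : R), uc (v y * r) = y := fun y r => by
      rw [C.uc_mul _ (hv y) _ (C.R_le r.2), hvu, (C.coords_R r.2).1, add_zero]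
    rw [← Nat.card_eq_of_bijective
      (fun p : F × R => (⟨v p.1 * p.2, mul_mem (s := Y) ⟨hv p.1, hvw p.1⟩ (hRY p.2.2)⟩ : Y))
      ⟨?_, ?_⟩, Nat.card_prod, hF, pow_two]
    · rintro ⟨y, r⟩ ⟨y', r'⟩ e
      have e' : v y * (r : G) = v y' * (r' : G) := congrArg Subtype.val e
      obtain rfl : y = y' := (huc y r).symm.trans ((congrArg uc e').trans (huc y' r'))
      exact Prod.ext rfl (Subtype.ext (mul_left_cancel e'))
    · rintro ⟨b, hb⟩
      refine ⟨(uc b, ⟨(v (uc b))⁻¹ * b, C.mem_of_eq (hv _) hb.1 (hvu _) ((hvw _).trans hb.2.symm)⟩),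
        Subtype.ext (mul_inv_cancel_left _ _)⟩
  · have h1 := C.sq b hb.1
    rw [hbb, C.ρ_one] at h1
    simpa [sqF, hb.2] using h1.symm
  · obtain ⟨c, hcK, hxc, hcR, hct, hcB⟩ := C.base.torus j hj
    refine ⟨c, hcK, hxc, hcR, hct, hcB, mem_normalizer_of_conj_mem fun b hb => ?_⟩
    have hgx : Commute x (c * j) := hxc.mul_right (C.base.line.comm_J j hj)
    refine (hY _ ((Subgroup.mem_normalizer_iff.1 hcB b).1 hb.1)).2 ?_
    rw [show x * (c * j * b * (c * j)⁻¹) = c * j * (x * b) * (c * j)⁻¹ by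
      rw [← mul_assoc (c * j) x b, ← hgx.eq]; group,
      show c * j * (x * b) * (c * j)⁻¹ * (c * j * (x * b) * (c * j)⁻¹) =
        c * j * ((x * b) * (x * b)) * (c * j)⁻¹ by group, (hY b hb.1).1 hb]
    group

variable [Finite G] [Finite Ω] [FaithfulSMul G Ω]

/-- Suzuki lines in `K`: only the moved case remains. -/
theorem suzukiInHyp (h : ClosedSetting D Ω) (hnf : NoFull D Ω) : SuzukiInHyp D Ω := by
  intro a x K R Q J B L _ hrank _ hB hQK
  obtain ⟨F, _, θ, c, κ, ρ, uc, wc, C⟩ := L.exists_coords h hnf hB hQK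
  by_cases hκ : κ = 0
  · subst hκ
    by_cases hc : c = 0
    · subst hc
      exact C.movedCase_of_central h
    by_cases hc1 : c = 1
    · subst hc1
      obtain ⟨Y, hY⟩ := C.invertedLayer
      exact (hY.false h).elim
    obtain ⟨S, hS, hBS, -, hxS⟩ := hB.exists_top
    exact (C.false_of_inf_eq h hnf hrank (fun e => hc e.2) hS hxS (le_antisymm
      (C.inf_le_base h hS hxS hBS (fun e => e.2.elim hc hc1)) (le_inf hBS hB.le))).elim
  · obtain ⟨S, hS, hBS, -, hxS⟩ := hB.exists_top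
    exact (C.false_of_inf_eq h hnf hrank (fun e => hκ e.1) hS hxS (le_antisymm
      (C.inf_le_base h hS hxS hBS (fun e => hκ e.1)) (le_inf hBS hB.le))).elim

end CfsgLib.LocalEven.OnePointFront.Nonfull
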