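import Cfsg.Agent.Lib.LocalEven.OnePointFront.Nonfull.Curved.UnitaryShift
import Cfsg.Agent.Lib.LocalEven.OnePointFront.Nonfull.Curved.MemberSquares
import Cfsg.Agent.Lib.LocalEven.OnePointFront.Nonfull.Curved.Base
import Cfsg.Agent.Lib.Coprime.Action

/-!
# Unitary lines: from a tower centralising `Q` to the contradiction

Let `B` be a 2-subgroup of `K` centralising `Q`, normalised by `x`, with a subgroup `A` containing the
squares of `B` and with `R` as its involutions, such that the elements of `R` are squares of elements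
of `A` inverted by `x` and commuting with `A` and with the elements of `B` inverted modulo `R`, and
either `B Q` is a Sylow 2-subgroup of `K` or all the involutions in `x B` are conjugate to `x` by
`B`.  Then `Q B` meets a maximal 2-subgroup `S` in all of `S ⊓ K`: a conjugate `x q b` with `q` outside
`R` is not bad.  So squares of order two lie in `R`, and a member `q w` commutes with `A`: if `x`
centralises the central members of `S ⊓ K` this is false.
-/

set_option autoImplicit false
set_option linter.style.haveILetI false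

namespace CfsgLib.LocalEven.OnePointFront.Nonfull

open MulAction CfsgLib.LocalEven.TIEndgame CfsgLib.Involution

universe u v

variable {G : Type u} {Ω : Type v} [Group G] [Finite G] [MulAction G Ω] [Finite Ω] {D : Set G}
  {a : Ω} {x : G} {K R Q J : Subgroup G}

/-- What `false_of_tower` needs of the tower in the centraliser of `Q`. -/
structure QTower (x : G) (K R Q A B : Subgroup G) : Prop where
  le : B ≤ K
  two : IsPGroup 2 B
  comm_Q : ∀ b ∈ B, ∀ g ∈ Q, Commute b g
  le_B : A ≤ B
  R_le : R ≤ A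
  conj_x : ∀ b ∈ B, x * b * x ∈ B
  sq : ∀ b ∈ B, b * b ∈ A
  invol : ∀ u ∈ A, u * u = 1 → u ∈ R
  root : ∀ r ∈ R, ∃ w ∈ A, w * w = r ∧ x * w * x = w⁻¹ ∧
    ∀ b ∈ B, (b ∈ A ∨ x * b * x * b ∈ R) → Commute w b
  one_class : (∀ P : Subgroup G, IsPGroup 2 P → P ≤ K → B ⊔ Q ≤ P → P ≤ B ⊔ Q) ∨
    ∀ b ∈ B, x * b * x = b⁻¹ → ∃ c ∈ B, c * x * c⁻¹ = x * b

/-- The tower and a unitary line exclude each other if `x` centralises the central members. -/
theorem UnitaryLine.false_of_tower [FaithfulSMul G Ω] (L : UnitaryLine D a x K R Q J)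
    (h : ClosedSetting D Ω) (hmax : MaxRank D Ω R) (hQK : Q ≤ K) {A B : Subgroup G}
    (T : QTower x K R Q A B)
    (hunmoved : ∀ S : Subgroup G, IsTopTwo S a → x ∈ S → Q ≤ S → B ≤ S →
      ∀ z ∈ omCentre (S ⊓ K), Commute x z) : False := by
  haveI : Fact (Nat.Prime 2) := ⟨Nat.prime_two⟩
  have C := L.toCurvedLine
  have hx2 : x * x = 1 := C.x_sq
  have hxi : x⁻¹ = x := inv_eq_of_mul_eq_one_right hx2
  have hQB : Q ≤ Subgroup.normalizer (B : Set G) := fun g hg =>
    Subgroup.centralizer_le_normalizer _ (Subgroup.mem_centralizer_iff.2 fun b hb =>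
      (T.comm_Q b hb g hg).eq)
  set W := B ⊔ Q with hW
  have hmem : ∀ w ∈ W, ∃ q ∈ Q, ∃ b ∈ B, w = q * b := fun w hw => by
    obtain ⟨b, hb, q, hq, rfl⟩ := (Coprime.mem_sup_of_le_normalizer hQB).1 hw
    exact ⟨q, hq, b, hb, (T.comm_Q b hb q hq).eq⟩
  have hW2 : IsPGroup 2 W := T.two.to_sup_of_normal_left' C.two hQB
  have hWK : W ≤ K := sup_le T.le hQK
  have hWx : ∀ w ∈ W, x * w * x ∈ W := fun w hw => by
    obtain ⟨q, hq, b, hb, rfl⟩ := hmem w hw
    rw [show x * (q * b) * x = x * q * b * x by group, (C.comm q hq).eq,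
      show q * x * b * x = q * (x * b * x) by group]
    exact mul_mem (Subgroup.mem_sup_right hq) (Subgroup.mem_sup_left (T.conj_x b hb))
  have hxW : x ∈ Subgroup.normalizer (W : Set G) := mem_normalizer_of_conj_mem fun w hw => by
    rw [hxi]; exact hWx w hw
  obtain ⟨S, hS, hle⟩ := exists_top_two
    (hW2.to_sup_of_normal_left' (Involution.Basic.isPGroup_zpowers_of_two C.bad.1)
      (Subgroup.zpowers_le.2 hxW))
    (sup_le (hWK.trans C.point.le) (Subgroup.zpowers_le.2 (mem_stabilizer_iff.2 C.fix)))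
  have hWS : W ≤ S := le_sup_left.trans hle
  have hxS : x ∈ S := hle (Subgroup.mem_sup_right (Subgroup.mem_zpowers x))
  have hQW : Q ≤ W := le_sup_right
  -- `W` is the whole of `S ⊓ K`
  have hTW : S ⊓ K ≤ W := by
    rcases T.one_class with htop | hclass
    · exact htop _ (hS.1.to_le inf_le_left) inf_le_right (le_inf hWS hWK)
    by_contra hlt
    obtain ⟨g, hg, hgW, -, hd⟩ := exists_growth (K := K) hx2 hxS hS.1
      (fun k hk => by simpa [hxi] using C.conj_K C.fix hk) (C.x_notMem h) (le_inf hWS hWK) hWx hlt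
    obtain ⟨q, hq, b, hb, hdqb⟩ := hmem _ hd
    have hga : g • a = a := mem_stabilizer_iff.1 (hS.2.1 hg.1)
    have hx' : x * (b * q) = g * x * g⁻¹ := by
      rw [(T.comm_Q b hb q hq).eq, ← hdqb, disp,
        show x * (x * g * x * g⁻¹) = (x * x) * g * x * g⁻¹ by group, hx2, one_mul]
    have hqR : q ∈ R := by
      by_contra hne
      have hbR : x * b * x * b ∈ R := by
        have h1 : x * (b * q) * (x * (b * q)) = 1 := by
          rw [hx', show g * x * g⁻¹ * (g * x * g⁻¹) = g * (x * x) * g⁻¹ by group, hx2]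
          group
        rw [show x * (b * q) * (x * (b * q)) = x * b * (q * x) * (b * q) by group,
          (C.comm q hq).symm.eq, show x * b * (x * q) * (b * q) = x * b * x * (q * b) * q by group,
          (T.comm_Q b hb q hq).symm.eq] at h1
        have h2 : x * b * x * b * (q * q) = 1 := by rw [← h1]; group
        rw [eq_inv_of_mul_eq_one_left h2]
        exact inv_mem (C.sq_mem q hq)
      refine L.false_of_shifted hmax hQK (e := b) (T.comm_Q b hb) hq hne ?_ ?_
      · rw [hx']
        obtain ⟨-, p₁, p₂, hpp, hp₁, hp₂⟩ := id C.bad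
        exact ⟨(Dihedral.orderOf_conj g x).trans C.bad.1, g • p₁, g • p₂,
          fun e => hpp (smul_left_cancel g e),
          by rw [← mul_smul, inv_mul_cancel_right, mul_smul, hp₁],
          by rw [← mul_smul, inv_mul_cancel_right, mul_smul, hp₂]⟩
      · intro r hr
        obtain ⟨w, hw, hww, hxw, hwB⟩ := T.root r hr
        exact ⟨w, T.le (T.le_B hw), hww, hxw, hwB b hb (Or.inr hbR), T.comm_Q w (T.le_B hw)⟩
    have hb' : b * q ∈ B := mul_mem hb (T.le_B (T.R_le hqR))
    have hinv : x * (b * q) * x = (b * q)⁻¹ := by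
      refine eq_inv_of_mul_eq_one_left ?_
      rw [hx', show g * x * g⁻¹ * x * (b * q) = g * x * g⁻¹ * (x * (b * q)) by group, hx',
        show g * x * g⁻¹ * (g * x * g⁻¹) = g * (x * x) * g⁻¹ by group, hx2]
      group
    obtain ⟨c, hc, hce⟩ := hclass _ hb' hinv
    have hcx : Commute x (c⁻¹ * g) := by
      have e : (c⁻¹ * g) * x * (c⁻¹ * g)⁻¹ = x := by
        rw [show (c⁻¹ * g) * x * (c⁻¹ * g)⁻¹ = c⁻¹ * (g * x * g⁻¹) * c by group, ← hx', ← hce]
        group
      exact (mul_inv_eq_iff_eq_mul.1 e).symm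
    have hcS : c ∈ S ⊓ K := Subgroup.mem_inf.2 ⟨hWS (Subgroup.mem_sup_left hc), T.le hc⟩
    have := C.mem_inf h (hS.1.to_le (inf_le_left : S ⊓ K ≤ S)) inf_le_right
      (le_inf (inf_le_right.trans (hQW.trans hWS)) inf_le_left) (mul_mem (inv_mem hcS) hg) hcx
    exact hgW (by
      rw [show g = c * (c⁻¹ * g) by group]
      exact mul_mem (Subgroup.mem_sup_left hc) (hQW this.2))
  -- squares of order two lie in `R`
  have hsq : ∀ t ∈ S ⊓ K, t * t * (t * t) = 1 → t * t ∈ R := by
    intro t ht ht4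
    obtain ⟨q, hq, b, hb, rfl⟩ := hmem t (hTW ht)
    have hbq := T.comm_Q b hb q hq
    have e : q * b * (q * b) = q * q * (b * b) := by
      rw [show q * b * (q * b) = q * (b * q) * b by group, hbq.eq]; group
    have hqq := C.sq_mem q hq
    have hc : Commute (q * q) (b * b) :=
      ((hbq.mul_left hbq).mul_right (hbq.mul_left hbq)).symm
    rw [e] at ht4 ⊢
    refine mul_mem hqq (T.invol _ (T.sq b hb) ?_)
    rwa [hc.symm.mul_mul_mul_comm, C.sq _ hqq, one_mul] at ht4
  have hZ : omCentre (S ⊓ K) ≤ R := fun z hz => by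
    have := C.mem_inf h (hS.1.to_le (inf_le_left : S ⊓ K ≤ S)) inf_le_right
      (le_inf (inf_le_right.trans (hQW.trans hWS)) inf_le_left) hz.1
      (hunmoved S hS hxS (hQW.trans hWS) (le_sup_left.trans hWS) z hz)
    exact C.involution z this.2 hz.2.1
  -- a member outside `R` commuting with `A`
  obtain ⟨q, hq, hqR⟩ : ∃ q ∈ Q, q ∉ R := by
    by_contra hall
    push Not at hall
    exact C.ne (le_antisymm hall C.le)
  obtain ⟨w, hw, hww, -, hwB⟩ := T.root _ (C.sq_mem q hq)
  have hwq : Commute w q := T.comm_Q w (T.le_B hw) q hq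
  have hdd : q * w * (q * w) = 1 := by
    rw [hwq.mul_mul_mul_comm, hww]
    exact C.sq _ (C.sq_mem q hq)
  have hdR : q * w ∉ R := by
    intro hd
    -- otherwise `q` would be central in `Q`
    have hqc : ∀ g ∈ Q, Commute g q := fun g hg => by
      rw [show q = q * w * w⁻¹ by group]
      exact (C.central g hg _ hd).mul_right (T.comm_Q w (T.le_B hw) g hg).symm.inv_right
    obtain ⟨j, hj, -, hjR, hfpf⟩ := L.norm_one
    have hq'Q : j * q * j⁻¹ ∈ Q := C.J_conj_Q hj hq
    refine hqR (hfpf q hq (C.involution _ (mul_mem hq'Q (inv_mem hq)) ?_))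
    rw [(hqc _ hq'Q).symm.inv_left.mul_mul_mul_comm,
      show j * q * j⁻¹ * (j * q * j⁻¹) = j * (q * q) * j⁻¹ by group,
      (hjR _ (C.sq_mem q hq)).eq, mul_inv_cancel_right, ← mul_inv_rev, mul_inv_cancel]
  have hd1 : q * w ≠ 1 := fun e => hdR (e ▸ one_mem R)
  have hd : q * w ∈ dat D a := C.point.invol_mem _ (mul_mem (hQK hq) (T.le (T.le_B hw)))
    (orderOf_eq_prime (by rw [pow_two]; exact hdd) hd1)
  obtain ⟨b, -, hba⟩ := C.exists_other
  refine false_of_member_squares h C.point ⟨b, hba⟩ hS hsq hZ C.sq hd hdR (T.two.to_le T.le_B)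
    (T.le_B.trans T.le) (fun y hy => ?_) fun r hr _ => ?_
  · exact (T.comm_Q y (T.le_B hy) q hq).symm.mul_left (hwB y (T.le_B hy) (Or.inl hy))
  · obtain ⟨v, hv, hvv, -⟩ := T.root r hr
    exact ⟨v, hv, hvv⟩

end CfsgLib.LocalEven.OnePointFront.Nonfull
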