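import Cfsg.Agent.Lib.LocalEven.OnePointFront.Nonfull.Curved.UnitaryFixed
import Cfsg.Agent.Lib.LocalEven.OnePointFront.Nonfull.Curved.Assembly
import Cfsg.Agent.Lib.LocalEven.OnePointFront.Nonfull.Linear.Algebra

/-!
# Unitary lines with `Q` in the point group: the part `Y` of a base centralising `Q`

A base `B` is `Y Q` with `Y = B ⊓ C(Q)` of intersection `R` with `Q`; the torus element centralising
`R` centralises `Y`.  Squaring gives an equivariant map from `Y / R`, seen as `R` by the translations,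
to `R`: it is trivial, or onto and then either the translation itself (`x` inverts `Y`) or fixed-point
free.  In the last two cases `Y` is abelian.
-/

set_option autoImplicit false
set_option linter.style.haveILetI false

namespace CfsgLib.LocalEven.OnePointFront.Nonfull

open MulAction CfsgLib.LocalEven.TIEndgame CfsgLib.Involution

universe u v

variable {G : Type u} [Group G] {Ω : Type v} [MulAction G Ω] {D : Set G} {a : Ω} {x j : G}
  {K R Q J B : Subgroup G}

/-- A base of a unitary line with `Q ≤ K`, normalised by a fixer `j`. -/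
structure UnitaryBase (D : Set G) (a : Ω) (x : G) (K R Q J B : Subgroup G) (j : G) : Prop where
  base : CurvedBase D a x K R Q J B
  line : UnitaryLine D a x K R Q J
  le : Q ≤ K
  fixer : ∃ p, PrimaryFixer a x R Q p j
  norm : j ∈ Subgroup.normalizer (B : Set G)

/-- The part of the base centralising `Q`. -/
def yPart (B Q : Subgroup G) : Subgroup G := B ⊓ Subgroup.centralizer (Q : Set G)

theorem mem_yPart {y : G} : y ∈ yPart B Q ↔ y ∈ B ∧ ∀ g ∈ Q, Commute y g := by
  rw [yPart, Subgroup.mem_inf, Subgroup.mem_centralizer_iff]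
  exact and_congr_right fun _ => ⟨fun h g hg => (h g hg).symm, fun h g hg => (h g hg).symm.eq⟩

theorem conj_eq_shift_mul {x y : G} : x * y * x = shift x y * y := by
  rw [shift]; group

/-- A base of a unitary line with `Q ≤ K` has a fixer. -/
theorem UnitaryLine.exists_unitaryBase [Finite G] (L : UnitaryLine D a x K R Q J) (hQK : Q ≤ K)
    (M : CurvedBase D a x K R Q J B) : ∃ j, UnitaryBase D a x K R Q J B j := by
  obtain ⟨p, j, F, hj⟩ := M.exists_fixer L
  exact ⟨j, M, L, hQK, ⟨p, F⟩, hj⟩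

namespace UnitaryBase

variable (U : UnitaryBase D a x K R Q J B j)
include U

theorem curved : CurvedLine D a x K R Q J := U.base.line

theorem inf_eq : K ⊓ Q = Q := inf_eq_right.2 U.le

theorem Q_le : Q ≤ B := fun _ hg => U.base.inf_le ⟨U.le hg, hg⟩

theorem R_le : R ≤ yPart B Q := fun r hr =>
  mem_yPart.2 ⟨U.Q_le (U.curved.le hr), fun g hg => (U.curved.central g hg r hr).symm⟩

theorem comm_R {b r : G} (hb : b ∈ B) (hr : r ∈ R) : Commute b r :=
  (Subgroup.mem_centralizer_iff.1 (U.base.cent hb) r hr).symm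

theorem shift_hom {b b' : G} (hb : b ∈ B) (hb' : b' ∈ B) :
    shift x (b * b') = shift x b * shift x b' := by
  rw [shift_mul U.curved.x_sq, (U.comm_R hb (U.base.shift_mem b' hb')).eq, mul_inv_cancel_right]

theorem comm_j {r : G} (hr : r ∈ R) : Commute j r :=
  let ⟨_, F⟩ := U.fixer; F.central r hr

theorem j_comm_x : Commute x j :=
  let ⟨_, F⟩ := U.fixer; F.comm

theorem j_conj_Q {g : G} (hg : g ∈ Q) : j * g * j⁻¹ ∈ Q :=
  let ⟨_, F⟩ := U.fixer; (Subgroup.mem_normalizer_iff.1 F.normQ g).1 hg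

theorem fpf {g : G} (hg : g ∈ Q) (h : j * g * j⁻¹ * g⁻¹ ∈ R) : g ∈ R :=
  let ⟨_, F⟩ := U.fixer; F.fpf g hg h

theorem odd_j : Odd (orderOf j) := by
  obtain ⟨p, F⟩ := U.fixer
  obtain ⟨k, hk⟩ := F.order
  rw [hk]
  exact (F.prime.odd_of_ne_two F.ne_two).pow

/-- An element of `Q` centralising `Q` lies in `R`. -/
theorem mem_R_of_central {g : G} (hg : g ∈ Q) (hc : ∀ e ∈ Q, Commute g e) : g ∈ R := by
  have hg' := U.j_conj_Q hg
  refine U.fpf hg (U.curved.involution _ (mul_mem hg' (inv_mem hg)) ?_)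
  rw [(hc _ hg').inv_left.mul_mul_mul_comm,
    show j * g * j⁻¹ * (j * g * j⁻¹) = j * (g * g) * j⁻¹ by group,
    (U.comm_j (U.curved.sq_mem g hg)).eq, mul_inv_cancel_right, ← mul_inv_rev, mul_inv_cancel]

theorem mem_R_of_mem {y : G} (hy : y ∈ yPart B Q) (hQ : y ∈ Q) : y ∈ R :=
  U.mem_R_of_central hQ (mem_yPart.1 hy).2

/-- An element of `Y` commuting with `x` lies in `R`. -/
theorem mem_R_of_commute {y : G} (hy : y ∈ yPart B Q) (hx : Commute x y) : y ∈ R :=
  U.mem_R_of_mem hy (U.base.fix y (mem_yPart.1 hy).1 hx).2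

variable [Finite G]

/-- Every element of `Q` is of the form `[j, h]` modulo `R`. -/
theorem exists_comm_fixer {d : G} (hd : d ∈ Q) :
    ∃ h ∈ Q, d⁻¹ * (j * h * j⁻¹ * h⁻¹) ∈ R := by
  have L := U.curved
  haveI hn : (R.subgroupOf Q).Normal := ⟨fun r hr g => Subgroup.mem_subgroupOf.2 (by
    show (g : G) * r * (g : G)⁻¹ ∈ R
    rw [(L.central g g.2 _ (Subgroup.mem_subgroupOf.1 hr)).eq, mul_inv_cancel_right]
    exact Subgroup.mem_subgroupOf.1 hr)⟩
  let π : ↥Q →* ↥Q ⧸ R.subgroupOf Q := QuotientGroup.mk' _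
  have hcomm : ∀ g e : ↥Q, π g * π e = π e * π g := fun g e => by
    rw [← map_mul, ← map_mul]
    refine QuotientGroup.eq.2 (Subgroup.mem_subgroupOf.2 ?_)
    show ((g : G) * e)⁻¹ * ((e : G) * g) ∈ R
    rw [show ((g : G) * e)⁻¹ * ((e : G) * g) = pol (e : G)⁻¹ (g : G)⁻¹ by simp only [pol]; group]
    exact L.squareGroup.pol_mem (inv_mem e.2) (inv_mem g.2)
  let c : ↥Q →* ↥Q :=
    { toFun := fun g => ⟨j * g * j⁻¹, U.j_conj_Q g.2⟩
      map_one' := Subtype.ext (by simp)
      map_mul' := fun g e => Subtype.ext (by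
        show j * ((g : G) * e) * j⁻¹ = j * g * j⁻¹ * (j * e * j⁻¹)
        group) }
  let φ : ↥Q →* ↥Q ⧸ R.subgroupOf Q :=
    { toFun := fun g => π (c g) * (π g)⁻¹
      map_one' := by simp
      map_mul' := fun g e => by
        have h1 : ∀ u v : ↥Q, π u * (π v)⁻¹ = (π v)⁻¹ * π u := fun u v => by
          rw [← map_inv, hcomm]
        rw [map_mul, map_mul, map_mul, mul_inv_rev,
          show π (c g) * π (c e) * ((π e)⁻¹ * (π g)⁻¹) =
            π (c g) * ((π (c e) * (π e)⁻¹) * (π g)⁻¹) by group]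
        rw [show π (c e) * (π e)⁻¹ = π (c e * e⁻¹) by rw [map_mul, map_inv], h1 _ g]
        group }
  have hker : φ.ker = R.subgroupOf Q := by
    ext g
    rw [MonoidHom.mem_ker]
    show π (c g) * (π g)⁻¹ = 1 ↔ _
    rw [← map_inv, ← map_mul, QuotientGroup.mk'_apply, QuotientGroup.eq_one_iff,
      Subgroup.mem_subgroupOf, Subgroup.mem_subgroupOf]
    refine ⟨fun h => U.fpf g.2 h, fun h => ?_⟩
    show j * (g : G) * j⁻¹ * (g : G)⁻¹ ∈ R
    rw [(U.comm_j h).eq, mul_inv_cancel_right, mul_inv_cancel]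
    exact one_mem R
  have hsurj : φ.range = ⊤ := by
    refine Subgroup.eq_top_of_card_eq _ ?_
    rw [← Nat.card_congr (QuotientGroup.quotientKerEquivRange φ).toEquiv, hker]
  obtain ⟨h, hh⟩ := hsurj.ge (Subgroup.mem_top (π ⟨d, hd⟩))
  refine ⟨h, h.2, ?_⟩
  have e : π (c h * h⁻¹) = π ⟨d, hd⟩ := by rw [map_mul, map_inv]; exact hh
  exact Subgroup.mem_subgroupOf.1 (QuotientGroup.eq.1 e.symm)

/-- The base is `Y Q`. -/
theorem exists_split {b : G} (hb : b ∈ B) : ∃ y ∈ yPart B Q, ∃ g ∈ Q, b = y * g := by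
  have L := U.curved
  have S := L.squareGroup
  have hjb : j * b * j⁻¹ ∈ B := (Subgroup.mem_normalizer_iff.1 U.norm b).1 hb
  have hsj : shift x (j * b * j⁻¹) = shift x b := by
    rw [shift_conj U.j_comm_x, (U.comm_j (U.base.shift_mem b hb)).eq, mul_inv_cancel_right]
  have hd : b⁻¹ * (j * b * j⁻¹) ∈ Q := (U.base.fix _ (mul_mem (inv_mem hb) hjb)
    ((shift_eq_iff L.x_sq).1 hsj.symm)).2
  set d := b⁻¹ * (j * b * j⁻¹) with hddef
  obtain ⟨h, hh, hdh⟩ := U.exists_comm_fixer (inv_mem hd)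
  set e := j * h * j⁻¹ with hedef
  have he : e ∈ Q := U.j_conj_Q hh
  set b' := b * h with hb'
  have hb'B : b' ∈ B := mul_mem hb (U.Q_le hh)
  -- `j` fixes `b'` modulo `R`
  have hr : b'⁻¹ * (j * b' * j⁻¹) ∈ R := by
    have h1 : d * (e * h⁻¹) ∈ R := by rwa [inv_inv] at hdh
    rw [show b'⁻¹ * (j * b' * j⁻¹) = h⁻¹ * (d * (e * h⁻¹)) * h by
      rw [hb', hedef, hddef]; group, (L.central _ (inv_mem hh) _ h1).eq, inv_mul_cancel_right]
    exact h1
  have hpolR : ∀ g ∈ Q, pol b' g ∈ R := fun g hg => U.base.triv b' hb'B g hg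
  have hmul : ∀ u ∈ Q, ∀ v ∈ Q, pol b' (u * v) = pol b' u * pol b' v := fun u hu v hv => by
    calc pol b' (u * v) = pol b' u * (u * pol b' v * u⁻¹) := by simp only [pol]; group
      _ = _ := by rw [(L.central u hu _ (hpolR v hv)).eq, mul_inv_cancel_right]
  have hjinv : ∀ g ∈ Q, pol b' (j * g * j⁻¹) = pol b' g := by
    intro g hg
    have hjg := U.j_conj_Q hg
    set r := b'⁻¹ * (j * b' * j⁻¹) with hrdef
    calc pol b' (j * g * j⁻¹) = pol (b' * r) (j * g * j⁻¹) := by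
          have hc : r * (j * g * j⁻¹) * r⁻¹ = j * g * j⁻¹ := by
            rw [← (L.central _ hjg _ hr).eq, mul_inv_cancel_right]
          rw [show pol (b' * r) (j * g * j⁻¹) =
            b' * (r * (j * g * j⁻¹) * r⁻¹) * b'⁻¹ * (j * g * j⁻¹)⁻¹ by simp only [pol]; group, hc]
          rfl
      _ = j * pol b' g * j⁻¹ := by rw [hrdef]; simp only [pol]; group
      _ = pol b' g := by rw [(U.comm_j (hpolR g hg)).eq, mul_inv_cancel_right]
  refine ⟨b', mem_yPart.2 ⟨hb'B, fun g hg => ?_⟩, h⁻¹, inv_mem hh, by rw [hb']; group⟩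
  obtain ⟨k, hk, hkg⟩ := U.exists_comm_fixer (inv_mem hg)
  set s := g⁻¹⁻¹ * (j * k * j⁻¹ * k⁻¹) with hs
  have hkj := U.j_conj_Q hk
  have hg' : g = s * (j * k * j⁻¹ * k⁻¹)⁻¹ := by rw [hs]; group
  have hpol : pol b' g = 1 := by
    rw [hg', hmul s (L.le hkg) _ (inv_mem (mul_mem hkj (inv_mem hk))), mul_inv_rev, inv_inv,
      hmul k hk _ (inv_mem hkj)]
    have h1 : pol b' s = 1 := by
      rw [pol, (U.comm_R hb'B hkg).eq]; group
    have h2 : pol b' (j * k * j⁻¹)⁻¹ = (pol b' (j * k * j⁻¹))⁻¹ := by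
      refine eq_inv_of_mul_eq_one_right ?_
      rw [← hmul _ hkj _ (inv_mem hkj), mul_inv_cancel, SquareGroup.pol_one_right]
    rw [h1, h2, hjinv k hk, one_mul, mul_inv_cancel]
  exact mul_inv_eq_iff_eq_mul.1 (mul_inv_eq_one.1 hpol)

/-- Every translation is realised in `Y`. -/
theorem exists_y {r : G} (hr : r ∈ R) : ∃ y ∈ yPart B Q, shift x y = r := by
  obtain ⟨b, hb, rfl⟩ := U.base.onto r hr
  obtain ⟨y, hy, g, hg, rfl⟩ := U.exists_split hb
  refine ⟨y, hy, ?_⟩
  rw [U.shift_hom (mem_yPart.1 hy).1 (U.Q_le hg),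
    (shift_eq_one U.curved.x_sq).2 (U.curved.comm g hg), mul_one]

omit [Finite G] in
theorem inv_mul_mem_R {y y' : G} (hy : y ∈ yPart B Q) (hy' : y' ∈ yPart B Q)
    (e : shift x y = shift x y') : y⁻¹ * y' ∈ R :=
  U.mem_R_of_commute (mul_mem (inv_mem hy) hy') ((shift_eq_iff U.curved.x_sq).1 e)

omit [Finite G] in
theorem sq_mem {y : G} (hy : y ∈ yPart B Q) : y * y ∈ R := by
  have hyB := (mem_yPart.1 hy).1
  refine U.mem_R_of_commute (mul_mem hy hy) ((shift_eq_one U.curved.x_sq).1 ?_)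
  rw [U.shift_hom hyB hyB, U.curved.sq _ (U.base.shift_mem y hyB)]

omit [Finite G] in
theorem squareGroup : SquareGroup R (yPart B Q) :=
  ⟨U.R_le, U.curved.sq, fun _ hy => U.sq_mem hy, fun _ hy _ hr => U.comm_R (mem_yPart.1 hy).1 hr⟩

omit [Finite G] in
/-- Squares only depend on the translation. -/
theorem sq_eq_of_shift {y y' : G} (hy : y ∈ yPart B Q) (hy' : y' ∈ yPart B Q)
    (e : shift x y = shift x y') : y * y = y' * y' := by
  have hr := U.inv_mul_mem_R hy hy' e
  have hc : Commute y (y⁻¹ * y') := U.comm_R (mem_yPart.1 hy).1 hr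
  calc y * y = y * y * ((y⁻¹ * y') * (y⁻¹ * y')) := by rw [U.curved.sq _ hr, mul_one]
    _ = y * (y⁻¹ * y') * (y * (y⁻¹ * y')) := (hc.symm.mul_mul_mul_comm y _).symm
    _ = y' * y' := by rw [mul_inv_cancel_left]

omit [Finite G] in
theorem conj_x_mem {y : G} (hy : y ∈ yPart B Q) : x * y * x ∈ yPart B Q := by
  rw [conj_eq_shift_mul]
  exact mul_mem (U.R_le (U.base.shift_mem y (mem_yPart.1 hy).1)) hy

omit [Finite G] in
/-- The fixer centralises `Y`. -/
theorem j_commute {y : G} (hy : y ∈ yPart B Q) : Commute j y := by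
  obtain ⟨hyB, hyQ⟩ := mem_yPart.1 hy
  set r := y⁻¹ * (j * y * j⁻¹) with hr
  have hjy : j * y * j⁻¹ ∈ yPart B Q := by
    refine mem_yPart.2 ⟨(Subgroup.mem_normalizer_iff.1 U.norm y).1 hyB, fun g hg => ?_⟩
    obtain ⟨p, F⟩ := U.fixer
    have h1 := (hyQ _ ((Subgroup.mem_normalizer_iff.1 (inv_mem F.normQ) g).1 hg)).map
      (MulAut.conj j).toMonoidHom
    simpa [mul_assoc] using h1
  have hrR : r ∈ R := U.mem_R_of_commute (mul_mem (inv_mem hy) hjy)
    ((shift_eq_iff U.curved.x_sq).1 (by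
      rw [shift_conj U.j_comm_x, (U.comm_j (U.base.shift_mem y hyB)).eq, mul_inv_cancel_right]))
  have hn : ∀ n : ℕ, j ^ n * y * (j ^ n)⁻¹ = y * r ^ n := by
    intro n
    induction n with
    | zero => simp
    | succ n ih =>
      rw [pow_succ' j, show j * j ^ n * y * (j * j ^ n)⁻¹ = j * (j ^ n * y * (j ^ n)⁻¹) * j⁻¹ by
        group, ih, show j * (y * r ^ n) * j⁻¹ = j * y * j⁻¹ * (j * r ^ n * j⁻¹) by group,
        ((U.comm_j hrR).pow_right n).eq, mul_inv_cancel_right, pow_succ', ← mul_assoc, hr]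
      group
  have h1 := hn (orderOf j)
  obtain ⟨m, hm⟩ := U.odd_j
  rw [pow_orderOf_eq_one, hm, pow_succ, pow_mul, pow_two, U.curved.sq r hrR, one_pow, one_mul] at h1
  simp only [one_mul, inv_one, mul_one] at h1
  have hr1 : r = 1 := mul_eq_left.1 h1.symm
  have h2 : j * y * j⁻¹ = y := (inv_mul_eq_one.1 hr1).symm
  exact mul_inv_eq_iff_eq_mul.1 h2

omit [Finite G] in
/-- The lifts of the torus normalise `Y`. -/
theorem torusLift : TorusLift a x R Q J (yPart B Q) := fun i hi => by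
  obtain ⟨g, hga, hgx, hgB, hgQ, hgR, hgq⟩ := U.base.torusLift i hi
  refine ⟨g, hga, hgx, ?_, hgQ, hgR, hgq⟩
  have hgC : g ∈ Subgroup.normalizer (Subgroup.centralizer (Q : Set G) : Set G) :=
    Subgroup.mem_normalizer_iff.2 fun y => by
      simp only [Subgroup.mem_centralizer_iff]
      constructor
      · intro hy q hq
        have h1 := hy _ ((Subgroup.mem_normalizer_iff.1 (inv_mem hgQ) q).1 hq)
        rw [inv_inv] at h1
        calc q * (g * y * g⁻¹) = g * ((g⁻¹ * q * g) * y) * g⁻¹ := by group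
          _ = g * (y * (g⁻¹ * q * g)) * g⁻¹ := by rw [h1]
          _ = g * y * g⁻¹ * q := by group
      · intro hy q hq
        have h1 := hy _ ((Subgroup.mem_normalizer_iff.1 hgQ q).1 hq)
        calc q * y = g⁻¹ * (g * q * g⁻¹ * (g * y * g⁻¹)) * g := by group
          _ = g⁻¹ * (g * y * g⁻¹ * (g * q * g⁻¹)) * g := by rw [h1]
          _ = y * q := by group
  refine Subgroup.mem_normalizer_iff.2 fun y => ?_
  simp only [yPart, Subgroup.mem_inf]
  rw [Subgroup.mem_normalizer_iff.1 hgB y, Subgroup.mem_normalizer_iff.1 hgC y]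

omit [Finite G] in
/-- Squaring on `Y` commutes with the torus, read through the translations. -/
theorem sq_conj {i y y' : G} (hi : i ∈ J) (hy : y ∈ yPart B Q) (hy' : y' ∈ yPart B Q)
    (e : shift x y' = i * shift x y * i⁻¹) : y' * y' = i * (y * y) * i⁻¹ := by
  obtain ⟨g, -, hgx, hgY, -, hgR, -⟩ := U.torusLift i hi
  have hgy := (Subgroup.mem_normalizer_iff.1 hgY y).1 hy
  rw [U.sq_eq_of_shift hy' hgy (by
    rw [e, shift_conj hgx, hgR _ (U.base.shift_mem y (mem_yPart.1 hy).1)]),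
    show g * y * g⁻¹ * (g * y * g⁻¹) = g * (y * y) * g⁻¹ by group, hgR _ (U.sq_mem hy)]

/-- Squaring is trivial on `Y`, or onto `R` with only the involutions in `R`. -/
theorem elementary_or_onto :
    (∀ y ∈ yPart B Q, y * y = 1) ∨
      ((∀ r ∈ R, ∃ y ∈ yPart B Q, y * y = r) ∧ ∀ y ∈ yPart B Q, y * y = 1 → y ∈ R) := by
  have L := U.curved
  by_cases h0 : ∀ y ∈ yPart B Q, y * y = 1
  · exact Or.inl h0
  push Not at h0
  obtain ⟨y₀, hy₀, hne⟩ := h0
  refine Or.inr ⟨fun r hr => ?_, fun y hy hy2 => ?_⟩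
  · rcases eq_or_ne r 1 with rfl | hr1
    · exact ⟨1, one_mem _, one_mul 1⟩
    obtain ⟨i, hi, e⟩ := L.trans_J _ (U.sq_mem hy₀) r hr hne hr1
    obtain ⟨y, hy, hys⟩ := U.exists_y (L.J_conj_R hi (U.base.shift_mem y₀ (mem_yPart.1 hy₀).1))
    exact ⟨y, hy, by rw [U.sq_conj hi hy₀ hy hys, e]⟩
  · by_contra hyR
    have hs : shift x y ≠ 1 := fun e => hyR (U.mem_R_of_commute hy ((shift_eq_one L.x_sq).1 e))
    have hs₀ : shift x y₀ ≠ 1 := fun e =>
      hne (L.sq _ (U.mem_R_of_commute hy₀ ((shift_eq_one L.x_sq).1 e)))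
    obtain ⟨i, hi, e⟩ := L.trans_J _ (U.base.shift_mem y (mem_yPart.1 hy).1) _
      (U.base.shift_mem y₀ (mem_yPart.1 hy₀).1) hs hs₀
    exact hne (by rw [U.sq_conj hi hy hy₀ e.symm, hy2, mul_one, mul_inv_cancel])

omit [Finite G] in
/-- Squaring is the translation as soon as it is for one non-trivial translation. -/
theorem sq_eq_shift_or_ne :
    (∀ y ∈ yPart B Q, y * y = shift x y) ∨ ∀ y ∈ yPart B Q, y * y = shift x y → y ∈ R := by
  have L := U.curved
  by_cases h1 : ∀ y ∈ yPart B Q, y * y = shift x y → y ∈ R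
  · exact Or.inr h1
  push Not at h1
  obtain ⟨y₁, hy₁, e₁, hne⟩ := h1
  refine Or.inl fun y hy => ?_
  have hmem := U.base.shift_mem y (mem_yPart.1 hy).1
  rcases eq_or_ne (shift x y) 1 with e | hs
  · rw [e, L.sq y (U.mem_R_of_commute hy ((shift_eq_one L.x_sq).1 e))]
  have hs₁ : shift x y₁ ≠ 1 := fun e =>
    hne (U.mem_R_of_commute hy₁ ((shift_eq_one L.x_sq).1 e))
  obtain ⟨i, hi, e⟩ := L.trans_J _ (U.base.shift_mem y₁ (mem_yPart.1 hy₁).1) _ hmem hs₁ hs
  rw [U.sq_conj hi hy₁ hy e.symm, e₁, e]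

omit [Finite G] in
/-- If squaring is the translation, `x` inverts `Y`. -/
theorem inverted (h : ∀ y ∈ yPart B Q, y * y = shift x y) {y : G} (hy : y ∈ yPart B Q) :
    x * y * x = y⁻¹ := by
  have hR := U.sq_mem hy
  rw [conj_eq_shift_mul, ← h y hy]
  refine eq_inv_of_mul_eq_one_left ?_
  rw [mul_assoc, U.curved.sq _ hR]

/-- `Y` is commutative. -/
theorem y_comm {y y' : G} (hy : y ∈ yPart B Q) (hy' : y' ∈ yPart B Q) : Commute y y' := by
  classical
  have L := U.curved
  have S := U.squareGroup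
  have hex : ∀ r : ↥R, ∃ z ∈ yPart B Q, shift x z = r := fun r => U.exists_y r.2
  choose sec hsec hshift using hex
  letI : CommGroup R :=
    { (inferInstance : Group R) with
      mul_comm := fun r s => Subtype.ext (L.central _ (L.le r.2) _ s.2).eq }
  have hnorm : J ≤ Subgroup.normalizer (R : Set G) := L.norm_J.trans inf_le_left
  let ρ : J →* MulAut R := R.normalizerMonoidHom.comp (Subgroup.inclusion hnorm)
  have hρ : ∀ (i : J) (r : R), ((ρ i r : R) : G) = (i : G) * r * (i : G)⁻¹ := fun _ _ => rfl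
  have hJ : LinearAlgebra.Scalars ρ.range := by
    refine ⟨fun r => Subtype.ext (L.sq r r.2), ?_, fun r s hr hs => ?_⟩
    · rintro _ ⟨i, rfl⟩ _ ⟨k, rfl⟩
      refine MulEquiv.ext fun r => Subtype.ext ?_
      show ((ρ i (ρ k r) : R) : G) = ((ρ k (ρ i r) : R) : G)
      rw [hρ, hρ, hρ, hρ]
      exact L.abel_J i i.2 k k.2 r r.2
    · obtain ⟨i, hi, e⟩ := L.trans_J r r.2 s s.2 (fun e => hr (Subtype.ext e))
        (fun e => hs (Subtype.ext e))
      exact ⟨ρ ⟨i, hi⟩, ⟨⟨i, hi⟩, rfl⟩, Subtype.ext (by rw [hρ]; exact e)⟩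
  have hindep : ∀ {u v : G}, u ∈ yPart B Q → v ∈ yPart B Q → ∀ r s : ↥R, shift x u = r →
      shift x v = s → pol u v = pol (sec r) (sec s) := by
    intro u v hu hv r s eu ev
    have h1 := U.inv_mul_mem_R (hsec r) hu ((hshift r).trans eu.symm)
    have h2 := U.inv_mul_mem_R (hsec s) hv ((hshift s).trans ev.symm)
    conv_lhs => rw [show u = sec r * ((sec r)⁻¹ * u) by group,
      show v = sec s * ((sec s)⁻¹ * v) by group]
    rw [S.pol_mul_left (hsec r) (U.R_le h1) (mul_mem (hsec s) (U.R_le h2)),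
      S.pol_mul_right (hsec r) (hsec s) (U.R_le h2), S.pol_R (hsec r) h2,
      ← S.pol_symm (U.R_le h1) (mul_mem (hsec s) (U.R_le h2)),
      S.pol_R (mul_mem (hsec s) (U.R_le h2)) h1, mul_one, mul_one]
  have key := hJ.phi (fun r s : R => (⟨pol (sec r) (sec s), S.pol_mem (hsec r) (hsec s)⟩ : R))
    (fun r r' s => Subtype.ext (by
      show pol (sec (r * r')) (sec s) = pol (sec r) (sec s) * pol (sec r') (sec s)
      rw [← S.pol_mul_left (hsec r) (hsec r') (hsec s)]
      refine (hindep (mul_mem (hsec r) (hsec r')) (hsec s) _ _ ?_ (hshift s)).symm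
      rw [U.shift_hom (mem_yPart.1 (hsec r)).1 (mem_yPart.1 (hsec r')).1, hshift, hshift]
      rfl))
    (fun r s s' => Subtype.ext (by
      show pol (sec r) (sec (s * s')) = pol (sec r) (sec s) * pol (sec r) (sec s')
      rw [← S.pol_mul_right (hsec r) (hsec s) (hsec s')]
      refine (hindep (hsec r) (mul_mem (hsec s) (hsec s')) _ _ (hshift r) ?_).symm
      rw [U.shift_hom (mem_yPart.1 (hsec s)).1 (mem_yPart.1 (hsec s')).1, hshift, hshift]
      rfl))
    (fun r => Subtype.ext (by show pol (sec r) (sec r) = 1; simp only [pol]; group))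
    (fun i hi r s => by
      obtain ⟨i, rfl⟩ := hi
      refine Subtype.ext ?_
      show pol (sec (ρ i r)) (sec (ρ i s)) = ((ρ i _ : R) : G)
      obtain ⟨g, -, hgx, hgY, -, hgR, -⟩ := U.torusLift i i.2
      rw [hρ]
      show _ = (i : G) * pol (sec r) (sec s) * (i : G)⁻¹
      rw [← hgR _ (S.pol_mem (hsec r) (hsec s)),
        show g * pol (sec r) (sec s) * g⁻¹ = pol (g * sec r * g⁻¹) (g * sec s * g⁻¹) by
          simp only [pol]; group]
      refine (hindep ((Subgroup.mem_normalizer_iff.1 hgY _).1 (hsec r))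
        ((Subgroup.mem_normalizer_iff.1 hgY _).1 (hsec s)) _ _ ?_ ?_).symm
      · rw [shift_conj hgx, hshift, hgR _ r.2, hρ]
      · rw [shift_conj hgx, hshift, hgR _ s.2, hρ])
  have h1 : pol y y' = 1 := by
    rw [hindep hy hy' ⟨_, U.base.shift_mem y (mem_yPart.1 hy).1⟩
      ⟨_, U.base.shift_mem y' (mem_yPart.1 hy').1⟩ rfl rfl]
    exact congrArg Subtype.val (key _ _)
  exact mul_inv_eq_iff_eq_mul.1 (mul_inv_eq_one.1 h1)

end UnitaryBase

end CfsgLib.LocalEven.OnePointFront.Nonfull
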