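import Cfsg.Agent.Lib.LocalEven.OnePointFront.Nonfull.Curved.CentShear
import Cfsg.Agent.Lib.LocalEven.OnePointFront.Nonfull.Curved.UnitaryGrow
import Cfsg.Agent.Lib.LocalEven.OnePointFront.Nonfull.Curved.UnitaryY
import Cfsg.Agent.Lib.LocalEven.OnePointFront.Nonfull.Linear.Exponent

/-!
# Unitary lines: the tower in the centraliser of `Q`

If `x` inverts the part `Y` of a base centralising `Q`, climb from `Y` inside `K ⊓ C(Q)` while an
inverted element moves the class.  At the last level `A` either `A Q` is a Sylow 2-subgroup of `K`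
or a regular group `B` over `A` centralising `Q` is transitive on the classes; in both cases this is
a `QTower`.
-/

set_option autoImplicit false
set_option linter.style.haveILetI false

namespace CfsgLib.LocalEven.OnePointFront.Nonfull

open MulAction CfsgLib.LocalEven.TIEndgame CfsgLib.Involution

universe u v

variable {G : Type u} [Group G] {Ω : Type v} [MulAction G Ω] {D : Set G} {a : Ω} {x j : G}
  {K R Q J A B : Subgroup G}

namespace Level

variable {i : ℕ} (L : Level D a x (K ⊓ Subgroup.centralizer (Q : Set G)) R J A i)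
include L

/-- An element of order four of `A` above each member. -/
theorem exists_root_two (hi : 1 ≤ i) {r : G} (hr : r ∈ R) : ∃ w ∈ A, w * w = r := by
  obtain ⟨u, hu, e⟩ := L.root r hr
  obtain ⟨k, rfl⟩ : ∃ k, i = k + 1 := ⟨i - 1, by omega⟩
  exact ⟨u ^ 2 ^ k, pow_mem hu _, by rw [← pow_add, ← two_mul, ← pow_succ', e]⟩

variable [Finite G]

/-- Either `A Q` is maximal among the 2-subgroups of `K`, or the translations centralise `Q`. -/
theorem exists_translation_or_top [Finite Ω] (U : UnitaryLine D a x K R Q J)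
    (h : ClosedSetting D Ω) (hmax : MaxRank D Ω R) (hQK : Q ≤ K) (hlift : TorusLift a x R Q J A)
    (hi : 1 ≤ i) :
    (∀ P : Subgroup G, IsPGroup 2 P → P ≤ K → A ⊔ Q ≤ P → P ≤ A ⊔ Q) ∨
      ∀ r ∈ R, ∃ y ∈ L.moves ⊓ (K ⊓ Subgroup.centralizer (Q : Set G)), kap x i y = r := by
  haveI : Fact (Nat.Prime 2) := ⟨Nat.prime_two⟩
  have C := U.toCurvedLine
  have hxx := C.x_sq
  have hxi : x⁻¹ = x := inv_eq_of_mul_eq_one_right hxx
  set W := A ⊔ Q with hW
  have hWK : W ≤ K := sup_le (L.le.trans inf_le_left) hQK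
  have hQA : Q ≤ Subgroup.normalizer (A : Set G) := fun g hg =>
    Subgroup.centralizer_le_normalizer _ (Subgroup.mem_centralizer_iff.2 fun u hu =>
      (L.commute_Q hu hg).eq)
  have hW2 : IsPGroup 2 W := L.two.to_sup_of_normal_left' C.two hQA
  have hWx : ∀ w ∈ W, x * w * x ∈ W := fun w hw => by
    obtain ⟨u, hu, q, hq, rfl⟩ := L.exists_split_sup hw
    rw [show x * (u * q) * x = x * u * (q * x) by group, ← (C.comm q hq).eq,
      show x * u * (x * q) = (x * u * x) * q by group, L.inv u hu]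
    exact mul_mem (Subgroup.mem_sup_left (inv_mem hu)) (Subgroup.mem_sup_right hq)
  have hxW : x ∈ Subgroup.normalizer (W : Set G) := mem_normalizer_of_conj_mem fun w hw => by
    rw [hxi]; exact hWx w hw
  obtain ⟨S, hS, hle⟩ := exists_top_two
    (hW2.to_sup_of_normal_left' (Involution.Basic.isPGroup_zpowers_of_two C.bad.1)
      (Subgroup.zpowers_le.2 hxW))
    (sup_le (hWK.trans C.point.le) (Subgroup.zpowers_le.2 (mem_stabilizer_iff.2 C.fix)))
  have hWS : W ≤ S := le_sup_left.trans hle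
  have hxS : x ∈ S := hle (Subgroup.mem_sup_right (Subgroup.mem_zpowers x))
  by_cases hTW : S ⊓ K ≤ W
  · have hodd := Nonfull.odd_relIndex_inf C.point.le C.point.conj hS
    rw [le_antisymm hTW (le_inf hWS hWK)] at hodd
    exact Or.inl fun P hP hPK hWP => le_of_odd_relIndex hodd hP hWP hPK
  obtain ⟨g, hg, hgW, hgn, hd⟩ := exists_growth (K := K) hxx hxS hS.1
    (fun k hk => by simpa [hxi] using C.conj_K C.fix hk) (C.x_notMem h) (le_inf hWS hWK) hWx hTW
  obtain ⟨u, hu, q, hq, hduq⟩ := L.exists_split_sup hd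
  have hga : g • a = a := mem_stabilizer_iff.1 (hS.2.1 hg.1)
  have hx' : x * (u * q) = g * x * g⁻¹ := by
    rw [← hduq, disp, show x * (x * g * x * g⁻¹) = (x * x) * g * x * g⁻¹ by group, hxx, one_mul]
  have hqR : q ∈ R := by
    by_contra hne
    refine U.false_of_shifted hmax hQK (e := u) (fun e he => L.commute_Q hu he) hq hne ?_ ?_
    · rw [hx']
      obtain ⟨-, p₁, p₂, hpp, hp₁, hp₂⟩ := id C.bad
      exact ⟨(Dihedral.orderOf_conj g x).trans C.bad.1, g • p₁, g • p₂,
        fun e => hpp (smul_left_cancel g e),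
        by rw [← mul_smul, inv_mul_cancel_right, mul_smul, hp₁],
        by rw [← mul_smul, inv_mul_cancel_right, mul_smul, hp₂]⟩
    · intro r hr
      obtain ⟨w, hw, hww⟩ := L.exists_root_two hi hr
      exact ⟨w, (L.le hw).1, hww, L.inv w hw, L.comm w hw u hu, fun e he => L.commute_Q hw he⟩
  have hdA : disp x g ∈ A := hduq ▸ mul_mem hu (L.R_le hqR)
  -- `g` normalises `Q` and `A`
  have hgQ : g ∈ Subgroup.normalizer (Q : Set G) := mem_normalizer_of_conj_mem fun e he => by
    obtain ⟨v, hv, q', hq', e1⟩ :=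
      L.exists_split_sup ((Subgroup.mem_normalizer_iff.1 hgn e).1 (Subgroup.mem_sup_right he))
    have h1 : Commute (g * x * g⁻¹) (v * q') := by
      rw [← e1]
      have := (C.comm e he).map (MulAut.conj g).toMonoidHom
      simpa [mul_assoc] using this
    rw [← hx', ← hduq] at h1
    set d := disp x g
    have h2 : x * d * (v * q') * (x * d)⁻¹ = v⁻¹ * q' := by
      calc x * d * (v * q') * (x * d)⁻¹ = x * ((d * (v * q')) * d⁻¹) * x⁻¹ := by group
        _ = x * v * (q' * x) := by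
            rw [((L.comm d hdA v hv).mul_right (L.commute_Q hdA hq')).eq, mul_inv_cancel_right, hxi]
            group
        _ = x * v * x * q' := by rw [← (C.comm q' hq').eq]; group
        _ = v⁻¹ * q' := by rw [L.inv v hv]
    rw [h1.eq, mul_inv_cancel_right] at h2
    have hvR : v ∈ R := L.invol v hv (eq_inv_iff_mul_eq_one.1 (mul_right_cancel h2))
    rw [e1]
    exact mul_mem (C.le hvR) hq'
  have hgA : g ∈ Subgroup.normalizer (A : Set G) := mem_normalizer_of_conj_mem fun w hw => by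
    obtain ⟨v, hv, q', hq', e1⟩ :=
      L.exists_split_sup ((Subgroup.mem_normalizer_iff.1 hgn w).1 (Subgroup.mem_sup_left hw))
    have hc := conj_mem_centralizer hgQ (L.le hw).2
    have hq'c : q' ∈ Subgroup.centralizer (Q : Set G) := by
      rw [show q' = v⁻¹ * (g * w * g⁻¹) by rw [e1]; group]
      exact mul_mem (inv_mem (L.le hv).2) hc
    rw [e1]
    exact mul_mem hv (L.R_le (U.mem_R_of_central hq'
      fun e he => (Subgroup.mem_centralizer_iff.1 hq'c e he).symm))
  exact Or.inr (L.exists_translation U h hQK hlift (hS.1.to_le inf_le_left) inf_le_right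
    (le_inf hWS hWK) hg ⟨hga, hgA, hdA⟩ hgQ hgW)

/-- An element inverted modulo `R` moving the class makes all translations centralise the elements
of order four of `A`. -/
theorem commute_root (C : CurvedLine D a x K R Q J) (h : ClosedSetting D Ω)
    (hlift : TorusLift a x R Q J A) (hi : 1 ≤ i)
    (honto : ∀ r ∈ R, ∃ y ∈ L.moves ⊓ (K ⊓ Subgroup.centralizer (Q : Set G)), kap x i y = r)
    {b : G} (hb : b ∈ L.moves ⊓ (K ⊓ Subgroup.centralizer (Q : Set G))) (hbk : kap x i b ≠ 1)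
    (hbR : x * b * x * b ∈ R) :
    ∀ y ∈ L.moves ⊓ (K ⊓ Subgroup.centralizer (Q : Set G)), ∀ w ∈ A, w * w ∈ R → Commute w y := by
  set H := L.moves ⊓ (K ⊓ Subgroup.centralizer (Q : Set G)) with hH
  have hHR : ∀ y ∈ H, ∀ r ∈ R, Commute y r := fun y hy r hr =>
    (Subgroup.mem_centralizer_iff.1 hy.2.2 r (C.le hr)).symm
  have hAc : ∀ u ∈ A, ∀ v ∈ A, Commute u v := L.comm
  have hnA : ∀ y ∈ H, ∀ u ∈ A, y * u * y⁻¹ ∈ A := fun y hy u hu =>
    (Subgroup.mem_normalizer_iff.1 hy.1.2.1 u).1 hu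
  have hdd : ∀ y ∈ H, ∀ w ∈ A, w * w ∈ R → dd y w ∈ R := by
    intro y hy w hw hww
    refine L.invol _ (mul_mem (hnA y hy w hw) (inv_mem hw)) ?_
    rw [dd, (hAc _ (inv_mem hw) _ (hnA y hy w hw)).mul_mul_mul_comm,
      show y * w * y⁻¹ * (y * w * y⁻¹) = y * (w * w) * y⁻¹ by group, (hHR y hy _ hww).eq,
      mul_inv_cancel_right, ← mul_inv_rev, mul_inv_cancel]
  -- it depends only on the class and the square
  have hdep : ∀ y ∈ H, ∀ y' ∈ H, ∀ w ∈ A, ∀ w' ∈ A, w * w ∈ R → kap x i y = kap x i y' →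
      w * w = w' * w' → dd y w = dd y' w' := by
    intro y hy y' hy' w hw w' hw' hww ek ew
    have hz := mul_mem (inv_mem hy) hy'
    have h4 := L.commute_four h (g := y⁻¹ * y') hz (hHR _ hz) ((L.kap_eq_iff h hy.1 hy'.1).1 ek)
      hw' (ew ▸ hww)
    have h5 : dd y' w' = dd y w' := by
      calc dd y' w' = y * ((y⁻¹ * y') * w' * (y⁻¹ * y')⁻¹) * y⁻¹ * w'⁻¹ := by
            simp only [dd]; group
        _ = dd y w' := by rw [h4]; rfl
    have hρ : w⁻¹ * w' ∈ R := L.invol _ (mul_mem (inv_mem hw) hw') (by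
      rw [(hAc _ hw' _ (inv_mem hw)).mul_mul_mul_comm, ← mul_inv_rev, ← ew, inv_mul_cancel])
    rw [h5]
    calc dd y w = y * w * ((w⁻¹ * w') * y⁻¹ * (w⁻¹ * w')⁻¹) * w⁻¹ := by
          rw [(hHR y hy _ hρ).symm.inv_right.eq, mul_inv_cancel_right]; rfl
      _ = dd y w' := by simp only [dd]; group
  have honto' : ∀ r, ∃ y, r ∈ R → y ∈ H ∧ kap x i y = r := fun r => by
    by_cases hr : r ∈ R
    · obtain ⟨y, hy, e⟩ := honto r hr
      exact ⟨y, fun _ => ⟨hy, e⟩⟩
    · exact ⟨1, fun h => absurd h hr⟩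
  choose τ hτ using honto'
  have hroot : ∀ r, ∃ w, r ∈ R → w ∈ A ∧ w * w = r := fun r => by
    by_cases hr : r ∈ R
    · obtain ⟨w, hw, e⟩ := L.exists_root_two hi hr
      exact ⟨w, fun _ => ⟨hw, e⟩⟩
    · exact ⟨1, fun h => absurd h hr⟩
  choose σ hσ using hroot
  have hσR : ∀ r ∈ R, σ r * σ r ∈ R := fun r hr => (hσ r hr).2.symm ▸ hr
  -- transport by the torus
  have heq : ∀ k ∈ J, ∀ r ∈ R, ∀ s ∈ R, dd (τ (k * r * k⁻¹)) (σ (k * s * k⁻¹)) =
      k * dd (τ r) (σ s) * k⁻¹ := by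
    intro k hk r hr s hs
    obtain ⟨g, hga, hgx, hgA, hgQ, hgR, -⟩ := hlift k hk
    obtain ⟨hτH, hτk⟩ := hτ r hr
    obtain ⟨hσA, hσe⟩ := hσ s hs
    obtain ⟨hτH', hτk'⟩ := hτ _ (C.J_conj_R hk hr)
    obtain ⟨hσA', hσe'⟩ := hσ _ (C.J_conj_R hk hs)
    rw [← hgR _ (hdd _ hτH _ hσA (hσR s hs))]
    rw [hdep _ hτH' (g * τ r * g⁻¹) (L.conj_moves C hga hgx hgA hgQ hτH) _ hσA' (g * σ s * g⁻¹)
      ((Subgroup.mem_normalizer_iff.1 hgA _).1 hσA) (hσR _ (C.J_conj_R hk hs))
      (by rw [hτk', L.kap_conj hgx, hτk, hgR r hr])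
      (by rw [hσe', show g * σ s * g⁻¹ * (g * σ s * g⁻¹) = g * (σ s * σ s) * g⁻¹ by group, hσe,
        hgR s hs])]
    simp only [dd]; group
  -- the diagonal is trivial
  have hdiag : ∀ t ∈ R, dd (τ t) (σ t) = 1 := by
    have hbc : Commute b (disp x b) := by
      have e : disp x b = x * b * x * b * (b⁻¹ * b⁻¹) := by simp only [disp]; group
      rw [e]
      exact (hHR b hb _ hbR).mul_right ((Commute.refl b).inv_right.mul_right
        (Commute.refl b).inv_right)
    obtain ⟨n, rfl⟩ : ∃ n, i = n + 1 := ⟨i - 1, by omega⟩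
    have ht₀ : dd (τ (kap x (n + 1) b)) (σ (kap x (n + 1) b)) = 1 := by
      have hkR := L.kap_mem hb.1
      obtain ⟨hτH, hτk⟩ := hτ _ hkR
      obtain ⟨hσA, hσe⟩ := hσ _ hkR
      rw [hdep _ hτH b hb _ hσA (disp x b ^ 2 ^ n) (pow_mem hb.1.2.2 _) (hσR _ hkR) hτk
        (by rw [hσe, ← pow_add, ← two_mul, ← pow_succ']; rfl), dd, (hbc.pow_right _).eq,
        mul_inv_cancel_right, mul_inv_cancel]
    intro t ht
    rcases eq_or_ne t 1 with rfl | ht1
    · rw [hdep _ (hτ 1 ht).1 1 (one_mem H) _ (hσ 1 ht).1 1 (one_mem A) (hσR 1 ht)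
        (by rw [(hτ 1 ht).2, L.kap_one]) (by rw [(hσ 1 ht).2, one_mul])]
      simp [dd]
    obtain ⟨k, hk, e⟩ := C.trans_J _ (L.kap_mem hb.1) t ht hbk ht1
    rw [← e, heq k hk _ (L.kap_mem hb.1) _ (L.kap_mem hb.1), ht₀, mul_one, mul_inv_cancel]
  have hzero := L.line.pairing_eq_one (fun r s => dd (τ r) (σ s))
    (fun r hr s hs => hdd _ (hτ r hr).1 _ (hσ s hs).1 (hσR s hs))
    (fun r hr r' hr' s hs => by
      obtain ⟨hy, ek⟩ := hτ r hr
      obtain ⟨hy', ek'⟩ := hτ r' hr'
      obtain ⟨hw, ew⟩ := hσ s hs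
      obtain ⟨hy'', ek''⟩ := hτ _ (mul_mem hr hr')
      rw [hdep _ hy'' _ (mul_mem hy hy') _ hw _ hw (hσR s hs)
        (by rw [ek'', L.kap_mul hy.1 hy'.1, ek, ek', (hHR _ hy r' hr').eq, mul_inv_cancel_right])
        rfl]
      calc dd (τ r * τ r') (σ s) = τ r * dd (τ r') (σ s) * (τ r)⁻¹ * dd (τ r) (σ s) := by
            simp only [dd]; group
        _ = dd (τ r) (σ s) * dd (τ r') (σ s) := by
            rw [(hHR _ hy _ (hdd _ hy' _ hw (hσR s hs))).eq, mul_inv_cancel_right,
              (L.line.comm_R (hdd _ hy _ hw (hσR s hs)) (hdd _ hy' _ hw (hσR s hs))).eq])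
    (fun r hr s hs s' hs' => by
      obtain ⟨hy, ek⟩ := hτ r hr
      obtain ⟨hw, ew⟩ := hσ s hs
      obtain ⟨hw', ew'⟩ := hσ s' hs'
      obtain ⟨hw'', ew''⟩ := hσ _ (mul_mem hs hs')
      rw [hdep _ hy _ hy _ hw'' _ (mul_mem hw hw') (hσR _ (mul_mem hs hs')) rfl
        (by rw [ew'', (hAc _ hw' _ hw).mul_mul_mul_comm, ew, ew'])]
      calc dd (τ r) (σ s * σ s') = dd (τ r) (σ s) * (σ s * dd (τ r) (σ s') * (σ s)⁻¹) := by
            simp only [dd]; group
        _ = _ := by
            rw [(hAc _ hw _ (L.R_le (hdd _ hy _ hw' (hσR s' hs')))).eq, mul_inv_cancel_right])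
    hdiag heq
  intro y hy w hw hww
  have hk := L.kap_mem hy.1
  have e1 := hzero _ hk _ hww
  rw [← hdep y hy _ (hτ _ hk).1 w hw _ (hσ _ hww).1 hww (hτ _ hk).2.symm (hσ _ hww).2.symm] at e1
  rw [dd, mul_inv_eq_one, mul_inv_eq_iff_eq_mul] at e1
  exact e1.symm

end Level

namespace UnitaryBase

variable [Finite G] (U : UnitaryBase D a x K R Q J B j)
include U

/-- If `x` inverts `Y` it is a level in `K ⊓ C(Q)`. -/
theorem centLevel (hinv : ∀ y ∈ yPart B Q, y * y = shift x y) :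
    Level D a x (K ⊓ Subgroup.centralizer (Q : Set G)) R J (yPart B Q) 1 where
  line := U.curved.centTransLine U.le fun _ hg hc => U.mem_R_of_central hg hc
  le := inf_le_inf U.base.le le_rfl
  two := U.base.two.to_le inf_le_left
  R_le := U.R_le
  comm _ hu _ hv := U.y_comm hu hv
  inv _ hu := U.inverted hinv hu
  invol u hu hu2 := U.mem_R_of_commute hu
    ((shift_eq_one U.curved.x_sq).1 (by rw [← hinv u hu, hu2]))
  root r hr := by
    obtain ⟨y, hy, e⟩ := U.exists_y hr
    exact ⟨y, hy, by rw [pow_one, pow_two, hinv y hy, e]⟩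
  exp u hu := by
    rw [show (2 : ℕ) ^ (1 + 1) = 2 * 2 from rfl, pow_mul, pow_two, pow_two,
      U.curved.sq _ (U.sq_mem hu)]
  torus i hi := by
    obtain ⟨g, hga, hgx, hgY, hgQ, hgR, -⟩ := U.torusLift i hi
    exact ⟨g, hga, hgx, hgY, mem_normalizer_of_conj_mem fun y hy => Subgroup.mem_inf.2
      ⟨U.curved.conj_K hga hy.1, conj_mem_centralizer hgQ hy.2⟩, hgR⟩

/-- The last level above `Y`. -/
theorem exists_centLevel (h : ClosedSetting D Ω) (hnf : NoFull D Ω)
    (hinv : ∀ y ∈ yPart B Q, y * y = shift x y) :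
    ∃ (A : Subgroup G) (i : ℕ) (L : Level D a x (K ⊓ Subgroup.centralizer (Q : Set G)) R J A i),
      1 ≤ i ∧ TorusLift a x R Q J A ∧
      ∀ t ∈ L.moves ⊓ (K ⊓ Subgroup.centralizer (Q : Set G)), x * t * x = t⁻¹ →
        Level.kap x i t = 1 := by
  classical
  haveI : Fact (Nat.Prime 2) := ⟨Nat.prime_two⟩
  have C := U.curved
  set V := Q ⊔ Subgroup.zpowers x with hV
  have hxQ : x ∈ Subgroup.normalizer (Q : Set G) := Subgroup.centralizer_le_normalizer _
    (Subgroup.mem_centralizer_iff.2 fun g hg => (C.comm g hg).eq.symm)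
  have hV2 : IsPGroup 2 V := C.two.to_sup_of_normal_left'
    (Involution.Basic.isPGroup_zpowers_of_two C.bad.1) (Subgroup.zpowers_le.2 hxQ)
  have hVC : V ≤ stabilizer G a ⊓ Subgroup.centralizer ({x} : Set G) := sup_le
    (fun q hq => ⟨mem_stabilizer_iff.2 (C.fix_Q q hq),
      Subgroup.mem_centralizer_singleton_iff.2 (C.comm q hq).symm.eq⟩)
    (Subgroup.zpowers_le.2 ⟨mem_stabilizer_iff.2 C.fix, Subgroup.mem_centralizer_singleton_iff.2 rfl⟩)
  have hVQ : V ≤ Subgroup.normalizer (Q : Set G) :=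
    sup_le Subgroup.le_normalizer (Subgroup.zpowers_le.2 hxQ)
  have hVK : V ≤ Subgroup.normalizer ((K ⊓ Subgroup.centralizer (Q : Set G) : Subgroup G) : Set G) :=
    fun v hv => mem_normalizer_of_conj_mem fun y hy => Subgroup.mem_inf.2
      ⟨C.conj_K (mem_stabilizer_iff.1 (hVC hv).1) hy.1, conj_mem_centralizer (hVQ hv) hy.2⟩
  suffices H : ∀ (n : ℕ) (A : Subgroup G) (i : ℕ), Nat.card G - Nat.card A ≤ n →
      ∀ L : Level D a x (K ⊓ Subgroup.centralizer (Q : Set G)) R J A i, 1 ≤ i →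
        TorusLift a x R Q J A →
        ∃ (A : Subgroup G) (i : ℕ) (L : Level D a x (K ⊓ Subgroup.centralizer (Q : Set G)) R J A i),
          1 ≤ i ∧ TorusLift a x R Q J A ∧
          ∀ t ∈ L.moves ⊓ (K ⊓ Subgroup.centralizer (Q : Set G)), x * t * x = t⁻¹ →
            Level.kap x i t = 1 from
    H _ _ 1 le_rfl (U.centLevel hinv) le_rfl U.torusLift
  intro n
  induction n using Nat.strong_induction_on with
  | _ n ih =>
    intro A i hn L hi hlift
    by_cases hno : ∀ t ∈ L.moves ⊓ (K ⊓ Subgroup.centralizer (Q : Set G)), x * t * x = t⁻¹ →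
        Level.kap x i t = 1
    · exact ⟨A, i, L, hi, hlift, hno⟩
    push Not at hno
    obtain ⟨t, ht, hti, htk⟩ := hno
    have hVA : V ≤ Subgroup.normalizer (A : Set G) := sup_le (fun q hq =>
      Subgroup.centralizer_le_normalizer _ (Subgroup.mem_centralizer_iff.2 fun u hu =>
        (L.commute_Q hu hq).eq)) L.zpowers_normalizer
    obtain ⟨B', LB, hlt, -, hAB, hBH, honto, hmax⟩ := L.exists_next h hnf ht hti
      (fun r hr => (Subgroup.mem_centralizer_iff.1 ht.2.2 r (C.le hr)).symm) htk hV2 hVA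
      (L.le_normalizer_centr hVK hVC hVA).2
    have hlift' : TorusLift a x R Q J B' := by
      intro k hk
      obtain ⟨g, hga, hgx, hgA, hgQ, hgR, hgq⟩ := hlift k hk
      obtain ⟨c, hc, hcx, hcB⟩ := L.exists_conj_comm h hnf
        (H := L.moves ⊓ (K ⊓ Subgroup.centralizer (Q : Set G)) ⊓ Subgroup.centralizer (R : Set G))
        (W := B'.map (MulAut.conj g).toMonoidHom)
        (fun u hu => Subgroup.mem_inf.2 ⟨Subgroup.mem_inf.2 ⟨(L.A_mem hu).1, L.le hu⟩,
          Subgroup.mem_centralizer_iff.2 fun r hr => (L.comm r (L.R_le hr) u hu).eq⟩)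
        inf_le_left LB.two hAB hBH honto hmax (LB.two.map _)
        (fun u hu => ⟨g⁻¹ * u * g, hAB (by
          simpa using (Subgroup.mem_normalizer_iff.1 (inv_mem hgA) u).1 hu), by simp [mul_assoc]⟩)
        (by
          rintro _ ⟨y, hy, rfl⟩
          exact Subgroup.mem_inf.2 ⟨L.conj_moves C hga hgx hgA hgQ (hBH hy).1,
            conj_mem_centralizer (C.mem_normalizer_R hgQ) (hBH hy).2⟩)
      have hcQ : ∀ e ∈ Q, c * e * c⁻¹ = e := fun e he => by
        rw [← Subgroup.mem_centralizer_iff.1 hc.1.2.2 e he, mul_inv_cancel_right]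
      have hconjQ : ∀ e ∈ Q, c * g * e * (c * g)⁻¹ = g * e * g⁻¹ := fun e he => by
        rw [show c * g * e * (c * g)⁻¹ = c * (g * e * g⁻¹) * c⁻¹ by group,
          hcQ _ ((Subgroup.mem_normalizer_iff.1 hgQ e).1 he)]
      refine ⟨c * g, by rw [mul_smul, hga, hc.1.1.1], hcx.mul_right hgx,
        mem_normalizer_of_conj_mem fun y hy => by
          have := hcB _ ⟨y, hy, rfl⟩
          simpa [mul_assoc] using this,
        mul_mem (Subgroup.centralizer_le_normalizer _ hc.1.2.2) hgQ,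
        fun r hr => by rw [hconjQ r (C.le hr), hgR r hr],
        fun e he => by rw [hconjQ e he]; exact hgq e he⟩
    have hB : Nat.card B' ≤ Nat.card G := Subgroup.card_le_card_group B'
    exact ih (Nat.card G - Nat.card B') (by omega) B' (i + 1) le_rfl LB (by omega) hlift'

/-- The tower in the centraliser of `Q`. -/
theorem exists_qTower [Finite Ω] (h : ClosedSetting D Ω) (hnf : NoFull D Ω)
    (hmax : MaxRank D Ω R) (hinv : ∀ y ∈ yPart B Q, y * y = shift x y) :
    ∃ A B₀ : Subgroup G, QTower x K R Q A B₀ := by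
  classical
  haveI : Fact (Nat.Prime 2) := ⟨Nat.prime_two⟩
  have C := U.curved
  obtain ⟨A, i, L, hi, hlift, hno⟩ := U.exists_centLevel h hnf hinv
  set H := L.moves ⊓ (K ⊓ Subgroup.centralizer (Q : Set G)) with hH
  rcases L.exists_translation_or_top U.line h hmax U.le hlift hi with htop | honto
  · exact ⟨A, A,
      { le := L.le.trans inf_le_left
        two := L.two
        comm_Q := fun b hb g hg => L.commute_Q hb hg
        le_B := le_rfl
        R_le := L.R_le
        conj_x := fun b hb => L.conj_x_A hb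
        sq := fun b hb => mul_mem hb hb
        invol := L.invol
        root := fun r hr => by
          obtain ⟨w, hw, hww⟩ := L.exists_root_two hi hr
          exact ⟨w, hw, hww, L.inv w hw, fun b hb _ => L.comm w hw b hb⟩
        one_class := Or.inl htop }⟩
  have hAH : A ≤ H := fun u hu => Subgroup.mem_inf.2 ⟨(L.A_mem hu).1, L.le hu⟩
  have hxK := L.line.x_norm
  obtain ⟨B₀, hB₀, hAB, hBH, hBonto, hxB, -⟩ := L.exists_regular h hnf hAH le_rfl honto
    (V := Subgroup.zpowers x) L.x_pgroup L.zpowers_normalizer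
    (L.le_normalizer_centr (Subgroup.zpowers_le.2 hxK) (Subgroup.zpowers_le.2
      ⟨mem_stabilizer_iff.2 C.fix, Subgroup.mem_centralizer_singleton_iff.2 rfl⟩)
      L.zpowers_normalizer).1
  have hm : ∀ b ∈ B₀, b ∈ L.moves := fun b hb => (hBH hb).1
  have hzero : ∀ b ∈ B₀, Level.kap x i b = 1 → b ∈ A := fun b hb e =>
    L.two_zero h hB₀ hAB (hBH.trans inf_le_right) hb (hm b hb) e
  refine ⟨A, B₀,
    { le := hBH.trans (inf_le_right.trans inf_le_left)
      two := hB₀
      comm_Q := fun b hb g hg => (Subgroup.mem_centralizer_iff.1 (hBH hb).2.2 g hg).symm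
      le_B := hAB
      R_le := L.R_le
      conj_x := fun b hb => by
        have := (Subgroup.mem_normalizer_iff.1 (hxB (Subgroup.mem_zpowers x)) b).1 hb
        rwa [L.line.x_inv] at this
      sq := fun b hb => hzero _ (mul_mem hb hb) (by
        rw [L.kap_mul (hm b hb) (hm b hb),
          ← Subgroup.mem_centralizer_iff.1 (hBH hb).2.2 _ (C.le (L.kap_mem (hm b hb))),
          mul_inv_cancel_right, L.line.sq _ (L.kap_mem (hm b hb))])
      invol := L.invol
      root := fun r hr => ?_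
      one_class := Or.inr fun b hb hbi => ?_ }⟩
  · obtain ⟨w, hw, hww⟩ := L.exists_root_two hi hr
    refine ⟨w, hw, hww, L.inv w hw, fun b hb hb' => ?_⟩
    by_cases hk : Level.kap x i b = 1
    · exact L.comm w hw b (hzero b hb hk)
    rcases hb' with hbA | hbR
    · exact L.comm w hw b hbA
    exact L.commute_root C h hlift hi honto (hBH hb) hk hbR b (hBH hb) w hw (hww.symm ▸ hr)
  · have hbA : b ∈ A := hzero b hb (hno b (hBH hb) hbi)
    obtain ⟨c, hc, e⟩ := hBonto _ (L.pow_mem_R hbA)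
    have hcd := (hm c hc).2.2
    obtain ⟨w, hw, hwe⟩ := L.exists_sq (mul_mem (inv_mem hcd) hbA) (by
      rw [(L.comm _ (inv_mem hcd) _ hbA).mul_pow, inv_pow]
      exact inv_mul_eq_one.2 e)
    refine ⟨w⁻¹ * c, mul_mem (inv_mem (hAB hw)) hc, ?_⟩
    have e1 : disp x w⁻¹ = w * w := by rw [disp, L.inv _ (inv_mem hw), inv_inv]
    have hd : disp x (w⁻¹ * c) = b := by
      rw [L.disp_mul, e1, (L.comm _ (inv_mem hw) _ hcd).eq, mul_inv_cancel_right,
        (L.comm (w * w) (mul_mem hw hw) _ hcd).eq, hwe, mul_inv_cancel_left]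
    calc w⁻¹ * c * x * (w⁻¹ * c)⁻¹ = (x * x) * (w⁻¹ * c) * x * (w⁻¹ * c)⁻¹ := by
          rw [L.x_sq, one_mul]
      _ = x * disp x (w⁻¹ * c) := by simp only [disp]; group
      _ = x * b := by rw [hd]

end UnitaryBase

end CfsgLib.LocalEven.OnePointFront.Nonfull
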