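import Cfsg.Agent.Lib.LocalEven.OnePointFront.Nonfull.Curved.UnitaryY
import Cfsg.Agent.Lib.LocalEven.OnePointFront.Nonfull.Curved.UnitaryGrow

/-!
# Unitary lines with `Q` in the point group: the three cases

If squaring is trivial on `Y`, the group of central involutions is moved.  If it is onto `R` and not
the translation, no bad conjugate of `x` leaves `x R`: by the scalars of the line the quadratic map
`g ↦ g² f [q, g]` has a zero, so such a conjugate would centralise a member outside `R`; hence the base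
is `S ⊓ K` and a member commutes with `Y`.  If it is the translation, a tower in the centraliser of
`Q` gives the contradiction.
-/

set_option autoImplicit false
set_option linter.style.haveILetI false

namespace CfsgLib.LocalEven.OnePointFront.Nonfull

open MulAction CfsgLib.LocalEven.TIEndgame CfsgLib.Involution

universe u v

variable {G : Type u} [Group G] {Ω : Type v} [MulAction G Ω] {D : Set G} {a : Ω} {x j : G}
  {K R Q J A B B₀ : Subgroup G} [Finite G]

namespace UnitaryBase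

variable (U : UnitaryBase D a x K R Q J B j)
include U

omit [Finite G] in
theorem y_le_K : yPart B Q ≤ K := inf_le_left.trans U.base.le

/-- If `Y` is elementary, `x` moves the central members of some maximal 2-subgroup. -/
theorem movedCase_of_elementary (h : ClosedSetting D Ω) (helem : ∀ y ∈ yPart B Q, y * y = 1) :
    MovedCase D a x K R Q J := by
  obtain ⟨p, F⟩ := U.fixer
  have L := U.curved
  obtain ⟨S, hS, hxS, hQS, e⟩ := L.exists_top_omCentre h F U.le U.y_le_K U.R_le helem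
    (fun y hy => U.base.shift_mem y (mem_yPart.1 hy).1) (fun r hr => U.exists_y hr)
    (fun y hy => U.j_commute hy)
    (fun g hg => Subgroup.centralizer_le_normalizer _
      (Subgroup.mem_centralizer_iff.2 fun y hy => ((mem_yPart.1 hy).2 g hg).eq))
  refine (MovedCase.of_central L h hS hxS hQS e.ge U.R_le (fun r hr => ?_) U.torusLift).2
  obtain ⟨y, hy, hys⟩ := U.exists_y hr
  exact ⟨y, hy, by rw [conj_eq_mul_shift L.x_sq, hys]⟩

/-- The squares of the base lie in `R`. -/
theorem sq_mem_base {b : G} (hb : b ∈ B) : b * b ∈ R := by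
  obtain ⟨y, hy, g, hg, rfl⟩ := U.exists_split hb
  rw [((mem_yPart.1 hy).2 g hg).symm.mul_mul_mul_comm]
  exact mul_mem (U.sq_mem hy) (U.curved.sq_mem g hg)

omit [Finite G] in
/-- If squaring is onto `R`, some element of the torus turns translations into squares and keeps the
pairings with fixed elements. -/
theorem exists_scalar (hsurj : ∀ r ∈ R, ∃ y ∈ yPart B Q, y * y = r) :
    ∃ i ∈ J, (∀ y ∈ yPart B Q, y * y = i * shift x y * i⁻¹) ∧
      ∀ g ∈ Q, ∃ h ∈ Q, ∀ w ∈ Q, pol h w = i * pol g w * i⁻¹ := by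
  have L := U.curved
  obtain ⟨r, hr, hr1⟩ : ∃ r ∈ R, r ≠ 1 := R.bot_or_exists_ne_one.resolve_left fun e => by
    have := L.four
    rw [e, Subgroup.card_bot] at this
    omega
  obtain ⟨y₀, hy₀, rfl⟩ := hsurj r hr
  have hmem := U.base.shift_mem y₀ (mem_yPart.1 hy₀).1
  have hs₀ : shift x y₀ ≠ 1 := fun e =>
    hr1 (L.sq _ (U.mem_R_of_commute hy₀ ((shift_eq_one L.x_sq).1 e)))
  obtain ⟨i, hi, he, hp⟩ := U.line.pol_scalar _ hmem _ (U.sq_mem hy₀) hs₀ hr1
  refine ⟨i, hi, fun y hy => ?_, hp⟩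
  rcases eq_or_ne (shift x y) 1 with e | hs
  · rw [e, L.sq y (U.mem_R_of_commute hy ((shift_eq_one L.x_sq).1 e)), mul_one, mul_inv_cancel]
  obtain ⟨k, hk, e⟩ := L.trans_J _ hmem _ (U.base.shift_mem y (mem_yPart.1 hy).1) hs₀ hs
  rw [U.sq_conj hk hy₀ hy e.symm, ← he, ← e]
  exact L.abel_J k hk i hi _ hmem

/-- If squaring is onto `R`, no bad involution `x y q` with `q` in `Q` outside `R`. -/
theorem false_of_shifted_onto (hmax : MaxRank D Ω R)
    (hsurj : ∀ r ∈ R, ∃ y ∈ yPart B Q, y * y = r) {y q : G} (hy : y ∈ yPart B Q) (hq : q ∈ Q)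
    (hqR : q ∉ R) (hbad : IsBad Ω (x * (y * q))) : False := by
  have L := U.curved
  have S := L.squareGroup
  have hx2 := L.x_sq
  have hxi : x⁻¹ = x := inv_eq_of_mul_eq_one_right hx2
  obtain ⟨i, hi, hisq, hp⟩ := U.exists_scalar hsurj
  obtain ⟨h, hh, hhp⟩ := hp q hq
  have hhR : h ∉ R := fun e => hqR (U.mem_R_of_central hq fun w hw => by
    have h1 : i * pol q w * i⁻¹ = 1 := by
      rw [← hhp w hw, ← S.pol_symm (L.le e) hw, S.pol_R hw e]
    exact mul_inv_eq_iff_eq_mul.1 (mul_inv_eq_one.1 (conj_eq_one_iff.1 h1)))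
  -- a root of the shifted quadratic map
  set h' := j * h * j⁻¹ with hh'
  have hh'Q : h' ∈ Q := U.j_conj_Q hh
  set q₁ := h'⁻¹ * h with hq₁
  have hq₁Q : q₁ ∈ Q := mul_mem (inv_mem hh'Q) hh
  have hq₁R : q₁ ∉ R := fun e => hhR (U.fpf hh (by
    have h1 : h' * h⁻¹ = q₁⁻¹ := by
      rw [show h = q₁ * h' by rw [← (L.central h' hh'Q _ e).eq, hq₁, mul_inv_cancel_left]]
      group
    rw [← hh', h1]
    exact inv_mem e))
  have hsq₁ : q₁ * q₁ = pol h q₁ := by
    have e : h' * q₁ = h := by rw [hq₁, mul_inv_cancel_left]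
    have h1 : h * h = h' * h' := by
      rw [hh', show j * h * j⁻¹ * (j * h * j⁻¹) = j * (h * h) * j⁻¹ by group,
        (U.comm_j (L.sq_mem h hh)).eq, mul_inv_cancel_right]
    have h2 := S.mul_sq hh'Q hq₁Q
    rw [e, h1] at h2
    have h3 : pol h q₁ = pol h' q₁ := by
      conv_lhs => rw [← e]
      rw [S.pol_mul_left hh'Q hq₁Q hq₁Q, show pol q₁ q₁ = 1 by simp only [pol]; group, mul_one]
    have h4 : pol h' q₁ * (q₁ * q₁) = 1 := mul_eq_left.1 ((mul_assoc _ _ _).symm.trans h2.symm)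
    rw [h3, eq_inv_of_mul_eq_one_right h4, S.inv_R (S.pol_mem hh'Q hq₁Q)]
  set r := pol q q₁ with hr
  have hrR : r ∈ R := S.pol_mem hq hq₁Q
  obtain ⟨w, hw, hwr⟩ := U.exists_y hrR
  obtain ⟨hwB, hwQ⟩ := mem_yPart.1 hw
  have hww : w * w = q₁ * q₁ := by rw [hisq w hw, hwr, hsq₁, hhp q₁ hq₁Q]
  set u := q₁ * w with hu
  have huu : u * u = 1 := by
    rw [hu, (hwQ q₁ hq₁Q).mul_mul_mul_comm, hww]
    exact L.sq _ (L.sq_mem q₁ hq₁Q)
  have huR : u ∉ R := fun e => hq₁R (U.mem_R_of_central hq₁Q fun g hg => by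
    rw [show q₁ = u * w⁻¹ by rw [hu]; group]
    exact (L.central g hg _ e).symm.mul_left (hwQ g hg).inv_left)
  have hyQ := (mem_yPart.1 hy).2
  have hconj : Commute (x * (y * q)) u := by
    have h1 : y * q * u * (y * q)⁻¹ = r * q₁ * w := by
      calc y * q * u * (y * q)⁻¹ = y * ((q * q₁ * q⁻¹) * (q * w * q⁻¹)) * y⁻¹ := by rw [hu]; group
        _ = y * (r * q₁ * w) * y⁻¹ := by
            rw [show q * q₁ * q⁻¹ = r * q₁ by rw [hr, pol]; group,
              show q * w * q⁻¹ = w by rw [← (hwQ q hq).eq, mul_inv_cancel_right]]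
        _ = r * q₁ * w := by
            rw [(((hyQ r (L.le hrR)).mul_right (hyQ q₁ hq₁Q)).mul_right (U.y_comm hy hw)).eq,
              mul_inv_cancel_right]
    show x * (y * q) * u = u * (x * (y * q))
    rw [← mul_inv_eq_iff_eq_mul]
    calc x * (y * q) * u * (x * (y * q))⁻¹ = x * (y * q * u * (y * q)⁻¹) * x := by
          rw [mul_inv_rev, hxi]; group
      _ = x * (r * q₁) * x * (x * w * x) := by
          rw [h1, show x * (r * q₁) * x * (x * w * x) = x * (r * q₁) * (x * x) * w * x by group,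
            hx2, mul_one]
          group
      _ = r * q₁ * (r * w) := by
          rw [((L.comm r (L.le hrR)).mul_right (L.comm q₁ hq₁Q)).eq, mul_assoc _ x x, hx2, mul_one,
            conj_eq_shift_mul, hwr]
      _ = u := by
          rw [mul_assoc r q₁, ← mul_assoc q₁ r, (L.central q₁ hq₁Q r hrR).eq, mul_assoc r q₁,
            ← mul_assoc r r, L.sq r hrR, one_mul]
  refine huR (mem_of_maxRank L.point hmax L.sq L.le_K hbad (fun s hs => ?_)
    (mul_mem (U.le hq₁Q) (U.y_le_K hw)) huu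
    (fun s hs => (L.central q₁ hq₁Q s hs).mul_left (U.comm_R hwB hs)) hconj)
  exact (L.comm s (L.le hs)).mul_left
    ((U.comm_R (mem_yPart.1 hy).1 hs).mul_left (L.central q hq s hs))

/-- A member outside `R` commutes with `Y` if squaring is onto `R`. -/
theorem exists_member (hsurj : ∀ r ∈ R, ∃ y ∈ yPart B Q, y * y = r) :
    ∃ d ∈ dat D a, d ∉ R ∧ ∀ y ∈ yPart B Q, Commute d y := by
  have L := U.curved
  obtain ⟨q, hq, hqR⟩ : ∃ q ∈ Q, q ∉ R := by
    by_contra hall
    push Not at hall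
    exact L.ne (le_antisymm hall L.le)
  obtain ⟨w, hw, hww⟩ := hsurj _ (L.sq_mem q hq)
  obtain ⟨hwB, hwQ⟩ := mem_yPart.1 hw
  have hdd : q * w * (q * w) = 1 := by
    rw [(hwQ q hq).mul_mul_mul_comm, hww]
    exact L.sq _ (L.sq_mem q hq)
  have hdR : q * w ∉ R := fun e => hqR (U.mem_R_of_central hq fun g hg => by
    rw [show q = q * w * w⁻¹ by group]
    exact (L.central g hg _ e).symm.mul_left (hwQ g hg).inv_left)
  refine ⟨q * w, L.point.invol_mem _ (mul_mem (U.le hq) (U.y_le_K hw))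
    (orderOf_eq_prime (by rw [pow_two]; exact hdd) fun e => hdR (e ▸ one_mem R)), hdR,
    fun y hy => ?_⟩
  exact ((mem_yPart.1 hy).2 q hq).symm.mul_left (U.y_comm hw hy)

/-- Squaring is not a translation-free map of `Y` onto `R`. -/
theorem false_of_free [Finite Ω] (h : ClosedSetting D Ω) (hmax : MaxRank D Ω R)
    (hsurj : ∀ r ∈ R, ∃ y ∈ yPart B Q, y * y = r)
    (hinvol : ∀ y ∈ yPart B Q, y * y = 1 → y ∈ R)
    (hfree : ∀ y ∈ yPart B Q, y * y = shift x y → y ∈ R) : False := by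
  have L := U.curved
  have hx2 := L.x_sq
  have hxi : x⁻¹ = x := inv_eq_of_mul_eq_one_right hx2
  obtain ⟨S, hS, hBS, hQS, hxS⟩ := U.base.exists_top
  have hTB : S ⊓ K ≤ B := by
    by_contra hlt
    obtain ⟨g, hg, hgB, hgn, hd⟩ := exists_growth (K := K) (A := B) hx2 hxS hS.1
      (fun k hk => by simpa [hxi] using L.conj_K L.fix hk) (L.x_notMem h) (le_inf hBS U.base.le)
      (fun b hb => by simpa [hxi] using (Subgroup.mem_normalizer_iff.1 U.base.inv_x b).1 hb) hlt
    rw [disp_eq_shift] at hd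
    obtain ⟨y, hy, q, hq, e⟩ := U.exists_split hd
    have hx' : g * x * g⁻¹ = x * (y * q) := by rw [conj_eq_mul_shift hx2, e]
    by_cases hqR : q ∈ R
    swap
    · refine U.false_of_shifted_onto hmax hsurj hy hq hqR ?_
      rw [← hx']
      obtain ⟨-, p₁, p₂, hpp, hp₁, hp₂⟩ := id L.bad
      exact ⟨(Dihedral.orderOf_conj g x).trans L.bad.1, g • p₁, g • p₂,
        fun e => hpp (smul_left_cancel g e),
        by rw [← mul_smul, inv_mul_cancel_right, mul_smul, hp₁],
        by rw [← mul_smul, inv_mul_cancel_right, mul_smul, hp₂]⟩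
    have hy' : y * q ∈ yPart B Q := mul_mem hy (U.R_le hqR)
    have hinv : x * (y * q) * (x * (y * q)) = 1 := by
      rw [← hx', show g * x * g⁻¹ * (g * x * g⁻¹) = g * (x * x) * g⁻¹ by group, hx2]
      group
    have hfix : y * q * (y * q) = shift x (y * q) := by
      have h1 : shift x (y * q) * (y * q * (y * q)) = 1 := by
        rw [← mul_assoc, ← conj_eq_shift_mul, ← hinv]
        group
      rw [eq_inv_of_mul_eq_one_right h1,
        inv_eq_of_mul_eq_one_right (L.sq _ (U.base.shift_mem _ (mem_yPart.1 hy').1))]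
    have hsR : shift x g ∈ R := e ▸ hfree _ hy' hfix
    have hgR : g ∈ Subgroup.normalizer (R : Set G) := mem_normalizer_of_conj_mem fun r hr => by
      obtain ⟨w, hw, rfl⟩ := hsurj r hr
      rw [show g * (w * w) * g⁻¹ = g * w * g⁻¹ * (g * w * g⁻¹) by group]
      exact U.sq_mem_base ((Subgroup.mem_normalizer_iff.1 hgn w).1 (mem_yPart.1 hw).1)
    set P := S ⊓ moveGroup x K R hx2
    have hPB : P = B := U.base.maximal P (hS.1.to_le inf_le_left)
      (fun b hb => ⟨hBS hb, mem_moveGroup.2 ⟨U.base.le hb,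
        Subgroup.centralizer_le_normalizer _ (U.base.cent hb), U.base.shift_mem b hb⟩⟩)
      (fun p hp => ⟨(mem_moveGroup.1 hp.2).1, (mem_moveGroup.1 hp.2).2.2⟩)
    exact hgB (hPB.le ⟨hg.1, mem_moveGroup.2 ⟨hg.2, hgR, hsR⟩⟩)
  have hZ : omCentre (S ⊓ K) ≤ R := fun z hz => by
    obtain ⟨y, hy, q, hq, rfl⟩ := U.exists_split (hTB hz.1)
    have hqR : q ∈ R := U.mem_R_of_central hq fun g hg => by
      rw [show q = y⁻¹ * (y * q) by group]
      exact ((mem_yPart.1 hy).2 g hg).inv_left.mul_left (hz.2.2 g ⟨hQS hg, U.le hg⟩)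
    exact hinvol _ (mul_mem hy (U.R_le hqR)) hz.2.1
  obtain ⟨d, hd, hdR, hdY⟩ := U.exists_member hsurj
  obtain ⟨b, -, hba⟩ := L.exists_other
  exact false_of_member_squares h L.point ⟨b, hba⟩ hS (fun t ht _ => U.sq_mem_base (hTB ht)) hZ
    L.sq hd hdR (U.base.two.to_le inf_le_left) U.y_le_K hdY fun r hr _ => hsurj r hr

end UnitaryBase

/-- With a tower in the centraliser of `Q`, `x` centralises the central members. -/
theorem QTower.commute_omCentre (T : QTower x K R Q A B₀) (L : UnitaryLine D a x K R Q J)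
    (h : ClosedSetting D Ω) (hQK : Q ≤ K) {S : Subgroup G} (hS : IsTopTwo S a) (hxS : x ∈ S)
    (hQS : Q ≤ S) (hBS : B₀ ≤ S) {z : G} (hz : z ∈ omCentre (S ⊓ K)) : Commute x z := by
  have C := L.toCurvedLine
  have hx2 := C.x_sq
  have hxi : x⁻¹ = x := inv_eq_of_mul_eq_one_right hx2
  have hT : IsPGroup 2 ↥(S ⊓ K : Subgroup G) := hS.1.to_le inf_le_left
  have hQT : Q ≤ S ⊓ K := le_inf hQS hQK
  have hin : ∀ {v : G}, v ∈ S ⊓ K → Commute x v → v ∈ Q := fun hv hxv =>
    (C.mem_inf h hT inf_le_right (inf_le_right.trans hQT) hv hxv).2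
  have hxT : x ∈ Subgroup.normalizer ((S ⊓ K : Subgroup G) : Set G) :=
    mem_normalizer_of_conj_mem fun t ht => Subgroup.mem_inf.2
      ⟨mul_mem (mul_mem hxS ht.1) (inv_mem hxS), C.conj_K C.fix ht.2⟩
  have hsZ : shift x z ∈ omCentre (S ⊓ K) := by
    rw [show shift x z = x * z * x⁻¹ * z⁻¹ by rw [hxi, shift]; group]
    exact mul_mem ((Subgroup.mem_normalizer_iff.1 (normalizer_le_omCentre _ hxT) z).1 hz)
      (inv_mem hz)
  have hxs : Commute x (shift x z) := by
    have h1 : x * shift x z * x = shift x z := by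
      calc x * shift x z * x = (x * x) * z * x * z⁻¹ * x := by rw [shift]; group
        _ = z * x * z⁻¹ * x := by rw [hx2, one_mul]
        _ = (shift x z)⁻¹ := by
          rw [shift, mul_inv_rev, mul_inv_rev, mul_inv_rev, inv_inv, hxi]; group
        _ = shift x z := inv_eq_of_mul_eq_one_right hsZ.2.1
    show x * shift x z = shift x z * x
    calc x * shift x z = x * shift x z * (x * x) := by rw [hx2, mul_one]
      _ = shift x z * x := by rw [← mul_assoc, h1]
  have hsR : shift x z ∈ R := C.involution _ (hin hsZ.1 hxs) hsZ.2.1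
  obtain ⟨w, hw, hws, hxw, -⟩ := T.root _ hsR
  have hwT : w ∈ S ⊓ K := Subgroup.mem_inf.2 ⟨hBS (T.le_B hw), T.le (T.le_B hw)⟩
  have hshift : shift x w = shift x z := by
    rw [show shift x w = x * w * x * w⁻¹ by rw [shift]; group, hxw, ← mul_inv_rev, hws,
      inv_eq_of_mul_eq_one_right (C.sq _ hsR)]
  have heQ : w⁻¹ * z ∈ Q := hin (mul_mem (inv_mem hwT) hz.1) ((shift_eq_iff hx2).1 hshift)
  have heR : w⁻¹ * z ∈ R := by
    obtain ⟨j, hj, -, hjR, hfpf⟩ := L.norm_one
    have hcen : ∀ g ∈ Q, Commute (w⁻¹ * z) g := fun g hg =>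
      (T.comm_Q w (T.le_B hw) g hg).inv_left.mul_left (hz.2.2 g (hQT hg))
    have he' := C.J_conj_Q hj heQ
    refine hfpf _ heQ (C.involution _ (mul_mem he' (inv_mem heQ)) ?_)
    rw [(hcen _ he').inv_left.mul_mul_mul_comm,
      show j * (w⁻¹ * z) * j⁻¹ * (j * (w⁻¹ * z) * j⁻¹) =
        j * (w⁻¹ * z * (w⁻¹ * z)) * j⁻¹ by group,
      (hjR _ (C.sq_mem _ heQ)).eq, mul_inv_cancel_right, ← mul_inv_rev, mul_inv_cancel]
  have hzA : z ∈ A := by simpa using mul_mem hw (T.R_le heR)
  exact C.comm z (C.le (T.invol z hzA hz.2.1))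

/-- A unitary line with `Q ≤ K`: the moved case, provided towers centralising `Q` exist. -/
theorem UnitaryBase.movedCase {G : Type u} [Group G] [Finite G] {Ω : Type u} [MulAction G Ω]
    [Finite Ω] [FaithfulSMul G Ω] {D : Set G} {a : Ω} {x j : G} {K R Q J B : Subgroup G}
    (U : UnitaryBase D a x K R Q J B j) (h : ClosedSetting D Ω) (hmax : MaxRank D Ω R)
    (htower : (∀ y ∈ yPart B Q, y * y = shift x y) →
      ∃ A B₀ : Subgroup G, QTower x K R Q A B₀) : MovedCase D a x K R Q J := by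
  rcases U.elementary_or_onto with helem | ⟨hsurj, hinvol⟩
  · exact U.movedCase_of_elementary h helem
  rcases U.sq_eq_shift_or_ne with hinv | hfree
  · obtain ⟨A, B₀, T⟩ := htower hinv
    exact (U.line.false_of_tower h hmax U.le T
      fun S hS hxS hQS hBS z hz => T.commute_omCentre U.line h U.le hS hxS hQS hBS hz).elim
  · exact (U.false_of_free h hmax hsurj hinvol hfree).elim

end CfsgLib.LocalEven.OnePointFront.Nonfull
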