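import Cfsg.Agent.Lib.LocalEven.OnePointFront.Nonfull.Curved.Assembly
import Cfsg.Agent.Lib.LocalEven.OnePointFront.Nonfull.Curved.UnitaryOne
import Cfsg.Agent.Lib.LocalEven.OnePointFront.Nonfull.Curved.CentTower

/-!
# Unitary lines with `Q` in the point group give the moved case
-/

set_option autoImplicit false

namespace CfsgLib.LocalEven.OnePointFront.Nonfull

universe u

/-- Unitary lines with `Q ≤ K`: only the moved case remains. -/
theorem unitaryInHyp {G : Type u} [Group G] [Finite G] {Ω : Type u} [MulAction G Ω] [Finite Ω]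
    [FaithfulSMul G Ω] {D : Set G} (h : ClosedSetting D Ω) (hnf : NoFull D Ω) :
    UnitaryInHyp D Ω := by
  intro a x K R Q J B L _ hmax _ M hQK
  obtain ⟨j, U⟩ := L.exists_unitaryBase hQK M
  exact U.movedCase h hmax fun hinv => U.exists_qTower h hnf hmax hinv

end CfsgLib.LocalEven.OnePointFront.Nonfull
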