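import Mathlib.GroupTheory.Sylow
import Mathlib.GroupTheory.Index
import Mathlib.Tactic

/-!
# Counting in a special 2-group: singular subgroups

`Q` is a group with a central subgroup `R` of exponent two containing all squares.  For a hyperplane
`H` of `R` and a subgroup `E ≥ R` with all squares in `H`, the elements with square in `H` are
counted through the orthogonal `perp Q H E` of `E`, and `card_perp` bounds that orthogonal.
-/

set_option autoImplicit false

namespace CfsgLib.LocalEven.OnePointFront.Nonfull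

universe u

variable {G : Type u} [Group G]

/-- `R` is central of exponent two in `Q` and contains the squares. -/
structure SquareGroup (R Q : Subgroup G) : Prop where
  le : R ≤ Q
  sq : ∀ r ∈ R, r * r = 1
  sq_mem : ∀ g ∈ Q, g * g ∈ R
  central : ∀ g ∈ Q, ∀ r ∈ R, Commute g r

/-- The commutator. -/
def pol (g e : G) : G := g * e * g⁻¹ * e⁻¹

/-- `H` is a subgroup of index two of `R`. -/
def IsHyper (R H : Subgroup G) : Prop := H ≤ R ∧ Nat.card R = 2 * Nat.card H

namespace SquareGroup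

variable {R Q : Subgroup G} (S : SquareGroup R Q)
include S

theorem inv_R {r : G} (hr : r ∈ R) : r⁻¹ = r := inv_eq_of_mul_eq_one_right (S.sq r hr)

theorem pol_eq {g e : G} (hg : g ∈ Q) (he : e ∈ Q) :
    pol g e = g * e * (g * e) * ((g * g)⁻¹ * (e * e)⁻¹) := by
  have hc : e⁻¹ * (g * g)⁻¹ = (g * g)⁻¹ * e⁻¹ :=
    ((S.central _ (inv_mem he) _ (inv_mem (S.sq_mem g hg))).eq)
  calc pol g e = g * e * (g * e) * (e⁻¹ * (g * g)⁻¹ * e⁻¹) := by rw [pol]; group
    _ = _ := by rw [hc]; group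

theorem pol_mem {g e : G} (hg : g ∈ Q) (he : e ∈ Q) : pol g e ∈ R := by
  rw [S.pol_eq hg he]
  exact mul_mem (S.sq_mem _ (mul_mem hg he))
    (mul_mem (inv_mem (S.sq_mem g hg)) (inv_mem (S.sq_mem e he)))

theorem pol_mul_right {g e e' : G} (hg : g ∈ Q) (he : e ∈ Q) (he' : e' ∈ Q) :
    pol g (e * e') = pol g e * pol g e' := by
  have hc : e * pol g e' * e⁻¹ = pol g e' := by
    rw [(S.central e he _ (S.pol_mem hg he')).eq, mul_inv_cancel_right]
  calc pol g (e * e') = pol g e * (e * pol g e' * e⁻¹) := by simp only [pol]; group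
    _ = _ := by rw [hc]

theorem pol_mul_left {g g' e : G} (hg : g ∈ Q) (hg' : g' ∈ Q) (he : e ∈ Q) :
    pol (g * g') e = pol g e * pol g' e := by
  have hc : g * pol g' e * g⁻¹ = pol g' e := by
    rw [(S.central g hg _ (S.pol_mem hg' he)).eq, mul_inv_cancel_right]
  calc pol (g * g') e = g * pol g' e * g⁻¹ * pol g e := by simp only [pol]; group
    _ = pol g' e * pol g e := by rw [hc]
    _ = _ := (S.central _ (S.le (S.pol_mem hg' he)) _ (S.pol_mem hg he)).eq

theorem pol_symm {g e : G} (hg : g ∈ Q) (he : e ∈ Q) : pol e g = pol g e := by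
  rw [show pol e g = (pol g e)⁻¹ by simp only [pol]; group, S.inv_R (S.pol_mem hg he)]

theorem pol_R {g r : G} (hg : g ∈ Q) (hr : r ∈ R) : pol g r = 1 := by
  rw [pol, (S.central g hg r hr).eq]; group

omit S in
theorem pol_one (e : G) : pol 1 e = 1 := by simp [pol]

omit S in
theorem pol_one_right (g : G) : pol g 1 = 1 := by simp [pol]

theorem mul_sq {g e : G} (hg : g ∈ Q) (he : e ∈ Q) :
    g * e * (g * e) = g * g * pol g e * (e * e) := by
  have hc : pol g e * (g * g) = g * g * pol g e :=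
    ((S.central _ (mul_mem hg hg) _ (S.pol_mem hg he)).eq).symm
  have h1 := S.pol_eq hg he
  have h2 : g * e * (g * e) = pol g e * (e * e) * (g * g) := by rw [h1]; group
  rw [h2, mul_assoc, (S.central _ (mul_mem hg hg) _ (S.sq_mem e he)).eq.symm, ← mul_assoc, hc]

/-- The orthogonal of `E` modulo `H`. -/
def perp (H E : Subgroup G) : Subgroup G where
  carrier := {g | g ∈ Q ∧ ∀ e ∈ E, e ∈ Q → pol g e ∈ H}
  one_mem' := ⟨one_mem _, fun e _ _ => by rw [pol_one]; exact one_mem _⟩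
  mul_mem' := by
    rintro g g' ⟨hg, h⟩ ⟨hg', h'⟩
    refine ⟨mul_mem hg hg', fun e he heQ => ?_⟩
    rw [S.pol_mul_left hg hg' heQ]
    exact mul_mem (h e he heQ) (h' e he heQ)
  inv_mem' := by
    rintro g ⟨hg, h⟩
    refine ⟨inv_mem hg, fun e he heQ => ?_⟩
    have h1 : pol g e * pol g⁻¹ e = 1 := by
      rw [← S.pol_mul_left hg (inv_mem hg) heQ, mul_inv_cancel, pol_one]
    rw [eq_inv_of_mul_eq_one_right h1]
    exact inv_mem (h e he heQ)

variable {H : Subgroup G}

theorem mem_perp {E : Subgroup G} (hE : E ≤ Q) {g : G} :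
    g ∈ S.perp H E ↔ g ∈ Q ∧ ∀ e ∈ E, pol g e ∈ H :=
  ⟨fun h => ⟨h.1, fun e he => h.2 e he (hE he)⟩, fun h => ⟨h.1, fun e he _ => h.2 e he⟩⟩

theorem perp_le (E : Subgroup G) : S.perp H E ≤ Q := fun _ h => h.1

variable (hH : IsHyper R H)
include hH

omit S in
theorem mul_mem_of_not_mem [Finite G] {a b : G} (ha : a ∈ R) (hb : b ∈ R) (ha' : a ∉ H)
    (hb' : b ∉ H) : a * b ∈ H := by
  have hidx : (H.subgroupOf R).index = 2 := by
    have h1 := (H.subgroupOf R).card_mul_index
    rw [Nat.card_congr (Subgroup.subgroupOfEquivOfLe hH.1).toEquiv, hH.2, mul_comm 2] at h1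
    exact Nat.eq_of_mul_eq_mul_left Nat.card_pos h1
  exact Subgroup.mem_subgroupOf.1 ((Subgroup.mul_mem_iff_of_index_two hidx (a := ⟨a, ha⟩)
    (b := ⟨b, hb⟩)).2 (iff_of_false (fun h => ha' (Subgroup.mem_subgroupOf.1 h))
      (fun h => hb' (Subgroup.mem_subgroupOf.1 h))))

/-- A pairing not into `H` takes every coset of `H` half of the time. -/
theorem two_mul_row [Finite G] {E : Subgroup G} (hE : E ≤ Q) {g r : G} (hg : g ∈ Q) (hr : r ∈ R)
    (hne : g ∉ S.perp H E) :
    2 * Nat.card {e : E // r * pol g (e : G) ∈ H} = Nat.card E := by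
  classical
  obtain ⟨e₀, he₀, hp⟩ : ∃ e₀ ∈ E, pol g e₀ ∉ H := by
    by_contra hno
    push Not at hno
    exact hne ((S.mem_perp hE).2 ⟨hg, hno⟩)
  have hp0 : pol g e₀ ∈ R := S.pol_mem hg (hE he₀)
  have key : ∀ e : E, r * pol g (e : G) ∈ H ↔ ¬ r * pol g ((e : G) * e₀) ∈ H := by
    intro e
    rw [S.pol_mul_right hg (hE e.2) (hE he₀), ← mul_assoc]
    have he : r * pol g (e : G) ∈ R := mul_mem hr (S.pol_mem hg (hE e.2))
    constructor
    · intro h1 h2
      exact hp (by simpa [mul_assoc] using mul_mem (inv_mem h1) h2)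
    · intro h2
      by_contra h1
      exact h2 (mul_mem_of_not_mem hH he hp0 h1 hp)
  have e1 : {e : E // r * pol g (e : G) ∈ H} ≃ {e : E // ¬ r * pol g (e : G) ∈ H} :=
    (Equiv.mulRight (⟨e₀, he₀⟩ : E)).subtypeEquiv fun e => key e
  have e2 := Nat.card_congr (Equiv.sumCompl fun e : E => r * pol g (e : G) ∈ H)
  rw [Nat.card_sum, ← Nat.card_congr e1] at e2
  omega

omit S hH in
/-- The number of pairs is the sum of the rows. -/
theorem card_pairs {α β : Type*} [Fintype α] [Finite β] (P : α → β → Prop) :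
    Nat.card {p : α × β // P p.1 p.2} = ∑ a : α, Nat.card {b : β // P a b} := by
  rw [Nat.card_congr (Equiv.subtypeProdEquivSigmaSubtype P), Nat.card_sigma]

omit S hH in
theorem sum_ite_const {α : Type*} [Fintype α] (p : α → Prop) [DecidablePred p] (k : ℕ) :
    (∑ a : α, if p a then k else 0) = Nat.card {a : α // p a} * k := by
  rw [← Finset.sum_filter, Finset.sum_const, smul_eq_mul, Nat.card_eq_fintype_card,
    Fintype.card_subtype]

/-- The orthogonals of two subgroups. -/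
theorem card_perp [Finite G] {E : Subgroup G} (hE : E ≤ Q) :
    Nat.card (S.perp H E) * Nat.card E =
      Nat.card ↥(E ⊓ S.perp H Q) * Nat.card Q := by
  classical
  haveI := Fintype.ofFinite Q
  haveI := Fintype.ofFinite E
  let P : ↥Q → ↥E → Prop := fun g e => pol (g : G) (e : G) ∈ H
  have row : ∀ g : Q, 2 * Nat.card {e : E // P g e} =
      Nat.card E + if (g : G) ∈ S.perp H E then Nat.card E else 0 := by
    intro g
    split_ifs with hg
    · rw [Nat.card_congr (Equiv.subtypeUnivEquiv fun e : E =>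
        ((S.mem_perp hE).1 hg).2 e e.2), two_mul]
    · have := S.two_mul_row hH hE g.2 (one_mem R) hg
      simpa only [one_mul, add_zero] using this
  have col : ∀ e : E, 2 * Nat.card {g : Q // P g e} =
      Nat.card Q + if (e : G) ∈ E ⊓ S.perp H Q then Nat.card Q else 0 := by
    intro e
    have hc : Nat.card {g : Q // P g e} = Nat.card {g : Q // pol (e : G) (g : G) ∈ H} :=
      Nat.card_congr (Equiv.subtypeEquivRight fun g => by
        rw [S.pol_symm g.2 (hE e.2)])
    rw [hc]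
    split_ifs with he
    · rw [Nat.card_congr (Equiv.subtypeUnivEquiv fun g : Q =>
        ((S.mem_perp le_rfl).1 (Subgroup.mem_inf.1 he).2).2 g g.2), two_mul]
    · have := S.two_mul_row hH le_rfl (hE e.2) (one_mem R)
        (fun h => he (Subgroup.mem_inf.2 ⟨e.2, h⟩))
      simpa only [one_mul, add_zero] using this
  have h1 : 2 * Nat.card {p : Q × E // P p.1 p.2} =
      Nat.card Q * Nat.card E + Nat.card (S.perp H E) * Nat.card E := by
    rw [card_pairs, Finset.mul_sum, Finset.sum_congr rfl fun g _ => row g, Finset.sum_add_distrib,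
      Finset.sum_const, sum_ite_const, smul_eq_mul, Finset.card_univ, ← Nat.card_eq_fintype_card,
      Nat.card_congr (Subgroup.subgroupOfEquivOfLe (S.perp_le (H := H) E)).toEquiv.symm]
    rfl
  have h2 : 2 * Nat.card {p : Q × E // P p.1 p.2} =
      Nat.card E * Nat.card Q + Nat.card ↥(E ⊓ S.perp H Q) * Nat.card Q := by
    have hswap : Nat.card {p : Q × E // P p.1 p.2} = Nat.card {p : E × Q // P p.2 p.1} :=
      Nat.card_congr ((Equiv.prodComm Q E).subtypeEquiv fun p => Iff.rfl)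
    rw [hswap, card_pairs (fun e g => P g e), Finset.mul_sum,
      Finset.sum_congr rfl fun e _ => col e, Finset.sum_add_distrib,
      Finset.sum_const, sum_ite_const, smul_eq_mul, Finset.card_univ, ← Nat.card_eq_fintype_card,
      Nat.card_congr (Subgroup.subgroupOfEquivOfLe
        (inf_le_left : E ⊓ S.perp H Q ≤ E)).toEquiv.symm]
    rfl
  rw [mul_comm (Nat.card E) (Nat.card Q)] at h2
  omega

/-- The elements with square in `H`. -/
theorem two_card_zero [Finite G] {E : Subgroup G} (hE : E ≤ Q)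
    (hsing : ∀ e ∈ E, e * e ∈ H) :
    2 * Nat.card {g : Q // (g : G) * g ∈ H} + Nat.card (S.perp H E) =
      Nat.card Q + 2 * Nat.card {g : S.perp H E // (g : G) * g ∈ H} := by
  classical
  haveI := Fintype.ofFinite Q
  let P : ↥Q → ↥E → Prop := fun g e => (g : G) * e * ((g : G) * e) ∈ H
  have hP : ∀ (g : Q) (e : E), P g e ↔ (g : G) * g * pol (g : G) (e : G) ∈ H := by
    intro g e
    show (g : G) * e * ((g : G) * e) ∈ H ↔ _
    rw [S.mul_sq g.2 (hE e.2)]
    exact H.mul_mem_cancel_right (hsing e e.2)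
  have row : ∀ g : Q, 2 * Nat.card {e : E // P g e} +
      (if (g : G) ∈ S.perp H E then Nat.card E else 0) =
      Nat.card E + if (g : G) ∈ S.perp H E ∧ (g : G) * g ∈ H then 2 * Nat.card E else 0 := by
    intro g
    rw [Nat.card_congr (Equiv.subtypeEquivRight fun e => hP g e)]
    by_cases hg : (g : G) ∈ S.perp H E
    · have hiff : ∀ e : E, (g : G) * g * pol (g : G) (e : G) ∈ H ↔ (g : G) * g ∈ H := fun e =>
        H.mul_mem_cancel_right (((S.mem_perp hE).1 hg).2 e e.2)
      by_cases hgg : (g : G) * g ∈ H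
      · rw [Nat.card_congr (Equiv.subtypeUnivEquiv fun e : E => (hiff e).2 hgg), if_pos hg,
          if_pos ⟨hg, hgg⟩, add_comm]
      · haveI : IsEmpty {e : E // (g : G) * g * pol (g : G) (e : G) ∈ H} :=
          ⟨fun e => hgg ((hiff e.1).1 e.2)⟩
        rw [Nat.card_of_isEmpty, if_pos hg, if_neg (fun h => hgg h.2), mul_zero, zero_add, add_zero]
    · rw [S.two_mul_row hH hE g.2 (S.sq_mem g g.2) hg, if_neg hg, if_neg (fun h => hg h.1)]
  have h1 : Nat.card {p : Q × E // P p.1 p.2} =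
      Nat.card {g : Q // (g : G) * g ∈ H} * Nat.card E := by
    rw [← Nat.card_prod]
    refine Nat.card_congr ?_
    exact {
      toFun := fun p => (⟨⟨(p.1.1 : G) * p.1.2, mul_mem p.1.1.2 (hE p.1.2.2)⟩, p.2⟩, p.1.2)
      invFun := fun q => ⟨(⟨(q.1.1 : G) * (q.2 : G)⁻¹, mul_mem q.1.1.2 (inv_mem (hE q.2.2))⟩, q.2),
        by show (q.1.1 : G) * (q.2 : G)⁻¹ * q.2 * ((q.1.1 : G) * (q.2 : G)⁻¹ * q.2) ∈ H
           rw [inv_mul_cancel_right]; exact q.1.2⟩
      left_inv := fun p => by ext <;> simp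
      right_inv := fun q => by ext <;> simp }
  have hsum := Finset.sum_congr rfl fun (g : Q) (_ : g ∈ Finset.univ) => row g
  rw [Finset.sum_add_distrib, Finset.sum_add_distrib, ← Finset.mul_sum, ← card_pairs, h1,
    Finset.sum_const, sum_ite_const, sum_ite_const, smul_eq_mul, Finset.card_univ,
    ← Nat.card_eq_fintype_card] at hsum
  have e1 : Nat.card {g : Q // (g : G) ∈ S.perp H E} = Nat.card (S.perp H E) :=
    Nat.card_congr (Subgroup.subgroupOfEquivOfLe (S.perp_le (H := H) E)).toEquiv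
  have e2 : Nat.card {g : Q // (g : G) ∈ S.perp H E ∧ (g : G) * g ∈ H} =
      Nat.card {g : S.perp H E // (g : G) * g ∈ H} := Nat.card_congr
    { toFun := fun g => ⟨⟨g.1, g.2.1⟩, g.2.2⟩
      invFun := fun g => ⟨⟨g.1, S.perp_le (H := H) E g.1.2⟩, g.1.2, g.2⟩
      left_inv := fun g => rfl
      right_inv := fun g => rfl }
  rw [e1, e2] at hsum
  have hpos : 0 < Nat.card E := Nat.card_pos
  refine Nat.eq_of_mul_eq_mul_right hpos ?_
  rw [add_mul, add_mul]
  linarith

omit hH in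
theorem le_perp_self [Finite G] {E : Subgroup G} (hE : E ≤ Q) (hsing : ∀ e ∈ E, e * e ∈ H) :
    E ≤ S.perp H E := fun g hg => (S.mem_perp hE).2 ⟨hE hg, fun e he => by
  rw [S.pol_eq (hE hg) (hE he)]
  exact mul_mem (hsing _ (mul_mem hg he)) (mul_mem (inv_mem (hsing g hg)) (inv_mem (hsing e he)))⟩

omit hH in
/-- The elements of the orthogonal with square in `H` fill cosets of `E`. -/
theorem dvd_card_zero_perp [Finite G] {E : Subgroup G} (hE : E ≤ Q)
    (hsing : ∀ e ∈ E, e * e ∈ H) :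
    Nat.card E ∣ Nat.card {g : S.perp H E // (g : G) * g ∈ H} := by
  set U := S.perp H E with hU
  set E' := E.subgroupOf U with hE'
  set Z : Set U := {g | (g : G) * g ∈ H} with hZ
  have hst : ∀ g : U, g ∈ Z → ∀ e ∈ E', g * e ∈ Z := fun g hg e he => by
    show (g : G) * (e : G) * ((g : G) * (e : G)) ∈ H
    have he' : (e : G) ∈ E := he
    rw [S.mul_sq (S.perp_le (H := H) E g.2) (hE he')]
    exact mul_mem (mul_mem hg (((S.mem_perp hE).1 g.2).2 _ he')) (hsing _ he')
  have hpre : QuotientGroup.mk ⁻¹' ((QuotientGroup.mk : U → U ⧸ E') '' Z) = Z := by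
    refine Set.Subset.antisymm ?_ (Set.subset_preimage_image _ _)
    rintro g ⟨k, hk, e⟩
    have := hst k hk (k⁻¹ * g) (QuotientGroup.eq.1 e)
    rwa [mul_inv_cancel_left] at this
  have h := Nat.card_congr (QuotientGroup.preimageMkEquivSubgroupProdSet E'
    ((QuotientGroup.mk : U → U ⧸ E') '' Z))
  rw [hpre, Nat.card_prod,
    Nat.card_congr (Subgroup.subgroupOfEquivOfLe (S.le_perp_self hE hsing)).toEquiv] at h
  exact Dvd.intro _ h.symm

omit hH in
/-- An element acting as an involution on `Q / R` fixes at least a square root of it. -/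
theorem exists_fixed [Finite G] {t : G} (hQ : t ∈ Subgroup.normalizer (Q : Set G))
    (hR : t ∈ Subgroup.normalizer (R : Set G))
    (ht : ∀ g ∈ Q, t * t * g * (t * t)⁻¹ * g⁻¹ ∈ R) :
    ∃ E : Subgroup G, R ≤ E ∧ E ≤ Q ∧ (∀ e ∈ E, t * (e * e) * t⁻¹ = e * e) ∧
      Nat.card Q * Nat.card R ≤ Nat.card E * Nat.card E ∧
      (∀ e, e ∈ E ↔ e ∈ Q ∧ t * e * t⁻¹ * e⁻¹ ∈ R) ∧
      (Nat.card E * Nat.card E = Nat.card Q * Nat.card R →
        ∀ e ∈ E, ∃ k ∈ Q, t * k * t⁻¹ * k⁻¹ * e⁻¹ ∈ R) := by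
  haveI : (R.subgroupOf Q).Normal := ⟨fun r hr g => by
    show (g : G) * r * (g : G)⁻¹ ∈ R
    have hr' : (r : G) ∈ R := hr
    rw [(S.central g g.2 _ hr').eq, mul_inv_cancel_right]
    exact hr'⟩
  have hconjQ : ∀ g ∈ Q, t * g * t⁻¹ ∈ Q := fun g hg => (Subgroup.mem_normalizer_iff.1 hQ g).1 hg
  set π := QuotientGroup.mk' (R.subgroupOf Q) with hπ
  have hcomm : ∀ p q : ↥Q, π p * π q = π q * π p := fun p q => by
    rw [← map_mul, ← map_mul]
    refine QuotientGroup.eq.2 (Subgroup.mem_subgroupOf.2 ?_)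
    show ((p : G) * q)⁻¹ * ((q : G) * p) ∈ R
    have h1 := S.pol_mem (inv_mem q.2) (inv_mem p.2)
    simpa [pol, mul_assoc] using h1
  let f : ↥Q →* ↥Q ⧸ R.subgroupOf Q :=
    { toFun := fun g => π ⟨_, hconjQ g g.2⟩ * (π g)⁻¹
      map_one' := by
        show π ⟨t * ((1 : ↥Q) : G) * t⁻¹, _⟩ * (π 1)⁻¹ = 1
        rw [show (⟨t * ((1 : ↥Q) : G) * t⁻¹, hconjQ _ (one_mem Q)⟩ : ↥Q) = 1 from
          Subtype.ext (by simp), map_one, inv_one, mul_one]
      map_mul' := fun g k => by
        have e : (⟨_, hconjQ (g * k : ↥Q) (g * k : ↥Q).2⟩ : ↥Q) =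
            ⟨_, hconjQ g g.2⟩ * ⟨_, hconjQ k k.2⟩ :=
          Subtype.ext (by show t * ((g : G) * k) * t⁻¹ = t * g * t⁻¹ * (t * k * t⁻¹); group)
        rw [e, map_mul, map_mul, mul_inv_rev]
        have hc : ∀ p q : ↥Q ⧸ R.subgroupOf Q, p * q = q * p := fun p q => by
          obtain ⟨p, rfl⟩ := QuotientGroup.mk'_surjective _ p
          obtain ⟨q, rfl⟩ := QuotientGroup.mk'_surjective _ q
          exact hcomm p q
        rw [hc ((π k)⁻¹) ((π g)⁻¹), mul_assoc, ← mul_assoc (π ⟨_, hconjQ k k.2⟩),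
          hc (π ⟨_, hconjQ k k.2⟩) ((π g)⁻¹)]
        simp only [mul_assoc] }
  have hfk : ∀ g : ↥Q, f g = 1 ↔ (g : G)⁻¹ * (t * g * t⁻¹) ∈ R := fun g => by
    show π ⟨_, hconjQ g g.2⟩ * (π g)⁻¹ = 1 ↔ _
    rw [mul_inv_eq_one, eq_comm]
    exact QuotientGroup.eq.trans Subgroup.mem_subgroupOf
  have hmem : ∀ g : ↥Q, f g = 1 ↔ t * g * t⁻¹ * (g : G)⁻¹ ∈ R := fun g => by
    rw [hfk]
    constructor
    · intro h
      rw [show t * g * t⁻¹ * (g : G)⁻¹ = g * ((g : G)⁻¹ * (t * g * t⁻¹)) * (g : G)⁻¹ by group,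
        (S.central g g.2 _ h).eq, mul_inv_cancel_right]
      exact h
    · intro h
      rw [show (g : G)⁻¹ * (t * g * t⁻¹) = (g : G)⁻¹ * (t * g * t⁻¹ * (g : G)⁻¹) * g by group,
        (S.central _ (inv_mem g.2) _ h).eq, inv_mul_cancel_right]
      exact h
  have hle : f.range ≤ f.ker.map π := by
    rintro _ ⟨g, rfl⟩
    set g' : ↥Q := ⟨t * g * t⁻¹ * (g : G)⁻¹, mul_mem (hconjQ g g.2) (inv_mem g.2)⟩ with hg'
    refine ⟨g', (hfk g').2 ?_, ?_⟩
    · have h2 := ht g g.2
      set u := t * (g : G) * t⁻¹ with hu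
      have huQ : u ∈ Q := hconjQ g g.2
      set r := t * t * (g : G) * (t * t)⁻¹ * (g : G)⁻¹ with hr
      have e : ((g' : G))⁻¹ * (t * g' * t⁻¹) = (g : G) * u⁻¹ * (r * g * u⁻¹) := by
        rw [hg', hr, hu]; group
      rw [e, (S.central g g.2 r h2).eq.symm]
      rw [show (g : G) * u⁻¹ * ((g : G) * r * u⁻¹) = (g * u⁻¹) * g * (r * u⁻¹) by group,
        ← (S.central _ (inv_mem huQ) r h2).eq,
        show (g : G) * u⁻¹ * g * (u⁻¹ * r) = g * u⁻¹ * (g * u⁻¹) * r by group]
      exact mul_mem (S.sq_mem _ (mul_mem g.2 (inv_mem huQ))) h2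
    · show π g' = π ⟨_, hconjQ g g.2⟩ * (π g)⁻¹
      rw [← map_inv, ← map_mul]
      rfl
  have h1 : Nat.card Q = Nat.card f.range * Nat.card f.ker := by
    rw [Subgroup.card_eq_card_quotient_mul_card_subgroup f.ker,
      Nat.card_congr (QuotientGroup.quotientKerEquivRange f).toEquiv]
  have hRker : R.subgroupOf Q ≤ f.ker := fun g hg => (hfk g).2
    (mul_mem (inv_mem hg) ((Subgroup.mem_normalizer_iff.1 hR _).1 hg))
  have h2 : Nat.card f.ker = Nat.card ↥(f.ker.map π) * Nat.card R := by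
    have hc := Subgroup.card_eq_card_quotient_mul_card_subgroup ((R.subgroupOf Q).subgroupOf f.ker)
    rw [Nat.card_congr (Subgroup.subgroupOfEquivOfLe hRker).toEquiv,
      Nat.card_congr (Subgroup.subgroupOfEquivOfLe S.le).toEquiv] at hc
    rw [hc]
    congr 1
    let φ := π.subgroupMap f.ker
    have hk : φ.ker = (R.subgroupOf Q).subgroupOf f.ker := by
      ext g
      rw [MonoidHom.mem_ker, Subgroup.mem_subgroupOf]
      exact ⟨fun h => (QuotientGroup.eq_one_iff _).1 (congrArg Subtype.val h),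
        fun h => Subtype.ext ((QuotientGroup.eq_one_iff _).2 h)⟩
    rw [← hk]
    exact Nat.card_congr
      (QuotientGroup.quotientKerEquivOfSurjective φ (π.subgroupMap_surjective _)).toEquiv
  have h3 := Subgroup.card_le_of_le hle
  have le_card : Nat.card Q * Nat.card R ≤ Nat.card f.ker * Nat.card f.ker := by
    calc Nat.card Q * Nat.card R = Nat.card f.range * Nat.card R * Nat.card f.ker := by
          rw [h1]; ring
      _ ≤ Nat.card ↥(f.ker.map π) * Nat.card R * Nat.card f.ker := by gcongr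
      _ = _ := by rw [← h2]
  have range_le := hle
  have range_card : Nat.card f.ker * Nat.card f.ker = Nat.card Q * Nat.card R →
      Nat.card ↥(f.ker.map π) ≤ Nat.card f.range := fun heq => by
    refine le_of_eq (Nat.eq_of_mul_eq_mul_right (Nat.mul_pos (Nat.card_pos (α := R))
      (Nat.card_pos (α := f.ker))) ?_)
    rw [← mul_assoc, ← h2, heq, h1]; ring
  refine ⟨f.ker.map Q.subtype, fun r hr => ?_, Subgroup.map_subtype_le _, ?_, ?_, fun e => ?_, ?_⟩
  · refine ⟨⟨r, S.le hr⟩, (hfk _).2 ?_, rfl⟩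
    exact mul_mem (inv_mem hr) ((Subgroup.mem_normalizer_iff.1 hR r).1 hr)
  · rintro _ ⟨g, hg, rfl⟩
    have hr := (hfk g).1 hg
    set r := (g : G)⁻¹ * (t * g * t⁻¹) with hrdef
    calc t * ((g : G) * g) * t⁻¹ = ((g : G) * r) * ((g : G) * r) := by rw [hrdef]; group
      _ = g * g * (r * r) := by
        rw [mul_assoc (g : G) r, ← mul_assoc r, ← (S.central g g.2 r hr).eq]; group
      _ = _ := by rw [S.sq r hr, mul_one]; rfl
  · rw [Subgroup.card_map_of_injective Q.subtype_injective]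
    exact le_card
  · constructor
    · rintro ⟨g, hg, rfl⟩
      exact ⟨g.2, (hmem g).1 hg⟩
    · rintro ⟨he, h⟩
      exact ⟨⟨e, he⟩, (hmem _).2 h, rfl⟩
  · intro heq
    rw [Subgroup.card_map_of_injective Q.subtype_injective] at heq
    rintro _ ⟨g, hg, rfl⟩
    obtain ⟨k, hk⟩ : π g ∈ f.range := by
      rw [Subgroup.eq_of_le_of_card_ge (range_le) (range_card heq)]
      exact ⟨g, hg, rfl⟩
    refine ⟨k, k.2, ?_⟩
    have h3 : π (⟨_, hconjQ k k.2⟩ * k⁻¹) = π g := by rw [map_mul, map_inv]; exact hk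
    have h4 := Subgroup.mem_subgroupOf.1 (QuotientGroup.eq.1 h3.symm)
    set z := t * (k : G) * t⁻¹ * (k : G)⁻¹ with hz
    have hzQ : z ∈ Q := mul_mem (hconjQ k k.2) (inv_mem k.2)
    show z * (g : G)⁻¹ ∈ R
    have h5 : (g : G)⁻¹ * z ∈ R := h4
    rw [show z * (g : G)⁻¹ = g * ((g : G)⁻¹ * z) * (g : G)⁻¹ by group,
      (S.central g g.2 _ h5).eq, mul_inv_cancel_right]
    exact h5

end SquareGroup

end CfsgLib.LocalEven.OnePointFront.Nonfull
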