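import Cfsg.Agent.Lib.LocalEven.OnePointFront.Nonfull.Linear.Data
import Cfsg.Agent.Lib.LocalEven.OnePointFront.Nonfull.Curved.SquareGroup

/-!
# Unitary and Suzuki lines of bad involutions: interfaces

`Q` is a 2-group at `a` centralised by the bad involution `x` and regular on the other fixed points
of `x`; its involutions form the group `R` of members, its squares are all of `R`, and the torus `J`
acts irreducibly on `Q / R`.  `Q` need not lie in the point group `K`.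
-/

set_option autoImplicit false

namespace CfsgLib.LocalEven.OnePointFront.Nonfull

open MulAction CfsgLib.LocalEven.TIEndgame

universe u v

variable {G : Type u} {Ω : Type v} [Group G] [MulAction G Ω]

/-- The curved line of the bad involution `x` at `a`. -/
structure CurvedLine (D : Set G) (a : Ω) (x : G) (K R Q J : Subgroup G) : Prop where
  bad : IsBad Ω x
  fix : x • a = a
  point : PointGroup D a K
  four : 4 ≤ Nat.card R
  sq : ∀ r ∈ R, r * r = 1
  member : ∀ r ∈ R, r ≠ 1 → r ∈ dat D a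
  two : IsPGroup 2 Q
  le : R ≤ Q
  ne : Q ≠ R
  fix_Q : ∀ g ∈ Q, g • a = a
  comm : ∀ g ∈ Q, Commute x g
  /-- `Q` is transitive on the other fixed points of `x` -/
  trans : ∀ b c : Ω, x • b = b → x • c = c → b ≠ a → c ≠ a → ∃ g ∈ Q, g • b = c
  /-- and semiregular there -/
  semiregular : ∀ g ∈ Q, ∀ b : Ω, x • b = b → b ≠ a → g • b = b → g = 1
  involution : ∀ g ∈ Q, g * g = 1 → g ∈ R
  sq_mem : ∀ g ∈ Q, g * g ∈ R
  sq_onto : ∀ r ∈ R, ∃ g ∈ Q, g * g = r
  central : ∀ g ∈ Q, ∀ r ∈ R, Commute g r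
  fix_J : ∀ j ∈ J, j • a = a
  comm_J : ∀ j ∈ J, Commute x j
  core_J : J ≤ coreOf D (Subgroup.centralizer ({x} : Set G))
  core_Q : Q ≤ coreOf D (Subgroup.centralizer ({x} : Set G))
  /-- elements of the core fixing two fixed points of `x` have odd order -/
  core_odd : ∀ g ∈ coreOf D (Subgroup.centralizer ({x} : Set G)), ∀ b : Ω, g • a = a → x • b = b →
    b ≠ a → g • b = b → Odd (orderOf g)
  norm_J : J ≤ Subgroup.normalizer (R : Set G) ⊓ Subgroup.normalizer (Q : Set G)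
  /-- on `R` the group `J` is commutative and transitive -/
  abel_J : ∀ i ∈ J, ∀ j ∈ J, ∀ r ∈ R, i * (j * r * j⁻¹) * i⁻¹ = j * (i * r * i⁻¹) * j⁻¹
  trans_J : ∀ r ∈ R, ∀ s ∈ R, r ≠ 1 → s ≠ 1 → ∃ j ∈ J, j * r * j⁻¹ = s
  /-- also on `Q / R` it is commutative -/
  abel_Q : ∀ i ∈ J, ∀ j ∈ J, ∀ g ∈ Q,
    (i * (j * g * j⁻¹) * i⁻¹)⁻¹ * (j * (i * g * i⁻¹) * j⁻¹) ∈ R
  /-- and irreducible there -/
  irred : ∀ V : Subgroup G, R ≤ V → V ≤ Q → J ≤ Subgroup.normalizer (V : Set G) → V = R ∨ V = Q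
  /-- the elements at `a` centralising `x` and normalising `Q` normalise `J` -/
  conj_J : ∀ g : G, g • a = a → Commute x g → g ∈ Subgroup.normalizer (Q : Set G) →
    ∀ j ∈ J, g * j * g⁻¹ ∈ J
  /-- on the line the members at `a` are those in `R` -/
  line_members : ∀ d ∈ dat D a, Commute x d → ∃ r ∈ R, ∀ c : Ω, x • c = c → d • c = r • c

/-- A unitary line: an element of the torus centralises `R` and fixes nothing else on `Q / R`. -/
structure UnitaryLine (D : Set G) (a : Ω) (x : G) (K R Q J : Subgroup G) : Prop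
    extends CurvedLine D a x K R Q J where
  card_Q : Nat.card Q = Nat.card R ^ 3
  norm_one : ∃ j ∈ J, Odd (orderOf j) ∧ (∀ r ∈ R, Commute j r) ∧
    ∀ g ∈ Q, (j * g * j⁻¹) * g⁻¹ ∈ R → g ∈ R
  /-- some torus element taking one member to another keeps the pairings with fixed elements -/
  pol_scalar : ∀ r ∈ R, ∀ s ∈ R, r ≠ 1 → s ≠ 1 → ∃ j ∈ J, j * r * j⁻¹ = s ∧
    ∀ g ∈ Q, ∃ h ∈ Q, ∀ w ∈ Q, pol h w = j * pol g w * j⁻¹

/-- A Suzuki line: squaring is injective modulo `R` and `R` has order an odd power of two. -/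
structure SuzukiLine (D : Set G) (a : Ω) (x : G) (K R Q J : Subgroup G) : Prop
    extends CurvedLine D a x K R Q J where
  card_Q : Nat.card Q = Nat.card R ^ 2
  card_R : ∃ r : ℕ, Odd r ∧ 3 ≤ r ∧ Nat.card R = 2 ^ r
  sq_inj : ∀ g ∈ Q, ∀ g' ∈ Q, g * g = g' * g' → g⁻¹ * g' ∈ R
  sq_comm : ∀ g ∈ Q, g ∉ R → ∀ g' ∈ Q, Commute g g' → g' ∈ R ∨ g⁻¹ * g' ∈ R

/-- The bad involutions centralise no more members than `x`. -/
def MaxRank (D : Set G) (Ω : Type v) [MulAction G Ω] (R : Subgroup G) : Prop :=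
  ∀ (y : G) (c : Ω) (U : Subgroup G), IsBad Ω y → (∀ u ∈ U, u * u = 1) →
    (∀ u ∈ U, u ≠ 1 → u ∈ dat D c) → (∀ u ∈ U, Commute y u) → Nat.card U ≤ Nat.card R

end CfsgLib.LocalEven.OnePointFront.Nonfull
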