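import Cfsg.Agent.Lib.LocalEven.OnePointFront.Nonfull.Curved.Lift
import Cfsg.Agent.Lib.LocalEven.OnePointFront.Nonfull.Curved.SquareGroup

/-!
# The scalars of a lifted unitary line

In Heisenberg coordinates the commutator pairing is bilinear over the fixed field and the two-point
stabiliser contains its scalars.  So some element of the lifted torus takes a given member to
another one and carries every pairing with a fixed element to such a pairing.
-/

set_option autoImplicit false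
set_option linter.style.haveILetI false

open Cfsg

namespace CfsgLib.LocalEven.OnePointFront.Nonfull

open MulAction CfsgLib.RankOne CfsgLib.RankOne.UnitaryUnique CfsgLib.RankOne.UnitarySylow
  CfsgLib.Classical

/-- The pairing in coordinates. -/
theorem heis_pol {F : Type*} [Field F] [CharP F 2] {σ : F →+* F} [hσ : Fact (IsConjugation σ)]
    (g w : Heis σ) :
    (pol g w).c = 0 ∧ (pol g w).b = σ g.c * w.c + g.c * σ w.c := by
  simp only [pol, mul_c, mul_b, inv_c, inv_b, map_add]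
  constructor
  · linear_combination (g.c + w.c) * two0 (F := F)
  · linear_combination (g.b + w.b + g.c * σ g.c + w.c * σ w.c + σ g.c * w.c) * two0 (F := F)

/-- A scalar of the fixed field acts on a pairing as its square on the first entry. -/
theorem heis_pol_scalar {F : Type*} [Field F] [Fintype F] [CharP F 2] {σ : F →+* F} {q : ℕ}
    [hσ : Fact (IsConjugation σ)] [hq : Fact (Fintype.card F = q ^ 2 ∧ ∀ x, σ x = x ^ q)]
    {l : Fˣ} (hl : σ l = l) (g w : Heis σ) :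
    simAut (q := q) l (RingEquiv.refl F) (pol g w) =
      pol (simAut (q := q) l (RingEquiv.refl F) (simAut (q := q) l (RingEquiv.refl F) g)) w := by
  refine Heis.ext ?_ ?_
  · rw [(heis_pol _ _).1]
    show (l : F) * (pol g w).c = 0
    rw [(heis_pol _ _).1, mul_zero]
  · rw [(heis_pol _ _).2]
    show (l : F) * σ l * (pol g w).b =
      σ ((l : F) * ((l : F) * g.c)) * w.c + (l : F) * ((l : F) * g.c) * σ w.c
    rw [(heis_pol _ _).2, map_mul, map_mul, hl]
    ring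

namespace LineLift

variable {L X Δ : Type*} [Group L] [Group X] [MulAction X Δ] [Finite X] [FaithfulSMul X Δ]
  {f : L →* X} {a : Δ} {t : X} {Qb Z Kt : Subgroup X} {S : Subgroup L}
  (M : LineLift f a t Qb Z Kt S) (hW : kernelW X a t ≠ ⊥)
include M hW

/-- Some element of the two-point stabiliser moves one central translation to another and keeps
the set of pairings with fixed elements. -/
theorem exists_two_scalar {z₀ z₁ : X} (hz₀ : z₀ ∈ Z) (hz₁ : z₁ ∈ Z) (h₀ : z₀ ≠ 1) (h₁ : z₁ ≠ 1) :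
    ∃ d ∈ two X a t, d * z₀ * d⁻¹ = z₁ ∧
      ∀ γ ∈ Qb, ∃ η ∈ Qb, ∀ ω ∈ Qb, pol η ω = d * pol γ ω * d⁻¹ := by
  have hS := M.data.setup
  obtain ⟨F, _, _, _, σ, q, -, ⟨U₀⟩⟩ := exists_ucoord₀ hS M.four hW
  haveI : Fact (IsConjugation σ) := ⟨U₀.conj⟩
  haveI : Fact (Fintype.card F = q ^ 2 ∧ ∀ x, σ x = x ^ q) := ⟨U₀.card_field⟩
  obtain ⟨ψ, hψ, -⟩ := U₀.exists_extend hS
  obtain ⟨U⟩ := exists_ucoord hS U₀ ψ hψ
  have hinv : ∀ z ∈ Z, z ≠ 1 →
      ∃ g : Heis σ, (U.θ g : X) = z ∧ g.c = 0 ∧ g.b ≠ 0 ∧ σ g.b = g.b := by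
    intro z hz hz1
    obtain ⟨g, hg⟩ := U.θ.surjective ⟨z, M.data.Z_le_Q hz⟩
    have hgg : g * g = 1 := U.θ.injective (Subtype.ext (by
      rw [map_mul, map_one, Subgroup.coe_mul, hg, Subgroup.coe_one]
      exact M.data.Z_sq hz))
    have hc := (mul_self_eq_one g).1 hgg
    have hgz : (U.θ g : X) = z := congrArg Subtype.val hg
    refine ⟨g, hgz, hc, fun hb => hz1 ?_, fixed_of_c_eq_zero hc⟩
    rw [← hgz, show g = 1 from Heis.ext hc hb, map_one, Subgroup.coe_one]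
  obtain ⟨g₀, e₀, hc₀, hb₀, hf₀⟩ := hinv z₀ hz₀ h₀
  obtain ⟨g₁, e₁, hc₁, hb₁, hf₁⟩ := hinv z₁ hz₁ h₁
  obtain ⟨l, hl⟩ := Finite.injective_iff_surjective.1 (frobenius_inj F 2) (g₁.b / g₀.b)
  rw [frobenius_def] at hl
  have hlf : σ l = l := by
    apply frobenius_inj F 2
    rw [frobenius_def, frobenius_def, ← map_pow, hl, map_div₀, hf₁, hf₀]
  have hl0 : l ≠ 0 := fun h => by
    rw [h, zero_pow two_ne_zero, eq_comm, div_eq_zero_iff] at hl
    exact hl.elim hb₁ hb₀
  obtain ⟨k, hk, hkθ⟩ := U.scalar (Units.mk0 l hl0) hlf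
  refine ⟨k, hk.1, ?_, fun γ hγ => ?_⟩
  · rw [← e₀, ← e₁, ← hkθ]
    refine congrArg (fun g : Heis σ => ((U.θ g : Qb) : X)) (Heis.ext ?_ ?_)
    · show l * g₀.c = g₁.c
      rw [hc₀, hc₁, mul_zero]
    · show l * σ l * g₀.b = g₁.b
      rw [hlf, ← pow_two, hl, div_mul_cancel₀ _ hb₀]
  obtain ⟨g, hg⟩ := U.θ.surjective ⟨γ, hγ⟩
  refine ⟨_, (U.θ (simAut (q := q) (Units.mk0 l hl0) (RingEquiv.refl F)
    (simAut (q := q) (Units.mk0 l hl0) (RingEquiv.refl F) g))).2, fun ω hω => ?_⟩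
  obtain ⟨w, hw⟩ := U.θ.surjective ⟨ω, hω⟩
  have hpol : ∀ g w : Heis σ, ((U.θ (pol g w) : Qb) : X) = pol (U.θ g : X) (U.θ w : X) :=
    fun g w => by simp [pol]
  rw [show γ = (U.θ g : X) from (congrArg Subtype.val hg).symm,
    show ω = (U.θ w : X) from (congrArg Subtype.val hw).symm, ← hpol, ← hpol, ← hkθ,
    heis_pol_scalar hlf]

/-- Some element of the lifted torus moves one member to another and keeps the set of pairings
with fixed elements. -/
theorem exists_pol_scalar [Finite L] {r s : L} (hr : r ∈ liftInvs f Z S) (hs : s ∈ liftInvs f Z S)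
    (hr1 : r ≠ 1) (hs1 : s ≠ 1) : ∃ j ∈ liftTorus f a S, j * r * j⁻¹ = s ∧
      ∀ g ∈ S, ∃ h ∈ S, ∀ w ∈ S, pol h w = j * pol g w * j⁻¹ := by
  obtain ⟨d, hd, hde, hdp⟩ := M.exists_two_scalar hW hr.2 hs.2
    (fun e => hr1 (M.inj r hr.1 e)) (fun e => hs1 (M.inj s hs.1 e))
  obtain ⟨j, hj, -, hjz, -⟩ := M.exists_torus hd
  refine ⟨j, hj, M.eq_of_map_eq (M.conj_S hj hr.1) hs.1
    (by rw [map_mul, map_mul, map_inv, hjz _ hr.2, hde]), fun g hg => ?_⟩
  obtain ⟨η, hη, hηp⟩ := hdp _ (M.mem_Qb hg)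
  obtain ⟨h, hh, rfl⟩ := M.exists_lift hη
  have hpolS : ∀ {g w : L}, g ∈ S → w ∈ S → pol g w ∈ S := fun hg hw =>
    mul_mem (mul_mem (mul_mem hg hw) (inv_mem hg)) (inv_mem hw)
  have hfp : ∀ g w : L, f (pol g w) = pol (f g) (f w) := fun g w => by
    simp only [pol, map_mul, map_inv]
  refine ⟨h, hh, fun w hw => M.eq_of_map_eq (hpolS hh hw) (M.conj_S hj (hpolS hg hw)) ?_⟩
  have hz : pol (f g) (f w) ∈ Z := by
    have := TIEndgame.Line.comm_mem_Z M.data M.four (M.mem_Qb hg) (M.mem_Qb hw)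
    rwa [commutatorElement_def] at this
  rw [hfp, hηp _ (M.mem_Qb hw), map_mul, map_mul, map_inv, hfp, hjz _ hz]

end LineLift

end CfsgLib.LocalEven.OnePointFront.Nonfull
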