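import Cfsg.Agent.Lib.LocalEven.OnePointFront.LineGlue
import Cfsg.Agent.Lib.LocalEven.OnePointFront.Kernel
import Cfsg.Agent.Lib.LocalEven.OnePointFront.Nonfull.Curved.Data
import Cfsg.Agent.Lib.LocalEven.OnePointFront.Nonfull.Curved.LiftScalar

/-!
# The line of a bad involution in a least configuration

If two commuting members commute with the bad involution `x`, the 2-elements of the core of `C(x)`
at a point `a` of `x` give a linear, Suzuki or unitary line there.
-/

set_option autoImplicit false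
set_option linter.style.haveILetI false

open Cfsg

namespace CfsgLib.LocalEven.OnePointFront

open MulAction CfsgLib.LocalEven.TIEndgame CfsgLib.Involution CfsgLib.RankOne Nonfull

universe u

variable {G Ω : Type u} [Group G] [Finite G] [Finite Ω] [MulAction G Ω] [FaithfulSMul G Ω] {D : Set G}

omit [Finite G] [Finite Ω] [FaithfulSMul G Ω] in
/-- Good point groups give a point group at every point. -/
theorem HasGood.exists_pointGroup (hK : HasGood D Ω) (h : ClosedSetting D Ω) (a : Ω) :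
    ∃ K : Subgroup G, PointGroup D a K := by
  obtain ⟨K, hle, hconj, hinv⟩ := hK
  exact ⟨K a,
    { le := hle a
      conj := fun g hg k hk => by
        have := hconj g a k hk
        rwa [mem_stabilizer_iff.1 hg] at this
      dat_le := fun d hd => (hinv a d (h.orderOf_eq d hd.1)).2 hd
      invol_mem := fun k hk hk2 => (hinv a k hk2).1 hk }⟩

omit [Finite Ω] [FaithfulSMul G Ω] in
/-- A big line has two commuting members at each of its points. -/
theorem exists_pair_at (h : ClosedSetting D Ω) {x : G} {a : Ω} (hx : IsBad Ω x) (hxa : x • a = a)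
    (hbig : BigLine D Ω x) :
    ∃ r ∈ dat D a, ∃ s ∈ dat D a, r ≠ s ∧ Commute r s ∧ Commute x r ∧ Commute x s := by
  obtain ⟨c, hxc, r, hr, s, hs, hrs, hc, hxr, hxs⟩ := hbig
  have hpts : ∀ {q : Ω}, x • q = q → q ∈ ptsOf D Ω (Subgroup.centralizer {x}) := fun hq => by
    rw [h.ptsOf_centralizer hx.1]; exact hq
  obtain ⟨g, hg, rfl⟩ := exists_core_move h (hpts hxc) (hpts hxa)
  have hxg : Commute x g :=
    (Subgroup.mem_centralizer_singleton_iff.1 (coreOf_le D _ hg)).symm
  have hconj : ∀ {y : G}, Commute x y → Commute x (g * y * g⁻¹) := fun hy =>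
    (hxg.mul_right hy).mul_right hxg.inv_right
  refine ⟨_, h.toOnePoint.conj_mem_dat g hr, _, h.toOnePoint.conj_mem_dat g hs,
    fun e => hrs (mul_left_cancel (mul_right_cancel e)), ?_, hconj hxr, hconj hxs⟩
  exact (hc.map (MulAut.conj g).toMonoidHom :)

/-- A bad involution with two commuting members has a linear, Suzuki or unitary line at each of its
points. -/
theorem FrontMin.exists_line (h : FrontMin G Ω D) {x : G} {a : Ω} (hx : IsBad Ω x) (hxa : x • a = a)
    (hbig : BigLine D Ω x) :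
    ∃ K R : Subgroup G, (∃ J, LinearLine D a x K R J) ∨ (∃ Q J, SuzukiLine D a x K R Q J) ∨
      ∃ Q J, UnitaryLine D a x K R Q J := by
  have hC : ClosedSetting D Ω := h.toClosedSetting
  obtain ⟨r₀, hr₀, s₀, hs₀, hne₀, hc₀, hxr₀, hxs₀⟩ := exists_pair_at hC hx hxa hbig
  obtain ⟨b, L⟩ := hC.exists_lineAt hx hxa hr₀ hs₀ hxr₀ hxs₀ hne₀ hc₀
  obtain ⟨K, hK⟩ := h.good.exists_pointGroup hC a
  set H := Subgroup.centralizer ({x} : Set G) with hH
  have hmemH : ∀ {g : G}, Commute x g → g ∈ H := fun hg =>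
    Subgroup.mem_centralizer_singleton_iff.2 hg.eq.symm
  have hcommH : ∀ {g : G}, g ∈ H → Commute x g := fun hg =>
    (Subgroup.mem_centralizer_singleton_iff.1 hg).symm
  have hpts : ∀ {q : Ω}, x • q = q → q ∈ ptsOf D Ω H := fun hq => by
    rw [hH, hC.ptsOf_centralizer hx.1]; exact hq
  haveI : Finite ↥(hC.coreAct H) := Subtype.finite
  set f := hC.rho H with hf
  set a₀ : ↥(hC.coreAct H) := ⟨a, L.ha⟩ with ha₀
  obtain ⟨h2, t, Qb, hS⟩ := L.exists_setup h
  obtain ⟨Z, Kt, A⟩ := Small.exists_data hS h2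
  have hS' := hC.coreSetting L.ha L.hb L.ne
  have hgen : Subgroup.closure {g : ↥(hC.CoreImg H) | g * g = 1} = ⊤ :=
    top_le_iff.1 (hC.core_gen H ▸ Subgroup.closure_mono fun _ hg => hS'.mul_self hg)
  have hodd : Odd (Nat.card (kerOf D Ω H)) := by
    refine odd_kerOf hC (fun c d hd hdH hdc e he heH hec p hp => ?_) L.hb L.ne.symm hr₀.1 hs₀.1
      (hmemH hxr₀) (hmemH hxs₀) hr₀.2 hs₀.2 hc₀ hne₀
    refine h.lineComm x hx ⟨r₀, hr₀.1, s₀, hs₀.1, hxr₀, hxs₀, hc₀, hne₀⟩ c d hd (hcommH hdH) hdc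
      e he (hcommH heH) hec p ?_
    rw [hH, hC.ptsOf_centralizer hx.1] at hp
    exact hp
  have hker : ∀ k : ↥(coreOf D H), f k = 1 → Odd (orderOf k) := fun k hk => by
    rw [← Subgroup.orderOf_coe]
    exact hodd.of_dvd_nat (Subgroup.orderOf_dvd_natCard _
      (mem_kerOf.2 ⟨k.2, hC.rho_eq_one.1 hk⟩))
  obtain ⟨S, hSmap, hSinj, hfrat⟩ :=
    exists_twoLift (hC.rho_surjective H) hker (isPGroup_Q hS h2)
  have M : LineLift f a₀ t Qb Z Kt S :=
    { data := A
      four := h2
      comm_two := fun _ hd _ hd' => TIEndgame.Line.two_comm hS h2 hgen hd hd'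
      map_eq := hSmap
      inj := hSinj
      cover := fun β hβ => by
        obtain ⟨g, hg⟩ := hC.rho_surjective H β
        obtain ⟨y, hy, hyg⟩ := hfrat g fun γ hγ => hS.conj_mem _ (hg ▸ hβ) γ hγ
        exact ⟨y * g, hyg, f y, hy, by rw [map_mul, hg]⟩ }
  set incl := (coreOf D H).subtype with hincl
  have hinj : Function.Injective incl := Subgroup.subtype_injective _
  set Rl := liftInvs f Z S with hRl
  set Jl := liftTorus f a₀ S with hJl
  set R := Rl.map incl with hR
  set Q := S.map incl with hQ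
  set J := Jl.map incl with hJ
  have hfixS : ∀ s ∈ S, (s : G) • a = a := fun s hs =>
    hC.rho_fix_iff.1 (mem_stabilizer_iff.1 (hS.le (M.mem_Qb hs)) : f s • a₀ = a₀)
  have hfixJ : ∀ j ∈ Jl, (j : G) • a = a := fun j hj =>
    hC.rho_fix_iff.1 (mem_stabilizer_iff.1 (show f j ∈ stabilizer _ a₀ from hj.1) : f j • a₀ = a₀)
  have hsq : ∀ r ∈ R, r * r = 1 := by
    rintro _ ⟨r, hr, rfl⟩
    rw [← map_mul, (M.mem_invs_iff hr.1).1 hr, map_one]
  have hmember : ∀ r ∈ R, r ≠ 1 → r ∈ dat D a := by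
    rintro _ ⟨r, hr, rfl⟩ hr1
    have hra := hfixS r hr.1
    have hrr : (r : G) * r = 1 := hsq _ ⟨r, hr, rfl⟩
    rcases L.exists_member_of_sq h r.2 hra (fun c _ => by rw [hrr, one_smul]) with hall | ⟨d, hd, hdH, hdc⟩
    · exact absurd (congrArg Subtype.val (M.inj r hr.1 (hC.rho_eq_one.2 hall))) hr1
    · have he : f r = f ⟨d, mem_coreOf hd.1 hdH⟩ := hC.rho_eq_iff.2 hdc
      have hk : Odd (orderOf ((r : G) * d)) := by
        have h1 := hker (r * ⟨d, mem_coreOf hd.1 hdH⟩) (by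
          rw [map_mul, ← he, ← map_mul, show r * r = 1 from Subtype.ext hrr, map_one])
        rw [← Subgroup.orderOf_coe] at h1
        exact h1
      obtain ⟨c, -, hc⟩ := Dihedral.exists_conj_of_odd (orderOf_eq_prime (by rw [pow_two]; exact hrr) hr1)
        (h.orderOf_eq d hd.1) hk
      refine ⟨?_, hra⟩
      have h1 := h.conj_mem c⁻¹ d hd.1
      rw [← hc, show c⁻¹ * (c * incl r * c⁻¹) * c⁻¹⁻¹ = incl r by group] at h1
      exact h1
  have hfour : 4 ≤ Nat.card R := by
    rw [hR, Subgroup.card_map_of_injective hinj, M.card_invs]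
    haveI : Fact (Nat.Prime 2) := ⟨Nat.prime_two⟩
    obtain ⟨n, hn⟩ := A.isPGroup_Z.exists_card_eq
    have h3 : 3 ≤ Nat.card Z := by have := A.card_Z; have := A.two_le_K; omega
    rw [hn] at h3 ⊢
    match n, h3 with
    | 0, h3 => simp at h3
    | 1, h3 => simp at h3
    | n + 2, _ => calc 4 = 2 ^ 2 := by norm_num
        _ ≤ 2 ^ (n + 2) := Nat.pow_le_pow_right (by norm_num) (by omega)
  have hnormQ : ∀ j : ↥(coreOf D H),
      (j : G) ∈ Subgroup.normalizer (Q : Set G) ↔ j ∈ Subgroup.normalizer (S : Set ↥(coreOf D H)) := by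
    intro j
    refine ⟨fun hj => Subgroup.mem_normalizer_iff.2 fun s => ?_, fun hj => Subgroup.mem_normalizer_iff.2 fun z => ?_⟩
    · rw [← Subgroup.mem_map_iff_mem hinj, ← Subgroup.mem_map_iff_mem (K := S) hinj]
      exact Subgroup.mem_normalizer_iff.1 hj (s : G)
    · constructor
      · rintro ⟨s, hs, rfl⟩
        exact ⟨_, (Subgroup.mem_normalizer_iff.1 hj s).1 hs, rfl⟩
      · rintro ⟨s, hs, e⟩
        have e' : z = incl (j⁻¹ * s * j) := by
          rw [map_mul, map_mul, map_inv, e, hincl, Subgroup.coe_subtype]; group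
        refine ⟨_, (Subgroup.mem_normalizer_iff.1 hj _).2 ?_, e'.symm⟩
        simpa [mul_assoc] using hs
  have hnormJ : J ≤ Subgroup.normalizer (R : Set G) ⊓ Subgroup.normalizer (Q : Set G) := by
    have key : ∀ j ∈ Jl, ∀ r ∈ Rl, j * r * j⁻¹ ∈ Rl := fun j hj r hr =>
      (M.mem_invs_iff (M.conj_S hj hr.1)).2 (by
        calc j * r * j⁻¹ * (j * r * j⁻¹) = j * (r * r) * j⁻¹ := by group
          _ = 1 := by rw [(M.mem_invs_iff hr.1).1 hr]; group)
    rintro _ ⟨j, hj, rfl⟩
    refine ⟨Subgroup.mem_normalizer_iff.2 fun z => ?_, (hnormQ j).2 hj.2⟩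
    constructor
    · rintro ⟨r, hr, rfl⟩
      exact ⟨_, key j hj r hr, rfl⟩
    · rintro ⟨r, hr, e⟩
      refine ⟨_, key j⁻¹ (inv_mem hj) r hr, ?_⟩
      rw [inv_inv, map_mul, map_mul, map_inv, e, hincl, Subgroup.coe_subtype]; group
  have hconjJ : ∀ g : G, g • a = a → Commute x g → g ∈ Subgroup.normalizer (Q : Set G) →
      ∀ j ∈ J, g * j * g⁻¹ ∈ J := by
    rintro g hga hxg hgQ _ ⟨j, hj, rfl⟩
    refine ⟨⟨_, hC.conj_mem_coreOf (hmemH hxg) j.2⟩, ⟨?_, (hnormQ _).1 ?_⟩, rfl⟩
    · refine mem_stabilizer_iff.2 (hC.rho_fix_iff.2 ?_)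
      show (g * (j : G) * g⁻¹) • a = a
      rw [mul_smul, mul_smul, inv_smul_eq_iff.2 hga.symm, hfixJ j hj, hga]
    · exact mul_mem (mul_mem hgQ ((hnormQ j).2 hj.2)) (inv_mem hgQ)
  have habel : ∀ i ∈ J, ∀ j ∈ J, ∀ r ∈ R,
      i * (j * r * j⁻¹) * i⁻¹ = j * (i * r * i⁻¹) * j⁻¹ := by
    rintro _ ⟨i, hi, rfl⟩ _ ⟨j, hj, rfl⟩ _ ⟨r, hr, rfl⟩
    simp only [← map_inv, ← map_mul]
    exact congrArg incl (M.abel_invs hi hj hr)
  have htransJ : ∀ r ∈ R, ∀ s ∈ R, r ≠ 1 → s ≠ 1 → ∃ j ∈ J, j * r * j⁻¹ = s := by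
    rintro _ ⟨r, hr, rfl⟩ _ ⟨s, hs, rfl⟩ hr1 hs1
    obtain ⟨j, hj, e⟩ := M.trans_invs hr hs (fun e => hr1 (by rw [e, map_one]))
      (fun e => hs1 (by rw [e, map_one]))
    exact ⟨incl j, ⟨j, hj, rfl⟩, by rw [← map_inv, ← map_mul, ← map_mul, e]⟩
  have hline : ∀ d ∈ dat D a, Commute x d → ∃ r ∈ R, ∀ c : Ω, x • c = c → d • c = r • c := by
    intro d hd hxd
    set d' : ↥(coreOf D H) := ⟨d, mem_coreOf hd.1 (hmemH hxd)⟩
    have hZ : f d' ∈ Z := (A.mem_Z _).2 ⟨hC.rho_fix_iff.2 hd.2, by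
      rw [← map_mul, show d' * d' = 1 from Subtype.ext (h.toOnePoint.mul_self hd.1), map_one]⟩
    obtain ⟨r, hr, e⟩ := M.exists_lift (A.Z_le_Q hZ)
    refine ⟨incl r, ⟨r, Subgroup.mem_inf.2 ⟨hr, ?_⟩, rfl⟩, fun c hc => ?_⟩
    · show f r ∈ Z
      rw [e]; exact hZ
    · exact hC.rho_eq_iff.1 e.symm c (hpts hc)
  have htrans : ∀ p q : Ω, x • p = p → x • q = q → p ≠ a → q ≠ a → ∃ g ∈ Q, g • p = q := by
    intro p q hp hq hpa hqa
    obtain ⟨γ, hγ, -⟩ := RankOne.regular hS (b := ⟨p, hpts hp⟩) (c := ⟨q, hpts hq⟩)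
      (fun e => hpa (congrArg Subtype.val e)) (fun e => hqa (congrArg Subtype.val e))
    obtain ⟨s, hs, e⟩ := M.exists_lift γ.2
    refine ⟨incl s, ⟨s, hs, rfl⟩, ?_⟩
    rw [← e] at hγ
    exact congrArg Subtype.val hγ
  have hfixJ' : ∀ j ∈ J, j • a = a := by rintro _ ⟨j, hj, rfl⟩; exact hfixJ j hj
  have hcommJ : ∀ j ∈ J, Commute x j := by
    rintro _ ⟨j, -, rfl⟩; exact hcommH (coreOf_le D H j.2)
  have hcore : J ≤ coreOf D H := by rintro _ ⟨j, -, rfl⟩; exact j.2
  have hcardQ : Nat.card Q = Nat.card Qb := by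
    rw [hQ, Subgroup.card_map_of_injective hinj, M.card_lift]
  have hcardR : Nat.card R = Nat.card Z := by
    rw [hR, Subgroup.card_map_of_injective hinj, M.card_invs]
  have hZ3 : 3 ≤ Nat.card Z := by have := A.card_Z; have := A.two_le_K; omega
  have hcodd : ∀ g ∈ coreOf D H, ∀ p : Ω, g • a = a → x • p = p → p ≠ a → g • p = p →
      Odd (orderOf g) := by
    intro g hg p hga hp hpa hgp
    obtain ⟨t', hS₂, ht'⟩ := TIEndgame.Line.exists_setup_at hS (b := ⟨p, hpts hp⟩)
      fun e => hpa (congrArg Subtype.val e)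
    set g' : ↥(coreOf D H) := ⟨g, hg⟩
    have hmem : f g' ∈ two _ a₀ t' :=
      (mem_two hS₂).2 ⟨hC.rho_fix_iff.2 hga, by rw [ht']; exact hC.rho_fix_iff.2 hgp⟩
    have hm : Odd (orderOf (f g')) := hS₂.odd_card.of_dvd_nat (Subgroup.orderOf_dvd_natCard _ hmem)
    have hk := hker (g' ^ orderOf (f g')) (by rw [map_pow, pow_orderOf_eq_one])
    have hdvd : orderOf g' ∣ orderOf (f g') * orderOf (g' ^ orderOf (f g')) :=
      orderOf_dvd_of_pow_eq_one (by rw [pow_mul, pow_orderOf_eq_one])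
    rw [← Subgroup.orderOf_mk g hg]
    exact (hm.mul hk).of_dvd_nat hdvd
  refine ⟨K, R, ?_⟩
  have hcurved : Z ≠ Qb → (∀ V : Subgroup ↥(coreOf D H), Rl ≤ V → V ≤ S →
      Jl ≤ Subgroup.normalizer (V : Set ↥(coreOf D H)) → V = Rl ∨ V = S) →
      CurvedLine D a x K R Q J := fun hne hirr =>
    { bad := hx
      fix := hxa
      point := hK
      four := hfour
      sq := hsq
      member := hmember
      two := ((isPGroup_Q hS h2).of_injective
        ((f.comp S.subtype).codRestrict Qb fun s => M.mem_Qb s.2) fun s s' e =>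
          Subtype.ext (M.eq_of_map_eq s.2 s'.2 (congrArg Subtype.val e))).map incl
      le := Subgroup.map_mono inf_le_left
      ne := fun e => hne (Subgroup.eq_of_le_of_card_ge A.Z_le_Q
        (by rw [← hcardQ, ← hcardR, e]))
      fix_Q := by rintro _ ⟨s, hs, rfl⟩; exact hfixS s hs
      comm := by rintro _ ⟨s, -, rfl⟩; exact hcommH (coreOf_le D H s.2)
      trans := htrans
      semiregular := by
        rintro _ ⟨s, hs, rfl⟩ p hp hpa hsp
        have h1 := M.inj s hs (RankOne.eq_one_of_fix hS (M.mem_Qb hs) (b := ⟨p, hpts hp⟩)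
          (fun e => hpa (congrArg Subtype.val e)) (hC.rho_fix_iff.2 hsp))
        rw [h1, map_one]
      involution := by
        rintro _ ⟨s, hs, rfl⟩ e
        exact ⟨s, (M.mem_invs_iff hs).2 (hinj (by rw [map_mul, map_one]; exact e)), rfl⟩
      sq_mem := by rintro _ ⟨s, hs, rfl⟩; exact ⟨s * s, M.sq_mem hs, map_mul _ _ _⟩
      sq_onto := by
        rintro _ ⟨r, hr, rfl⟩
        obtain ⟨g, hg, e⟩ := M.sq_onto hne hr
        exact ⟨incl g, ⟨g, hg, rfl⟩, by rw [← map_mul, e]⟩
      central := by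
        rintro _ ⟨s, hs, rfl⟩ _ ⟨r, hr, rfl⟩
        exact (M.central hs hr).map incl
      fix_J := hfixJ'
      comm_J := hcommJ
      core_J := hcore
      core_Q := by rintro _ ⟨s, -, rfl⟩; exact s.2
      core_odd := hcodd
      norm_J := hnormJ
      abel_J := habel
      trans_J := htransJ
      abel_Q := by
        rintro _ ⟨i, hi, rfl⟩ _ ⟨j, hj, rfl⟩ _ ⟨g, hg, rfl⟩
        exact ⟨_, M.abel_mod hi hj hg, by simp only [map_mul, map_inv]⟩
      irred := fun V hRV hVQ hJV => by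
        have hV : (V.comap incl).map incl = V :=
          Subgroup.map_comap_eq_self (hVQ.trans (Subgroup.map_le_range _ _))
        rcases hirr (V.comap incl) (Subgroup.map_le_iff_le_comap.1 hRV)
          (fun s hs => (Subgroup.mem_map_iff_mem hinj).1 (hVQ hs))
          (fun j hj => Subgroup.mem_normalizer_iff.2 fun s => by
            simp only [Subgroup.mem_comap, map_mul, map_inv]
            exact Subgroup.mem_normalizer_iff.1 (hJV ⟨j, hj, rfl⟩) (incl s)) with e | e
        · exact Or.inl (by rw [← hV, e])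
        · exact Or.inr (by rw [← hV, e])
      conj_J := hconjJ
      line_members := hline }
  rcases TIEndgame.Line.card_translations hS h2 A with ⟨-, e | e⟩ | ⟨hW, e⟩
  · have hRQ : R = Q := Subgroup.eq_of_le_of_card_ge (Subgroup.map_mono inf_le_left)
      (by rw [hcardQ, hcardR, e])
    exact Or.inl ⟨J,
      { bad := hx
        fix := hxa
        point := hK
        four := hfour
        sq := hsq
        member := hmember
        comm := by rintro _ ⟨r, -, rfl⟩; exact hcommH (coreOf_le D H r.2)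
        trans := fun p q hp hq hpa hqa => by
          obtain ⟨g, hg, e'⟩ := htrans p q hp hq hpa hqa
          exact ⟨g, hRQ ▸ hg, e'⟩
        fix_J := hfixJ'
        comm_J := hcommJ
        norm_J := hnormJ.trans inf_le_left
        abel_J := habel
        trans_J := htransJ
        conj_J := fun g hga hxg hgR => hconjJ g hga hxg (hRQ ▸ hgR)
        core_J := hcore
        line_members := hline }⟩
  · have hne : Z ≠ Qb := fun e' => by
      rw [← e'] at e
      nlinarith [hZ3]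
    obtain ⟨r, hr1, hr3, hr⟩ := TIEndgame.Line.square_log A e
    exact Or.inr (Or.inl ⟨Q, J,
      { hcurved hne fun V h1 h2' h3 => M.square_irred e h1 h2' h3 with
        card_Q := by rw [hcardQ, hcardR, e]
        card_R := ⟨r, hr1, hr3, hcardR.trans hr⟩
        sq_inj := by
          rintro _ ⟨g, hg, rfl⟩ _ ⟨g', hg', rfl⟩ eq
          exact ⟨_, M.square_inj e hg hg' (hinj (by rw [map_mul, map_mul]; exact eq)), by simp⟩
        sq_comm := by
          rintro _ ⟨g, hg, rfl⟩ hgR _ ⟨g', hg', rfl⟩ hc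
          rcases M.square_comm e hg (fun e' => hgR ⟨g, e', rfl⟩) hg'
            (Subtype.ext hc.eq) with h1 | h1
          · exact Or.inl ⟨g', h1, rfl⟩
          · exact Or.inr ⟨_, h1, by simp⟩ }⟩)
  · have hne : Z ≠ Qb := fun e' => by
      rw [← e'] at e
      have h13 : Nat.card Z ^ 1 < Nat.card Z ^ 3 := Nat.pow_lt_pow_right (by omega) (by norm_num)
      rw [pow_one] at h13
      omega
    obtain ⟨j, hj, hodd', hjc, hjg⟩ := M.exists_norm_one hW
    exact Or.inr (Or.inr ⟨Q, J,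
      { hcurved hne fun V h1 h2' h3 => M.cube_irred hW h1 h2' h3 with
        card_Q := by rw [hcardQ, hcardR, e]
        norm_one := by
          refine ⟨incl j, ⟨j, hj, rfl⟩, ?_, ?_, ?_⟩
          · rw [orderOf_injective incl hinj]; exact hodd'
          · rintro _ ⟨r, hr, rfl⟩
            exact (hjc r hr).map incl
          · rintro _ ⟨g, hg, rfl⟩ hgR
            refine ⟨g, hjg g hg ?_, rfl⟩
            rw [← Subgroup.mem_map_iff_mem hinj]
            simpa only [map_mul, map_inv] using hgR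
        pol_scalar := by
          rintro _ ⟨r, hr, rfl⟩ _ ⟨s, hs, rfl⟩ hr1 hs1
          obtain ⟨j, hj, e, hp⟩ := M.exists_pol_scalar hW hr hs
            (fun e => hr1 (by rw [e, map_one])) (fun e => hs1 (by rw [e, map_one]))
          refine ⟨incl j, ⟨j, hj, rfl⟩, by rw [← map_inv, ← map_mul, ← map_mul, e], ?_⟩
          rintro _ ⟨g, hg, rfl⟩
          obtain ⟨h, hh, hp⟩ := hp g hg
          refine ⟨incl h, ⟨h, hh, rfl⟩, ?_⟩
          rintro _ ⟨w, hw, rfl⟩
          have := congrArg incl (hp w hw)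
          simpa only [pol, map_mul, map_inv] using this }⟩)

end CfsgLib.LocalEven.OnePointFront
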