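import Cfsg.Agent.Lib.LocalEven.OnePointFront.Nonfull.Curved.MovedCase
import Cfsg.Agent.Lib.LocalEven.OnePointFront.Nonfull.Curved.Base
import Cfsg.Agent.Lib.LocalEven.OnePointFront.Nonfull.Linear.Tower
import Cfsg.Agent.Lib.Coprime.Action

/-!
# Unitary lines: translations centralising `Q` over a level in its centraliser

Let `A` be a level of the tower in `K ⊓ C(Q)`.  A 2-element of `K` normalising `A` and `Q` and
moving the class of `x` gives one centralising `R`, one acting trivially on `Q / R`, and, as the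
torus element centralising `R` makes the shear inner, one centralising `Q`.
-/

set_option autoImplicit false
set_option linter.style.haveILetI false

namespace CfsgLib.LocalEven.OnePointFront.Nonfull

open MulAction CfsgLib.LocalEven.TIEndgame CfsgLib.Involution

universe u v

variable {G : Type u} [Group G]

theorem conj_mem_centralizer {X : Subgroup G} {g y : G} (hg : g ∈ Subgroup.normalizer (X : Set G))
    (hy : y ∈ Subgroup.centralizer (X : Set G)) : g * y * g⁻¹ ∈ Subgroup.centralizer (X : Set G) :=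
  Subgroup.mem_centralizer_iff.2 fun u hu => by
    have hu' := (Subgroup.mem_normalizer_iff.1 (inv_mem hg) u).1 hu
    calc u * (g * y * g⁻¹) = g * ((g⁻¹ * u * g⁻¹⁻¹) * y) * g⁻¹ := by group
      _ = g * (y * (g⁻¹ * u * g⁻¹⁻¹)) * g⁻¹ := by rw [Subgroup.mem_centralizer_iff.1 hy _ hu']
      _ = g * y * g⁻¹ * u := by group

theorem conj_mem_trivGroup {R Q : Subgroup G} {g y : G} (hgQ : g ∈ Subgroup.normalizer (Q : Set G))
    (hgR : g ∈ Subgroup.normalizer (R : Set G)) (hy : y ∈ trivGroup R Q) :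
    g * y * g⁻¹ ∈ trivGroup R Q := by
  obtain ⟨h1, h2, h3⟩ := mem_trivGroup.1 hy
  refine mem_trivGroup.2 ⟨mul_mem (mul_mem hgQ h1) (inv_mem hgQ),
    mul_mem (mul_mem hgR h2) (inv_mem hgR), fun q hq => ?_⟩
  rw [show g * y * g⁻¹ * q * (g * y * g⁻¹)⁻¹ * q⁻¹ =
    g * (y * (g⁻¹ * q * g⁻¹⁻¹) * y⁻¹ * (g⁻¹ * q * g⁻¹⁻¹)⁻¹) * g⁻¹ by group]
  exact (Subgroup.mem_normalizer_iff.1 hgR _).1
    (h3 _ ((Subgroup.mem_normalizer_iff.1 (inv_mem hgQ) q).1 hq))

variable {Ω : Type v} [MulAction G Ω] {D : Set G} {a : Ω} {x : G} {K R Q J A : Subgroup G}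

namespace CurvedLine

variable (L : CurvedLine D a x K R Q J)
include L

/-- The tower inside `K ⊓ C(Q)`. -/
theorem centTransLine [Finite G] (hQK : Q ≤ K) (hcen : ∀ g ∈ Q, (∀ e ∈ Q, Commute g e) → g ∈ R) :
    TransLine D a x (K ⊓ Subgroup.centralizer (Q : Set G)) R J where
  bad := L.bad
  fix := L.fix
  stab := inf_le_left.trans L.point.le
  R_le := le_inf L.le_K fun r hr =>
    Subgroup.mem_centralizer_iff.2 fun g hg => (L.central g hg r hr).eq
  x_out h hx := L.x_notMem h hx.1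
  x_norm := mem_normalizer_of_conj_mem fun y hy => ⟨L.conj_K L.fix hy.1, conj_mem_centralizer
    (Subgroup.centralizer_le_normalizer _ (Subgroup.mem_centralizer_iff.2 fun g hg =>
      (L.comm g hg).eq.symm)) hy.2⟩
  norm_K j hj := mem_normalizer_of_conj_mem fun y hy => ⟨L.conj_K (L.fix_J j hj) hy.1,
    conj_mem_centralizer (Subgroup.mem_inf.1 (L.norm_J hj)).2 hy.2⟩
  four := L.four
  sq := L.sq
  member := L.member
  comm r hr := L.comm r (L.le hr)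
  fix_J := L.fix_J
  comm_J := L.comm_J
  norm_J := L.norm_J.trans inf_le_left
  abel_J := L.abel_J
  trans_J := L.trans_J
  mem_R h V hV hVK _ g hg hgx := by
    haveI : Fact (Nat.Prime 2) := ⟨Nat.prime_two⟩
    have hQV : Q ≤ Subgroup.normalizer (V : Set G) := fun q hq =>
      Subgroup.centralizer_le_normalizer _ (Subgroup.mem_centralizer_iff.2 fun v hv =>
        (Subgroup.mem_centralizer_iff.1 (hVK hv).2 q hq).symm)
    have h1 := L.mem_inf h (hV.to_sup_of_normal_left' L.two hQV)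
      (sup_le (hVK.trans inf_le_left) hQK) (inf_le_right.trans le_sup_right)
      (Subgroup.mem_sup_left hg) hgx
    exact hcen g h1.2 fun e he => (Subgroup.mem_centralizer_iff.1 (hVK hg).2 e he).symm

/-- An element fixing only `R` on `Q / R` moves onto it. -/
theorem exists_comm_mod [Finite G] {t : G} (htQ : t ∈ Subgroup.normalizer (Q : Set G))
    (htR : ∀ r ∈ R, Commute t r) (hfpf : ∀ g ∈ Q, t * g * t⁻¹ * g⁻¹ ∈ R → g ∈ R) {d : G}
    (hd : d ∈ Q) : ∃ k ∈ Q, d⁻¹ * (t * k * t⁻¹ * k⁻¹) ∈ R := by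
  let R' := R.subgroupOf Q
  let f : ↥Q → ↥Q := fun k => ⟨t * k * t⁻¹ * (k : G)⁻¹,
    mul_mem ((Subgroup.mem_normalizer_iff.1 htQ _).1 k.2) (inv_mem k.2)⟩
  have hf : ∀ k k' : ↥Q, k⁻¹ * k' ∈ R' → f k = f k' := by
    intro k k' hr
    have hr' : (k : G)⁻¹ * k' ∈ R := hr
    set r := (k : G)⁻¹ * k' with hrdef
    have e : (k' : G) = k * r := by rw [hrdef, mul_inv_cancel_left]
    refine Subtype.ext ?_
    show t * k * t⁻¹ * (k : G)⁻¹ = t * k' * t⁻¹ * (k' : G)⁻¹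
    rw [e, show t * ((k : G) * r) * t⁻¹ * ((k : G) * r)⁻¹ =
      t * k * ((r * t⁻¹ * r⁻¹) * (k : G)⁻¹) by group, (htR r hr').symm.inv_right.eq,
      mul_inv_cancel_right, ← mul_assoc]
  let F : ↥Q ⧸ R' → ↥Q ⧸ R' := Quotient.lift (fun k => (QuotientGroup.mk (f k) : ↥Q ⧸ R'))
    fun k k' hkk => congrArg _ (hf k k' (QuotientGroup.leftRel_apply.1 hkk))
  have hinj : Function.Injective F := by
    intro u u'
    induction u using QuotientGroup.induction_on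
    induction u' using QuotientGroup.induction_on
    rename_i k k'
    intro e
    have h1 : (t * k * t⁻¹ * (k : G)⁻¹)⁻¹ * (t * k' * t⁻¹ * (k' : G)⁻¹) ∈ R :=
      Subgroup.mem_subgroupOf.1 (QuotientGroup.eq.1
        (e : (QuotientGroup.mk (f k) : ↥Q ⧸ R') = QuotientGroup.mk (f k')))
    refine QuotientGroup.eq.2 (Subgroup.mem_subgroupOf.2 (hfpf _ (mul_mem (inv_mem k.2) k'.2) ?_))
    set l := (k : G)⁻¹ * k' with hl
    have h2 : (k : G) * (t * l * t⁻¹ * l⁻¹) * (k : G)⁻¹ ∈ R := by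
      rw [show (k : G) * (t * l * t⁻¹ * l⁻¹) * (k : G)⁻¹ =
        (t * k * t⁻¹ * (k : G)⁻¹)⁻¹ * (t * k' * t⁻¹ * (k' : G)⁻¹) by rw [hl]; group]
      exact h1
    have h3 := (L.central (k : G)⁻¹ (inv_mem k.2) _ h2)
    show t * l * t⁻¹ * l⁻¹ ∈ R
    rwa [show t * l * t⁻¹ * l⁻¹ =
      (k : G)⁻¹ * ((k : G) * (t * l * t⁻¹ * l⁻¹) * (k : G)⁻¹) * (k : G)⁻¹⁻¹ by group, h3.eq,
      mul_inv_cancel_right]
  obtain ⟨u, hu⟩ := (Finite.injective_iff_surjective.1 hinj) (QuotientGroup.mk ⟨d, hd⟩)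
  induction u using QuotientGroup.induction_on
  rename_i k
  exact ⟨k, k.2, Subgroup.mem_subgroupOf.1 (QuotientGroup.eq.1 hu.symm)⟩

end CurvedLine

/-- Only `R` is central in `Q`. -/
theorem UnitaryLine.mem_R_of_central (L : UnitaryLine D a x K R Q J) {g : G} (hg : g ∈ Q)
    (hc : ∀ e ∈ Q, Commute g e) : g ∈ R := by
  have C := L.toCurvedLine
  obtain ⟨j, hj, -, hjR, hfpf⟩ := L.norm_one
  have hg' := C.J_conj_Q hj hg
  refine hfpf g hg (C.involution _ (mul_mem hg' (inv_mem hg)) ?_)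
  rw [(hc _ hg').inv_left.mul_mul_mul_comm,
    show j * g * j⁻¹ * (j * g * j⁻¹) = j * (g * g) * j⁻¹ by group,
    (hjR _ (C.sq_mem g hg)).eq, mul_inv_cancel_right, ← mul_inv_rev, mul_inv_cancel]

namespace Level

variable {i : ℕ} (L : Level D a x (K ⊓ Subgroup.centralizer (Q : Set G)) R J A i)
include L

theorem commute_Q {u g : G} (hu : u ∈ A) (hg : g ∈ Q) : Commute u g :=
  (Subgroup.mem_centralizer_iff.1 (L.le hu).2 g hg).symm

theorem exists_split_sup {w : G} (hw : w ∈ A ⊔ Q) : ∃ u ∈ A, ∃ q ∈ Q, w = u * q := by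
  have hQA : Q ≤ Subgroup.normalizer (A : Set G) := fun g hg =>
    Subgroup.centralizer_le_normalizer _ (Subgroup.mem_centralizer_iff.2 fun u hu =>
      (L.commute_Q hu hg).eq)
  obtain ⟨u, hu, q, hq, rfl⟩ := (Coprime.mem_sup_of_le_normalizer hQA).1 hw
  exact ⟨u, hu, q, hq, rfl⟩

theorem Q_moves (C : CurvedLine D a x K R Q J) {q : G} (hq : q ∈ Q) :
    q ∈ L.moves ∧ kap x i q = 1 :=
  L.commute_mem (C.fix_Q q hq) (Subgroup.centralizer_le_normalizer _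
    (Subgroup.mem_centralizer_iff.2 fun u hu => (L.commute_Q hu hq).eq)) (C.comm q hq)

variable [Finite G]

/-- In a 2-group of `K` over `A ⊔ Q` only `A ⊔ Q` fixes the trivial class. -/
theorem mem_sup_of_zero (C : CurvedLine D a x K R Q J) (h : ClosedSetting D Ω) {P : Subgroup G}
    (hP : IsPGroup 2 P) (hPK : P ≤ K) (hWP : A ⊔ Q ≤ P) {g : G} (hg : g ∈ P) (hgm : g ∈ L.moves)
    (h1 : kap x i g = 1) : g ∈ A ⊔ Q := by
  obtain ⟨w, hw, hc⟩ := L.exists_comm hgm h1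
  have h2 := C.mem_inf h hP hPK (inf_le_right.trans (le_sup_right.trans hWP))
    (mul_mem (hWP (Subgroup.mem_sup_left hw)) hg) hc
  rw [show g = w⁻¹ * (w * g) by group]
  exact mul_mem (inv_mem (Subgroup.mem_sup_left hw)) (Subgroup.mem_sup_right h2.2)

/-- Elements of `C(x)` normalising `A` and `Q` normalise the moving elements of `K ⊓ C(Q)`. -/
theorem conj_moves (C : CurvedLine D a x K R Q J) {g y : G} (hga : g • a = a) (hgx : Commute x g)
    (hgA : g ∈ Subgroup.normalizer (A : Set G)) (hgQ : g ∈ Subgroup.normalizer (Q : Set G))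
    (hy : y ∈ L.moves ⊓ (K ⊓ Subgroup.centralizer (Q : Set G))) :
    g * y * g⁻¹ ∈ L.moves ⊓ (K ⊓ Subgroup.centralizer (Q : Set G)) :=
  have hm := (L.commute_mem hga hgA hgx).1
  Subgroup.mem_inf.2 ⟨mul_mem (mul_mem hm hy.1) (inv_mem hm),
    Subgroup.mem_inf.2 ⟨C.conj_K hga hy.2.1, conj_mem_centralizer hgQ hy.2.2⟩⟩

/-- On a unitary line a 2-element of `K` normalising `A` and `Q` and moving the class gives
translations centralising `Q`. -/
theorem exists_translation (U : UnitaryLine D a x K R Q J) (h : ClosedSetting D Ω) (hQK : Q ≤ K)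
    (hlift : TorusLift a x R Q J A) {P : Subgroup G} (hP : IsPGroup 2 P) (hPK : P ≤ K)
    (hWP : A ⊔ Q ≤ P) {g : G} (hgP : g ∈ P) (hgm : g ∈ L.moves)
    (hgQ : g ∈ Subgroup.normalizer (Q : Set G)) (hgW : g ∉ A ⊔ Q) :
    ∀ r ∈ R, ∃ y ∈ L.moves ⊓ (K ⊓ Subgroup.centralizer (Q : Set G)), kap x i y = r := by
  classical
  haveI : Fact (Nat.Prime 2) := ⟨Nat.prime_two⟩
  have C := U.toCurvedLine
  set W := A ⊔ Q with hW
  have hWm : ∀ w ∈ W, w ∈ L.moves ∧ kap x i w = 1 := fun w hw => by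
    obtain ⟨u, hu, q, hq, rfl⟩ := L.exists_split_sup hw
    refine ⟨mul_mem (L.A_mem hu).1 (L.Q_moves C hq).1, ?_⟩
    rw [L.kap_mul (L.A_mem hu).1 (L.Q_moves C hq).1, (L.A_mem hu).2, (L.Q_moves C hq).2]
    group
  have hAQ : ∀ u ∈ A, u ∈ Subgroup.centralizer (Q : Set G) := fun u hu => (L.le hu).2
  have hAR : ∀ u ∈ A, ∀ r ∈ R, Commute u r := fun u hu r hr => L.comm u hu r (L.R_le hr)
  have hWK : W ≤ K := sup_le (L.le.trans inf_le_left) hQK
  have hWQ : ∀ w ∈ W, w ∈ Subgroup.normalizer (Q : Set G) := fun w hw =>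
    (sup_le (fun u hu => Subgroup.centralizer_le_normalizer _ (hAQ u hu))
      Subgroup.le_normalizer : W ≤ Subgroup.normalizer (Q : Set G)) hw
  have hact : ∀ w ∈ W, ActsTriv R Q w := fun w hw e he => by
    obtain ⟨u, hu, q, hq, rfl⟩ := L.exists_split_sup hw
    have hp := C.squareGroup.pol_mem hq he
    rw [show u * q * e * (u * q)⁻¹ * e⁻¹ = u * (pol q e * e) * u⁻¹ * e⁻¹ by simp only [pol]; group,
      ((hAR u hu _ hp).mul_right (L.commute_Q hu he)).eq, mul_inv_cancel_right, mul_inv_cancel_right]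
    exact hp
  have hWR : ∀ w ∈ W, ∀ r ∈ R, Commute w r := fun w hw r hr => by
    obtain ⟨u, hu, q, hq, rfl⟩ := L.exists_split_sup hw
    exact (hAR u hu r hr).mul_left (C.central q hq r hr)
  set H₀ := L.moves ⊓ K ⊓ Subgroup.normalizer (Q : Set G) with hH₀
  -- an element of order two modulo `W` centralises `R` and moves the class
  obtain ⟨t, htP, htH, htW, htt⟩ : ∃ t ∈ P, t ∈ H₀ ∧ t ∉ W ∧ t * t ∈ W := by
    obtain ⟨n, hn⟩ := hP ⟨g, hgP⟩
    have hn' : g ^ 2 ^ n ∈ W := by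
      rw [show g ^ 2 ^ n = 1 from congrArg Subtype.val hn]; exact one_mem _
    have hgH : g ∈ H₀ := Subgroup.mem_inf.2 ⟨Subgroup.mem_inf.2 ⟨hgm, hPK hgP⟩, hgQ⟩
    clear hn hgm hgQ
    induction n generalizing g with
    | zero => exact absurd (by simpa using hn') hgW
    | succ n ih =>
      by_cases h2 : g * g ∈ W
      · exact ⟨g, hgP, hgH, hgW, h2⟩
      · refine ih (mul_mem hgP hgP) h2 ?_ (mul_mem hgH hgH)
        rwa [← pow_two, ← pow_mul, ← pow_succ']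
  have htR : ∀ r ∈ R, Commute t r :=
    IsCurved.commute (Or.inl U : IsCurved D a x K R Q J) htH.2 (hact _ htt)
  have htk : kap x i t ≠ 1 := fun e =>
    htW (L.mem_sup_of_zero C h hP hPK hWP htP htH.1.1 e)
  set H₁ := H₀ ⊓ Subgroup.centralizer (R : Set G) with hH₁
  have ht₁ : t ∈ H₁ := Subgroup.mem_inf.2
    ⟨htH, Subgroup.mem_centralizer_iff.2 fun r hr => (htR r hr).eq.symm⟩
  have hcR : ∀ y ∈ H₁, ∀ r ∈ R, Commute y r := fun y hy r hr =>
    (Subgroup.mem_centralizer_iff.1 hy.2 r hr).symm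
  -- conjugation by the lifts
  have hconj : ∀ k : G, k • a = a → Commute x k → k ∈ Subgroup.normalizer (A : Set G) →
      k ∈ Subgroup.normalizer (Q : Set G) → ∀ y ∈ H₁, k * y * k⁻¹ ∈ H₁ := by
    intro k hka hkx hkA hkQ y hy
    have hm := (L.commute_mem hka hkA hkx).1
    exact Subgroup.mem_inf.2 ⟨Subgroup.mem_inf.2 ⟨Subgroup.mem_inf.2
      ⟨mul_mem (mul_mem hm hy.1.1.1) (inv_mem hm), C.conj_K hka hy.1.1.2⟩,
      mul_mem (mul_mem hkQ hy.1.2) (inv_mem hkQ)⟩,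
      conj_mem_centralizer (C.mem_normalizer_R hkQ) hy.2⟩
  have honto₁ : ∀ r ∈ R, ∃ y ∈ H₁, kap x i y = r := by
    intro r hr
    rcases eq_or_ne r 1 with rfl | hr1
    · exact ⟨1, one_mem _, L.kap_one⟩
    obtain ⟨j, hj, e⟩ := C.trans_J _ (L.kap_mem htH.1.1) r hr htk hr1
    obtain ⟨k, hka, hkx, hkA, hkQ, hkR, -⟩ := hlift j hj
    exact ⟨k * t * k⁻¹, hconj k hka hkx hkA hkQ t ht₁,
      by rw [L.kap_conj hkx, hkR _ (L.kap_mem htH.1.1), e]⟩
  -- a Sylow 2-subgroup over `W` is transitive on the classes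
  let κ : ↥H₁ →* ↥R :=
    { toFun := fun y => ⟨kap x i (y : G), L.kap_mem y.2.1.1.1⟩
      map_one' := Subtype.ext L.kap_one
      map_mul' := fun y z => Subtype.ext (by
        show kap x i ((y : G) * z) = kap x i (y : G) * kap x i (z : G)
        rw [L.kap_mul y.2.1.1.1 z.2.1.1.1, (hcR y y.2 _ (L.kap_mem z.2.1.1.1)).eq,
          mul_inv_cancel_right]) }
  have hκ : Function.Surjective κ := fun r => by
    obtain ⟨y, hy, e⟩ := honto₁ r r.2
    exact ⟨⟨y, hy⟩, Subtype.ext e⟩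
  have hWH : W ≤ H₁ := fun w hw => Subgroup.mem_inf.2 ⟨Subgroup.mem_inf.2
    ⟨Subgroup.mem_inf.2 ⟨(hWm w hw).1, hWK hw⟩, hWQ w hw⟩,
    Subgroup.mem_centralizer_iff.2 fun r hr => (hWR w hw r hr).eq.symm⟩
  have hW2 : IsPGroup 2 W := hP.to_le hWP
  obtain ⟨S₁, hS₁⟩ := (hW2.of_equiv (Subgroup.subgroupOfEquivOfLe hWH).symm).exists_le_sylow
  set P₁ := (S₁ : Subgroup ↥H₁).map H₁.subtype with hP₁
  have hP₁2 : IsPGroup 2 P₁ := S₁.2.map _
  have hP₁H : P₁ ≤ H₁ := Subgroup.map_subtype_le _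
  have hWP₁ : W ≤ P₁ := fun w hw => ⟨⟨w, hWH hw⟩, hS₁ (Subgroup.mem_subgroupOf.2 hw), rfl⟩
  have hzero : ∀ y ∈ P₁, kap x i y = 1 → y ∈ W := fun y hy e =>
    L.mem_sup_of_zero C h hP₁2 (fun z hz => (hP₁H hz).1.1.2) hWP₁ hy (hP₁H hy).1.1.1 e
  let κ₁ : ↥P₁ →* ↥R := κ.comp (Subgroup.inclusion hP₁H)
  have hκ₁ : Function.Surjective κ₁ := by
    have hR2 : IsPGroup 2 R := C.two.to_le C.le
    have hodd : ¬ 2 ∣ ((S₁ : Subgroup ↥H₁).map κ).index := fun hd =>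
      S₁.not_dvd_index (hd.trans (Subgroup.index_map_dvd _ hκ))
    obtain ⟨n, hn⟩ := hR2.index ((S₁ : Subgroup ↥H₁).map κ)
    have htop : (S₁ : Subgroup ↥H₁).map κ = ⊤ := by
      rcases n with _ | n
      · exact Subgroup.index_eq_one.1 (by simpa using hn)
      · exact absurd (hn ▸ dvd_pow_self 2 n.succ_ne_zero) hodd
    intro r
    obtain ⟨y, hy, e⟩ := htop.ge (Subgroup.mem_top r)
    exact ⟨⟨y, ⟨y, hy, rfl⟩⟩, e⟩
  have hker : κ₁.ker = W.subgroupOf P₁ := by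
    ext y
    rw [MonoidHom.mem_ker, Subgroup.mem_subgroupOf]
    exact ⟨fun e => hzero y y.2 (congrArg Subtype.val e), fun e => Subtype.ext (hWm _ e).2⟩
  have hcard : Nat.card P₁ = Nat.card W * Nat.card R := by
    have e := Subgroup.card_mul_index κ₁.ker
    rw [Subgroup.index_ker, MonoidHom.range_eq_top.2 hκ₁, Subgroup.card_top, hker,
      Nat.card_congr (Subgroup.subgroupOfEquivOfLe hWP₁).toEquiv] at e
    exact e.symm
  have hhom : ∀ y ∈ P₁, ∀ z ∈ P₁, kap x i (y * z) = kap x i y * kap x i z := fun y hy z hz => by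
    have e := congrArg Subtype.val (map_mul κ₁ (⟨y, hy⟩ : ↥P₁) (⟨z, hz⟩ : ↥P₁))
    exact e
  have hkinv : ∀ y ∈ P₁, kap x i y⁻¹ = kap x i y := fun y hy => by
    have e := hhom y hy y⁻¹ (inv_mem hy)
    rw [mul_inv_cancel, L.kap_one] at e
    exact (eq_inv_of_mul_eq_one_right e.symm).trans
      (inv_eq_of_mul_eq_one_right (C.sq _ (L.kap_mem (hP₁H hy).1.1.1)))
  have hlt := IsCurved.bound (Or.inl U : IsCurved D a x K R Q J) (B := P₁)
    (T₀ := P₁ ⊓ trivGroup R Q)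
    (fun b => ⟨fun hb => ⟨hb.1, hb.2.2.2⟩, fun hb => Subgroup.mem_inf.2 ⟨hb.1, mem_trivGroup.2
      ⟨(hP₁H hb.1).1.2, C.mem_normalizer_R (hP₁H hb.1).1.2, hb.2⟩⟩⟩)
    (fun b hb => (hP₁H hb).1.2) (fun b hb => hcR b (hP₁H hb))
    (fun b hb => hact _ (hzero _ (mul_mem hb hb) (by
      rw [hhom b hb b hb, C.sq _ (L.kap_mem (hP₁H hb).1.1.1)])))
    (fun b hb b' hb' => hact _ (hzero _ (mul_mem (mul_mem (mul_mem hb hb') (inv_mem hb))
      (inv_mem hb')) (by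
        have hm := L.kap_mem (hP₁H hb).1.1.1
        have hm' := L.kap_mem (hP₁H hb').1.1.1
        rw [hhom _ (mul_mem (mul_mem hb hb') (inv_mem hb)) _ (inv_mem hb'),
          hhom _ (mul_mem hb hb') _ (inv_mem hb), hhom b hb b' hb', hkinv b hb, hkinv b' hb',
          (C.central _ (C.le hm) _ hm').eq, mul_assoc _ (kap x i b) (kap x i b), C.sq _ hm,
          mul_one, C.sq _ hm'])))
  obtain ⟨t₂, ht₂, ht₂W⟩ : ∃ y ∈ P₁ ⊓ trivGroup R Q, y ∉ W := by
    by_contra hno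
    push Not at hno
    have hle := Subgroup.card_le_of_le (hno : P₁ ⊓ trivGroup R Q ≤ W)
    rw [hcard] at hlt
    exact absurd (Nat.lt_of_mul_lt_mul_right hlt) (not_lt.2 hle)
  set H₂ := H₁ ⊓ trivGroup R Q with hH₂
  have ht₂H : t₂ ∈ H₂ := Subgroup.mem_inf.2 ⟨hP₁H ht₂.1, ht₂.2⟩
  have ht₂k : kap x i t₂ ≠ 1 := fun e => ht₂W (hzero t₂ ht₂.1 e)
  -- the elements fixing the trivial class shear like an element of `Q`
  set C₁ := K ⊓ Subgroup.centralizer ({x} : Set G) ⊓ Subgroup.centralizer (R : Set G) ⊓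
    trivGroup R Q with hC₁
  set M := C₁ ⊓ Subgroup.centralizer (Q : Set G) ⊔ Q with hM
  have hQC : K ⊓ Q ≤ C₁ := fun q hq => ⟨⟨⟨hq.1,
    Subgroup.mem_centralizer_singleton_iff.2 (C.comm q hq.2).symm.eq⟩,
    Subgroup.mem_centralizer_iff.2 fun r hr => (C.central q hq.2 r hr).eq.symm⟩,
    mem_trivGroup.2 ⟨Subgroup.le_normalizer hq.2, C.mem_normalizer_R (Subgroup.le_normalizer hq.2),
      fun e he => C.squareGroup.pol_mem hq.2 he⟩⟩
  have hC₁x : ∀ c ∈ C₁, Commute x c := fun c hc =>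
    (Subgroup.mem_centralizer_singleton_iff.1 hc.1.1.2).symm
  have hC₁M : C₁ ≤ M := by
    intro c hc
    haveI : (M.subgroupOf C₁).Normal := ⟨fun z hz k => Subgroup.mem_subgroupOf.2 (by
      have hk : (k : G) ∈ C₁ := k.2
      have hle : M ≤ M.comap (MulAut.conj (k : G)).toMonoidHom := sup_le
        (fun y hy => Subgroup.mem_sup_left (Subgroup.mem_inf.2
          ⟨mul_mem (mul_mem hk hy.1) (inv_mem hk), conj_mem_centralizer hk.2.1 hy.2⟩))
        (fun y hy => Subgroup.mem_sup_right ((Subgroup.mem_normalizer_iff.1 hk.2.1 y).1 hy))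
      exact hle (Subgroup.mem_subgroupOf.1 hz))⟩
    have hodd : Odd (M.subgroupOf C₁).index :=
      (C.odd_relIndex_inf h (N := C₁) (fun y hy => hy.1.1.1) hC₁x hQC).of_dvd_nat
        (Subgroup.index_dvd_of_le (H := (K ⊓ Q).subgroupOf C₁) (K := M.subgroupOf C₁)
          fun y hy => Subgroup.mem_subgroupOf.2
            (Subgroup.mem_sup_right (Subgroup.mem_subgroupOf.1 hy).2))
    have h1 : c ^ (M.subgroupOf C₁).index ∈ M :=
      Subgroup.mem_subgroupOf.1 ((M.subgroupOf C₁).pow_index_mem ⟨c, hc⟩)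
    have h2 : c * c ∈ M := Subgroup.mem_sup_left (Subgroup.mem_inf.2 ⟨mul_mem hc hc,
      Subgroup.mem_centralizer_iff.2 fun e he => by
        have hr := hc.2.2.2 e he
        set r := c * e * c⁻¹ * e⁻¹ with hr'
        refine (mul_inv_eq_iff_eq_mul.1 (show c * c * e * (c * c)⁻¹ = e from ?_)).symm
        calc c * c * e * (c * c)⁻¹ = c * (c * e * c⁻¹) * c⁻¹ := by group
          _ = (c * r * c⁻¹) * (c * e * c⁻¹) := by rw [hr']; group
          _ = r * (r * e) := by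
              rw [← Subgroup.mem_centralizer_iff.1 hc.1.2 r hr, mul_inv_cancel_right, hr']; group
          _ = e := by rw [← mul_assoc, C.sq r hr, one_mul]⟩)
    obtain ⟨m, hm⟩ := hodd
    rw [hm, pow_succ, pow_mul, pow_two] at h1
    have := mul_mem (inv_mem (pow_mem h2 m)) h1
    rwa [inv_mul_cancel_left] at this
  have hinner : ∀ y ∈ H₂, kap x i y = 1 →
      ∃ q ∈ Q, q⁻¹ * y ∈ Subgroup.centralizer (Q : Set G) := by
    intro y hy e
    obtain ⟨w, hw, hwx⟩ := L.exists_comm hy.1.1.1.1 e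
    have hwW : w ∈ W := Subgroup.mem_sup_left hw
    have hc : w * y ∈ C₁ := Subgroup.mem_inf.2 ⟨Subgroup.mem_inf.2 ⟨Subgroup.mem_inf.2
      ⟨mul_mem (hWK hwW) hy.1.1.1.2, Subgroup.mem_centralizer_singleton_iff.2 hwx.symm.eq⟩,
      mul_mem (hWH hwW).2 hy.1.2⟩,
      mul_mem (mem_trivGroup.2 ⟨hWQ w hwW, C.mem_normalizer_R (hWQ w hwW), hact w hwW⟩) hy.2⟩
    have hn : Q ≤ Subgroup.normalizer
        ((C₁ ⊓ Subgroup.centralizer (Q : Set G) : Subgroup G) : Set G) := fun q hq =>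
      mem_normalizer_of_conj_mem fun z hz => Subgroup.mem_inf.2
        ⟨mul_mem (mul_mem (hQC ⟨hQK hq, hq⟩) hz.1) (inv_mem (hQC ⟨hQK hq, hq⟩)),
          conj_mem_centralizer (Subgroup.le_normalizer hq) hz.2⟩
    obtain ⟨z, hz, q, hq, hzq⟩ := (Coprime.mem_sup_of_le_normalizer hn).1 (hC₁M hc)
    refine ⟨q, hq, ?_⟩
    have h1 := conj_mem_centralizer (Subgroup.le_normalizer (inv_mem hq))
      (mul_mem (inv_mem (hAQ w hw)) hz.2)
    rwa [inv_inv, show q⁻¹ * (w⁻¹ * z) * q = q⁻¹ * (w⁻¹ * (z * q)) by group,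
      show q⁻¹ * (w⁻¹ * (z * q)) = q⁻¹ * y by rw [hzq, inv_mul_cancel_left]] at h1
  -- the torus element centralising `R` makes the shear inner
  intro r hr
  obtain ⟨y, hy, hyr⟩ : ∃ y ∈ H₂, kap x i y = r := by
    rcases eq_or_ne r 1 with rfl | hr1
    · exact ⟨1, one_mem _, L.kap_one⟩
    obtain ⟨j, hj, e⟩ := C.trans_J _ (L.kap_mem ht₂H.1.1.1.1) r hr ht₂k hr1
    obtain ⟨k, hka, hkx, hkA, hkQ, hkR, -⟩ := hlift j hj
    exact ⟨k * t₂ * k⁻¹, Subgroup.mem_inf.2 ⟨hconj k hka hkx hkA hkQ t₂ ht₂H.1,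
      conj_mem_trivGroup hkQ (C.mem_normalizer_R hkQ) ht₂H.2⟩,
      by rw [L.kap_conj hkx, hkR _ (L.kap_mem ht₂H.1.1.1.1), e]⟩
  obtain ⟨j, hj, -, hjR, hfpf⟩ := U.norm_one
  obtain ⟨k, hka, hkx, hkA, hkQ, hkR, hkq⟩ := hlift j hj
  have hkc : ∀ s ∈ R, Commute k s := fun s hs =>
    mul_inv_eq_iff_eq_mul.1 (by rw [hkR s hs, (hjR s hs).eq, mul_inv_cancel_right])
  set y' := k * y * k⁻¹ with hy'
  have hy'H : y' ∈ H₂ := Subgroup.mem_inf.2 ⟨hconj k hka hkx hkA hkQ y hy.1,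
    conj_mem_trivGroup hkQ (C.mem_normalizer_R hkQ) hy.2⟩
  have hy'r : kap x i y' = r := by rw [hy', L.kap_conj hkx, hyr, (hkc r hr).eq, mul_inv_cancel_right]
  obtain ⟨q₀, hq₀, hq₀c⟩ := hinner _ (mul_mem (inv_mem hy) hy'H)
    ((L.kap_eq_iff h hy.1.1.1.1 hy'H.1.1.1.1).1 (hyr.trans hy'r.symm))
  obtain ⟨q₁, hq₁, hq₁d⟩ := C.exists_comm_mod (Subgroup.mem_inf.1 (C.norm_J hj)).2 hjR hfpf
    (inv_mem hq₀)
  rw [inv_inv] at hq₁d
  set p := k * q₁ * k⁻¹ with hp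
  have hpQ : p ∈ Q := (Subgroup.mem_normalizer_iff.1 hkQ q₁).1 hq₁
  have h1 : q₁⁻¹ * q₀ * p ∈ R := by
    have e1 : (j * q₁ * j⁻¹)⁻¹ * p ∈ R := by
      have := inv_mem (hkq q₁ hq₁)
      rwa [mul_inv_rev, inv_inv] at this
    have e2 : q₁ * ((j * q₁ * j⁻¹)⁻¹ * p) * q₁⁻¹ ∈ R := by
      rwa [(C.central q₁ hq₁ _ e1).eq, mul_inv_cancel_right]
    have e3 := mul_mem hq₁d e2
    rw [show q₀ * (j * q₁ * j⁻¹ * q₁⁻¹) * (q₁ * ((j * q₁ * j⁻¹)⁻¹ * p) * q₁⁻¹) =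
      q₁ * (q₁⁻¹ * q₀ * p) * q₁⁻¹ by group] at e3
    have e4 := C.central q₁⁻¹ (inv_mem hq₁) _ e3
    rwa [show q₁⁻¹ * q₀ * p = q₁⁻¹ * (q₁ * (q₁⁻¹ * q₀ * p) * q₁⁻¹) * q₁⁻¹⁻¹ by group, e4.eq,
      mul_inv_cancel_right]
  set s := y * q₁ with hs
  have hRQ : ∀ ρ ∈ R, ρ ∈ Subgroup.centralizer (Q : Set G) := fun ρ hρ =>
    Subgroup.mem_centralizer_iff.2 fun e he => (C.central e he ρ hρ).eq
  have hsk : s⁻¹ * (k * s * k⁻¹) ∈ Subgroup.centralizer (Q : Set G) := by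
    rw [show s⁻¹ * (k * s * k⁻¹) = (q₁⁻¹ * q₀ * p) * (p⁻¹ * (q₀⁻¹ * (y⁻¹ * y')) * p⁻¹⁻¹) by
      rw [hs, hy', hp]; group]
    exact mul_mem (hRQ _ h1) (conj_mem_centralizer (Subgroup.le_normalizer (inv_mem hpQ)) hq₀c)
  have hsH : s ∈ H₁ := mul_mem hy.1 (hWH (Subgroup.mem_sup_right hq₁))
  have hst : s ∈ trivGroup R Q := mul_mem hy.2 (hQC ⟨hQK hq₁, hq₁⟩).2
  have hpolR : ∀ e ∈ Q, pol s e ∈ R := fun e he => (mem_trivGroup.1 hst).2.2 e he
  have hmul : ∀ u ∈ Q, ∀ v ∈ Q, pol s (u * v) = pol s u * pol s v := fun u hu v hv => by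
    calc pol s (u * v) = pol s u * (u * pol s v * u⁻¹) := by simp only [pol]; group
      _ = _ := by rw [(C.central u hu _ (hpolR v hv)).eq, mul_inv_cancel_right]
  have hsR : ∀ ρ ∈ R, pol s ρ = 1 := fun ρ hρ => by
    rw [pol, (hcR s hsH ρ hρ).eq]; group
  have hinv : ∀ e ∈ Q, pol s (j * e * j⁻¹) = pol s e := by
    intro e he
    have hkeQ : k * e * k⁻¹ ∈ Q := (Subgroup.mem_normalizer_iff.1 hkQ e).1 he
    have h2 : pol s (k * e * k⁻¹) = pol s e := by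
      set c := s⁻¹ * (k * s * k⁻¹) with hc
      calc pol s (k * e * k⁻¹) = pol (s * c) (k * e * k⁻¹) := by
            have hc' : c * (k * e * k⁻¹) * c⁻¹ = k * e * k⁻¹ := by
              rw [← Subgroup.mem_centralizer_iff.1 hsk _ hkeQ, mul_inv_cancel_right]
            rw [show pol (s * c) (k * e * k⁻¹) =
              s * (c * (k * e * k⁻¹) * c⁻¹) * s⁻¹ * (k * e * k⁻¹)⁻¹ by simp only [pol]; group, hc']
            rfl
        _ = k * pol s e * k⁻¹ := by rw [hc]; simp only [pol]; group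
        _ = pol s e := by rw [(hkc _ (hpolR e he)).eq, mul_inv_cancel_right]
    have hρ := hkq e he
    rw [show j * e * j⁻¹ = k * e * k⁻¹ * ((k * e * k⁻¹)⁻¹ * (j * e * j⁻¹)) by group,
      hmul _ hkeQ _ (C.le hρ), hsR _ hρ, mul_one, h2]
  have hsC : s ∈ Subgroup.centralizer (Q : Set G) := by
    refine Subgroup.mem_centralizer_iff.2 fun e he => ?_
    obtain ⟨l, hl, hle⟩ := C.exists_comm_mod (Subgroup.mem_inf.1 (C.norm_J hj)).2 hjR hfpf he
    have hjl := C.J_conj_Q hj hl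
    have hinvpol : pol s l⁻¹ = (pol s l)⁻¹ := by
      refine eq_inv_of_mul_eq_one_right ?_
      rw [← hmul _ hl _ (inv_mem hl), mul_inv_cancel, SquareGroup.pol_one_right]
    set ρ := e⁻¹ * (j * l * j⁻¹ * l⁻¹) with hρ
    have h2 : pol s e = 1 := by
      rw [show e = (j * l * j⁻¹ * l⁻¹) * ρ⁻¹ by rw [hρ]; group,
        hmul _ (mul_mem hjl (inv_mem hl)) _ (C.le (inv_mem hle)), hsR _ (inv_mem hle), mul_one,
        hmul _ hjl _ (inv_mem hl), hinv l hl, hinvpol, mul_inv_cancel]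
    exact (mul_inv_eq_iff_eq_mul.1 (mul_inv_eq_one.1 h2)).symm
  refine ⟨s, Subgroup.mem_inf.2 ⟨hsH.1.1.1, Subgroup.mem_inf.2 ⟨hsH.1.1.2, hsC⟩⟩, ?_⟩
  rw [hs, L.kap_mul hy.1.1.1.1 (L.Q_moves C hq₁).1, hyr, (L.Q_moves C hq₁).2]
  group

end Level

end CfsgLib.LocalEven.OnePointFront.Nonfull
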