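import Cfsg.Agent.Lib.LocalEven.TIEndgame.Line.SquareFields
import Cfsg.Agent.Lib.LocalEven.TIEndgame.Rotation

/-!
# Lifting the translations of a rank-one image

`f : L →* X` is onto, its kernel has odd order and `X` has a rank-one set-up at `a`.  A Sylow
2-subgroup `S` of the preimage of the translations maps bijectively onto them, and its normaliser
covers the point stabiliser modulo translations.  The structure of the translations and the action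
of the torus on them pass to `S` and the normaliser of `S` over the point stabiliser.
-/

set_option autoImplicit false
set_option linter.style.haveILetI false

open Cfsg
open scoped commutatorElement Pointwise

namespace CfsgLib.LocalEven.OnePointFront.Nonfull

open MulAction CfsgLib.RankOne CfsgLib.RankOne.UnitaryUnique CfsgLib.LocalEven.TIEndgame

/-- A 2-group in the image lifts to a Sylow 2-subgroup of its preimage if the kernel is odd. -/
theorem exists_twoLift {L X : Type*} [Group L] [Finite L] [Group X] {f : L →* X}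
    (hf : Function.Surjective f) (hker : ∀ k, f k = 1 → Odd (orderOf k)) {Qb : Subgroup X}
    (hQb : IsPGroup 2 Qb) :
    ∃ S : Subgroup L, S.map f = Qb ∧ (∀ s ∈ S, f s = 1 → s = 1) ∧
      ∀ g : L, (∀ γ ∈ Qb, f g * γ * (f g)⁻¹ ∈ Qb) →
        ∃ y, f y ∈ Qb ∧ y * g ∈ Subgroup.normalizer (S : Set L) := by
  haveI : Fact (Nat.Prime 2) := ⟨Nat.prime_two⟩
  set P := Qb.comap f with hP
  let T : Sylow 2 P := default
  set S : Subgroup L := (T : Subgroup P).map P.subtype with hS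
  have hS2 : IsPGroup 2 S := T.isPGroup'.map _
  refine ⟨S, ?_, fun s hs h1 => ?_, fun g hg => ?_⟩
  · refine le_antisymm ?_ fun γ hγ => ?_
    · rintro _ ⟨_, ⟨p, -, rfl⟩, rfl⟩
      exact p.2
    · have hsurj : Function.Surjective (f.subgroupComap Qb) :=
        f.subgroupComap_surjective_of_surjective Qb hf
      have htop := (T.mapSurjective hsurj).is_maximal' (Q := ⊤) (hQb.to_subgroup ⊤) le_top
      have hmem : (⟨γ, hγ⟩ : Qb) ∈ ((T.mapSurjective hsurj : Sylow 2 Qb) : Subgroup Qb) :=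
        htop ▸ Subgroup.mem_top _
      rw [Sylow.coe_mapSurjective] at hmem
      obtain ⟨p, hp, e⟩ := hmem
      exact ⟨p, ⟨p, hp, rfl⟩, congrArg Subtype.val e⟩
  · obtain ⟨n, hn⟩ := IsPGroup.exists_orderOf_eq_pow hS2 ⟨s, hs⟩
    rw [Subgroup.orderOf_mk] at hn
    have := hker s h1
    rw [hn] at this
    rcases n with _ | n
    · exact orderOf_eq_one_iff.1 (hn.trans (pow_zero 2))
    · exact absurd this (Nat.not_odd_iff_even.2 ((Nat.even_pow' n.succ_ne_zero).2 even_two))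
  · set S' : Subgroup L := S.map (MulAut.conj g).toMonoidHom with hS'
    have hS'P : S' ≤ P := by
      rintro _ ⟨_, ⟨p, -, rfl⟩, rfl⟩
      refine Subgroup.mem_comap.2 ?_
      simpa using hg _ p.2
    obtain ⟨T', hT'⟩ := IsPGroup.exists_le_sylow
      ((hS2.map (MulAut.conj g).toMonoidHom).comap_subtype (K := P))
    obtain ⟨y, hy⟩ := exists_smul_eq P T T'
    have hkey : ∀ s ∈ S, (y : L)⁻¹ * g * s * ((y : L)⁻¹ * g)⁻¹ ∈ S := by
      intro s hs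
      have h1 : (⟨g * s * g⁻¹, hS'P ⟨s, hs, rfl⟩⟩ : P) ∈ (T' : Subgroup P) := hT' ⟨s, hs, rfl⟩
      rw [← hy, Sylow.coe_subgroup_smul, Subgroup.mem_pointwise_smul_iff_inv_smul_mem] at h1
      refine ⟨_, h1, ?_⟩
      simp [MulAut.smul_def, mul_assoc]
    refine ⟨(y : L)⁻¹, inv_mem (s := P) y.2, ?_⟩
    have hle : S.map (MulAut.conj ((y : L)⁻¹ * g)).toMonoidHom ≤ S := by
      rintro _ ⟨s, hs, rfl⟩
      exact hkey s hs
    have heq := Subgroup.eq_of_le_of_card_ge hle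
      (Subgroup.card_map_of_injective (MulAut.conj ((y : L)⁻¹ * g)).injective).ge
    refine Subgroup.mem_normalizer_iff.2 fun s => ⟨hkey s, fun hs => ?_⟩
    have hs' : (y : L)⁻¹ * g * s * ((y : L)⁻¹ * g)⁻¹ ∈
        S.map (MulAut.conj ((y : L)⁻¹ * g)).toMonoidHom := heq.symm ▸ hs
    obtain ⟨s', hs', e⟩ := hs'
    rw [show s = s' from (MulAut.conj ((y : L)⁻¹ * g)).injective e.symm]
    exact hs'

/-- A lift `S` of the translations of a set-up with commutative two-point stabiliser. -/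
structure LineLift {L X Δ : Type*} [Group L] [Group X] [MulAction X Δ] (f : L →* X) (a : Δ) (t : X)
    (Qb Z Kt : Subgroup X) (S : Subgroup L) : Prop where
  data : Small.Data a t Qb Z Kt
  four : ∃ x y : X, x ≠ 1 ∧ y ≠ 1 ∧ x ≠ y ∧ x * x = 1 ∧ y * y = 1 ∧ x * y = y * x
  comm_two : ∀ d ∈ two X a t, ∀ d' ∈ two X a t, d * d' = d' * d
  map_eq : S.map f = Qb
  inj : ∀ s ∈ S, f s = 1 → s = 1
  cover : ∀ β ∈ stabilizer X a, ∃ j ∈ Subgroup.normalizer (S : Set L), ∃ q ∈ Qb, f j = q * β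

/-- The elements of `S` over `Z`. -/
def liftInvs {L X : Type*} [Group L] [Group X] (f : L →* X) (Z : Subgroup X) (S : Subgroup L) :
    Subgroup L :=
  S ⊓ Z.comap f

/-- The normaliser of `S` over the point stabiliser. -/
def liftTorus {L X Δ : Type*} [Group L] [Group X] [MulAction X Δ] (f : L →* X) (a : Δ)
    (S : Subgroup L) : Subgroup L :=
  (stabilizer X a).comap f ⊓ Subgroup.normalizer (S : Set L)

namespace LineLift

variable {L X Δ : Type*} [Group L] [Group X] [MulAction X Δ] {f : L →* X} {a : Δ}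
  {t : X} {Qb Z Kt : Subgroup X} {S : Subgroup L}

section

variable (M : LineLift f a t Qb Z Kt S)
include M

theorem mem_Qb {s : L} (hs : s ∈ S) : f s ∈ Qb := M.map_eq ▸ ⟨s, hs, rfl⟩

theorem exists_lift {γ : X} (hγ : γ ∈ Qb) : ∃ s ∈ S, f s = γ := by
  rw [← M.map_eq] at hγ
  exact hγ

theorem eq_of_map_eq {s s' : L} (hs : s ∈ S) (hs' : s' ∈ S) (e : f s = f s') : s = s' :=
  (inv_mul_eq_one.1 (M.inj _ (mul_mem (inv_mem hs') hs) (by rw [map_mul, map_inv, e, inv_mul_cancel]))).symm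

theorem conj_S {j s : L} (hj : j ∈ liftTorus f a S) (hs : s ∈ S) : j * s * j⁻¹ ∈ S :=
  (Subgroup.mem_normalizer_iff.1 hj.2 s).1 hs

variable [Finite X] [FaithfulSMul X Δ]

theorem mem_invs_iff {s : L} (hs : s ∈ S) : s ∈ liftInvs f Z S ↔ s * s = 1 := by
  refine ⟨fun h => M.inj _ (mul_mem hs hs) ?_, fun h => ⟨hs, ?_⟩⟩
  · rw [map_mul]; exact M.data.Z_sq h.2
  · exact M.data.mem_Z_of_Q (M.mem_Qb hs) (by rw [← map_mul, h, map_one])

theorem sq_mem {s : L} (hs : s ∈ S) : s * s ∈ liftInvs f Z S :=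
  ⟨mul_mem hs hs, by
    show f (s * s) ∈ Z
    rw [map_mul]; exact TIEndgame.Line.sq_mem_Z M.data M.four (M.mem_Qb hs)⟩

theorem central {s r : L} (hs : s ∈ S) (hr : r ∈ liftInvs f Z S) : Commute s r :=
  M.eq_of_map_eq (mul_mem hs hr.1) (mul_mem hr.1 hs)
    (by rw [map_mul, map_mul]; exact ((M.data.central _ hr.2).2 _ (M.mem_Qb hs)).symm)

theorem card_invs : Nat.card (liftInvs f Z S) = Nat.card Z := by
  refine Nat.card_congr (Equiv.ofBijective (fun r => (⟨f r, r.2.2⟩ : Z)) ⟨fun r r' e => ?_, fun z => ?_⟩)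
  · exact Subtype.ext (M.eq_of_map_eq r.2.1 r'.2.1 (congrArg Subtype.val e))
  · obtain ⟨s, hs, e⟩ := M.exists_lift (M.data.Z_le_Q z.2)
    exact ⟨⟨s, hs, by show f s ∈ Z; rw [e]; exact z.2⟩, Subtype.ext e⟩

theorem card_lift : Nat.card S = Nat.card Qb := by
  refine Nat.card_congr (Equiv.ofBijective (fun s => (⟨f s, M.mem_Qb s.2⟩ : Qb)) ⟨fun s s' e => ?_, fun γ => ?_⟩)
  · exact Subtype.ext (M.eq_of_map_eq s.2 s'.2 (congrArg Subtype.val e))
  · obtain ⟨s, hs, e⟩ := M.exists_lift γ.2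
    exact ⟨⟨s, hs⟩, Subtype.ext e⟩

/-- The translations are commutative modulo the point stabiliser's commutators. -/
theorem exists_comm {γ γ' : X} (hγ : γ ∈ stabilizer X a) (hγ' : γ' ∈ stabilizer X a) :
    ∃ q ∈ Qb, γ * γ' = q * (γ' * γ) := by
  have hS' := M.data.setup
  obtain ⟨q₁, hq₁, d₁, hd₁, rfl⟩ := exists_qd hS' hγ
  obtain ⟨q₂, hq₂, d₂, hd₂, rfl⟩ := exists_qd hS' hγ'
  refine ⟨(q₁ * (d₁ * q₂ * d₁⁻¹)) * (q₂ * (d₂ * q₁ * d₂⁻¹))⁻¹, mul_mem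
    (mul_mem hq₁ (M.data.conj_Q hd₁ hq₂)) (inv_mem (mul_mem hq₂ (M.data.conj_Q hd₂ hq₁))), ?_⟩
  calc q₁ * d₁ * (q₂ * d₂) = q₁ * (d₁ * q₂ * d₁⁻¹) * (d₁ * d₂) := by group
    _ = q₁ * (d₁ * q₂ * d₁⁻¹) * (d₂ * d₁) := by rw [M.comm_two d₁ hd₁ d₂ hd₂]
    _ = _ := by group

theorem abel_invs {i j r : L} (hi : i ∈ liftTorus f a S) (hj : j ∈ liftTorus f a S)
    (hr : r ∈ liftInvs f Z S) : i * (j * r * j⁻¹) * i⁻¹ = j * (i * r * i⁻¹) * j⁻¹ := by
  refine M.eq_of_map_eq (M.conj_S hi (M.conj_S hj hr.1)) (M.conj_S hj (M.conj_S hi hr.1)) ?_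
  obtain ⟨q, hq, e⟩ := M.exists_comm (γ := f i) (γ' := f j) hi.1 hj.1
  have hz : f j * f i * f r * (f j * f i)⁻¹ ∈ Z := by
    refine (M.data.mem_Z _).2 ⟨mul_mem (mul_mem (mul_mem hj.1 hi.1) ((M.data.mem_Z _).1 hr.2).1)
      (inv_mem (mul_mem hj.1 hi.1)), ?_⟩
    calc f j * f i * f r * (f j * f i)⁻¹ * (f j * f i * f r * (f j * f i)⁻¹)
        = f j * f i * (f r * f r) * (f j * f i)⁻¹ := by group
      _ = 1 := by rw [M.data.Z_sq hr.2, mul_one, mul_inv_cancel]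
  simp only [map_mul, map_inv]
  calc f i * (f j * f r * (f j)⁻¹) * (f i)⁻¹ = f i * f j * f r * (f i * f j)⁻¹ := by group
    _ = q * (f j * f i * f r * (f j * f i)⁻¹) * q⁻¹ := by rw [e]; group
    _ = f j * f i * f r * (f j * f i)⁻¹ := by
        rw [← (M.data.central _ hz).2 q hq, mul_inv_cancel_right]
    _ = _ := by group

theorem abel_mod {i j g : L} (hi : i ∈ liftTorus f a S) (hj : j ∈ liftTorus f a S) (hg : g ∈ S) :
    (i * (j * g * j⁻¹) * i⁻¹)⁻¹ * (j * (i * g * i⁻¹) * j⁻¹) ∈ liftInvs f Z S := by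
  refine Subgroup.mem_inf.2 ⟨mul_mem (inv_mem (M.conj_S hi (M.conj_S hj hg))) (M.conj_S hj (M.conj_S hi hg)), ?_⟩
  obtain ⟨q, hq, e⟩ := M.exists_comm (γ := f i) (γ' := f j) hi.1 hj.1
  set y := f j * f i * f g * (f j * f i)⁻¹ with hy
  have hyQ : y ∈ Qb := M.data.setup.conj_mem _ (mul_mem hj.1 hi.1) _ (M.mem_Qb hg)
  show f _ ∈ Z
  have he : f ((i * (j * g * j⁻¹) * i⁻¹)⁻¹ * (j * (i * g * i⁻¹) * j⁻¹)) = ⁅q, y⁻¹⁆ := by
    simp only [map_mul, map_inv]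
    calc (f i * (f j * f g * (f j)⁻¹) * (f i)⁻¹)⁻¹ * (f j * (f i * f g * (f i)⁻¹) * (f j)⁻¹)
        = (f i * f j * f g * (f i * f j)⁻¹)⁻¹ * y := by rw [hy]; group
      _ = _ := by rw [e, hy, commutatorElement_def]; group
  rw [he]
  exact TIEndgame.Line.comm_mem_Z M.data M.four hq (inv_mem hyQ)

/-- An element of the torus acting on the translations as a given element of the two-point group. -/
theorem exists_torus {d : X} (hd : d ∈ two X a t) :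
    ∃ j ∈ liftTorus f a S, (∃ q ∈ Qb, f j = q * d) ∧
      (∀ z ∈ Z, f j * z * (f j)⁻¹ = d * z * d⁻¹) ∧
      ∀ x ∈ Qb, ∃ z ∈ Z, f j * x * (f j)⁻¹ = d * x * d⁻¹ * z := by
  obtain ⟨j, hj, q, hq, e⟩ := M.cover d hd.1
  refine ⟨j, ⟨?_, hj⟩, ⟨q, hq, e⟩, fun z hz => ?_, fun x hx => ?_⟩
  · show f j ∈ stabilizer X a
    rw [e]; exact mul_mem (M.data.setup.le hq) hd.1
  · rw [e, show q * d * z * (q * d)⁻¹ = q * (d * z * d⁻¹) * q⁻¹ by group,
      ← (M.data.central _ (M.data.conj_Z hd hz)).2 q hq, mul_inv_cancel_right]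
  · refine ⟨⁅(d * x * d⁻¹)⁻¹, q⁆, TIEndgame.Line.comm_mem_Z M.data M.four
      (inv_mem (M.data.conj_Q hd hx)) hq, ?_⟩
    rw [e, commutatorElement_def]; group

theorem trans_invs {r s : L} (hr : r ∈ liftInvs f Z S) (hs : s ∈ liftInvs f Z S) (hr1 : r ≠ 1)
    (hs1 : s ≠ 1) : ∃ j ∈ liftTorus f a S, j * r * j⁻¹ = s := by
  obtain ⟨l, hl, e⟩ := M.data.exists_conj_Z hr.2 (fun e => hr1 (M.inj r hr.1 e)) hs.2
    (fun e => hs1 (M.inj s hs.1 e))
  obtain ⟨j, hj, -, hjz, -⟩ := M.exists_torus (M.data.le_two hl)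
  refine ⟨j, hj, M.eq_of_map_eq (M.conj_S hj hr.1) hs.1 ?_⟩
  rw [map_mul, map_mul, map_inv, hjz _ hr.2, e]

theorem sq_onto (hne : Z ≠ Qb) {r : L} (hr : r ∈ liftInvs f Z S) : ∃ g ∈ S, g * g = r := by
  rcases eq_or_ne r 1 with rfl | hr1
  · exact ⟨1, one_mem _, one_mul 1⟩
  obtain ⟨x, hx, hxZ⟩ : ∃ x ∈ Qb, x ∉ Z := by
    by_contra hno
    push Not at hno
    exact hne (le_antisymm M.data.Z_le_Q hno)
  have hxx := TIEndgame.Line.sq_mem_Z M.data M.four hx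
  obtain ⟨l, hl, e⟩ := M.data.exists_conj_Z hxx (fun e => hxZ (M.data.mem_Z_of_Q hx e)) hr.2
    (fun e => hr1 (M.inj r hr.1 e))
  obtain ⟨g, hg, hge⟩ := M.exists_lift (M.data.conj_Q (M.data.le_two hl) hx)
  refine ⟨g, hg, M.eq_of_map_eq (mul_mem hg hg) hr.1 ?_⟩
  rw [map_mul, hge, e]; group

end

section Square

variable [Finite X] [FaithfulSMul X Δ] (M : LineLift f a t Qb Z Kt S)
  (hcard : Nat.card Qb = Nat.card Z ^ 2)
include M hcard

theorem square_inj {g g' : L} (hg : g ∈ S) (hg' : g' ∈ S) (e : g * g = g' * g') :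
    g⁻¹ * g' ∈ liftInvs f Z S :=
  Subgroup.mem_inf.2 ⟨mul_mem (inv_mem hg) hg', by
    show f (g⁻¹ * g') ∈ Z
    rw [map_mul, map_inv]
    exact TIEndgame.Line.square_inj M.data hcard (M.mem_Qb hg) (M.mem_Qb hg')
      (by rw [← map_mul, ← map_mul, e])⟩

theorem square_comm {g g' : L} (hg : g ∈ S) (hgR : g ∉ liftInvs f Z S) (hg' : g' ∈ S)
    (hc : Commute g g') : g' ∈ liftInvs f Z S ∨ g⁻¹ * g' ∈ liftInvs f Z S := by
  rcases TIEndgame.Line.square_comm M.data hcard (M.mem_Qb hg) (fun e => hgR ⟨hg, e⟩) (M.mem_Qb hg')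
    (hc.map f) with e | e
  · exact Or.inl ⟨hg', e⟩
  · refine Or.inr (Subgroup.mem_inf.2 ⟨mul_mem (inv_mem hg) hg', ?_⟩)
    show f (g⁻¹ * g') ∈ Z
    rw [map_mul, map_inv]; exact e

theorem square_irred {V : Subgroup L} (hRV : liftInvs f Z S ≤ V) (hVS : V ≤ S)
    (hJ : liftTorus f a S ≤ Subgroup.normalizer (V : Set L)) : V = liftInvs f Z S ∨ V = S := by
  by_cases hle : V ≤ liftInvs f Z S
  · exact Or.inl (le_antisymm hle hRV)
  obtain ⟨g, hg, hgR⟩ := SetLike.not_le_iff_exists.1 hle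
  refine Or.inr (le_antisymm hVS fun g' hg' => ?_)
  by_cases hgR' : g' ∈ liftInvs f Z S
  · exact hRV hgR'
  have hgS := hVS hg
  obtain ⟨k, hk, z, hz, e⟩ := M.data.exists_conj_coset hcard (M.mem_Qb hgS) (fun e => hgR ⟨hgS, e⟩)
    (M.mem_Qb hg') (fun e => hgR' ⟨hg', e⟩)
  obtain ⟨j, hj, -, -, hjx⟩ := M.exists_torus (M.data.le_two hk)
  obtain ⟨z', hz', he⟩ := hjx _ (M.mem_Qb hgS)
  have hv : j * g * j⁻¹ ∈ V := (Subgroup.mem_normalizer_iff.1 (hJ hj) g).1 hg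
  have hmem : (j * g * j⁻¹)⁻¹ * g' ∈ liftInvs f Z S := by
    refine Subgroup.mem_inf.2 ⟨mul_mem (inv_mem (M.conj_S hj hgS)) hg', ?_⟩
    show f _ ∈ Z
    rw [map_mul, map_inv, map_mul, map_mul, map_inv, he, e]
    simp only [mul_inv_rev, mul_assoc, inv_mul_cancel_left]
    simpa [mul_assoc] using mul_mem (inv_mem hz') hz
  simpa [mul_assoc] using mul_mem hv (hRV hmem)

end Square

section Cube

variable [Finite X] [FaithfulSMul X Δ] (M : LineLift f a t Qb Z Kt S)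
  (hW : kernelW X a t ≠ ⊥)
include M hW

theorem cube_irred {V : Subgroup L} (hRV : liftInvs f Z S ≤ V) (hVS : V ≤ S)
    (hJ : liftTorus f a S ≤ Subgroup.normalizer (V : Set L)) : V = liftInvs f Z S ∨ V = S := by
  by_cases hle : V ≤ liftInvs f Z S
  · exact Or.inl (le_antisymm hle hRV)
  obtain ⟨g, hg, hgR⟩ := SetLike.not_le_iff_exists.1 hle
  obtain ⟨F, _, _, _, σ, q, -, ⟨U⟩⟩ := exists_ucoord₀ M.data.setup M.four hW
  have hgS := hVS hg
  have hcl : ∀ d ∈ two X a t, ∀ μ : F, (∀ x ∈ Qb, U.π (d * x * d⁻¹) = μ * U.π x) →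
      ∀ v ∈ V, ∃ v' ∈ V, U.π (f v') = μ * U.π (f v) := by
    intro d hd μ hμ v hv
    obtain ⟨j, hj, -, -, hjx⟩ := M.exists_torus hd
    obtain ⟨z, hz, e⟩ := hjx _ (M.mem_Qb (hVS hv))
    refine ⟨j * v * j⁻¹, (Subgroup.mem_normalizer_iff.1 (hJ hj) v).1 hv, ?_⟩
    rw [map_mul, map_mul, map_inv, e, U.π_mul _ (M.data.conj_Q hd (M.mem_Qb (hVS hv))) _
      (M.data.Z_le_Q hz), U.π_invol _ (M.data.Z_le_Q hz) (M.data.Z_sq hz), add_zero,
      hμ _ (M.mem_Qb (hVS hv))]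
  have hscal : ∀ m : Fix σ, ∀ v ∈ V, ∃ v' ∈ V, U.π (f v') = (m : F) * U.π (f v) := by
    intro m v hv
    rcases eq_or_ne m 0 with rfl | hm
    · exact ⟨1, one_mem _, by rw [map_one, RotationTools.π_one U]; simp⟩
    obtain ⟨l, hl, rfl⟩ := RotationTools.exists_lift_φ U hm
    obtain ⟨k, hk, hkπ, -⟩ := U.scalar l hl
    exact hcl k hk.1 _ hkπ v hv
  obtain ⟨w, hw, -, hwπ, -⟩ := U.rotation
  have hε : σ U.ε ≠ U.ε := fun e => U.ε_ne (by
    have h1 := U.ε_norm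
    rw [e] at h1
    rcases mul_self_eq_one_iff.1 h1 with h2 | h2
    · exact h2
    · rw [h2, CharTwo.neg_eq])
  refine Or.inr (le_antisymm hVS fun g' hg' => ?_)
  have hc : U.π (f g) ≠ 0 := fun e => hgR ((M.mem_invs_iff hgS).2 (M.inj _ (mul_mem hgS hgS) (by
    rw [map_mul]; exact RotationTools.sq_eq_one_of_π U (M.mem_Qb hgS) e)))
  obtain ⟨l, m, e⟩ := RotationTools.exists_decomp U hε (U.π (f g') / U.π (f g))
  obtain ⟨v₁, hv₁, e₁⟩ := hscal l g hg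
  obtain ⟨v₂, hv₂, e₂⟩ := hscal m g hg
  obtain ⟨v₃, hv₃, e₃⟩ := hcl w hw _ hwπ v₂ hv₂
  have hv : v₁ * v₃ ∈ V := mul_mem hv₁ hv₃
  have hπ : U.π (f (v₁ * v₃)) = U.π (f g') := by
    rw [map_mul, U.π_mul _ (M.mem_Qb (hVS hv₁)) _ (M.mem_Qb (hVS hv₃)), e₁, e₃, e₂]
    rw [div_eq_iff hc] at e
    rw [e]; ring
  have hmem : (v₁ * v₃)⁻¹ * g' ∈ liftInvs f Z S := by
    have hS' : (v₁ * v₃)⁻¹ * g' ∈ S := mul_mem (inv_mem (hVS hv)) hg'
    refine (M.mem_invs_iff hS').2 (M.inj _ (mul_mem hS' hS') ?_)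
    rw [map_mul]
    refine RotationTools.sq_eq_one_of_π U (M.mem_Qb hS') ?_
    rw [map_mul, map_inv, U.π_mul _ (inv_mem (M.mem_Qb (hVS hv))) _ (M.mem_Qb hg'),
      RotationTools.π_inv U (M.mem_Qb (hVS hv)), hπ, CharTwo.add_self_eq_zero]
  simpa [mul_assoc] using mul_mem hv (hRV hmem)

theorem exists_norm_one [Finite L] : ∃ j ∈ liftTorus f a S, Odd (orderOf j) ∧
    (∀ r ∈ liftInvs f Z S, Commute j r) ∧
    ∀ g ∈ S, (j * g * j⁻¹) * g⁻¹ ∈ liftInvs f Z S → g ∈ liftInvs f Z S := by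
  haveI : Fact (Nat.Prime 2) := ⟨Nat.prime_two⟩
  have hS' := M.data.setup
  obtain ⟨F, _, _, _, σ, q, -, ⟨U⟩⟩ := exists_ucoord₀ hS' M.four hW
  obtain ⟨w, hw, -, hwπ, hwι⟩ := U.rotation
  obtain ⟨j₀, hj₀, ⟨q₀, hq₀, e₀⟩, -, -⟩ := M.exists_torus hw
  have hpow : ∀ n : ℕ, ∃ q' ∈ Qb, (q₀ * w) ^ n = q' * w ^ n := by
    intro n
    induction n with
    | zero => exact ⟨1, one_mem _, by simp⟩
    | succ n ih =>
      obtain ⟨q', hq', e⟩ := ih
      refine ⟨q' * (w ^ n * q₀ * (w ^ n)⁻¹), mul_mem hq' (M.data.conj_Q (pow_mem hw n) hq₀), ?_⟩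
      rw [pow_succ, e, pow_succ]
      group
  obtain ⟨k, m, hm, hkm⟩ := Nat.exists_eq_pow_mul_and_not_dvd (orderOf_pos j₀).ne' 2 (by norm_num)
  have hwodd : Odd (orderOf w) := hS'.odd_card.of_dvd_nat (Subgroup.orderOf_dvd_natCard _ hw)
  obtain ⟨i, hi⟩ := exists_pow_eq_self_of_coprime (x := w) (n := 2 ^ k)
    (Nat.Coprime.pow_left k (Nat.coprime_two_left.2 hwodd))
  have hj : (j₀ ^ 2 ^ k) ^ i ∈ liftTorus f a S := pow_mem (pow_mem hj₀ _) _
  obtain ⟨q₁, hq₁, e₁⟩ := hpow (2 ^ k * i)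
  have hfj : f ((j₀ ^ 2 ^ k) ^ i) = q₁ * w := by
    rw [← pow_mul, map_pow, e₀, e₁, pow_mul w, hi]
  refine ⟨(j₀ ^ 2 ^ k) ^ i, hj, ?_, fun r hr => ?_, fun g hg hgR => ?_⟩
  · refine Odd.of_dvd_nat (Nat.not_even_iff_odd.1 fun e => hm (even_iff_two_dvd.1 e))
      (orderOf_dvd_of_pow_eq_one ?_)
    rw [← pow_mul, ← pow_mul, show 2 ^ k * (i * m) = orderOf j₀ * i by rw [hkm]; ring, pow_mul,
      pow_orderOf_eq_one, one_pow]
  · refine mul_inv_eq_iff_eq_mul.1 (M.eq_of_map_eq (M.conj_S hj hr.1) hr.1 ?_)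
    obtain ⟨z, hz⟩ := (U.π_eq_zero _ (M.mem_Qb hr.1)).1
      (U.π_invol _ (M.mem_Qb hr.1) (M.data.Z_sq hr.2))
    rw [map_mul, map_mul, map_inv, hfj, ← hz,
      show q₁ * w * U.ι z * (q₁ * w)⁻¹ = q₁ * (w * U.ι z * w⁻¹) * q₁⁻¹ by group, hwι,
      ← U.ι_comm z q₁ hq₁, mul_inv_cancel_right]
  · set x := f g with hx
    have hxQ : x ∈ Qb := M.mem_Qb hg
    have hy : w * x * w⁻¹ ∈ Qb := M.data.conj_Q hw hxQ
    have h0 : U.π ((q₁ * (w * x * w⁻¹) * q₁⁻¹) * x⁻¹) = 0 := by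
      have h1 := Subgroup.mem_comap.1 hgR.2
      rw [map_mul, map_mul, map_mul, map_inv, map_inv, hfj, ← hx] at h1
      rw [show q₁ * (w * x * w⁻¹) * q₁⁻¹ * x⁻¹ = q₁ * w * x * (q₁ * w)⁻¹ * x⁻¹ by group]
      exact U.π_invol _ (M.data.Z_le_Q h1) (M.data.Z_sq h1)
    rw [U.π_mul _ (mul_mem (mul_mem hq₁ hy) (inv_mem hq₁)) _ (inv_mem hxQ),
      U.π_mul _ (mul_mem hq₁ hy) _ (inv_mem hq₁), U.π_mul _ hq₁ _ hy,
      RotationTools.π_inv U hq₁, RotationTools.π_inv U hxQ, hwπ _ hxQ] at h0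
    have h2 : (U.ε + 1) * U.π x = 0 := by
      linear_combination h0 - CharTwo.add_self_eq_zero (U.π q₁)
    have hε : U.ε + 1 ≠ 0 := fun e => U.ε_ne (CharTwo.add_eq_zero.1 e)
    refine (M.mem_invs_iff hg).2 (M.inj _ (mul_mem hg hg) ?_)
    rw [map_mul]
    exact RotationTools.sq_eq_one_of_π U hxQ ((mul_eq_zero.1 h2).resolve_left hε)

end Cube

end LineLift

end CfsgLib.LocalEven.OnePointFront.Nonfull
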