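import Cfsg.Agent.Lib.LocalEven.OnePointFront.Nonfull.Curved.MovedBase
import Cfsg.Agent.Lib.LocalEven.OnePointFront.Nonfull.Linear.Endgame
import Cfsg.Agent.Lib.LocalEven.OnePointFront.Nonfull.MaxPoint

/-!
# Curved lines moving the central members: assembly

If the torus normalises `Z = omCentre (S ⊓ K)` then `R` is central in `T = S ⊓ K`.  If `Q ≤ K` one
class finishes.  Otherwise, if `x` centralises only `R` in `T` and `K` is maximal, `Q` does not
centralise `Z`; on a unitary line it does, by the norm-one element of the torus.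
-/

set_option autoImplicit false
set_option linter.style.haveILetI false

namespace CfsgLib.LocalEven.OnePointFront.Nonfull

open MulAction CfsgLib.LocalEven.TIEndgame CfsgLib.Involution

universe u v

variable {G : Type u} {Ω : Type v} [Group G] [MulAction G Ω] {D : Set G} {a : Ω} {x : G}
  {K R Q J S : Subgroup G}

/-- If a group transitive on the members of the line normalises `Z`, moved by `x`, then `R` is
central in `S ⊓ K`. -/
theorem CurvedLine.central_of_torus (L : CurvedLine D a x K R Q J) (h : ClosedSetting D Ω)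
    (hS : IsTopTwo S a) (hxS : x ∈ S) (hRS : R ≤ S)
    (hmove : ∃ z ∈ omCentre (S ⊓ K), ¬ Commute x z) {J' : Subgroup G}
    (hJx : ∀ j ∈ J', Commute x j)
    (hJZ : J' ≤ Subgroup.normalizer (omCentre (S ⊓ K) : Set G))
    (htrans : ∀ r ∈ R, ∀ s ∈ R, r ≠ 1 → s ≠ 1 → ∃ j ∈ J', j * r * j⁻¹ = s) :
    MovedTop D a x K R Q J S := by
  refine ⟨L, hS, hxS, ?_, hmove⟩
  obtain ⟨z₀, hz₀, hne⟩ := hmove
  set Z := omCentre (S ⊓ K) with hZ
  have hxi : x⁻¹ = x := Dihedral.inv_eq L.bad.1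
  have hxx : x * x = 1 := Dihedral.mul_self L.bad.1
  have hnorm : ∀ z ∈ Z, x * z * x⁻¹ ∈ Z := by
    intro z hz
    have hxT : x ∈ Subgroup.normalizer ((S ⊓ K : Subgroup G) : Set G) := by
      have key : ∀ s ∈ S, ∀ t ∈ S ⊓ K, s * t * s⁻¹ ∈ S ⊓ K := fun s hs t ht =>
        ⟨S.mul_mem (S.mul_mem hs ht.1) (S.inv_mem hs), L.point.conj s (hS.2.1 hs) t ht.2⟩
      refine Subgroup.mem_normalizer_iff.2 fun t => ⟨key x hxS t, fun ht => ?_⟩
      have := key x hxS _ ht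
      rw [hxi, show x * (x * t * x) * x = (x * x) * t * (x * x) by group, hxx] at this
      simpa using this
    refine ⟨(Subgroup.mem_normalizer_iff.1 hxT z).1 hz.1,
      by rw [show x * z * x⁻¹ * (x * z * x⁻¹) = x * (z * z) * x⁻¹ by group, hz.2.1]; group,
      fun t ht => ?_⟩
    have h1 := (Subgroup.mem_normalizer_iff.1 (inv_mem hxT) t).1 ht
    rw [inv_inv] at h1
    simpa [mul_assoc] using (hz.2.2 _ h1).map (MulAut.conj x).toMonoidHom
  -- a member of `R` in `Z`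
  set d : G := z₀⁻¹ * (x * z₀ * x⁻¹) with hd
  have hdZ : d ∈ Z := mul_mem (inv_mem hz₀) (hnorm _ hz₀)
  have hd1 : d ≠ 1 := fun e => hne (eq_mul_inv_iff_mul_eq.1 (inv_mul_eq_one.1 e)).symm
  have hxd : Commute x d := by
    have h1 : x * d * x⁻¹ = d⁻¹ := by
      rw [hd, hxi]
      calc x * (z₀⁻¹ * (x * z₀ * x)) * x = (x * z₀⁻¹ * x) * z₀ * (x * x) := by group
        _ = _ := by rw [hxx, mul_one, mul_inv_rev, mul_inv_rev, mul_inv_rev, hxi, inv_inv]; group
    rw [inv_eq_of_mul_eq_one_right hdZ.2.1] at h1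
    exact mul_inv_eq_iff_eq_mul.1 h1
  obtain ⟨r, hr, hfix⟩ := L.line_members d (L.point.mem_dat inf_le_right hdZ hd1) hxd
  obtain ⟨b, hb, hba⟩ : ∃ b : Ω, x • b = b ∧ b ≠ a := by
    obtain ⟨-, p, q, hpq, hp, hq⟩ := id L.bad
    rcases eq_or_ne p a with e | e
    · exact ⟨q, hq, fun hqa => hpq (e.trans hqa.symm)⟩
    · exact ⟨p, hp, e⟩
  have hdr : d = r := by
    rcases eq_or_ne r 1 with rfl | hr1
    · exact absurd (h.fixed_unique d (L.point.mem_dat inf_le_right hdZ hd1).1 b a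
        (by rw [hfix b hb, one_smul]) (L.point.mem_dat inf_le_right hdZ hd1).2) hba
    have hrT : r ∈ S ⊓ K := ⟨hRS hr, L.point.dat_le r (L.member r hr hr1)⟩
    have hsq : r⁻¹ * d * (r⁻¹ * d) = 1 := by
      calc r⁻¹ * d * (r⁻¹ * d) = r⁻¹ * (d * r⁻¹) * d := by group
        _ = (r * r)⁻¹ * (d * d) := by rw [(hdZ.2.2 _ (inv_mem hrT)).eq]; group
        _ = 1 := by rw [L.sq r hr, hdZ.2.1]; group
    by_contra hne'
    have hne1 : r⁻¹ * d ≠ 1 := fun e => hne' (inv_mul_eq_one.1 e).symm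
    have hdat := L.point.invol_mem _ (mul_mem (inv_mem hrT.2) hdZ.1.2)
      (orderOf_eq_prime (by rw [pow_two, hsq]) hne1)
    exact hba (h.fixed_unique _ hdat.1 b a
      (by rw [mul_smul, hfix b hb, inv_smul_smul]) hdat.2)
  intro s hs
  rcases eq_or_ne s 1 with rfl | hs1
  · exact one_mem Z
  obtain ⟨j, hj, rfl⟩ := htrans r hr s hs (fun e => hd1 (hdr.trans e)) hs1
  exact (Subgroup.mem_normalizer_iff.1 (hJZ hj) r).1 (hdr ▸ hdZ)

namespace MovedTop

variable (M : MovedTop D a x K R Q J S)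
include M

/-- One class finishes the case `Q ≤ K`. -/
theorem false_of_le [Finite G] [Finite Ω] (h : ClosedSetting D Ω) (hgen : Subgroup.closure D = ⊤)
    (hmax : MaxRank D Ω R) (hQK : Q ≤ K) (hQS : Q ≤ S) (h1 : OneClass K S x) : False :=
  false_of_oneClass h hgen M.line.point M.top M.line.bad M.mem h1 (M.cyclicMod h hmax hQK hQS)

end MovedTop

section

variable {Ω : Type u} [MulAction G Ω] {a : Ω} [Finite G] [Finite Ω] [FaithfulSMul G Ω]
  (M : MovedTop D a x K R Q J S)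
include M

/-- If `x` centralises only `R` in `T` and `K` is maximal, `Q` moves `Z`. -/
theorem MovedTop.exists_moving (h : ClosedSetting D Ω) (hmax : MaxRank D Ω R)
    (hK : MaxPointGroup D a K) (hQS : Q ≤ S) (hc : ∀ t ∈ S ⊓ K, Commute x t → t ∈ R) :
    ∃ g ∈ Q, ∃ z ∈ omCentre (S ⊓ K), ¬ Commute g z := by
  by_contra hall
  push Not at hall
  have hTZ : omCentre (S ⊓ K) = S ⊓ K := M.eq_omCentre h hc
  set T := S ⊓ K with hT
  set N := stabilizer G a ⊓ Subgroup.centralizer (T : Set G) with hN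
  have hTN : T ≤ N := le_inf (inf_le_left.trans M.top.2.1) fun t ht =>
    Subgroup.mem_centralizer_iff.2 fun s hs => ((hTZ.ge hs).2.2 t ht).eq
  have hNK : N ≤ K := by
    refine hK.le_of_no_bad h M.two_T inf_le_right M.odd_T
      (le_inf inf_le_left (inf_le_right.trans (Subgroup.centralizer_le_normalizer _))) ?_ ?_
    · intro g hg n hn
      refine ⟨mul_mem (mul_mem hg.1 hn.1) ((stabilizer G a).inv_mem hg.1), Subgroup.mem_centralizer_iff.2 fun t ht => ?_⟩
      have h1 := (Subgroup.mem_normalizer_iff.1 (inv_mem hg.2) t).1 ht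
      rw [inv_inv] at h1
      calc t * (g * n * g⁻¹) = g * ((g⁻¹ * t * g) * n) * g⁻¹ := by group
        _ = g * (n * (g⁻¹ * t * g)) * g⁻¹ := by rw [Subgroup.mem_centralizer_iff.1 hn.2 _ h1]
        _ = g * n * g⁻¹ * t := by group
    · intro v hv hbad
      rw [sup_eq_right.2 hTN] at hv
      obtain ⟨z, hz, hne⟩ := M.not_centralise h hmax hbad
      exact hne (Subgroup.mem_centralizer_iff.1 hv.2 z hz.1).symm
  refine M.line.ne (le_antisymm (fun g hg => hc g ⟨hQS hg, hNK ⟨M.line.fix_Q g hg, ?_⟩⟩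
    (M.line.comm g hg)) M.line.le)
  exact Subgroup.mem_centralizer_iff.2 fun t ht => ((hall g hg t (hTZ.ge ht))).eq.symm

end

section

variable [Finite G] (M : MovedTop D a x K R Q J S)
include M

open scoped Classical in
/-- On a unitary line `Q` centralises `Z`. -/
theorem MovedTop.commute_of_normOne (h : ClosedSetting D Ω) (hQS : Q ≤ S) {j : G}
    (hjodd : Odd (orderOf j)) (hjx : Commute x j) (hjR : ∀ r ∈ R, Commute j r)
    (hjQ : j ∈ Subgroup.normalizer (Q : Set G))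
    (hjZ : j ∈ Subgroup.normalizer (omCentre (S ⊓ K) : Set G))
    (hfpf : ∀ g ∈ Q, (j * g * j⁻¹) * g⁻¹ ∈ R → g ∈ R) :
    ∀ g ∈ Q, ∀ z ∈ omCentre (S ⊓ K), Commute g z := by
  set Z := omCentre (S ⊓ K) with hZ
  have hxi : x⁻¹ = x := Dihedral.inv_eq M.line.bad.1
  -- elements of `C(x)` normalising `Z` and centralising `R` translate by `R`
  have key : ∀ g : G, Commute x g → (∀ r ∈ R, Commute g r) →
      (∀ z ∈ Z, g * z * g⁻¹ ∈ Z) → ∀ z ∈ Z, z⁻¹ * (g * z * g⁻¹) ∈ R := by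
    intro g hgx hgR hgZ z hz
    have hw : x * z * x⁻¹ ∈ Z := M.conj_mem_Z M.mem hz
    have hs : z⁻¹ * (x * z * x⁻¹) ∈ R := by
      refine M.mem_R h (mul_mem (inv_mem hz) hw) ?_
      have h1 : x * (z⁻¹ * (x * z * x⁻¹)) * x⁻¹ = (z⁻¹ * (x * z * x⁻¹))⁻¹ := by
        calc x * (z⁻¹ * (x * z * x⁻¹)) * x⁻¹ = (x * z⁻¹ * x⁻¹) * (x * x) * z * (x⁻¹ * x⁻¹) := by group
          _ = _ := by rw [M.x_sq, show x⁻¹ * x⁻¹ = (x * x)⁻¹ by group, M.x_sq]; group
      rw [inv_eq_of_mul_eq_one_right (mul_mem (inv_mem hz) hw).2.1] at h1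
      exact mul_inv_eq_iff_eq_mul.1 h1
    refine M.mem_R h (mul_mem (inv_mem hz) (hgZ z hz)) ?_
    set w := x * z * x⁻¹ with hw'
    have h2 : x * (z⁻¹ * (g * z * g⁻¹)) * x⁻¹ = z⁻¹ * (g * z * g⁻¹) := by
      have e : x * (g * z * g⁻¹) * x⁻¹ = g * w * g⁻¹ := by
        rw [hw']
        calc x * (g * z * g⁻¹) * x⁻¹ = (x * g) * z * (x * g)⁻¹ := by group
          _ = (g * x) * z * (g * x)⁻¹ := by rw [hgx.eq]
          _ = _ := by group
      calc x * (z⁻¹ * (g * z * g⁻¹)) * x⁻¹ = w⁻¹ * (x * (g * z * g⁻¹) * x⁻¹) := by rw [hw']; group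
        _ = (z⁻¹ * w)⁻¹ * z⁻¹ * (g * z * g⁻¹) * (g * (z⁻¹ * w) * g⁻¹) := by rw [e]; group
        _ = (z⁻¹ * w)⁻¹ * ((z⁻¹ * (g * z * g⁻¹)) * (z⁻¹ * w)) := by
            rw [show g * (z⁻¹ * w) * g⁻¹ = z⁻¹ * w by rw [(hgR _ hs).eq, mul_inv_cancel_right]]
            group
        _ = _ := by
            rw [((mul_mem (inv_mem hz) (hgZ z hz)).2.2 _ (M.central hs).1).eq, inv_mul_cancel_left]
    exact mul_inv_eq_iff_eq_mul.1 h2
  have hgZ : ∀ g ∈ Q, ∀ z ∈ Z, g * z * g⁻¹ ∈ Z := fun g hg z hz => M.conj_mem_Z (hQS hg) hz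
  have hjZ' : ∀ z ∈ Z, j * z * j⁻¹ ∈ Z := fun z hz => (Subgroup.mem_normalizer_iff.1 hjZ z).1 hz
  -- `j` centralises `Z`
  have hjc : ∀ z ∈ Z, Commute j z := by
    intro z hz
    set c := z⁻¹ * (j * z * j⁻¹) with hc
    have hcR : c ∈ R := key j hjx hjR hjZ' z hz
    have hn : ∀ n : ℕ, j ^ n * z * (j ^ n)⁻¹ = z * c ^ n := by
      intro n
      induction n with
      | zero => simp
      | succ n ih =>
        calc j ^ (n + 1) * z * (j ^ (n + 1))⁻¹ = j * (j ^ n * z * (j ^ n)⁻¹) * j⁻¹ := by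
              rw [pow_succ']; group
          _ = (j * z * j⁻¹) * (j * c ^ n * j⁻¹) := by rw [ih]; group
          _ = z * c * c ^ n := by
              rw [((hjR c hcR).pow_right n).eq, mul_inv_cancel_right, hc, mul_inv_cancel_left]
          _ = _ := by rw [mul_assoc, pow_succ']
    obtain ⟨m, hm⟩ := hjodd
    have h1 := hn (orderOf j)
    rw [pow_orderOf_eq_one, hm, pow_succ, pow_mul, pow_two, M.line.sq c hcR, one_pow, one_mul] at h1
    simp only [one_mul, inv_one, mul_one] at h1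
    have hc1 : c = 1 := by simpa using h1
    exact (mul_inv_eq_iff_eq_mul.1 (inv_mul_eq_one.1 hc1).symm)
  -- `Q / R` is commutative and `g ↦ [j, g]` is onto it
  intro g hg z hz
  set R' := R.subgroupOf Q with hR'
  haveI hn : R'.Normal := ⟨fun r hr q => by
    rw [hR', Subgroup.mem_subgroupOf] at hr ⊢
    push_cast
    rw [(M.line.central q q.2 r hr).eq, mul_inv_cancel_right]
    exact hr⟩
  have hsq : ∀ p : ↥Q ⧸ R', p * p = 1 := by
    rintro ⟨p⟩
    exact (QuotientGroup.eq_one_iff (p * p)).2 (M.line.sq_mem p p.2)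
  have hcomm : ∀ p q : ↥Q ⧸ R', p * q = q * p := fun p q => by
    have hi : ∀ p : ↥Q ⧸ R', p⁻¹ = p := fun p => inv_eq_of_mul_eq_one_right (hsq p)
    rw [← hi (p * q), mul_inv_rev, hi, hi]
  let π := QuotientGroup.mk' R'
  let cj : ↥Q → ↥Q := fun p => ⟨j * p * j⁻¹, (Subgroup.mem_normalizer_iff.1 hjQ p).1 p.2⟩
  let Φ : ↥Q →* ↥Q ⧸ R' :=
    { toFun := fun p => π (cj p) * (π p)⁻¹
      map_one' := by
        rw [show cj 1 = 1 from Subtype.ext (by simp [cj]), map_one, mul_inv_cancel]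
      map_mul' := fun p q => by
        rw [show cj (p * q) = cj p * cj q from Subtype.ext (by simp [cj, mul_assoc]), map_mul,
          map_mul, mul_inv_rev, hcomm (π q)⁻¹ (π p)⁻¹]
        calc π (cj p) * π (cj q) * ((π p)⁻¹ * (π q)⁻¹)
            = π (cj p) * (π (cj q) * (π p)⁻¹) * (π q)⁻¹ := by group
          _ = _ := by rw [hcomm (π (cj q))]; group }
  have hle : R' ≤ Φ.ker := fun r hr => by
    rw [hR', Subgroup.mem_subgroupOf] at hr
    show π (cj r) * (π r)⁻¹ = 1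
    rw [show cj r = r from Subtype.ext (by
      show j * r * j⁻¹ = r
      rw [(hjR r hr).eq, mul_inv_cancel_right]), mul_inv_cancel]
  have hinj : Function.Injective (QuotientGroup.lift R' Φ hle) := by
    rw [injective_iff_map_eq_one]
    rintro ⟨p⟩ hp
    refine (QuotientGroup.eq_one_iff p).2 (Subgroup.mem_subgroupOf.2 (hfpf p p.2 ?_))
    have h1 : π (cj p * p⁻¹) = 1 := by rw [map_mul, map_inv]; exact hp
    exact Subgroup.mem_subgroupOf.1 ((QuotientGroup.eq_one_iff _).1 h1)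
  obtain ⟨⟨p⟩, hp⟩ := (Finite.injective_iff_surjective.1 hinj) (π ⟨g, hg⟩)
  have hrem : (j * p * j⁻¹ * (p : G)⁻¹)⁻¹ * g ∈ R := by
    have h1 : π ((cj p * p⁻¹)⁻¹ * ⟨g, hg⟩) = 1 := by
      have hp' : π (cj p) * (π p)⁻¹ = π ⟨g, hg⟩ := hp
      rw [map_mul, map_inv, map_mul, map_inv, hp', inv_mul_cancel]
    exact Subgroup.mem_subgroupOf.1 ((QuotientGroup.eq_one_iff _).1 h1)
  -- `[j, p]` centralises `Z`
  have hjp : Commute (j * p * j⁻¹ * (p : G)⁻¹) z := by
    have hr : z⁻¹ * ((p : G)⁻¹ * z * (p : G)⁻¹⁻¹) ∈ R :=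
      key _ (M.line.comm p p.2).inv_right (fun r hr => (M.line.central p p.2 r hr).inv_left)
        (hgZ _ (inv_mem p.2)) z hz
    set r := z⁻¹ * ((p : G)⁻¹ * z * (p : G)⁻¹⁻¹) with hrdef
    have hpz : (p : G)⁻¹ * z * p = z * r := by rw [hrdef, inv_inv, mul_inv_cancel_left]
    refine mul_inv_eq_iff_eq_mul.1 ?_
    calc j * p * j⁻¹ * (p : G)⁻¹ * z * (j * p * j⁻¹ * (p : G)⁻¹)⁻¹
        = j * p * j⁻¹ * ((p : G)⁻¹ * z * p) * j * (p : G)⁻¹ * j⁻¹ := by group
      _ = j * p * (z * r) * (p : G)⁻¹ * j⁻¹ := by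
          rw [hpz, mul_assoc (j * p) j⁻¹, ((hjc z hz).mul_right (hjR r hr)).inv_left.eq]
          group
      _ = j * z * j⁻¹ := by
          rw [← hpz]; group
      _ = z := by rw [(hjc z hz).eq, mul_inv_cancel_right]
  have hrz : Commute ((j * p * j⁻¹ * (p : G)⁻¹)⁻¹ * g) z :=
    ((M.central hrem).2.2 z hz.1)
  simpa [mul_assoc] using hjp.mul_left hrz

end

/-- On a unitary line with `K` maximal, `x` centralises more than `R` in `T`. -/
theorem false_of_moved_unitary {Ω : Type u} [MulAction G Ω] {a : Ω} [Finite G] [Finite Ω]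
    [FaithfulSMul G Ω] (M : MovedTop D a x K R Q J S) (h : ClosedSetting D Ω)
    (hmax : MaxRank D Ω R) (hK : MaxPointGroup D a K) (hQS : Q ≤ S)
    (hc : ∀ t ∈ S ⊓ K, Commute x t → t ∈ R) {j : G} (hjodd : Odd (orderOf j)) (hjx : Commute x j)
    (hjR : ∀ r ∈ R, Commute j r) (hjQ : j ∈ Subgroup.normalizer (Q : Set G))
    (hjZ : j ∈ Subgroup.normalizer (omCentre (S ⊓ K) : Set G))
    (hfpf : ∀ g ∈ Q, (j * g * j⁻¹) * g⁻¹ ∈ R → g ∈ R) : False := by
  obtain ⟨g, hg, z, hz, hne⟩ := M.exists_moving h hmax hK hQS hc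
  exact hne (M.commute_of_normOne h hQS hjodd hjx hjR hjQ hjZ hfpf g hg z hz)

end CfsgLib.LocalEven.OnePointFront.Nonfull
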