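import Cfsg.Agent.Lib.LocalEven.OnePointFront.Nonfull.Curved.Data
import Cfsg.Agent.Lib.LocalEven.OnePointFront.Nonfull.Linear.FieldInvolution

/-!
# A bad involution on a curved line moving the central members

`x` lies in the maximal 2-subgroup `S`, the group `R` of members on its line is central in
`T = S ⊓ K`, and `x` moves `Z = omCentre T`.  Then `x` centralises only `R` in `Z` and moves `Z`
onto `x R`; no bad involution centralises `Z`; 2-groups at two points normalising `T` are cyclic;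
if `x` centralises only `R` in `T` then `T = Z` and `x` has one class; and if `Q ≤ K` the
centraliser of `x` in `S` is cyclic modulo `K`.
-/

set_option autoImplicit false
set_option linter.style.haveILetI false

namespace CfsgLib.LocalEven.OnePointFront.Nonfull

open MulAction CfsgLib.LocalEven.TIEndgame CfsgLib.Involution

universe u v

variable {G : Type u} {Ω : Type v} [Group G] [MulAction G Ω] [Finite G] {D : Set G} {a : Ω} {x : G}
  {K R Q J S : Subgroup G}

/-- A bad involution on a curved line moving the central members of a maximal 2-subgroup. -/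
structure MovedTop (D : Set G) (a : Ω) (x : G) (K R Q J S : Subgroup G) : Prop where
  line : CurvedLine D a x K R Q J
  top : IsTopTwo S a
  mem : x ∈ S
  central : R ≤ omCentre (S ⊓ K)
  moved : ∃ z ∈ omCentre (S ⊓ K), ¬ Commute x z

namespace MovedTop

variable (M : MovedTop D a x K R Q J S)
include M

omit [Finite G] in
theorem two_T : IsPGroup 2 ↥(S ⊓ K : Subgroup G) := M.top.1.to_le inf_le_left

theorem odd_T : Odd ((S ⊓ K).relIndex K) := odd_relIndex_inf M.line.point.le M.line.point.conj M.top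

omit [Finite G] in
theorem x_sq : x * x = 1 := Dihedral.mul_self M.line.bad.1

omit [Finite G] in
/-- `S` normalises `T`. -/
theorem le_normalizer_T : S ≤ Subgroup.normalizer ((S ⊓ K : Subgroup G) : Set G) := by
  have key : ∀ s ∈ S, ∀ t ∈ S ⊓ K, s * t * s⁻¹ ∈ S ⊓ K := fun s hs t ht =>
    ⟨S.mul_mem (S.mul_mem hs ht.1) (S.inv_mem hs), M.line.point.conj s (M.top.2.1 hs) t ht.2⟩
  intro s hs
  refine Subgroup.mem_normalizer_iff.2 fun t => ⟨key s hs t, fun ht => ?_⟩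
  have := key s⁻¹ (inv_mem hs) _ ht
  rwa [show s⁻¹ * (s * t * s⁻¹) * s⁻¹⁻¹ = t by group] at this

omit [Finite G] in
theorem conj_mem_Z {s z : G} (hs : s ∈ S) (hz : z ∈ omCentre (S ⊓ K)) :
    s * z * s⁻¹ ∈ omCentre (S ⊓ K) := by
  have key : s * z * s⁻¹ ∈ S ⊓ K := (Subgroup.mem_normalizer_iff.1 (M.le_normalizer_T hs) z).1 hz.1
  refine ⟨key, by rw [show s * z * s⁻¹ * (s * z * s⁻¹) = s * (z * z) * s⁻¹ by group, hz.2.1]; group,
    fun t ht => ?_⟩
  have h1 := (Subgroup.mem_normalizer_iff.1 (M.le_normalizer_T (inv_mem hs)) t).1 ht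
  rw [inv_inv] at h1
  simpa [mul_assoc] using (hz.2.2 _ h1).map (MulAut.conj s).toMonoidHom

omit [Finite G] in
theorem exists_other : ∃ b : Ω, x • b = b ∧ b ≠ a := by
  obtain ⟨-, p, q, hpq, hp, hq⟩ := id M.line.bad
  rcases eq_or_ne p a with e | e
  · exact ⟨q, hq, fun hqa => hpq (e.trans hqa.symm)⟩
  · exact ⟨p, hp, e⟩

variable (h : ClosedSetting D Ω)
include h

omit [Finite G] in
/-- A 2-element of `K` fixing a second point is trivial. -/
theorem eq_one_of_fix {k : G} (hk : k ∈ K) (h2 : ∃ n : ℕ, k ^ 2 ^ n = 1) {b : Ω} (hb : k • b = b)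
    (hba : b ≠ a) : k = 1 := by
  obtain ⟨n, hn⟩ := h2
  induction n generalizing k with
  | zero => simpa using hn
  | succ n ih =>
    have h1 : k ^ 2 = 1 := by
      refine ih (pow_mem hk 2) (by rw [pow_two, mul_smul, hb, hb]) ?_
      rw [← pow_mul, ← pow_succ']
      exact hn
    by_contra hne
    have hd := M.line.point.invol_mem k hk (orderOf_eq_prime h1 hne)
    exact hba (h.fixed_unique k hd.1 b a hb hd.2)

omit [Finite G] in
/-- In `Z` only `R` commutes with `x`. -/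
theorem mem_R {z : G} (hz : z ∈ omCentre (S ⊓ K)) (hxz : Commute x z) : z ∈ R := by
  rcases eq_or_ne z 1 with rfl | hz1
  · exact one_mem R
  obtain ⟨r, hr, hfix⟩ := M.line.line_members z (M.line.point.mem_dat inf_le_right hz hz1) hxz
  obtain ⟨b, hb, hba⟩ := M.exists_other
  have hZ : r⁻¹ * z ∈ omCentre (S ⊓ K) := mul_mem (inv_mem (M.central hr)) hz
  have h1 := M.eq_one_of_fix h hZ.1.2 ⟨1, by rw [pow_one, pow_two, hZ.2.1]⟩ (b := b)
    (by rw [mul_smul, hfix b hb, inv_smul_smul]) hba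
  rwa [← inv_mul_eq_one.1 h1]

/-- `x` moves `Z` onto `x R`. -/
theorem exists_shift {r : G} (hr : r ∈ R) :
    ∃ z ∈ omCentre (S ⊓ K), z * x * z⁻¹ = x * r := by
  classical
  rcases eq_or_ne r 1 with rfl | hr1
  · exact ⟨1, one_mem _, by simp⟩
  haveI : Fact (Nat.Prime 2) := ⟨Nat.prime_two⟩
  set T := S ⊓ K with hT
  set Z := omCentre T with hZdef
  obtain ⟨b, hxb, hba⟩ := M.exists_other
  obtain ⟨hodd, htr⟩ := M.line.point.odd_transitive h M.two_T inf_le_right M.odd_T (Ne.symm hba)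
  set A := autImage ((K ⊔ swapCore G a b) ⊓ Subgroup.normalizer (T : Set G)) Z with hA
  have hxN : x ∈ Subgroup.normalizer (Z : Set G) := normalizer_le_omCentre T (M.le_normalizer_T M.mem)
  set ξ : MulAut Z := Z.normalizerMonoidHom ⟨x, hxN⟩ with hξ
  have hξv : ∀ z : Z, ((ξ z : Z) : G) = x * z * x⁻¹ := fun z => by
    rw [hξ, Subgroup.normalizerMonoidHom_apply_apply_coe]
  have hξ2 : ξ * ξ = 1 := by
    rw [hξ, ← map_mul, show (⟨x, hxN⟩ * ⟨x, hxN⟩ : Subgroup.normalizer (Z : Set G)) = 1 from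
      Subtype.ext M.x_sq, map_one]
  have hξA : ∀ d ∈ A, ξ * d * ξ⁻¹ ∈ A := by
    rintro _ ⟨n, hn, rfl⟩
    refine ⟨⟨x, hxN⟩ * n * ⟨x, hxN⟩⁻¹, ?_, by rw [map_mul, map_mul, map_inv]⟩
    refine ⟨?_, mul_mem (mul_mem (M.le_normalizer_T M.mem) hn.2)
      (Subgroup.inv_mem _ (M.le_normalizer_T M.mem))⟩
    have hle : K ⊔ swapCore G a b ≤ (K ⊔ swapCore G a b).comap (MulAut.conj x).toMonoidHom :=
      sup_le (fun k hk => le_sup_left (b := swapCore G a b)
          (M.line.point.conj x (M.top.2.1 M.mem) k hk))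
        (fun k hk => le_sup_right (a := K) (conj_mem_swapCore (Or.inl ⟨M.line.fix, hxb⟩) hk))
    exact hle hn.1
  obtain ⟨z₀, hz₀, hne⟩ := M.moved
  set w : Z := ⟨z₀, hz₀⟩ with hw
  set r₁ : Z := w⁻¹ * ξ w with hr₁
  have hr₁1 : r₁ ≠ 1 := fun e => hne (by
    have h1 := congrArg Subtype.val (inv_mul_eq_one.1 e)
    rw [hξv] at h1
    exact eq_mul_inv_iff_mul_eq.1 h1 |>.symm)
  set r₂ : Z := ⟨r, M.central hr⟩ with hr₂
  have hξξ : ∀ z : Z, ξ (ξ z) = z := fun z => DFunLike.congr_fun hξ2 z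
  have hfix₁ : ξ r₁ = r₁ := by
    rw [hr₁, map_mul, map_inv, hξξ]
    have hc : ∀ p q : Z, p * q = q * p := fun p q => Subtype.ext (p.2.2.2 _ q.2.1).eq
    have hi : ∀ p : Z, p⁻¹ = p := fun p =>
      inv_eq_of_mul_eq_one_right (Subtype.ext p.2.2.1)
    rw [hi, hi, hc]
  have hfix₂ : ξ r₂ = r₂ := Subtype.ext (by
    rw [hξv]
    show x * r * x⁻¹ = r
    rw [(M.line.comm r (M.line.le hr)).eq, mul_inv_cancel_right])
  -- an element of `A` commuting with `ξ` carries `r₁` to `r`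
  let X : Set (MulAut Z) := {d | d ∈ A ∧ d r₁ = r₂}
  have hXodd : Odd (Nat.card X) := by
    obtain ⟨d₀, hd₀, he₀⟩ := htr r₁ r₂ hr₁1 (fun e => hr1 (congrArg Subtype.val e))
    let St : Subgroup (MulAut Z) :=
      { carrier := {d | d ∈ A ∧ d r₁ = r₁}
        one_mem' := ⟨one_mem A, rfl⟩
        mul_mem' := fun {p q} hp hq => ⟨mul_mem hp.1 hq.1, by
          rw [MulAut.mul_apply, hq.2, hp.2]⟩
        inv_mem' := fun {p} hp => ⟨inv_mem hp.1, by
          conv_lhs => rw [← hp.2]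
          exact MulAut.inv_apply_self Z p r₁⟩ }
    have e : St ≃ X :=
      { toFun := fun d => ⟨d₀ * d, mul_mem hd₀ d.2.1, by rw [MulAut.mul_apply, d.2.2, he₀]⟩
        invFun := fun d => ⟨d₀⁻¹ * d, mul_mem (inv_mem hd₀) d.2.1, by
          rw [MulAut.mul_apply, d.2.2, ← he₀]
          exact MulAut.inv_apply_self Z d₀ r₁⟩
        left_inv := fun d => Subtype.ext (inv_mul_cancel_left d₀ d.1)
        right_inv := fun d => Subtype.ext (mul_inv_cancel_left d₀ d.1) }
    rw [← Nat.card_congr e]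
    exact hodd.of_dvd_nat (Subgroup.card_dvd_of_le fun d hd => hd.1)
  have hinv : ξ⁻¹ = ξ := inv_eq_of_mul_eq_one_right hξ2
  have hXξ : ∀ d ∈ X, ξ * d * ξ ∈ X := by
    rintro d ⟨hd, he⟩
    refine ⟨by simpa [hinv] using hξA d hd, ?_⟩
    rw [MulAut.mul_apply, MulAut.mul_apply, hfix₁, he, hfix₂]
  let f : Function.End X := fun d => ⟨ξ * d * ξ, hXξ d d.2⟩
  have hff : ∀ d : X, f (f d) = d := fun d => Subtype.ext (by
    show ξ * (ξ * d * ξ) * ξ = d
    rw [← mul_assoc, ← mul_assoc, hξ2, one_mul, mul_assoc, hξ2, mul_one])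
  let σ : Equiv.Perm X := ⟨f, f, hff, hff⟩
  haveI : Fintype X := Fintype.ofFinite X
  have hndvd : ¬ 2 ∣ Fintype.card X := by
    rw [← Nat.card_eq_fintype_card]
    exact fun h2 => (Nat.not_even_iff_odd.2 hXodd) (even_iff_two_dvd.2 h2)
  obtain ⟨⟨d, hdA, hd⟩, hfd⟩ := Equiv.Perm.exists_fixed_point_of_prime (p := 2) (n := 1) (σ := σ)
    hndvd (Equiv.ext fun d => (congrFun (congrArg DFunLike.coe (pow_two σ)) d).trans (hff d))
  have hcomm : ξ * d = d * ξ := by
    have h1 : ξ * d * ξ = d := congrArg Subtype.val hfd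
    calc ξ * d = ξ * d * ξ * ξ := by rw [mul_assoc _ ξ ξ, hξ2, mul_one]
      _ = d * ξ := by rw [h1]
  refine ⟨(d w : Z), (d w).2, ?_⟩
  have h2 : ((d w)⁻¹ * ξ (d w) : Z) = r₂ := by
    rw [← MulAut.mul_apply, hcomm, MulAut.mul_apply, ← map_inv, ← map_mul, ← hr₁, hd]
  have h3 := congrArg Subtype.val h2
  rw [Subgroup.coe_mul, Subgroup.coe_inv, hξv] at h3
  set z : G := ((d w : Z) : G)
  have hxi : x⁻¹ = x := inv_eq_of_mul_eq_one_right M.x_sq
  have hzi : z⁻¹ = z := inv_eq_of_mul_eq_one_right (d w).2.2.1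
  have hzr : Commute z r := (d w).2.2.2 r (M.central hr).1
  have h4 : z * r = x * z * x := by
    have h5 : r = z⁻¹ * (x * z * x⁻¹) := h3.symm
    rw [h5, hxi, mul_inv_cancel_left]
  calc z * x * z⁻¹ = x * (x * z * x) * z⁻¹ := by rw [← mul_assoc, ← mul_assoc, M.x_sq, one_mul]
    _ = x * (r * z) * z⁻¹ := by rw [← h4, hzr.eq]
    _ = x * r := by rw [mul_assoc, mul_inv_cancel_right]

variable (hmax : MaxRank D Ω R)
include hmax

omit [Finite G] in
/-- No bad involution centralises `Z`. -/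
theorem not_centralise [Finite ↥(omCentre (S ⊓ K))] {y : G} (hy : IsBad Ω y) :
    ∃ z ∈ omCentre (S ⊓ K), ¬ Commute y z := by
  by_contra hall
  push Not at hall
  obtain ⟨z₀, hz₀, hne⟩ := M.moved
  have hle := hmax y a (omCentre (S ⊓ K)) hy (fun u hu => hu.2.1)
    (fun u hu hu1 => M.line.point.mem_dat inf_le_right hu hu1) hall
  have heq := Subgroup.eq_of_le_of_card_ge M.central hle
  exact hne (M.line.comm z₀ (M.line.le (heq ▸ hz₀)))

/-- A 2-group at `a` and `b` normalising `T` is cyclic. -/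
theorem isCyclic_two_points {b : Ω} (hba : b ≠ a) {V : Subgroup G} (hV : IsPGroup 2 V)
    (hVab : V ≤ stabilizer G a ⊓ stabilizer G b)
    (hVT : V ≤ Subgroup.normalizer ((S ⊓ K : Subgroup G) : Set G)) : IsCyclic V := by
  haveI : Fact (Nat.Prime 2) := ⟨Nat.prime_two⟩
  set Z := omCentre (S ⊓ K) with hZ
  haveI hcyc := M.line.point.isCyclic_autImage h M.two_T inf_le_right M.odd_T (Ne.symm hba) hV hVab hVT
  have hN : ∀ {g : G}, g ∈ V → g ∈ Subgroup.normalizer (Z : Set G) := fun hg =>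
    normalizer_le_omCentre _ (hVT hg)
  let F : ↥V →* ↥(autImage V Z) :=
    { toFun := fun g => ⟨Z.normalizerMonoidHom ⟨g, hN g.2⟩, ⟨g, hN g.2⟩, g.2, rfl⟩
      map_one' := Subtype.ext (map_one Z.normalizerMonoidHom)
      map_mul' := fun g g' => Subtype.ext
        (map_mul Z.normalizerMonoidHom ⟨g, hN g.2⟩ ⟨g', hN g'.2⟩) }
  refine isCyclic_of_injective F ((injective_iff_map_eq_one F).2 fun g hg => ?_)
  by_contra hg1
  obtain ⟨k, hk⟩ := (IsPGroup.iff_orderOf.1 hV) g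
  obtain ⟨m, rfl⟩ : ∃ m, k = m + 1 := Nat.exists_eq_succ_of_ne_zero fun e => hg1
    (orderOf_eq_one_iff.1 (by rw [hk, e, pow_zero]))
  set y : ↥V := g ^ 2 ^ m with hy
  have hy2 : orderOf (y : G) = 2 := by
    rw [Subgroup.orderOf_coe, hy, orderOf_pow_of_dvd (by positivity) ⟨2, by rw [hk, pow_succ]⟩, hk,
      Nat.div_eq_of_eq_mul_left (by positivity) (by rw [pow_succ, mul_comm])]
  have hyF : F y = 1 := by rw [hy, map_pow, hg, one_pow]
  obtain ⟨z, hz, hne⟩ := M.not_centralise h hmax (y := (y : G))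
    ⟨hy2, a, b, hba.symm, (hVab y.2).1, (hVab y.2).2⟩
  have hker : (⟨y, hN y.2⟩ : ↥(Subgroup.normalizer (Z : Set G))) ∈ Z.normalizerMonoidHom.ker :=
    congrArg Subtype.val hyF
  rw [Subgroup.normalizerMonoidHom_ker, Subgroup.mem_subgroupOf, Subgroup.mem_centralizer_iff] at hker
  exact hne (hker z hz).symm

/-- If `Q ≤ K` the centraliser of `x` in `S` is cyclic modulo `K`. -/
theorem cyclicMod (hQK : Q ≤ K) (hQS : Q ≤ S) :
    CyclicMod K (S ⊓ Subgroup.centralizer ({x} : Set G)) := by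
  obtain ⟨b, hxb, hba⟩ := M.exists_other
  set V := S ⊓ Subgroup.centralizer ({x} : Set G) with hVdef
  set W := V ⊓ stabilizer G b with hWdef
  haveI hcyc := M.isCyclic_two_points h hmax hba (V := W) (M.top.1.to_le (inf_le_left.trans inf_le_left))
    (le_inf ((inf_le_left.trans inf_le_left).trans M.top.2.1) inf_le_right)
    ((inf_le_left.trans inf_le_left).trans M.le_normalizer_T)
  obtain ⟨c, hc⟩ := IsCyclic.exists_monoid_generator (α := W)
  refine ⟨c, c.2.1, fun g hg => ?_⟩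
  have hga : g • a = a := mem_stabilizer_iff.1 (M.top.2.1 hg.1)
  have hgx : Commute x g := (Subgroup.mem_centralizer_singleton_iff.1 hg.2).symm
  obtain ⟨q, hq, hqb⟩ := M.line.trans b (g • b) hxb
    (by rw [smul_smul, hgx.eq, mul_smul, hxb]) hba
    (fun e => hba (smul_left_cancel g (e.trans hga.symm)))
  have hW : q⁻¹ * g ∈ W := by
    refine ⟨⟨S.mul_mem (S.inv_mem (hQS hq)) hg.1, ?_⟩, ?_⟩
    · exact Subgroup.mul_mem _ (Subgroup.inv_mem _ (Subgroup.mem_centralizer_singleton_iff.2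
        (M.line.comm q hq).symm)) hg.2
    · show (q⁻¹ * g) • b = b
      rw [mul_smul, ← hqb, inv_smul_smul]
  obtain ⟨n, hn⟩ := Submonoid.mem_powers_iff _ _ |>.1 (hc ⟨_, hW⟩)
  refine ⟨n, ?_⟩
  have hn' : (c : G) ^ n = q⁻¹ * g := by simpa using congrArg Subtype.val hn
  rw [hn', show (q⁻¹ * g)⁻¹ * g = g⁻¹ * q * g⁻¹⁻¹ by group]
  exact M.line.point.conj g⁻¹ (inv_mem (M.top.2.1 hg.1)) q (hQK hq)

omit hmax

/-- If `x` centralises only `R` in `T`, then `T = Z`. -/
theorem eq_omCentre (hc : ∀ t ∈ S ⊓ K, Commute x t → t ∈ R) : omCentre (S ⊓ K) = S ⊓ K := by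
  classical
  haveI : Fact (Nat.Prime 2) := ⟨Nat.prime_two⟩
  set T := S ⊓ K with hT
  refine le_antisymm (omCentre_le T) ?_
  -- `x` fixes only the trivial coset of `Z` in `T`
  set Z' := (omCentre T).subgroupOf T with hZ'
  haveI : Z'.Normal := ⟨fun z hz s => by
    rw [hZ', Subgroup.mem_subgroupOf] at hz ⊢
    exact M.conj_mem_Z s.2.1 hz⟩
  by_contra hne
  have hev : 2 ∣ Nat.card (↥T ⧸ Z') := by
    obtain ⟨k, hk⟩ := IsPGroup.iff_card.1 (M.two_T.to_quotient Z')
    rw [hk]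
    refine dvd_pow_self 2 fun e => hne ?_
    rw [e, pow_zero] at hk
    exact Subgroup.subgroupOf_eq_top.1 (Subgroup.index_eq_one.1 hk)
  have hxi : x⁻¹ = x := inv_eq_of_mul_eq_one_right M.x_sq
  let ψ : ↥T → ↥T := fun t => ⟨x * t * x⁻¹, (Subgroup.mem_normalizer_iff.1 (M.le_normalizer_T M.mem) _).1 t.2⟩
  have hψ2 : ∀ t, ψ (ψ t) = t := fun t => Subtype.ext (by
    show x * (x * t * x⁻¹) * x⁻¹ = t
    rw [hxi, ← mul_assoc, ← mul_assoc, M.x_sq, one_mul, mul_assoc, M.x_sq, mul_one])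
  have hwd : ∀ t t' : ↥T, t⁻¹ * t' ∈ Z' → (ψ t)⁻¹ * ψ t' ∈ Z' := fun t t' htt => by
    rw [hZ', Subgroup.mem_subgroupOf] at htt ⊢
    have := M.conj_mem_Z M.mem htt
    simpa [ψ, mul_assoc] using this
  let g : ↥T ⧸ Z' → ↥T ⧸ Z' := Quotient.lift (fun t => ((ψ t : ↥T) : ↥T ⧸ Z'))
    fun t t' e => QuotientGroup.eq.2 (hwd t t' (QuotientGroup.leftRel_apply.1 e))
  have hgg : ∀ q, g (g q) = q := by
    rintro ⟨t⟩
    exact congrArg (QuotientGroup.mk (s := Z')) (hψ2 t)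
  let σ : Equiv.Perm (↥T ⧸ Z') := ⟨g, g, hgg, hgg⟩
  haveI : Fintype (↥T ⧸ Z') := Fintype.ofFinite _
  obtain ⟨q, hq, hq1⟩ := Equiv.Perm.exists_fixed_point_of_prime' (p := 2) (n := 1) (σ := σ)
    (by rw [← Nat.card_eq_fintype_card]; exact hev)
    (Equiv.ext fun q => (congrFun (congrArg DFunLike.coe (pow_two σ)) q).trans (hgg q)) (a := ((1 : ↥T) : ↥T ⧸ Z'))
    (congrArg (QuotientGroup.mk (s := Z')) (Subtype.ext (by simp [ψ])))
  obtain ⟨t, rfl⟩ := QuotientGroup.mk_surjective q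
  refine hq1 (QuotientGroup.eq.2 ?_)
  have hd : ((ψ t)⁻¹ * t : ↥T) ∈ Z' := QuotientGroup.eq.1 hq
  rw [hZ', Subgroup.mem_subgroupOf] at hd ⊢
  -- correct `t` by an element of `Z`
  set d : G := (x * t * x⁻¹)⁻¹ * t with hd'
  have hdZ : d ∈ omCentre T := hd
  have hxd : Commute x d := by
    have h1 : x * d * x⁻¹ = d⁻¹ := by
      rw [hd', hxi]
      calc x * ((x * t * x)⁻¹ * t) * x = (x * x⁻¹) * (t : G)⁻¹ * (x⁻¹ * t * x) := by group
        _ = _ := by rw [mul_inv_cancel, one_mul, hxi]; group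
    rw [inv_eq_of_mul_eq_one_right hdZ.2.1] at h1
    exact mul_inv_eq_iff_eq_mul.1 h1
  obtain ⟨z, hz, hzd⟩ := M.exists_shift h (M.mem_R h hdZ hxd)
  have hzt : Commute x (z⁻¹ * t) := by
    have h1 : (t : G)⁻¹ * x * t = x * d := by
      rw [hd', hxi]
      calc (t : G)⁻¹ * x * t = (x * x) * (t : G)⁻¹ * x * t := by rw [M.x_sq, one_mul]
        _ = _ := by rw [mul_inv_rev, mul_inv_rev, hxi]; group
    have hzi : z⁻¹ = z := inv_eq_of_mul_eq_one_right hz.2.1
    have h2 : (z⁻¹ * (t : G))⁻¹ * x * (z⁻¹ * t) = x := by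
      calc (z⁻¹ * (t : G))⁻¹ * x * (z⁻¹ * t) = (t : G)⁻¹ * (z * x * z⁻¹) * t := by group
        _ = (t : G)⁻¹ * x * (d * t) := by rw [hzd]; group
        _ = (t : G)⁻¹ * x * t * d := by rw [(hdZ.2.2 t t.2).eq]; group
        _ = x * (d * d) := by rw [h1, mul_assoc]
        _ = x := by rw [hdZ.2.1, mul_one]
    show x * (z⁻¹ * t) = z⁻¹ * t * x
    exact eq_inv_mul_iff_mul_eq.1 (by rw [← mul_assoc]; exact h2.symm) |>.symm
  have hR := hc _ (mul_mem (inv_mem hz.1) t.2) hzt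
  have : (t : G) ∈ omCentre T := by
    rw [show (t : G) = z * (z⁻¹ * t) by group]
    exact mul_mem hz (M.central hR)
  simpa using this

/-- If `x` centralises only `R` in `T`, then it has one class of conjugates in `x T`. -/
theorem oneClass (hc : ∀ t ∈ S ⊓ K, Commute x t → t ∈ R) : OneClass K S x := by
  rintro s hs ⟨t, ht, hst⟩
  have htZ : t ∈ omCentre (S ⊓ K) := by rw [M.eq_omCentre h hc]; exact ht
  have h2 : x * t * (x * t) = 1 := by
    rw [← hst, show s * x * s⁻¹ * (s * x * s⁻¹) = s * (x * x) * s⁻¹ by group, M.x_sq]; group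
  have hxt : Commute x t := by
    have h3 : x * t = (x * t)⁻¹ := eq_inv_of_mul_eq_one_left h2
    rwa [mul_inv_rev, inv_eq_of_mul_eq_one_right htZ.2.1, inv_eq_of_mul_eq_one_right M.x_sq] at h3
  obtain ⟨z, hz, hzt⟩ := M.exists_shift h (M.mem_R h htZ hxt)
  exact ⟨z, hz.1, hzt.trans hst.symm⟩

end MovedTop

end CfsgLib.LocalEven.OnePointFront.Nonfull
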