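import Cfsg.Agent.Lib.LocalEven.OnePointFront.Nonfull.Curved.PointlessPairing
import Cfsg.Agent.Lib.LocalEven.OnePointFront.Nonfull.Curved.MovedBase
import Cfsg.Agent.Lib.LocalEven.OnePointFront.Nonfull.MaxPoint
import Cfsg.Agent.Lib.LocalEven.OnePointFront.Nonfull.MaxChoice

/-!
# Curved lines with `Q` outside the point group move the central members

At the last level the part `T = S ⊓ K` of a maximal 2-subgroup `S ⊇ Q⟨x⟩` is elementary of order
`|R|²`, or `T / R` is elementary and `R = omCentre T` with `|T| > |R|²`.  In the second case for each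
`y ∈ Q` one of `y` and `x y` acts trivially on `R` and `T / R`.  A bad involution acting so centralises
more than `|R|` elements of `T`, against `MaxPsi`, so these elements lie in a maximal point group,
which is false for `y` outside `R`.  In the first case `x` moves `omCentre T = T`.
-/

set_option autoImplicit false
set_option linter.style.haveILetI false
set_option linter.unusedSectionVars false

namespace CfsgLib.LocalEven.OnePointFront.Nonfull

open MulAction CfsgLib.LocalEven.TIEndgame CfsgLib.Involution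

universe u v

variable {G : Type u} {Ω : Type v} [Group G] [MulAction G Ω] [Finite G] {D : Set G} {a : Ω} {x : G}
  {K R Q J A S : Subgroup G}

/-- If `Q` is not in `K`, a 2-subgroup of `K` centralised by `x` is no larger than `R`. -/
theorem CurvedLine.card_le_of_comm (L : CurvedLine D a x K R Q J) (h : ClosedSetting D Ω)
    (hQK : ¬ Q ≤ K) {W : Subgroup G} (hW : IsPGroup 2 W) (hWK : W ≤ K)
    (hWx : ∀ w ∈ W, Commute x w) : Nat.card W ≤ Nat.card R := by
  obtain ⟨b, hb, hba⟩ := L.exists_other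
  have hex : ∀ w : W, ∃ r : R, (r : G) • b = (w : G) • b := fun w => by
    have hwa : (w : G) • a = a := mem_stabilizer_iff.1 (L.point.le (hWK w.2))
    obtain ⟨q, hq, hqb⟩ := L.trans b ((w : G) • b) hb
      (by rw [← mul_smul, (hWx w w.2).eq, mul_smul, hb]) hba
      (fun e => hba (smul_left_cancel _ (e.trans hwa.symm)))
    exact ⟨⟨q, L.class_of_mem h hQK (hWK w.2) (hWx w w.2) hb hba hq hqb.symm⟩, hqb⟩
  choose f hf using hex
  refine Nat.card_le_card_of_injective f fun w w' e => ?_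
  have h1 : ((w⁻¹ * w' : W) : G) • b = b := by
    rw [Subgroup.coe_mul, mul_smul, ← hf w', ← e, hf w, Subgroup.coe_inv, inv_smul_smul]
  obtain ⟨n, hn⟩ := hW (w⁻¹ * w')
  have h2 := L.eq_one_of_fix h (hWK (w⁻¹ * w' : W).2) ⟨n, congrArg Subtype.val hn⟩ h1 hba
  exact inv_mul_eq_one.1 (Subtype.ext h2)

namespace PointlessTop

variable (h : ClosedSetting D Ω)

/-- At the first level the 2-group `S ⊓ K` is elementary and its central members are moved. -/
theorem movedTop (M : PointlessTop D a x K R Q J A S 0) (h : ClosedSetting D Ω)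
    (hnf : NoFull D Ω) :
    MovedTop D a x K R Q J S ∧ ∀ t ∈ S ⊓ K, t * t = 1 := by
  have hA : ∀ u ∈ A, u ∈ R := fun u hu => by simpa using M.level.pow_mem_R hu
  have hsq : ∀ t ∈ S ⊓ K, t * t = 1 := by
    intro t ht
    obtain ⟨d, hd, u, hu, hdd, rfl, -⟩ := M.exists_decomp h ht
    rw [(M.cent_T hd (hA u hu)).symm.mul_mul_mul_comm, hdd, M.level.line.sq u (hA u hu), one_mul]
  have hcomm : ∀ s ∈ S ⊓ K, ∀ t ∈ S ⊓ K, Commute s t := fun s hs t ht => by
    have hi : ∀ g ∈ S ⊓ K, g⁻¹ = g := fun g hg => inv_eq_of_mul_eq_one_right (hsq g hg)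
    show s * t = t * s
    rw [← hi (s * t) (mul_mem hs ht), mul_inv_rev, hi s hs, hi t ht]
  have hZ : ∀ t ∈ S ⊓ K, t ∈ omCentre (S ⊓ K) := fun t ht => ⟨ht, hsq t ht, hcomm t ht⟩
  refine ⟨⟨M.line, M.top, M.mem, fun r hr => hZ r (M.A_le (M.level.R_le hr)), ?_⟩, hsq⟩
  by_contra hall
  push Not at hall
  refine hnf x ⟨M.line.bad, a, S, M.top, M.mem, fun d hd hdS => hall d (hZ d ?_)⟩
  exact ⟨hdS, M.line.point.dat_le d ⟨hd, mem_stabilizer_iff.1 (M.top.2.1 hdS)⟩⟩

variable (M : PointlessTop D a x K R Q J A S 1)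
include M h

/-- The squares of `S ⊓ K` lie in `R`. -/
theorem sq_mem_R {t : G} (ht : t ∈ S ⊓ K) : t * t ∈ R := by
  obtain ⟨d, hd, u, hu, hdd, rfl, -⟩ := M.exists_decomp h ht
  rw [show d * u * (d * u) = (d * u * d⁻¹ * u⁻¹) * (u * (d * d) * u) by group, hdd, mul_one]
  exact mul_mem (M.dd_mem (M.mem_H hd) hu) (M.sq_mem hu)

/-- `(S ⊓ K) / R` is commutative. -/
theorem comm_mem_R {s t : G} (hs : s ∈ S ⊓ K) (ht : t ∈ S ⊓ K) : s * t * s⁻¹ * t⁻¹ ∈ R := by
  rw [show s * t * s⁻¹ * t⁻¹ = s * s * ((s⁻¹ * t) * (s⁻¹ * t)) * (t⁻¹ * t⁻¹) by group]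
  exact mul_mem (mul_mem (M.sq_mem_R h hs) (M.sq_mem_R h (mul_mem (inv_mem hs) ht)))
    (M.sq_mem_R h (inv_mem ht))

/-- `R` is the group of central involutions of `S ⊓ K`. -/
theorem omCentre_eq : omCentre (S ⊓ K) = R := by
  refine le_antisymm (fun z hz => ?_) fun r hr =>
    ⟨M.A_le (M.level.R_le hr), M.level.line.sq r hr, fun s hs => (M.cent_T hs hr).symm⟩
  obtain ⟨hzT, hzz, hzc⟩ := hz
  by_cases h1 : Level.kap x 1 z = 1
  · exact M.level.invol _ (M.mem_A h hzT h1) hzz
  refine absurd ?_ h1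
  have hu : disp x z ∈ A := (M.moves hzT).2.2
  have hzi : z⁻¹ = z := inv_eq_of_mul_eq_one_right hzz
  have hxi : x⁻¹ = x := M.level.line.x_inv
  have e1 : z * disp x z * z = (disp x z)⁻¹ := by
    rw [disp, hzi, mul_inv_rev, mul_inv_rev, mul_inv_rev, hxi, hzi]
    simp [mul_assoc, hzz]
  rw [(hzc _ (M.A_le hu)).eq, mul_assoc, hzz, mul_one] at e1
  rw [Level.kap, pow_one, pow_two]
  exact mul_eq_one_iff_eq_inv.2 e1

/-- Of an element of `Q` and its product with `x` one acts trivially on `(S ⊓ K) / R`. -/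
theorem exists_trivial {y : G} (hy : y ∈ Q) :
    ∃ n : G, (n = y ∨ n = x * y) ∧ ∀ t ∈ S ⊓ K, n * t * n⁻¹ * t⁻¹ ∈ R := by
  classical
  set T := S ⊓ K with hT
  set L := M.level with hL
  have hya : y • a = a := M.line.fix_Q y hy
  have hconj : ∀ g : G, g ∈ S → ∀ t ∈ T, g * t * g⁻¹ ∈ T := fun g hg t ht =>
    ⟨S.mul_mem (S.mul_mem hg ht.1) (S.inv_mem hg), M.line.point.conj g (M.top.2.1 hg) t ht.2⟩
  set c : G → G := fun t => y * t * y⁻¹ * t⁻¹ with hc
  have hcT : ∀ t ∈ T, c t ∈ T := fun t ht => mul_mem (hconj y (M.Q_le hy) t ht) (inv_mem ht)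
  have hck : ∀ t ∈ T, Level.kap x 1 (y * t * y⁻¹) = Level.kap x 1 t := fun t ht => by
    rw [L.kap_conj (M.line.comm y hy),
      (M.line.central y hy _ (L.kap_mem (M.moves ht))).eq, mul_inv_cancel_right]
  have hcA : ∀ t ∈ T, c t ∈ A := fun t ht => by
    refine M.mem_A h (hcT t ht) ?_
    rw [hc, M.kap_mul (M.mem_H (hconj y (M.Q_le hy) t ht)) (inv_mem (M.mem_H ht)), hck t ht,
      M.kap_inv (M.mem_H ht), L.line.sq _ (L.kap_mem (M.moves ht))]
  have hG : ∀ t ∈ T, ∀ t' ∈ T, c (t * t') * c (t * t') = (c t * c t) * (c t' * c t') := by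
    intro t ht t' ht'
    have h2 : t * c t' * t⁻¹ ∈ A :=
      (Subgroup.mem_normalizer_iff.1 (M.moves ht).2.1 _).1 (hcA t' ht')
    rw [show c (t * t') = c t * (t * c t' * t⁻¹) by simp only [hc]; group,
      (L.comm _ h2 _ (hcA t ht)).mul_mul_mul_comm,
      show t * c t' * t⁻¹ * (t * c t' * t⁻¹) = t * (c t' * c t') * t⁻¹ by group,
      (M.cent_T ht (M.sq_mem (hcA t' ht'))).eq, mul_inv_cancel_right]
  have hGu : ∀ u ∈ A, c u * c u = 1 := fun u hu => by
    have h1 : y * u * y⁻¹ ∈ A := by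
      have := mul_mem (hcA u (M.A_le hu)) hu
      rwa [show c u * u = y * u * y⁻¹ by simp only [hc]; group] at this
    simp only [hc]
    rw [(L.comm _ h1 _ (inv_mem hu)).symm.mul_mul_mul_comm,
      show y * u * y⁻¹ * (y * u * y⁻¹) = y * (u * u) * y⁻¹ by group,
      (M.line.central y hy _ (M.sq_mem hu)).eq, mul_inv_cancel_right, ← mul_inv_rev, mul_inv_cancel]
  -- the square is `1` or the class
  have hval : ∀ t ∈ T, c t * c t = 1 ∨ c t * c t = Level.kap x 1 t := by
    intro t ht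
    obtain ⟨d, hd, u, hu, hdd, rfl, hdk⟩ := M.exists_decomp h ht
    rw [hG d hd u (M.A_le hu), hGu u hu, mul_one, ← hdk]
    by_cases hd1 : Level.kap x 1 d = 1
    · exact Or.inl (hGu d (M.mem_A h hd hd1))
    have hdi : d⁻¹ = d := inv_eq_of_mul_eq_one_right hdd
    refine M.sq_eq_or h (M.mem_H hd) hdd (hcA d hd) ?_ hd1
    have h3 : (c d * d) * (c d * d) = 1 := by
      rw [show c d * d * (c d * d) = y * (d * d) * y⁻¹ by simp only [hc]; group, hdd]; group
    calc d * c d * d = (c d)⁻¹ * (c d * d * (c d * d)) := by group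
      _ = (c d)⁻¹ := by rw [h3, mul_one]
  by_cases hall : ∀ t ∈ T, c t * c t = 1
  · exact ⟨y, Or.inl rfl, fun t ht => L.invol _ (hcA t ht) (hall t ht)⟩
  push Not at hall
  obtain ⟨t₁, ht₁, hne₁⟩ := hall
  have hk₁ : c t₁ * c t₁ = Level.kap x 1 t₁ := (hval t₁ ht₁).resolve_left hne₁
  have hkall : ∀ t ∈ T, c t * c t = Level.kap x 1 t := by
    intro t ht
    by_contra hne
    have h0 : c t * c t = 1 := (hval t ht).resolve_right hne
    rcases hval _ (mul_mem ht ht₁) with e | e <;> rw [hG t ht t₁ ht₁, h0, one_mul] at e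
    · exact hne₁ e
    · rw [M.kap_mul (M.mem_H ht) (M.mem_H ht₁), hk₁] at e
      exact hne (h0.trans (right_eq_mul.1 e).symm)
  refine ⟨x * y, Or.inr rfl, fun t ht => ?_⟩
  have hdA : disp x t ∈ A := (M.moves ht).2.2
  have e : x * y * t * (x * y)⁻¹ * t⁻¹ = (c t)⁻¹ * disp x t := by
    rw [← L.inv _ (hcA t ht)]
    have hxi : x⁻¹ = x := L.line.x_inv
    calc x * y * t * (x * y)⁻¹ * t⁻¹ = x * c t * (x * x) * t * x⁻¹ * t⁻¹ := by
          rw [L.x_sq]; simp only [hc]; group
      _ = x * c t * x * (x * t * x * t⁻¹) := by rw [hxi]; group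
  rw [e]
  refine L.invol _ (mul_mem (inv_mem (hcA t ht)) hdA) ?_
  rw [(L.comm _ hdA _ (inv_mem (hcA t ht))).mul_mul_mul_comm, ← mul_inv_rev, hkall t ht,
    Level.kap, pow_one, pow_two, inv_mul_cancel]

/-- `S ⊓ K` has more than `|R|²` elements. -/
theorem card_lt (hnf : NoFull D Ω) :
    Nat.card R * Nat.card R < Nat.card ↥(S ⊓ K : Subgroup G) := by
  have hσ : ∀ r : R, ∃ u : A, (u : G) * u = r := fun r => by
    obtain ⟨u, hu, e⟩ := M.level.root r r.2
    exact ⟨⟨u, hu⟩, by simpa [pow_two] using e⟩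
  choose σ hσ' using hσ
  have h1 : Nat.card R * Nat.card R ≤ Nat.card A := by
    rw [← Nat.card_prod]
    refine Nat.card_le_card_of_injective
      (fun p : R × R => σ p.1 * ⟨p.2, M.level.R_le p.2.2⟩) ?_
    rintro ⟨r, s⟩ ⟨r', s'⟩ e
    have e' : (σ r : G) * s = σ r' * s' := congrArg Subtype.val e
    have hsq : ∀ (r s : R), (σ r : G) * s * (σ r * s) = r := fun r s => by
      rw [(M.level.comm _ (σ r).2 _ (M.level.R_le s.2)).symm.mul_mul_mul_comm, hσ',
        M.level.line.sq s s.2, mul_one]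
    have hr : r = r' := Subtype.ext (by rw [← hsq r s, e', hsq])
    subst hr
    exact Prod.ext rfl (Subtype.ext (mul_left_cancel e'))
  refine lt_of_le_of_lt h1 (lt_of_le_of_ne (Subgroup.card_le_of_le M.A_le) fun e => ?_)
  have hAT := Subgroup.eq_of_le_of_card_ge M.A_le e.ge
  refine hnf x ⟨M.line.bad, a, S, M.top, M.mem, fun d hd hdS => ?_⟩
  have hdA : d ∈ A := hAT.ge ⟨hdS, M.line.point.dat_le d ⟨hd, mem_stabilizer_iff.1 (M.top.2.1 hdS)⟩⟩
  exact M.line.comm d (M.line.le (M.level.invol d hdA (h.mul_self hd)))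

end PointlessTop

section

variable {Ω : Type u} [MulAction G Ω] [Finite Ω] [FaithfulSMul G Ω] {a : Ω}

/-- No last level of exponent four. -/
theorem PointlessTop.false_of_one (M : PointlessTop D a x K R Q J A S 1) (h : ClosedSetting D Ω)
    (hnf : NoFull D Ω) (hK : MaxPointGroup D a K) (hpsi : MaxPsi a K R x) (hQK : ¬ Q ≤ K) :
    False := by
  classical
  have L := M.line
  set T := S ⊓ K with hT
  have hRT : R ≤ T := fun r hr => M.A_le (M.level.R_le hr)
  have hodd : Odd (T.relIndex K) := Nonfull.odd_relIndex_inf L.point.le L.point.conj M.top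
  set N := stabilizer G a ⊓ Subgroup.centralizer (R : Set G) ⊓ trivGroup R T with hN
  have hnR : ∀ g ∈ Subgroup.normalizer (T : Set G), g ∈ Subgroup.normalizer (R : Set G) := fun g hg =>
    M.omCentre_eq h ▸ normalizer_le_omCentre T hg
  have hTN : T ≤ N := fun t ht => ⟨⟨L.point.le ht.2,
    Subgroup.mem_centralizer_iff.2 fun r hr => (M.cent_T ht hr).symm.eq⟩,
    Subgroup.le_normalizer ht, hnR t (Subgroup.le_normalizer ht), fun s hs => M.comm_mem_R h ht hs⟩
  have hNK : N ≤ K := by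
    refine hK.le_of_no_bad h M.two inf_le_right hodd (fun g hg => ⟨hg.1.1, hg.2.1⟩) ?_ ?_
    · intro g hg n hn
      obtain ⟨⟨hna, hnC⟩, hnT, hnR', hnt⟩ := hn
      have hgR := hnR g hg.2
      refine ⟨⟨(stabilizer G a).mul_mem ((stabilizer G a).mul_mem hg.1 hna)
        ((stabilizer G a).inv_mem hg.1), ?_⟩, Subgroup.mul_mem _ (Subgroup.mul_mem _ hg.2 hnT)
          (Subgroup.inv_mem _ hg.2), Subgroup.mul_mem _ (Subgroup.mul_mem _ hgR hnR')
          (Subgroup.inv_mem _ hgR), ?_⟩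
      · refine Subgroup.mem_centralizer_iff.2 fun r hr => ?_
        have hr' := (Subgroup.mem_normalizer_iff.1 (inv_mem hgR) r).1 hr
        calc r * (g * n * g⁻¹) = g * ((g⁻¹ * r * g⁻¹⁻¹) * n) * g⁻¹ := by group
          _ = g * (n * (g⁻¹ * r * g⁻¹⁻¹)) * g⁻¹ := by rw [Subgroup.mem_centralizer_iff.1 hnC _ hr']
          _ = g * n * g⁻¹ * r := by group
      · intro t ht
        have h1 := (Subgroup.mem_normalizer_iff.1 hgR _).1
          (hnt _ ((Subgroup.mem_normalizer_iff.1 (inv_mem hg.2) t).1 ht))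
        rwa [show g * (n * (g⁻¹ * t * g⁻¹⁻¹) * n⁻¹ * (g⁻¹ * t * g⁻¹⁻¹)⁻¹) * g⁻¹ =
          g * n * g⁻¹ * t * (g * n * g⁻¹)⁻¹ * t⁻¹ by group] at h1
    · intro v hv hbad
      rw [sup_eq_right.2 hTN] at hv
      obtain ⟨⟨hva, hvC⟩, hvT, -, hvt⟩ := hv
      let f : ↥T →* ↥R :=
        { toFun := fun t => ⟨v * t * v⁻¹ * (t : G)⁻¹, hvt t t.2⟩
          map_one' := Subtype.ext (by simp)
          map_mul' := fun s t => Subtype.ext (by
            show v * (s * t : G) * v⁻¹ * (s * t : G)⁻¹ =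
              v * s * v⁻¹ * (s : G)⁻¹ * (v * t * v⁻¹ * (t : G)⁻¹)
            rw [show v * (s * t : G) * v⁻¹ * (s * t : G)⁻¹ =
              v * s * v⁻¹ * (v * t * v⁻¹ * (t : G)⁻¹) * (s : G)⁻¹ by group, mul_assoc _ _ (s : G)⁻¹,
              ← (M.cent_T s.2 (hvt t t.2)).inv_left.eq]
            group) }
      set V := f.ker.map T.subtype with hV
      have hVv : ∀ w ∈ V, Commute v w := by
        rintro _ ⟨w, hw, rfl⟩
        exact mul_inv_eq_iff_eq_mul.1 (mul_inv_eq_one.1 (congrArg Subtype.val hw))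
      obtain ⟨W, hW, hWK, hWx, hle⟩ := hpsi v hbad (mem_stabilizer_iff.1 hva)
        (fun r hr => (show Commute r v from Subgroup.mem_centralizer_iff.1 hvC r hr).symm) V
        ((M.two.to_subgroup _).map _) ((Subgroup.map_subtype_le _).trans inf_le_right) hVv
      have h1 := hle.trans (L.card_le_of_comm h hQK hW hWK hWx)
      rw [hV, Subgroup.card_map_of_injective T.subtype_injective] at h1
      have h2 := Subgroup.card_eq_card_quotient_mul_card_subgroup f.ker
      rw [Nat.card_congr (QuotientGroup.quotientKerEquivRange f).toEquiv] at h2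
      have h3 : Nat.card f.range ≤ Nat.card R := Subgroup.card_le_card_group _
      have h4 := M.card_lt h hnf
      rw [← hT] at h4
      rw [h2] at h4
      exact absurd h4 (not_lt.2 (Nat.mul_le_mul h3 h1))
  -- so each element of `Q` translates only inside the classes
  obtain ⟨b, hb, hba⟩ := L.exists_other
  refine L.ne (le_antisymm (fun y hy => ?_) L.le)
  obtain ⟨n, hn, hnt⟩ := M.exists_trivial h hy
  have hnS : n ∈ S := by
    rcases hn with rfl | rfl
    · exact M.Q_le hy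
    · exact mul_mem M.mem (M.Q_le hy)
  have hna : n • a = a := mem_stabilizer_iff.1 (M.top.2.1 hnS)
  have hnN : n ∈ N := by
    refine ⟨⟨M.top.2.1 hnS, Subgroup.mem_centralizer_iff.2 fun r hr => ?_⟩, ?_, ?_, hnt⟩
    · rcases hn with rfl | rfl
      · exact (L.central n hy r hr).symm.eq
      · exact ((L.comm r (L.le hr)).symm.mul_right (L.central y hy r hr).symm).eq
    all_goals
      have hnTn : n ∈ Subgroup.normalizer (T : Set G) := mem_normalizer_of_conj_mem fun t ht =>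
        ⟨S.mul_mem (S.mul_mem hnS ht.1) (S.inv_mem hnS), L.conj_K hna ht.2⟩
    · exact hnTn
    · exact hnR n hnTn
  have hnx : Commute x n := by
    rcases hn with rfl | rfl
    · exact L.comm n hy
    · exact (Commute.refl x).mul_right (L.comm y hy)
  refine L.class_of_mem h hQK (hNK hnN) hnx hb hba hy ?_
  rcases hn with rfl | rfl
  · rfl
  · rw [(L.comm y hy).eq, mul_smul, hb]

/-- **Curved lines with `Q` outside the point group are moved.** -/
theorem CurvedLine.exists_movedTop (L : CurvedLine D a x K R Q J) (h : ClosedSetting D Ω)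
    (hnf : NoFull D Ω) (hK : MaxPointGroup D a K) (hpsi : MaxPsi a K R x) (hQK : ¬ Q ≤ K) :
    ∃ S : Subgroup G, MovedTop D a x K R Q J S ∧ Q ≤ S ∧ (∀ t ∈ S ⊓ K, t * t = 1) ∧
      (∀ t ∈ S ⊓ K, Commute x t → t ∈ R) := by
  obtain ⟨A, S, i, M⟩ := L.exists_pointlessTop h hnf hQK
  obtain rfl | rfl : i = 0 ∨ i = 1 := by have := M.low; omega
  · obtain ⟨h1, h2⟩ := M.movedTop h hnf
    exact ⟨S, h1, M.Q_le, h2, fun t ht hxt => (L.transLine hQK).mem_of_commute h M.two inf_le_right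
      (fun r hr => M.A_le (M.level.R_le hr)) ht hxt⟩
  · exact (M.false_of_one h hnf hK hpsi hQK).elim

end

end CfsgLib.LocalEven.OnePointFront.Nonfull
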