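import Cfsg.Agent.Lib.LocalEven.OnePointFront.Nonfull.Curved.PointlessTop

/-!
# Curved lines with `Q` outside the point group: exponent four

At a last level `A` of exponent four an element moving the class induces on `A / R`, seen as `R`, a map
into `R`.  This pairing is biadditive and equivariant with `B u u = u`, so `B u v = v` only for
`v = u` or `v = 1`.  Hence an element of `A` inverted by an involution `d` outside `A` has square `1`
or the class of `d`.
-/

set_option autoImplicit false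
set_option linter.style.haveILetI false
set_option linter.unusedSectionVars false

namespace CfsgLib.LocalEven.OnePointFront.Nonfull

open MulAction CfsgLib.LocalEven.TIEndgame CfsgLib.Involution

universe u v

namespace LinearAlgebra.Scalars

variable {R : Type u} [CommGroup R] {J : Subgroup (MulAut R)} (hJ : Scalars J)
include hJ

/-- A biadditive equivariant pairing with `B u u = u` is the square root of the product, so
`B u v = v` only for `v = u`. -/
theorem eq_of_sqrt [Finite R] (B : R → R → R) (hl : ∀ u v w, B (u * v) w = B u w * B v w)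
    (hr : ∀ u v w, B u (v * w) = B u v * B u w) (hdiag : ∀ u, B u u = u)
    (heq : ∀ j ∈ J, ∀ u v, B (j u) (j v) = j (B u v)) {e v : R} (he : e ≠ 1) (hv : v ≠ 1)
    (h : B e v = v) : v = e := by
  classical
  have hswap : ∀ u v, B u v = B v u := fun u v => by
    have h := hdiag (u * v)
    rw [hl, hr, hr, hdiag, hdiag] at h
    have h1 : B u v * B v u = 1 := by
      have h2 : u * v * (B u v * B v u) = u * v * 1 := by
        rw [mul_one]
        conv_rhs => rw [← h]
        ac_rfl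
      exact mul_left_cancel h2
    rw [eq_inv_of_mul_eq_one_left h1, hJ.inv_eq]
  have hflip : ∀ j ∈ J, B e (j e) = j (B e (j⁻¹ e)) := fun j hj => by
    rw [← heq j hj, ← MulAut.mul_apply, mul_inv_cancel, MulAut.one_apply, hswap]
  have hsq : ∀ j ∈ J, B e (j (j e)) = j e := by
    intro j hj
    by_cases hje : j e = e
    · rw [hje, hje, hdiag]
    -- `k` is the scalar `j + 1`
    have hne : j e * e ≠ 1 := fun h => hje (by rw [eq_inv_of_mul_eq_one_left h, hJ.inv_eq])
    obtain ⟨k, hk, hke⟩ := hJ.trans e (j e * e) he hne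
    have hkall : ∀ r, k r = j r * r := fun r => by
      by_cases hr1 : r = 1
      · subst hr1; rw [map_one, map_one, one_mul]
      obtain ⟨i, hi, rfl⟩ := hJ.trans e r he hr1
      rw [hJ.apply_comm hk hi, hke, map_mul, hJ.apply_comm hj hi]
    have hinv : (j * k)⁻¹ e = j⁻¹ e * k⁻¹ e := by
      refine (j * k).injective ?_
      rw [← MulAut.mul_apply, mul_inv_cancel, MulAut.one_apply, map_mul, ← MulAut.mul_apply,
        ← MulAut.mul_apply, hJ.comm j hj k hk, mul_assoc, mul_inv_cancel, mul_one,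
        ← hJ.comm j hj k hk, mul_assoc, mul_inv_cancel, mul_one, hkall, mul_comm (j e) e,
        mul_assoc, hJ.sq, mul_one]
    have e1 : B e ((j * k) e) = B e (j (j e)) * B e (j e) := by
      rw [MulAut.mul_apply, hkall, map_mul, hr]
    have hBk : B e (k e) = B e (j e) * e := by rw [hke, hr, hdiag]
    have e2 : B e ((j * k) e) = B e (j e) * j e := by
      rw [hflip _ (mul_mem hj hk), hinv, hr, map_mul, MulAut.mul_apply, MulAut.mul_apply,
        ← hflip k hk, hBk, hJ.apply_comm hj hk, ← hflip j hj, hkall, map_mul]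
      calc j (B e (j e)) * B e (j e) * (j (B e (j e)) * j e)
          = (j (B e (j e)) * j (B e (j e))) * (B e (j e) * j e) := by ac_rfl
        _ = B e (j e) * j e := by rw [hJ.sq, one_mul]
    rw [e1, mul_comm] at e2
    exact mul_left_cancel e2
  obtain ⟨j, hj, rfl⟩ := hJ.trans e v he hv
  obtain ⟨i, hi, rfl⟩ := hJ.exists_sq hj
  rw [MulAut.mul_apply] at h ⊢
  rw [hsq i hi] at h
  rw [← h]; exact (i.injective h).symm

end LinearAlgebra.Scalars

variable {G : Type u} {Ω : Type v} [Group G] [MulAction G Ω] [Finite G] {D : Set G} {a : Ω} {x : G}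
  {K R Q J A : Subgroup G}

/-- A biadditive equivariant pairing on `R` with `f r r = r` has `f r s = s` only for `s = r`. -/
theorem TransLine.eq_of_pairing (L : TransLine D a x K R J) (f : G → G → G)
    (hmem : ∀ r ∈ R, ∀ s ∈ R, f r s ∈ R)
    (hl : ∀ r ∈ R, ∀ r' ∈ R, ∀ s ∈ R, f (r * r') s = f r s * f r' s)
    (hr : ∀ r ∈ R, ∀ s ∈ R, ∀ s' ∈ R, f r (s * s') = f r s * f r s')
    (hdiag : ∀ r ∈ R, f r r = r)
    (heq : ∀ j ∈ J, ∀ r ∈ R, ∀ s ∈ R, f (j * r * j⁻¹) (j * s * j⁻¹) = j * f r s * j⁻¹)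
    {r s : G} (hrR : r ∈ R) (hsR : s ∈ R) (hr1 : r ≠ 1) (hs1 : s ≠ 1) (h : f r s = s) : s = r := by
  letI : CommGroup R :=
    { (inferInstance : Group R) with
      mul_comm := fun r s => Subtype.ext (L.comm_R r.2 s.2).eq }
  let ρ : J →* MulAut R := R.normalizerMonoidHom.comp (Subgroup.inclusion L.norm_J)
  have hρ : ∀ (j : J) (r : R), ((ρ j r : R) : G) = (j : G) * r * (j : G)⁻¹ := fun _ _ => rfl
  have hJ : LinearAlgebra.Scalars ρ.range := by
    refine ⟨fun r => Subtype.ext (L.sq r r.2), ?_, fun r s hr hs => ?_⟩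
    · rintro _ ⟨j, rfl⟩ _ ⟨k, rfl⟩
      refine MulEquiv.ext fun r => Subtype.ext ?_
      show ((ρ j (ρ k r) : R) : G) = ((ρ k (ρ j r) : R) : G)
      rw [hρ, hρ, hρ, hρ]
      exact L.abel_J j j.2 k k.2 r r.2
    · obtain ⟨j, hj, e⟩ := L.trans_J r r.2 s s.2 (fun e => hr (Subtype.ext e))
        (fun e => hs (Subtype.ext e))
      exact ⟨ρ ⟨j, hj⟩, ⟨⟨j, hj⟩, rfl⟩, Subtype.ext (by rw [hρ]; exact e)⟩
  exact congrArg Subtype.val (hJ.eq_of_sqrt
    (fun r s : R => (⟨f r s, hmem r r.2 s s.2⟩ : R))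
    (fun r r' s => Subtype.ext (hl r r.2 r' r'.2 s s.2))
    (fun r s s' => Subtype.ext (hr r r.2 s s.2 s' s'.2))
    (fun r => Subtype.ext (hdiag r r.2))
    (fun j hj r s => by
      obtain ⟨j, rfl⟩ := hj
      refine Subtype.ext ?_
      show f ((ρ j r : R) : G) ((ρ j s : R) : G) = ((ρ j _ : R) : G)
      rw [hρ, hρ, hρ]
      exact heq j j.2 r r.2 s s.2)
    (e := ⟨r, hrR⟩) (v := ⟨s, hsR⟩) (fun e => hr1 (congrArg Subtype.val e))
    (fun e => hs1 (congrArg Subtype.val e)) (Subtype.ext h))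

namespace PointlessTop

variable {S : Subgroup G} {i : ℕ} (M : PointlessTop D a x K R Q J A S i) (h : ClosedSetting D Ω)
include M

theorem two : IsPGroup 2 ↥(S ⊓ K : Subgroup G) := M.top.1.to_le inf_le_left

theorem mem_H {t : G} (ht : t ∈ S ⊓ K) : t ∈ M.level.moves ⊓ K := ⟨M.moves ht, ht.2⟩

theorem cent_T {t : G} (ht : t ∈ S ⊓ K) {r : G} (hr : r ∈ R) : Commute t r :=
  M.cent t (M.mem_H ht) r hr

theorem kap_mul {g k : G} (hg : g ∈ M.level.moves ⊓ K) (hk : k ∈ M.level.moves ⊓ K) :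
    Level.kap x i (g * k) = Level.kap x i g * Level.kap x i k := by
  rw [M.level.kap_mul hg.1 hk.1, (M.cent g hg _ (M.level.kap_mem hk.1)).eq, mul_inv_cancel_right]

theorem kap_inv {g : G} (hg : g ∈ M.level.moves ⊓ K) :
    Level.kap x i g⁻¹ = Level.kap x i g := by
  have e := M.kap_mul hg (inv_mem hg)
  rw [mul_inv_cancel, M.level.kap_one] at e
  rw [eq_inv_of_mul_eq_one_right e.symm,
    inv_eq_of_mul_eq_one_right (M.level.line.sq _ (M.level.kap_mem hg.1))]

include h

/-- An element of `S ⊓ K` fixing the trivial class lies in `A`. -/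
theorem mem_A {t : G} (ht : t ∈ S ⊓ K) (h1 : Level.kap x i t = 1) : t ∈ A :=
  M.level.two_zero h M.two M.A_le inf_le_right ht (M.moves ht) h1

/-- Every element of `S ⊓ K` is an involution times an element of `A`. -/
theorem exists_decomp {t : G} (ht : t ∈ S ⊓ K) :
    ∃ d ∈ S ⊓ K, ∃ u ∈ A, d * d = 1 ∧ t = d * u ∧ Level.kap x i d = Level.kap x i t := by
  by_cases h1 : Level.kap x i t = 1
  · exact ⟨1, one_mem _, t, M.mem_A h ht h1, one_mul 1, (one_mul t).symm,
      M.level.kap_one.trans h1.symm⟩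
  obtain ⟨d, hd, hdd, hdk⟩ := M.invol _ (M.level.kap_mem (M.moves ht)) h1
  refine ⟨d, hd, d⁻¹ * t, M.mem_A h (mul_mem (inv_mem hd) ht) ?_, hdd,
    (mul_inv_cancel_left d t).symm, hdk⟩
  rw [M.kap_mul (inv_mem (M.mem_H hd)) (M.mem_H ht), M.kap_inv (M.mem_H hd), hdk]
  exact M.level.line.sq _ (M.level.kap_mem (M.moves ht))

end PointlessTop

namespace PointlessTop

variable {S : Subgroup G} (M : PointlessTop D a x K R Q J A S 1) (h : ClosedSetting D Ω)
include M

theorem sq_mem {u : G} (hu : u ∈ A) : u * u ∈ R := by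
  simpa [pow_two] using M.level.pow_mem_R hu

theorem dd_mem {g u : G} (hg : g ∈ M.level.moves ⊓ K) (hu : u ∈ A) : dd g u ∈ R := by
  have hgu : g * u * g⁻¹ ∈ A := (Subgroup.mem_normalizer_iff.1 hg.1.2.1 u).1 hu
  refine M.level.invol _ (mul_mem hgu (inv_mem hu)) ?_
  show g * u * g⁻¹ * u⁻¹ * (g * u * g⁻¹ * u⁻¹) = 1
  rw [(M.level.comm _ hgu _ (inv_mem hu)).symm.mul_mul_mul_comm,
    show g * u * g⁻¹ * (g * u * g⁻¹) = g * (u * u) * g⁻¹ by group,
    (M.cent g hg _ (M.sq_mem hu)).eq, mul_inv_cancel_right, ← mul_inv_rev, mul_inv_cancel]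

theorem dd_mul_left {g k u : G} (hg : g ∈ M.level.moves ⊓ K) (hk : k ∈ M.level.moves ⊓ K)
    (hu : u ∈ A) : dd (g * k) u = dd g u * dd k u := by
  calc dd (g * k) u = (g * dd k u * g⁻¹) * dd g u := by simp only [dd]; group
    _ = _ := by
      rw [(M.cent g hg _ (M.dd_mem hk hu)).eq, mul_inv_cancel_right,
        (M.level.line.comm_R (M.dd_mem hk hu) (M.dd_mem hg hu)).eq]

theorem dd_mul_right {g u v : G} (hg : g ∈ M.level.moves ⊓ K) (hu : u ∈ A) (hv : v ∈ A) :
    dd g (u * v) = dd g u * dd g v := by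
  calc dd g (u * v) = dd g u * (u * dd g v * u⁻¹) := by simp only [dd]; group
    _ = _ := by rw [(M.level.comm u hu _ (M.level.R_le (M.dd_mem hg hv))).eq, mul_inv_cancel_right]

include h

/-- An involution outside `A` inverts in `A` only squares `1` and its class. -/
theorem sq_eq_or {d c : G} (hd : d ∈ M.level.moves ⊓ K) (hdd : d * d = 1) (hc : c ∈ A)
    (hdc : d * c * d = c⁻¹) (hdk : Level.kap x 1 d ≠ 1) :
    c * c = 1 ∨ c * c = Level.kap x 1 d := by
  classical
  by_contra hne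
  push Not at hne
  set L := M.level with hL
  set H := L.moves ⊓ K with hH
  have hxi : x⁻¹ = x := L.line.x_inv
  have hsq : ∀ r ∈ R, r⁻¹ = r := fun r hr => inv_eq_of_mul_eq_one_right (L.line.sq r hr)
  -- the involutions and the roots
  have hδ : ∀ r ∈ R, ∃ e ∈ H, e * e = 1 ∧ Level.kap x 1 e = r := by
    intro r hr
    by_cases hr1 : r = 1
    · exact ⟨1, one_mem _, one_mul 1, by rw [L.kap_one, hr1]⟩
    obtain ⟨e, he, hee, hek⟩ := M.invol r hr hr1
    exact ⟨e, M.mem_H he, hee, hek⟩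
  choose! δ hδH hδi hδk using hδ
  have hσ : ∀ r ∈ R, ∃ u ∈ A, u * u = r := fun r hr => by
    obtain ⟨u, hu, e⟩ := L.root r hr
    exact ⟨u, hu, by simpa [pow_two] using e⟩
  choose! σ hσA hσr using hσ
  -- the pairing depends only on the class and the square
  have hdep : ∀ g ∈ H, ∀ k ∈ H, ∀ u ∈ A, ∀ v ∈ A, Level.kap x 1 g = Level.kap x 1 k → u * u = v * v →
      dd g u = dd k v := by
    intro g hg k hk u hu v hv egk euv
    have hz : g⁻¹ * k ∈ H := mul_mem (inv_mem hg) hk
    have hz1 : Level.kap x 1 (g⁻¹ * k) = 1 := (L.kap_eq_iff h hg.1 hk.1).1 egk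
    have e1 : dd k u = dd g u := by
      have e := L.commute_four h hz (M.cent _ hz) hz1 hu (M.sq_mem hu)
      rw [show k = g * (g⁻¹ * k) by group, M.dd_mul_left hg hz hu,
        show dd (g⁻¹ * k) u = 1 by rw [dd, e, mul_inv_cancel], mul_one]
    have hw : u⁻¹ * v ∈ R := L.invol _ (mul_mem (inv_mem hu) hv) (by
      rw [(L.comm _ hv _ (inv_mem hu)).mul_mul_mul_comm, ← mul_inv_rev, euv, inv_mul_cancel])
    rw [← e1]
    conv_rhs => rw [show v = u * (u⁻¹ * v) by group, M.dd_mul_right hk hu (mul_mem (inv_mem hu) hv),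
      show dd k (u⁻¹ * v) = 1 by rw [dd, (M.cent k hk _ hw).eq, mul_inv_cancel_right, mul_inv_cancel],
      mul_one]
  -- inverted elements give their squares
  have hinv : ∀ e u : G, e * e = 1 → u ∈ A → e * u * e = u⁻¹ → dd e u = u * u := fun e u hee hu he => by
    rw [dd, inv_eq_of_mul_eq_one_right hee, he, ← mul_inv_rev, hsq _ (M.sq_mem hu)]
  have hdiag : ∀ r ∈ R, dd (δ r) (σ r) = r := by
    intro r hr
    have he := hδH r hr
    have hee := hδi r hr
    set e := δ r with he'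
    have hei : e⁻¹ = e := inv_eq_of_mul_eq_one_right hee
    have hu : disp x e ∈ A := he.1.2.2
    have e2 : disp x e * disp x e = r := by
      have := hδk r hr
      rwa [Level.kap, pow_one, pow_two] at this
    rw [hdep e he e he (σ r) (hσA r hr) (disp x e) hu rfl (by rw [hσr r hr, e2]),
      hinv e _ hee hu ?_, e2]
    rw [disp, hei, mul_inv_rev, mul_inv_rev, mul_inv_rev, hxi, hei]
    simp [mul_assoc, hee]
  refine hne.2 (L.line.eq_of_pairing (fun r s => dd (δ r) (σ s))
    (fun r hr s hs => M.dd_mem (hδH r hr) (hσA s hs))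
    (fun r hr r' hr' s hs => by
      rw [← M.dd_mul_left (hδH r hr) (hδH r' hr') (hσA s hs)]
      refine hdep _ (hδH _ (mul_mem hr hr')) _ (mul_mem (hδH r hr) (hδH r' hr')) _ (hσA s hs) _
        (hσA s hs) ?_ rfl
      rw [hδk _ (mul_mem hr hr'), M.kap_mul (hδH r hr) (hδH r' hr'), hδk r hr, hδk r' hr'])
    (fun r hr s hs s' hs' => by
      rw [← M.dd_mul_right (hδH r hr) (hσA s hs) (hσA s' hs')]
      refine hdep _ (hδH r hr) _ (hδH r hr) _ (hσA _ (mul_mem hs hs')) _
        (mul_mem (hσA s hs) (hσA s' hs')) rfl ?_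
      rw [hσr _ (mul_mem hs hs'), (L.comm _ (hσA s hs) _ (hσA s' hs')).symm.mul_mul_mul_comm,
        hσr s hs, hσr s' hs'])
    hdiag
    (fun j hj r hr s hs => by
      obtain ⟨g, hga, hgx, hgn, hgK, hgj⟩ := L.torus j hj
      have hgm := (L.commute_mem hga hgn hgx).1
      have hr' : j * r * j⁻¹ ∈ R := hgj r hr ▸ L.normal_R hgn hr
      have hs' : j * s * j⁻¹ ∈ R := hgj s hs ▸ L.normal_R hgn hs
      have h1 : g * δ r * g⁻¹ ∈ H := ⟨L.moves.mul_mem (L.moves.mul_mem hgm (hδH r hr).1)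
        (L.moves.inv_mem hgm), (Subgroup.mem_normalizer_iff.1 hgK _).1 (hδH r hr).2⟩
      have h2 : g * σ s * g⁻¹ ∈ A := (Subgroup.mem_normalizer_iff.1 hgn _).1 (hσA s hs)
      rw [hdep _ (hδH _ hr') _ h1 _ (hσA _ hs') _ h2
        (by rw [hδk _ hr', L.kap_conj hgx, hδk r hr, hgj r hr])
        (by rw [hσr _ hs', show g * σ s * g⁻¹ * (g * σ s * g⁻¹) = g * (σ s * σ s) * g⁻¹ by group,
          hσr s hs, hgj s hs]),
        ← hgj _ (M.dd_mem (hδH r hr) (hσA s hs))]
      simp only [dd]; group)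
    (L.kap_mem hd.1) (M.sq_mem hc) hdk hne.1 ?_)
  have hk := L.kap_mem hd.1
  rw [hdep _ (hδH _ hk) d hd _ (hσA _ (M.sq_mem hc)) c hc (hδk _ hk) (hσr _ (M.sq_mem hc)),
    hinv d c hdd hc hdc]

end PointlessTop

end CfsgLib.LocalEven.OnePointFront.Nonfull
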