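import Cfsg.Agent.Lib.LocalEven.OnePointFront.Nonfull.Curved.Base
import Cfsg.Agent.Lib.LocalEven.OnePointFront.Nonfull.Linear.Tower
import Cfsg.Agent.Lib.LocalEven.OnePointFront.Nonfull.Linear.Exponent
import Cfsg.Agent.Lib.LocalEven.OnePointFront.Nonfull.Linear.FieldInvolution

/-!
# Curved lines with `Q` outside the point group: the last level

If `Q` is not in `K`, the elements of `K` centralising `x` and normalising `R` centralise `R`, so at
each level of the tower over `x` the moving elements of `K` centralise `R` and the class is a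
homomorphism on them.  At the last level a maximal 2-subgroup `S ⊇ Q⟨x⟩` has an involution of each
class, and by `Exponent` that level is `R` or of exponent four.
-/

set_option autoImplicit false
set_option linter.style.haveILetI false
set_option linter.unusedSectionVars false

namespace CfsgLib.LocalEven.OnePointFront.Nonfull

open MulAction CfsgLib.LocalEven.TIEndgame CfsgLib.Involution

universe u v

variable {G : Type u} {Ω : Type v} [Group G] [MulAction G Ω] [Finite G] {D : Set G} {a : Ω} {x : G}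
  {K R Q J : Subgroup G}

namespace CurvedLine

variable (L : CurvedLine D a x K R Q J) (hQK : ¬ Q ≤ K)
include L hQK

/-- With `Q` outside `K` the line carries a tower. -/
theorem transLine : TransLine D a x K R J where
  bad := L.bad
  fix := L.fix
  stab := L.point.le
  R_le := L.le_K
  x_out := L.x_notMem
  x_norm := L.point.mem_normalizer L.fix
  norm_K j hj := L.point.mem_normalizer (L.fix_J j hj)
  four := L.four
  sq := L.sq
  member := L.member
  comm r hr := L.comm r (L.le hr)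
  fix_J := L.fix_J
  comm_J := L.comm_J
  norm_J := L.norm_J.trans inf_le_left
  abel_J := L.abel_J
  trans_J := L.trans_J
  mem_R h V hV hVK hRV g hg hgx := by
    have e := L.le_or_inf_eq.resolve_left hQK
    rw [← e]
    exact L.mem_inf h hV hVK (e.le.trans hRV) hg hgx

variable (h : ClosedSetting D Ω)
include h

/-- An element of `K` centralising `x` and normalising `R` centralises `R`. -/
theorem commute_of_comm {c : G} (hcK : c ∈ K) (hcx : Commute x c)
    (hcR : c ∈ Subgroup.normalizer (R : Set G)) : ∀ r ∈ R, Commute c r := by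
  have hQR := L.le_or_inf_eq.resolve_left hQK
  set C₁ := K ⊓ Subgroup.centralizer ({x} : Set G) ⊓ Subgroup.centralizer (R : Set G) with hC₁
  have hC₁x : ∀ d ∈ C₁, Commute x d := fun d hd =>
    (Subgroup.mem_centralizer_singleton_iff.1 hd.1.2).symm
  have hQC : K ⊓ Q ≤ C₁ := fun q hq => ⟨⟨hq.1,
    Subgroup.mem_centralizer_singleton_iff.2 (L.comm q hq.2).symm.eq⟩,
    Subgroup.mem_centralizer_iff.2 fun r hr => (L.central q hq.2 r hr).eq.symm⟩
  have hnorm : Q ≤ Subgroup.normalizer (C₁ : Set G) := fun q hq =>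
    mem_normalizer_of_conj_mem fun d hd => ⟨⟨L.conj_K (L.fix_Q q hq) hd.1.1,
      Subgroup.mem_centralizer_singleton_iff.2
        (((L.comm q hq).mul_right (hC₁x d hd)).mul_right (L.comm q hq).inv_right).symm.eq⟩,
      Subgroup.mem_centralizer_iff.2 fun r hr =>
        (((L.central q hq r hr).symm.mul_right
          (show Commute r d from Subgroup.mem_centralizer_iff.1 hd.2 r hr)).mul_right
            (L.central q hq r hr).symm.inv_right).eq⟩
  have hodd : Odd ((Q ⊓ C₁).relIndex C₁) := by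
    rw [show Q ⊓ C₁ = K ⊓ Q from le_antisymm (fun q hq => ⟨hq.2.1.1, hq.1⟩)
      (le_inf inf_le_right hQC)]
    exact L.odd_relIndex_inf h (fun d hd => hd.1.1) hC₁x hQC
  have hconj : ∀ q ∈ Q, c * q * c⁻¹ ∈ C₁ ⊔ Q := by
    intro q hq
    set d := c * q * c⁻¹ * q⁻¹ with hd
    have hdK : d ∈ K := by
      rw [hd, show c * q * c⁻¹ * q⁻¹ = c * (q * c⁻¹ * q⁻¹) by group]
      exact mul_mem hcK (L.conj_K (L.fix_Q q hq) (inv_mem hcK))
    have hdx : Commute x d :=
      ((hcx.mul_right (L.comm q hq)).mul_right hcx.inv_right).mul_right (L.comm q hq).inv_right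
    have hdR : d ∈ Subgroup.centralizer (R : Set G) := by
      refine Subgroup.mem_centralizer_iff.2 fun r hr => (mul_inv_eq_iff_eq_mul.1 ?_).symm
      have hc := L.central q hq _ ((Subgroup.mem_normalizer_iff.1 (inv_mem hcR) r).1 hr)
      calc d * r * d⁻¹ = c * (q * (c⁻¹ * (q⁻¹ * r * q) * c⁻¹⁻¹) * q⁻¹) * c⁻¹ := by rw [hd]; group
        _ = c * (q * (c⁻¹ * r * c⁻¹⁻¹) * q⁻¹) * c⁻¹ := by
            rw [mul_assoc q⁻¹ r q, ← (L.central q hq r hr).eq, inv_mul_cancel_left]
        _ = r := by rw [hc.eq, mul_inv_cancel_right]; group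
    have h1 : d ∈ C₁ := ⟨⟨hdK, Subgroup.mem_centralizer_singleton_iff.2 hdx.symm.eq⟩, hdR⟩
    have := mul_mem (Subgroup.mem_sup_left (T := Q) h1) (Subgroup.mem_sup_right (S := C₁) hq)
    rwa [hd, inv_mul_cancel_right] at this
  obtain ⟨d, hd, hdQ⟩ := exists_mul_mem_normalizer L.two hnorm hodd hconj
  -- `d c` normalises `Q` and acts trivially on `Q / R`
  set t := d * c with ht
  have htK : t ∈ K := mul_mem hd.1.1 hcK
  have htR : ∀ r ∈ R, Commute t r := by
    intro r hr
    obtain ⟨q, hq, rfl⟩ := L.sq_onto r hr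
    set y := t * q * t⁻¹ * q⁻¹ with hy
    have hyR : y ∈ R := by
      rw [← hQR]
      refine ⟨?_, Q.mul_mem ((Subgroup.mem_normalizer_iff.1 hdQ q).1 hq) (Q.inv_mem hq)⟩
      rw [hy, show t * q * t⁻¹ * q⁻¹ = t * (q * t⁻¹ * q⁻¹) by group]
      exact K.mul_mem htK (L.conj_K (L.fix_Q q hq) (K.inv_mem htK))
    refine mul_inv_eq_iff_eq_mul.1 (show t * (q * q) * t⁻¹ = q * q from ?_)
    calc t * (q * q) * t⁻¹ = (y * q) * (y * q) := by rw [hy]; group
      _ = y * (q * y) * q := by group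
      _ = y * (y * q) * q := by rw [(L.central q hq y hyR).eq]
      _ = (y * y) * (q * q) := by group
      _ = q * q := by rw [L.sq y hyR, one_mul]
  intro r hr
  have h1 : Commute d r := (show Commute r d from Subgroup.mem_centralizer_iff.1 hd.2 r hr).symm
  rw [show c = d⁻¹ * t by rw [ht, inv_mul_cancel_left]]
  exact h1.inv_left.mul_left (htR r hr)

end CurvedLine

namespace Level

variable {A : Subgroup G} {i : ℕ} (L : Level D a x K R J A i) (h : ClosedSetting D Ω)
  (hnf : NoFull D Ω)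
include L h hnf

/-- If the elements of `K` centralising `x` and normalising `R` centralise `R`, so does every
element of `K` moving the class of `x`: a Sylow 2-subgroup of them fixes a member, and with the
torus every member. -/
theorem commute_R (hdat : ∀ d ∈ dat D a, d ∈ K) (hC₂ : ∀ c ∈ K, Commute x c → c ∈ Subgroup.normalizer (R : Set G) →
    ∀ r ∈ R, Commute c r) : ∀ g ∈ L.moves ⊓ K, ∀ r ∈ R, Commute g r := by
  classical
  haveI : Fact (Nat.Prime 2) := ⟨Nat.prime_two⟩
  have hAH : A ≤ L.moves ⊓ K := fun u hu => ⟨(L.A_mem hu).1, L.le hu⟩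
  obtain ⟨P, hP, hAP, hPH, honto, -, -⟩ := L.exists_regular h hnf hAH le_rfl
    (fun r hr => L.kap_surj h hnf hdat hr) (V := ⊥) IsPGroup.of_bot bot_le bot_le
  have hnR : ∀ g ∈ L.moves, g ∈ Subgroup.normalizer (R : Set G) := fun g hg =>
    mem_normalizer_of_conj_mem fun r hr => L.conj_mem_R hg hr
  -- the elements fixing the trivial class centralise `R`
  have hzero : ∀ g ∈ L.moves ⊓ K, kap x i g = 1 → ∀ r ∈ R, Commute g r := by
    intro g hg h1 r hr
    obtain ⟨w, hw, hc⟩ := L.exists_comm hg.1 h1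
    have h2 := hC₂ (w * g) (mul_mem (L.le hw) hg.2) hc
      (hnR _ (mul_mem (L.A_mem hw).1 hg.1)) r hr
    rw [show g = w⁻¹ * (w * g) by group]
    exact (L.comm w hw r (L.R_le hr)).inv_left.mul_left h2
  -- `P` fixes a member
  let f : ↥P →* MulAut R := R.normalizerMonoidHom.comp
    (Subgroup.inclusion (fun g hg => hnR g (hPH hg).1))
  letI : MulAction ↥P ↥R := MulAction.compHom ↥R f
  have hsmul : ∀ (g : P) (r : R), ((g • r : R) : G) = (g : G) * r * (g : G)⁻¹ := fun _ _ => rfl
  obtain ⟨r₀, hr₀, hfix⟩ : ∃ r₀ : R, r₀ ≠ 1 ∧ ∀ g : P, g • r₀ = r₀ := by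
    obtain ⟨n, hn⟩ := L.line.R_pgroup.exists_card_eq
    have heven : 2 ∣ Nat.card R := by
      rw [hn]
      refine dvd_pow_self 2 fun e => ?_
      have := L.line.four
      rw [hn, e] at this
      omega
    have h1 : (1 : R) ∈ MulAction.fixedPoints (↥P) (↥R) := fun g => Subtype.ext (by
      rw [hsmul]; simp)
    obtain ⟨r, hr, hne⟩ := hP.exists_fixed_point_of_prime_dvd_card_of_fixed_point ↥R heven h1
    exact ⟨r, hne.symm, hr⟩
  -- so the whole group does
  have hH : ∀ g ∈ L.moves ⊓ K, Commute g (r₀ : G) := by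
    intro g hg
    obtain ⟨b, hb, hbk⟩ := honto _ (L.kap_mem hg.1)
    have h1 := hzero (b⁻¹ * g) (mul_mem (inv_mem (hPH hb)) hg)
      ((L.kap_eq_iff h (hPH hb).1 hg.1).1 hbk) _ r₀.2
    have h2 : Commute b (r₀ : G) := by
      have := congrArg Subtype.val (hfix ⟨b, hb⟩)
      rw [hsmul] at this
      exact mul_inv_eq_iff_eq_mul.1 this
    rw [show g = b * (b⁻¹ * g) by group]
    exact h2.mul_left h1
  intro g hg r hr
  rcases eq_or_ne r 1 with rfl | hr1
  · exact Commute.one_right g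
  obtain ⟨j, hj, rfl⟩ := L.line.trans_J r₀ r₀.2 r hr (fun e => hr₀ (Subtype.ext e)) hr1
  obtain ⟨k, hka, hkx, hkn, hkK, hkj⟩ := L.torus j hj
  have hkm := (L.commute_mem hka hkn hkx).1
  have h1 : k⁻¹ * g * k ∈ L.moves ⊓ K := by
    refine ⟨L.moves.mul_mem (L.moves.mul_mem (L.moves.inv_mem hkm) hg.1) hkm, ?_⟩
    simpa using (Subgroup.mem_normalizer_iff.1 (inv_mem hkK) g).1 hg.2
  rw [← hkj _ r₀.2]
  have h2 := (hH _ h1).map (MulAut.conj k).toMonoidHom
  simpa [mul_assoc] using h2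

end Level

/-- The last level below a maximal 2-subgroup `S` containing `Q` and `x`. -/
structure PointlessTop (D : Set G) (a : Ω) (x : G) (K R Q J A S : Subgroup G) (i : ℕ) : Prop where
  line : CurvedLine D a x K R Q J
  level : Level D a x K R J A i
  top : IsTopTwo S a
  mem : x ∈ S
  Q_le : Q ≤ S
  A_le : A ≤ S ⊓ K
  low : i ≤ 1
  moves : S ⊓ K ≤ level.moves
  cent : ∀ g ∈ level.moves ⊓ K, ∀ r ∈ R, Commute g r
  /-- an involution of each class -/
  invol : ∀ r ∈ R, r ≠ 1 → ∃ d ∈ S ⊓ K, d * d = 1 ∧ Level.kap x i d = r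

namespace CurvedLine

variable (L : CurvedLine D a x K R Q J) (h : ClosedSetting D Ω) (hnf : NoFull D Ω)
include L h hnf

/-- The last level of the tower. -/
theorem exists_pointlessTop (hQK : ¬ Q ≤ K) :
    ∃ (A S : Subgroup G) (i : ℕ), PointlessTop D a x K R Q J A S i := by
  classical
  haveI : Fact (Nat.Prime 2) := ⟨Nat.prime_two⟩
  have T₀ := L.transLine hQK
  set V := Q ⊔ Subgroup.zpowers x with hV
  have hxQ : x ∈ Subgroup.normalizer (Q : Set G) := mem_normalizer_of_conj_mem fun q hq => by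
    rwa [(L.comm q hq).eq, mul_inv_cancel_right]
  have hV2 : IsPGroup 2 V := L.two.to_sup_of_normal_left'
    (Involution.Basic.isPGroup_zpowers_of_two L.bad.1) (Subgroup.zpowers_le.2 hxQ)
  have hVC : V ≤ stabilizer G a ⊓ Subgroup.centralizer ({x} : Set G) := sup_le
    (fun q hq => ⟨mem_stabilizer_iff.2 (L.fix_Q q hq),
      Subgroup.mem_centralizer_singleton_iff.2 (L.comm q hq).symm.eq⟩)
    (Subgroup.zpowers_le.2 ⟨mem_stabilizer_iff.2 L.fix, Subgroup.mem_centralizer_singleton_iff.2 rfl⟩)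
  have hxV : x ∈ V := Subgroup.mem_sup_right (Subgroup.mem_zpowers x)
  have hVR : V ≤ Subgroup.normalizer (R : Set G) := sup_le
    (fun q hq => L.mem_normalizer_R (Subgroup.le_normalizer hq))
    (Subgroup.zpowers_le.2 (L.mem_normalizer_R hxQ))
  -- climb
  obtain ⟨A, i, L', hVA, hno⟩ : ∃ (A : Subgroup G) (i : ℕ) (L' : Level D a x K R J A i),
      V ≤ Subgroup.normalizer (A : Set G) ∧
      ∀ t ∈ L'.moves ⊓ K, x * t * x = t⁻¹ → (∀ r ∈ R, Commute t r) → Level.kap x i t = 1 := by
    suffices H : ∀ (n : ℕ) (A : Subgroup G) (i : ℕ), Nat.card G - Nat.card A ≤ n →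
        ∀ L' : Level D a x K R J A i, V ≤ Subgroup.normalizer (A : Set G) →
        ∃ (A : Subgroup G) (i : ℕ) (L' : Level D a x K R J A i),
          V ≤ Subgroup.normalizer (A : Set G) ∧
          ∀ t ∈ L'.moves ⊓ K, x * t * x = t⁻¹ → (∀ r ∈ R, Commute t r) → Level.kap x i t = 1 from
      H _ R 0 le_rfl T₀.level_zero hVR
    intro n
    induction n using Nat.strong_induction_on with
    | _ n ih =>
      intro A i hn L' hVA
      by_cases hno : ∀ t ∈ L'.moves ⊓ K, x * t * x = t⁻¹ → (∀ r ∈ R, Commute t r) →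
          Level.kap x i t = 1
      · exact ⟨A, i, L', hVA, hno⟩
      push Not at hno
      obtain ⟨t, ht, hti, htc, htk⟩ := hno
      obtain ⟨B, LB, hlt, hVB, -⟩ :=
        L'.exists_next h hnf ht hti htc htk hV2 hVA
          (L'.le_normalizer_centr (fun v hv => L.point.mem_normalizer (hVC hv).1) hVC hVA).2
      have hB : Nat.card B ≤ Nat.card G := Subgroup.card_le_card_group B
      exact ih (Nat.card G - Nat.card B) (by omega) B (i + 1) le_rfl LB hVB
  set H := L'.moves ⊓ K with hH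
  have hAH : A ≤ H := fun u hu => ⟨(L'.A_mem hu).1, L'.le hu⟩
  have hcent : ∀ g ∈ H, ∀ r ∈ R, Commute g r :=
    L'.commute_R h hnf L.point.dat_le fun c hcK hcx hcR => L.commute_of_comm hQK h hcK hcx hcR
  have hhom : ∀ g ∈ H, ∀ k ∈ H, Level.kap x i (g * k) = Level.kap x i g * Level.kap x i k :=
    fun g hg k hk => by
      rw [L'.kap_mul hg.1 hk.1, (hcent g hg _ (L'.kap_mem hk.1)).eq, mul_inv_cancel_right]
  have hVH := (L'.le_normalizer_centr (fun v hv => L.point.mem_normalizer (hVC hv).1) hVC hVA).1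
  obtain ⟨S, hS, hxS, -, hVS, -, hSH⟩ := L'.oneClass_of_not h hnf L.point hno hAH le_rfl
    (fun r hr => L'.kap_surj h hnf L.point.dat_le hr) hV2 (hVC.trans inf_le_left) hxV hVA hVH
  set T := S ⊓ K with hT
  have hT2 : IsPGroup 2 T := hS.1.to_le inf_le_left
  have hodd : Odd (T.relIndex K) := Nonfull.odd_relIndex_inf L.point.le L.point.conj hS
  have hAT : A ≤ T := (le_sup_left (b := T)).trans (le_of_odd_relIndex hodd
    (L'.two.to_sup_of_normal_left' hT2 fun t ht => (hSH ht).1.2.1) le_sup_right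
    (sup_le L'.le inf_le_right))
  have hoddH : Odd (T.relIndex H) := by
    rw [← Subgroup.relIndex_mul_relIndex T H K hSH inf_le_right] at hodd
    exact (Nat.odd_mul.1 hodd).1
  -- `T` meets every class
  obtain ⟨B, hB, -, hBH, honto, -, -⟩ := L'.exists_regular h hnf hAH le_rfl
    (fun r hr => L'.kap_surj h hnf L.point.dat_le hr) hV2 hVA hVH
  have hT1 : ∀ r ∈ R, ∃ t ∈ T, Level.kap x i t = r := by
    intro r hr
    obtain ⟨b, hb, rfl⟩ := honto r hr
    obtain ⟨l, hl⟩ := Involution.Basic.exists_conj_le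
      ((hT2.of_equiv (Subgroup.subgroupOfEquivOfLe hSH).symm).toSylow
        fun hd => Nat.not_even_iff_odd.2 hoddH (even_iff_two_dvd.2 hd))
      (hB.of_equiv (Subgroup.subgroupOfEquivOfLe hBH).symm)
    refine ⟨l * b * (l : G)⁻¹, hl ⟨b, hBH hb⟩ hb, ?_⟩
    have hl' : (l : G) ∈ H := l.2
    have e := hhom _ hl' _ (inv_mem hl')
    rw [mul_inv_cancel, L'.kap_one] at e
    rw [hhom _ (mul_mem hl' (hBH hb)) _ (inv_mem hl'), hhom _ hl' _ (hBH hb),
      (T₀.comm_R (L'.kap_mem hl'.1) (L'.kap_mem (hBH hb).1)).eq, mul_assoc, ← e, mul_one]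
  -- a member of `S` outside `R`
  obtain ⟨d, hd, hdS, hxd⟩ : ∃ d ∈ D, d ∈ S ∧ ¬ Commute x d := by
    by_contra hne
    push Not at hne
    exact hnf x ⟨L.bad, a, S, hS, hxS, hne⟩
  have hdT : d ∈ T := ⟨hdS, L.point.dat_le d ⟨hd, mem_stabilizer_iff.1 (hS.2.1 hdS)⟩⟩
  have hdd : d * d = 1 := h.mul_self hd
  have hdk : Level.kap x i d ≠ 1 := fun e => hxd (T₀.comm d (L'.invol d
    (L'.two_zero h hT2 hAT inf_le_right hdT (hSH hdT).1 e) hdd))
  have hi : i ≤ 1 := by
    by_contra hi
    exact hdk (L'.kap_eq_one_of_invol h (by omega) (hSH hdT) hdd (hcent d (hSH hdT)))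
  refine ⟨A, S, i, L, L', hS, hxS, le_sup_left.trans hVS, hAT, hi, fun t ht => (hSH ht).1,
    hcent, fun r hr hr1 => ?_⟩
  -- an element normalising `T` carries the class of `d` to `r`
  obtain ⟨j, hj, hjr⟩ := L.trans_J _ (L'.kap_mem (hSH hdT).1) r hr hdk hr1
  obtain ⟨k, hka, hkx, hkn, -, hkj⟩ := L'.torus j hj
  have hkH : ∀ y ∈ H, k * y * k⁻¹ ∈ H := fun y hy =>
    have hkm := (L'.commute_mem hka hkn hkx).1
    ⟨L'.moves.mul_mem (L'.moves.mul_mem hkm hy.1) (L'.moves.inv_mem hkm), L.conj_K hka hy.2⟩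
  obtain ⟨c, hc, hck⟩ := exists_mul_mem_normalizer (g := k) hT2
    (hSH.trans Subgroup.le_normalizer) (by rwa [inf_eq_left.2 hSH])
    (fun y hy => Subgroup.mem_sup_left (hkH y (hSH hy)))
  refine ⟨c * k * d * (c * k)⁻¹, (Subgroup.mem_normalizer_iff.1 hck d).1 hdT, ?_, ?_⟩
  · rw [show c * k * d * (c * k)⁻¹ * (c * k * d * (c * k)⁻¹) = c * k * (d * d) * (c * k)⁻¹ by group,
      hdd]
    group
  · have hkd := hkH d (hSH hdT)
    have e := hhom _ hc _ (inv_mem hc)
    rw [mul_inv_cancel, L'.kap_one] at e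
    rw [show c * k * d * (c * k)⁻¹ = c * (k * d * k⁻¹) * c⁻¹ by group,
      hhom _ (mul_mem hc hkd) _ (inv_mem hc), hhom _ hc _ hkd,
      (T₀.comm_R (L'.kap_mem hc.1) (L'.kap_mem hkd.1)).eq, mul_assoc, ← e, mul_one,
      L'.kap_conj hkx, hkj _ (L'.kap_mem (hSH hdT).1), hjr]

end CurvedLine

end CfsgLib.LocalEven.OnePointFront.Nonfull
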