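import Mathlib

/-!
# Shears of a Suzuki line: equivariant biadditive maps

`F` is a finite field of characteristic two with an automorphism `θ` with `θ (θ x) = x ^ 2`; the torus acts
on two copies `E`, `R` of `F` with weights `μ` and `μ θ μ`.

* `shear`: a pairing `E × R → R` is `β e v = c * θ⁻¹ (e v)`, so for `c ≠ 0` each `e ≠ 0` gives a
  bijection with a non-trivial fixed point (`shear_fixed`);
* `pairing_E`: an alternating pairing `E × E → E` is zero;
* `pairing_R`: an alternating pairing `E × E → R` is a multiple of `a θ b + b θ a`;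
* `pairing_RE`: an alternating pairing `R × R → E` is zero if `x ^ 8 = x` does not hold identically
  (over eight elements `u v ^ 2 + u ^ 2 v` is such a pairing).
-/

set_option autoImplicit false

namespace CfsgLib.LocalEven.OnePointFront.Nonfull.Shear

universe u

variable {F : Type u} [Field F] [Finite F]

theorem exists_gen : ∃ g : F, g ≠ 0 ∧ ∀ x : F, x ≠ 0 → ∃ n : ℕ, g ^ n = x := by
  obtain ⟨g, hg⟩ := IsCyclic.exists_monoid_generator (α := Fˣ)
  refine ⟨g, g.ne_zero, fun x hx => ?_⟩
  obtain ⟨n, hn⟩ := hg (Units.mk0 x hx)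
  exact ⟨n, by simpa using congrArg Units.val hn⟩

theorem hom_ext {g : F} (hg : ∀ x : F, x ≠ 0 → ∃ n : ℕ, g ^ n = x) {α β : F →+* F}
    (h : α g = β g) : α = β := RingHom.ext fun x => by
  by_cases hx : x = 0
  · rw [hx, map_zero, map_zero]
  obtain ⟨n, rfl⟩ := hg x hx
  rw [map_pow, map_pow, h]

variable [CharP F 2]

/-- Two products of two homomorphisms agree only trivially. -/
theorem two_hom {α β γ δ : F →+* F} (h : ∀ x, α x * β x = γ x * δ x) :
    (α = γ ∧ β = δ) ∨ (α = δ ∧ β = γ) := by
  obtain ⟨g, -, hg⟩ := exists_gen (F := F)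
  have h1 := h g
  have h2 := h (g + 1)
  rw [map_add, map_add, map_add, map_add, map_one, map_one, map_one, map_one] at h2
  have hsum : α g + β g = γ g + δ g := by linear_combination h2 - h1
  have hroot : (α g - γ g) * (α g - δ g) = 0 := by linear_combination (α g) * hsum - h1
  rcases mul_eq_zero.mp hroot with e | e
  · exact Or.inl ⟨hom_ext hg (sub_eq_zero.mp e), hom_ext hg (by linear_combination hsum - e)⟩
  · exact Or.inr ⟨hom_ext hg (sub_eq_zero.mp e), hom_ext hg (by linear_combination hsum - e)⟩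

/-- If a product of three homomorphisms is a product of two, two of the three agree. -/
theorem three_hom {α β γ δ ε : F →+* F} (h : ∀ x, α x * β x * γ x = δ x * ε x) :
    α = β ∨ β = γ ∨ γ = α := by
  obtain ⟨g, -, hg⟩ := exists_gen (F := F)
  have h2 : (2 : F) = 0 := CharTwo.two_eq_zero
  have key : ∀ x y : F, α x * (β y + γ y) + β x * (α y + γ y) + γ x * (α y + β y) = 0 := by
    intro x y
    have e1 := h (x + y + 1)
    have e2 := h (x + y)
    have e3 := h (x + 1)
    have e4 := h (y + 1)
    simp only [map_add, map_one] at e1 e2 e3 e4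
    linear_combination e1 - e2 - e3 - e4 + h x + h y
  have e := key g (g * g)
  simp only [map_mul] at e
  have hprod : (α g + β g) * (β g + γ g) * (γ g + α g) = 0 := by
    linear_combination e + (α g * β g * γ g) * h2
  rcases mul_eq_zero.mp hprod with h' | h'
  · rcases mul_eq_zero.mp h' with e' | e'
    · exact Or.inl (hom_ext hg (CharTwo.add_eq_zero.mp e'))
    · exact Or.inr (Or.inl (hom_ext hg (CharTwo.add_eq_zero.mp e')))
  · exact Or.inr (Or.inr (hom_ext hg (CharTwo.add_eq_zero.mp h')))

/-- The squaring homomorphism. -/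
abbrev sqr : F →+* F := frobenius F 2

omit [Finite F] in
theorem sqr_apply (x : F) : (sqr : F →+* F) x = x * x := by
  rw [frobenius_def, pow_two]

/-- An equivariant biadditive map is a sum of weights. -/
theorem exists_weights (B : F → F → F) (hl : ∀ a b y, B (a + b) y = B a y + B b y)
    (hr : ∀ x a b, B x (a + b) = B x a + B x b) (n w : F →*₀ F)
    (hn : ∀ x, x ≠ 0 → n x ≠ 0) (heq : ∀ μ, μ ≠ 0 → ∀ y, B μ (n μ * y) = w μ * B 1 y) :
    ∃ (S : Finset (F →+* F)) (a : (F →+* F) → F) (χ : (F →+* F) → (F →+* F)),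
      (∀ σ ∈ S, ∀ x, χ σ x * σ (n x) = w x) ∧
        ∀ x y, B x y = ∑ σ ∈ S, a σ * (χ σ x * σ y) := by
  classical
  letI : Algebra (ZMod 2) F := ZMod.algebra F 2
  haveI : Finite (F →+* F) := Finite.of_injective _ DFunLike.coe_injective
  letI := Fintype.ofFinite (F ≃ₐ[ZMod 2] F)
  let v : (F ≃ₐ[ZMod 2] F) → (F →ₗ[ZMod 2] F) := fun σ => σ.toAlgHom.toLinearMap
  have hind : LinearIndependent F v :=
    (linearIndependent_algHom_toLinearMap (ZMod 2) F F).comp (fun σ : F ≃ₐ[ZMod 2] F => σ.toAlgHom)
      (fun σ τ e => AlgEquiv.ext fun x => AlgHom.congr_fun e x)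
  have hspan : Submodule.span F (Set.range v) = ⊤ := by
    haveI : Nonempty (F ≃ₐ[ZMod 2] F) := ⟨AlgEquiv.refl⟩
    refine hind.span_eq_top_of_card_eq_finrank ?_
    rw [← Nat.card_eq_fintype_card, IsGalois.card_aut_eq_finrank, Module.finrank_linearMap_self]
  let f : F →+ F :=
    { toFun := fun y => B 1 y
      map_zero' := by
        have := hr 1 0 0
        rw [add_zero] at this
        simpa using this.symm
      map_add' := hr 1 }
  obtain ⟨c, hc⟩ := (Submodule.mem_span_range_iff_exists_fun F).mp
    (hspan ▸ Submodule.mem_top : (f.toZModLinearMap 2) ∈ Submodule.span F (Set.range v))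
  have hf : ∀ y, B 1 y = ∑ σ, c σ * σ y := fun y => by
    show (f.toZModLinearMap 2) y = _
    rw [← hc, LinearMap.sum_apply]
    exact Finset.sum_congr rfl fun σ _ => rfl
  have h0l : ∀ y, B 0 y = 0 := fun y => by
    have := hl 0 0 y
    rw [add_zero] at this
    simpa using this.symm
  let M : (F ≃ₐ[ZMod 2] F) → F → F := fun σ x => w x / σ (n x)
  have hB : ∀ x y, B x y = ∑ σ, c σ * (M σ x * σ y) := by
    intro x y
    by_cases hx : x = 0
    · subst hx; simp [M, h0l]
    · have hnx := hn x hx
      rw [show B x y = B x (n x * (y / n x)) by rw [mul_div_cancel₀ y hnx], heq x hx, hf,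
        Finset.mul_sum]
      refine Finset.sum_congr rfl fun σ _ => ?_
      have hσ : σ (n x) ≠ 0 := by simpa using hnx
      simp only [M, map_div₀]
      field_simp
  have hadd : ∀ σ, c σ ≠ 0 → ∀ a b, M σ (a + b) = M σ a + M σ b := by
    intro σ hσ a b
    have hz : ∑ τ, (c τ * (M τ (a + b) - M τ a - M τ b)) • v τ = 0 := by
      refine LinearMap.ext fun y => ?_
      rw [LinearMap.sum_apply, LinearMap.zero_apply]
      calc ∑ τ, ((c τ * (M τ (a + b) - M τ a - M τ b)) • v τ) y
          = B (a + b) y - B a y - B b y := by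
            rw [hB, hB, hB, ← Finset.sum_sub_distrib, ← Finset.sum_sub_distrib]
            refine Finset.sum_congr rfl fun τ _ => ?_
            show (c τ * (M τ (a + b) - M τ a - M τ b)) * τ y = _
            ring
        _ = 0 := by rw [hl]; ring
    have := (mul_eq_zero.mp (Fintype.linearIndependent_iff.mp hind _ hz σ)).resolve_left hσ
    linear_combination this
  let ι : (F ≃ₐ[ZMod 2] F) → (F →+* F) := fun σ => σ.toAlgHom.toRingHom
  have hι : Function.Injective ι := fun σ τ e => AlgEquiv.ext fun x => RingHom.congr_fun e x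
  have hM : ∀ σ, c σ ≠ 0 → ∃ χ : F →+* F, ∀ x, χ x = M σ x := fun σ hσ =>
    ⟨{ toFun := M σ
       map_one' := by simp [M]
       map_zero' := by simp [M]
       map_add' := hadd σ hσ
       map_mul' := fun a b => by simp only [M, map_mul, mul_div_mul_comm] }, fun _ => rfl⟩
  choose! χ hχ using hM
  refine ⟨(Finset.univ.filter fun σ => c σ ≠ 0).image ι, fun τ => c (Function.invFun ι τ),
    fun τ => χ (Function.invFun ι τ), ?_, fun x y => ?_⟩
  · intro τ hτ x
    obtain ⟨σ, hσ, rfl⟩ := Finset.mem_image.mp hτ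
    simp only [Function.leftInverse_invFun hι σ, hχ σ (Finset.mem_filter.mp hσ).2, M]
    by_cases hx : x = 0
    · subst hx; simp
    · have hσn : σ (n x) ≠ 0 := by simpa using hn x hx
      show w x / σ (n x) * σ (n x) = w x
      exact div_mul_cancel₀ _ hσn
  · rw [hB, Finset.sum_image fun a _ b _ e => hι e, Finset.sum_filter]
    refine Finset.sum_congr rfl fun σ _ => ?_
    split
    · next hσ => simp only [Function.leftInverse_invFun hι σ, hχ σ hσ]; rfl
    · next hσ => rw [not_not.mp hσ, zero_mul]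

variable (θ : F ≃+* F)

/-- The weight `μ θ μ` of `R`. -/
def norm : F →*₀ F where
  toFun x := x * θ x
  map_zero' := by simp
  map_one' := by simp
  map_mul' a b := by rw [map_mul]; ring

omit [Finite F] [CharP F 2] in
theorem norm_ne {x : F} (hx : x ≠ 0) : norm θ x ≠ 0 :=
  mul_ne_zero hx (by simpa using hx)

variable (hθ : ∀ x, θ (θ x) = x ^ 2) (hF : ∃ x : F, x * x ≠ x)
include hθ hF

omit [Finite F] [CharP F 2] in
theorem theta_ne_id : (θ : F →+* F) ≠ RingHom.id F := fun e => by
  obtain ⟨x, hx⟩ := hF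
  have h : ∀ y, θ y = y := fun y => RingHom.congr_fun e y
  have := hθ x
  rw [h, h, pow_two] at this
  exact hx this.symm

omit [Finite F] in
theorem exists_quartic : ∃ x : F, x ^ 4 ≠ x := by
  by_contra hcon
  push Not at hcon
  obtain ⟨x, hx⟩ := hF
  have hx0 : x ≠ 0 := fun e => hx (by rw [e, mul_zero])
  have hx1 : x - 1 ≠ 0 := fun e => hx (by rw [sub_eq_zero.mp e, mul_one])
  have hq : x * x + x + 1 = 0 := by
    refine (mul_eq_zero.mp (?_ : x * (x - 1) * (x * x + x + 1) = 0)).resolve_left
      (mul_ne_zero hx0 hx1)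
    linear_combination hcon x
  have hθq : θ x * θ x + θ x + 1 = 0 := by
    have := congrArg θ hq
    simpa [map_add, map_mul] using this
  have hor : (θ x + x) * (θ x + (x + 1)) = 0 := by
    linear_combination hθq + hq + (x * θ x - 1) * (CharTwo.two_eq_zero : (2 : F) = 0)
  have e2 : θ (θ x) = x * x := by rw [hθ, pow_two]
  rcases mul_eq_zero.mp hor with h' | h'
  · rw [CharTwo.add_eq_zero.mp h', CharTwo.add_eq_zero.mp h'] at e2
    exact hx e2.symm
  · rw [CharTwo.add_eq_zero.mp h', map_add, map_one, CharTwo.add_eq_zero.mp h'] at e2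
    exact hx (by linear_combination -e2 + (CharTwo.two_eq_zero : (2 : F) = 0))

/-- An equivariant pairing `E × R → R`. -/
theorem shear (β : F → F → F) (hl : ∀ a b y, β (a + b) y = β a y + β b y)
    (hr : ∀ x a b, β x (a + b) = β x a + β x b)
    (heq : ∀ μ, μ ≠ 0 → ∀ x y, β (μ * x) (μ * θ μ * y) = μ * θ μ * β x y) :
    ∃ c, ∀ x y, β x y = c * θ.symm (x * y) := by
  classical
  obtain ⟨g, -, hg⟩ := exists_gen (F := F)
  obtain ⟨S, a, χ, hχ, hB⟩ := exists_weights β hl hr (norm θ) (norm θ) (fun x => norm_ne θ)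
    (fun μ hμ y => by simpa [norm] using heq μ hμ 1 y)
  have key : ∀ σ ∈ S, σ = (θ.symm : F →+* F) ∧ χ σ = (θ.symm : F →+* F) := by
    intro σ hσ
    have h3 : ∀ x, χ σ x * σ x * σ.comp (θ : F →+* F) x = (RingHom.id F) x * (θ : F →+* F) x :=
      fun x => by
        have := hχ σ hσ x
        simp only [norm, MonoidWithZeroHom.coe_mk, ZeroHom.coe_mk, map_mul] at this
        rw [mul_assoc]
        exact this
    have hinj : Function.Injective σ := σ.injective
    rcases three_hom h3 with e | e | e
    · -- `χ = σ`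
      have h2 : ∀ x, sqr.comp σ x * σ.comp (θ : F →+* F) x = (RingHom.id F) x * (θ : F →+* F) x :=
        fun x => by rw [← h3, e, RingHom.comp_apply, sqr_apply]
      rcases two_hom h2 with ⟨e1, e2⟩ | ⟨e1, e2⟩
      · exfalso
        obtain ⟨x, hx⟩ := hF
        have hσx : σ (θ (θ.symm x)) = θ (θ.symm x) := RingHom.congr_fun e2 _
        rw [RingEquiv.apply_symm_apply] at hσx
        have := RingHom.congr_fun e1 x
        rw [RingHom.comp_apply, sqr_apply, hσx] at this
        exact hx this
      · have hs : σ = (θ.symm : F →+* F) := RingHom.ext fun x => by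
          have := RingHom.congr_fun e2 (θ.symm x)
          simpa using this
        exact ⟨hs, e.trans hs⟩
    · exfalso
      refine theta_ne_id θ hθ hF (RingHom.ext fun x => hinj ?_)
      exact (RingHom.congr_fun e x).symm
    · exfalso
      have h2 : ∀ x, sqr.comp (σ.comp (θ : F →+* F)) x * σ x = (RingHom.id F) x * (θ : F →+* F) x :=
        fun x => by rw [← h3, ← e, RingHom.comp_apply, sqr_apply, RingHom.comp_apply]; ring
      rcases two_hom h2 with ⟨e1, e2⟩ | ⟨e1, e2⟩
      · obtain ⟨x, hx⟩ := exists_quartic θ hθ hF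
        have := RingHom.congr_fun e1 x
        rw [e2, RingHom.comp_apply, sqr_apply, RingHom.comp_apply] at this
        simp only [RingHom.coe_coe, hθ, RingHom.id_apply] at this
        exact hx (by linear_combination this)
      · obtain ⟨x, hx⟩ := hF
        have := RingHom.congr_fun e1 (θ.symm x)
        rw [e2, RingHom.comp_apply, sqr_apply, RingHom.comp_apply] at this
        simp only [RingHom.id_apply, RingHom.coe_coe, RingEquiv.apply_symm_apply] at this
        exact hx this
  refine ⟨∑ σ ∈ S, a σ, fun x y => ?_⟩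
  rw [hB, Finset.sum_mul]
  refine Finset.sum_congr rfl fun σ hσ => ?_
  obtain ⟨e1, e2⟩ := key σ hσ
  rw [e1] at e2 ⊢
  rw [e2, map_mul]
  rfl

omit [Finite F] [CharP F 2] hF in
/-- A non-trivial shear is bijective and has a non-trivial fixed point. -/
theorem shear_fixed {c e : F} (hc : c ≠ 0) (he : e ≠ 0) :
    Function.Bijective (fun y => c * θ.symm (e * y)) ∧ ∃ y, y ≠ 0 ∧ c * θ.symm (e * y) = y := by
  refine ⟨(mulLeft_bijective₀ c hc).comp (θ.symm.bijective.comp (mulLeft_bijective₀ e he)), ?_⟩
  have hA : θ c * e ≠ 0 := mul_ne_zero (by simpa using hc) he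
  refine ⟨θ c * e * θ (θ c * e), mul_ne_zero hA (by simpa using hA), θ.injective ?_⟩
  rw [map_mul, RingEquiv.apply_symm_apply, map_mul θ (θ c * e), hθ]
  ring

/-- An alternating equivariant pairing `E × E → R`. -/
theorem pairing_R (δ : F → F → F) (hl : ∀ a b y, δ (a + b) y = δ a y + δ b y)
    (hr : ∀ x a b, δ x (a + b) = δ x a + δ x b) (halt : ∀ x, δ x x = 0)
    (heq : ∀ μ, μ ≠ 0 → ∀ x y, δ (μ * x) (μ * y) = μ * θ μ * δ x y) :
    ∃ c, ∀ x y, δ x y = c * (x * θ y + y * θ x) := by
  classical
  obtain ⟨S, a, χ, hχ, hB⟩ := exists_weights δ hl hr (MonoidWithZeroHom.id F) (norm θ)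
    (fun x hx => hx) (fun μ hμ y => by simpa [norm] using heq μ hμ 1 y)
  have key : ∀ σ ∈ S, (χ σ = (θ : F →+* F) ∧ σ = RingHom.id F) ∨
      (χ σ = RingHom.id F ∧ σ = (θ : F →+* F)) := by
    intro σ hσ
    rcases two_hom (γ := RingHom.id F) (δ := (θ : F →+* F)) (fun x => hχ σ hσ x) with h | h
    · exact Or.inr h
    · exact Or.inl h
  set c1 := ∑ σ ∈ S.filter (fun σ => σ = RingHom.id F), a σ
  set c2 := ∑ σ ∈ S.filter (fun σ => ¬ σ = RingHom.id F), a σ
  have hxy : ∀ x y, δ x y = c1 * (θ x * y) + c2 * (x * θ y) := by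
    intro x y
    rw [hB, ← Finset.sum_filter_add_sum_filter_not S (fun σ => σ = RingHom.id F), Finset.sum_mul,
      Finset.sum_mul]
    refine congrArg₂ (· + ·) (Finset.sum_congr rfl fun σ hσ => ?_)
      (Finset.sum_congr rfl fun σ hσ => ?_)
    · obtain ⟨hS, rfl⟩ := Finset.mem_filter.mp hσ
      rcases key _ hS with ⟨e1, -⟩ | ⟨-, e2⟩
      · rw [e1]; rfl
      · exact absurd e2.symm (theta_ne_id θ hθ hF)
    · obtain ⟨hS, hne⟩ := Finset.mem_filter.mp hσ
      rcases key _ hS with ⟨-, e2⟩ | ⟨e1, e2⟩
      · exact absurd e2 hne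
      · rw [e1, e2]; rfl
  have hc : c1 = c2 := by
    have := hxy 1 1
    rw [halt, map_one, mul_one, mul_one, mul_one] at this
    exact CharTwo.add_eq_zero.mp this.symm
  exact ⟨c1, fun x y => by rw [hxy, ← hc]; ring⟩

omit hθ hF in
/-- An alternating equivariant pairing `E × E → E` is zero. -/
theorem pairing_E (γ : F → F → F) (hl : ∀ a b y, γ (a + b) y = γ a y + γ b y)
    (hr : ∀ x a b, γ x (a + b) = γ x a + γ x b) (halt : ∀ x, γ x x = 0)
    (heq : ∀ μ, μ ≠ 0 → ∀ x y, γ (μ * x) (μ * y) = μ * γ x y) : ∀ x y, γ x y = 0 := by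
  have hswap : ∀ x y, γ x y = γ y x := fun x y => by
    have := halt (x + y)
    rw [hl, hr, hr, halt, halt, zero_add, add_zero] at this
    exact CharTwo.add_eq_zero.mp this
  have hflip : ∀ v, v ≠ 0 → γ 1 v = v * γ 1 v⁻¹ := fun v hv => by
    rw [← heq v hv, mul_one, mul_inv_cancel₀ hv, hswap]
  have hsq : ∀ v, γ 1 (v * v) = 0 := by
    intro v
    by_cases hv : v = 0
    · subst hv
      have := hr 1 0 0
      rw [add_zero] at this
      simpa using this.symm
    by_cases hv1 : v = 1
    · rw [hv1, mul_one, halt]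
    have hv1' : v + 1 ≠ 0 := fun e => hv1 (CharTwo.add_eq_zero.mp e)
    have hinv : (v * (v + 1))⁻¹ = v⁻¹ + (v + 1)⁻¹ := by
      field_simp
      linear_combination (-v) * (CharTwo.two_eq_zero : (2 : F) = 0)
    have e := hflip _ (mul_ne_zero hv hv1')
    rw [hinv, hr] at e
    have e1 := hflip v hv
    have e2 := hflip _ hv1'
    rw [hr, halt, add_zero] at e2
    rw [show v * (v + 1) = v * v + v by ring, hr] at e
    linear_combination e - (v + 1) * e1 - v * e2 + (v * γ 1 v) * (CharTwo.two_eq_zero : (2 : F) = 0)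
  intro x y
  by_cases hx : x = 0
  · subst hx
    have := hl 0 0 y
    rw [add_zero] at this
    simpa using this.symm
  obtain ⟨v, hv⟩ : ∃ v, v * v = y / x :=
    (Finite.injective_iff_surjective.1 (fun a b e => frobenius_inj F 2
      (by simpa [frobenius_def, sq] using e) : Function.Injective fun a : F => a * a)) (y / x)
  have := heq x hx 1 (y / x)
  rw [mul_one, mul_div_cancel₀ y hx, ← hv, hsq, mul_zero] at this
  exact this

omit hF in
/-- An alternating equivariant pairing `R × R → E` is zero. -/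
theorem pairing_RE (h8 : ∃ x : F, x ^ 8 ≠ x) (η : F → F → F)
    (hl : ∀ a b y, η (a + b) y = η a y + η b y) (hr : ∀ x a b, η x (a + b) = η x a + η x b)
    (heq : ∀ μ, μ ≠ 0 → ∀ x y, η (μ * θ μ * x) (μ * θ μ * y) = μ * η x y) : ∀ x y, η x y = 0 := by
  classical
  -- the inverse of `μ ↦ μ θ μ` is `u ↦ θ u / u`
  let ρ : F →*₀ F :=
    { toFun := fun x => θ x * x⁻¹
      map_zero' := by simp
      map_one' := by simp
      map_mul' := fun a b => by rw [map_mul, mul_inv]; ring }
  obtain ⟨S, a, χ, hχ, hB⟩ := exists_weights η hl hr (MonoidWithZeroHom.id F) ρ (fun x hx => hx)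
    (fun μ hμ y => by
      have hθμ : θ μ ≠ 0 := by simpa using hμ
      have hN : (θ μ * μ⁻¹) * θ (θ μ * μ⁻¹) = μ := by
        rw [map_mul, map_inv₀, hθ]; field_simp
      have := heq (θ μ * μ⁻¹) (mul_ne_zero hθμ (inv_ne_zero hμ)) 1 y
      rw [hN, mul_one] at this
      simpa [ρ] using this)
  have key : ∀ σ ∈ S, False := by
    intro σ hσ
    obtain ⟨x, hx⟩ := h8
    have h3 : ∀ x, χ σ x * σ x * (RingHom.id F) x = (RingHom.id F) 1 * (θ : F →+* F) x := fun x => by
      have := hχ σ hσ x
      simp only [MonoidWithZeroHom.id_apply, ρ, MonoidWithZeroHom.coe_mk, ZeroHom.coe_mk] at this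
      by_cases hx0 : x = 0
      · subst hx0; simp
      · rw [RingHom.id_apply, this, map_one, one_mul, mul_assoc, inv_mul_cancel₀ hx0, mul_one]
        rfl
    -- a product of two homomorphisms is a homomorphism only if they agree
    have two : ∀ α β : F →+* F, (∀ y, α y * β y = θ y) → α = β := fun α β h => by
      obtain ⟨g, -, hg⟩ := exists_gen (F := F)
      have e := h (g + 1)
      rw [map_add, map_add, map_add, map_one, map_one, map_one] at e
      have : α g + β g = 0 := by linear_combination e - h g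
      exact hom_ext hg (CharTwo.add_eq_zero.mp this)
    have h3' : ∀ y, χ σ y * σ y * y = θ y := fun y => by simpa using h3 y
    have three : χ σ = σ ∨ σ = RingHom.id F ∨ RingHom.id F = χ σ := by
      obtain ⟨g, -, hg⟩ := exists_gen (F := F)
      have e1 := h3' (g + g * g + 1)
      have e2 := h3' (g + g * g)
      have e3 := h3' (g + 1)
      have e4 := h3' (g * g + 1)
      have e5 := h3' (g * g)
      have e6 := h3' g
      simp only [map_add, map_mul, map_one] at e1 e2 e3 e4 e5
      have hprod : (χ σ g + σ g) * (σ g + g) * (g + χ σ g) = 0 := by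
        linear_combination e1 - e2 - e3 - e4 + e5 + e6
          + (χ σ g * σ g * g) * (CharTwo.two_eq_zero : (2 : F) = 0)
      rcases mul_eq_zero.mp hprod with h' | h'
      · rcases mul_eq_zero.mp h' with e' | e'
        · exact Or.inl (hom_ext hg (CharTwo.add_eq_zero.mp e'))
        · exact Or.inr (Or.inl (hom_ext hg (CharTwo.add_eq_zero.mp e')))
      · exact Or.inr (Or.inr (hom_ext hg (CharTwo.add_eq_zero.mp h')))
    rcases three with e | e | e
    · have h := two (sqr.comp σ) (RingHom.id F) fun y => by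
        rw [RingHom.comp_apply, sqr_apply, RingHom.id_apply, ← h3' y, e]
      have hsq : ∀ y, θ y = y ^ 2 := fun y => by
        rw [← h3' y, e, show σ y * σ y = y by
          have := RingHom.congr_fun h y; rwa [RingHom.comp_apply, sqr_apply] at this, pow_two]
      have := hθ x
      rw [hsq, hsq] at this
      have h2 : x ^ 2 = x := frobenius_inj F 2 (by simp only [frobenius_def]; linear_combination this)
      exact hx (by linear_combination (x ^ 6 + x ^ 5 + x ^ 4 + x ^ 3 + x ^ 2 + x + 1) * h2)
    · have h := two (χ σ) sqr fun y => by rw [sqr_apply, ← h3' y, e, RingHom.id_apply]; ring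
      have hq : ∀ y, θ y = y ^ 4 := fun y => by
        rw [← h3' y, h, sqr_apply, e, RingHom.id_apply]; ring
      have := hθ x
      rw [hq, hq] at this
      exact hx (frobenius_inj F 2 (by simp only [frobenius_def]; linear_combination this))
    · have h := two σ sqr fun y => by
        rw [sqr_apply, ← h3' y, ← RingHom.congr_fun e y, RingHom.id_apply]; ring
      have hq : ∀ y, θ y = y ^ 4 := fun y => by
        rw [← h3' y, ← RingHom.congr_fun e y, h, sqr_apply, RingHom.id_apply]; ring
      have := hθ x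
      rw [hq, hq] at this
      exact hx (frobenius_inj F 2 (by simp only [frobenius_def]; linear_combination this))
  intro x y
  rw [hB, Finset.sum_eq_zero fun σ hσ => (key σ hσ).elim]

end CfsgLib.LocalEven.OnePointFront.Nonfull.Shear
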