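import Cfsg.Agent.Lib.LocalEven.OnePointFront.Nonfull.Curved.SuzukiTwisted

/-!
# Suzuki lines: climbing the levels

At a mover the centraliser `C` of `Q` in the layer is onto the classes and commutative; either it is
the next level or the layer is twisted.  So over each level there is one at which a maximal
2-subgroup has all squares in it or carries a twisted layer.
-/

set_option autoImplicit false
set_option linter.style.haveILetI false
set_option linter.unusedSectionVars false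

namespace CfsgLib.LocalEven.OnePointFront.Nonfull

open MulAction CfsgLib.LocalEven.TIEndgame

universe u v

variable {G : Type u} [Group G] [Finite G] {Ω : Type v} [MulAction G Ω] {D : Set G} {a : Ω} {x : G}
  {K R Q J A V S : Subgroup G} {i : ℕ} {g : G}

/-- A mover gives the next level or a twisted layer, once the centraliser of `Q` is onto. -/
theorem Mover.next_or_twisted (M : Mover D a x K R Q J A V S g i) (h : ClosedSetting D Ω)
    (hc : ∀ r ∈ R, ∃ b ∈ V, (∀ w ∈ Q, Commute b w) ∧ cls x i b = r) :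
    (∃ A' : Subgroup G, InvLevel D a x K R Q J A' (i + 1) ∧ A ≤ A' ∧ Nat.card A < Nat.card A') ∨
      ∃ C : Subgroup G, Twisted D a x K R Q J A V C S i := by
  classical
  have N := M.layer
  have L := N.level
  have LC := L.line.toCurvedLine
  set C : Subgroup G := V ⊓ Subgroup.centralizer (Q : Set G) with hC
  have hCQ : ∀ c ∈ C, ∀ w ∈ Q, Commute c w := fun c hc w hw =>
    (Subgroup.mem_centralizer_iff.1 (Subgroup.mem_inf.1 hc).2 w hw).symm
  have hCV : C ≤ V := inf_le_left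
  have hCm : ∀ c ∈ C, c ∈ L.moves := fun c hc => N.le (hCV hc)
  have hCmem : ∀ b ∈ V, (∀ w ∈ Q, Commute b w) → b ∈ C := fun b hb hbQ =>
    ⟨hb, Subgroup.mem_centralizer_iff.2 fun w hw => (hbQ w hw).eq.symm⟩
  have hAC : A ≤ C := fun u hu => hCmem u (N.A_le hu) (L.comm_Q u hu)
  have hzero : ∀ c ∈ C, cls x i c = 1 → c ∈ A := fun c hc e =>
    L.mem_A_of_centr (N.zero h (hCV hc) e) (hCQ c hc)
  have honto : ∀ r ∈ R, ∃ c ∈ C, cls x i c = r := fun r hr => by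
    obtain ⟨b, hb, hbQ, e⟩ := hc r hr
    exact ⟨b, hCmem b hb hbQ, e⟩
  choose! τ hτC hτk using honto
  have hrep : ∀ c ∈ C, (τ (cls x i c))⁻¹ * c ∈ A := fun c hc => by
    have hcR := L.cls_mem (hCm c hc)
    refine hzero _ (mul_mem (inv_mem (hτC _ hcR)) hc) ?_
    rw [L.cls_mul (hCm _ (inv_mem (hτC _ hcR))) (hCm c hc), L.cls_inv (hCm _ (hτC _ hcR)),
      hτk _ hcR, L.square.sq _ hcR]
  -- the torus normalises `C`
  have hlift : ∀ j ∈ J, ∃ k : G, k • a = a ∧ Commute x k ∧ k ∈ Subgroup.normalizer (Q : Set G) ∧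
      k ∈ Subgroup.normalizer (C : Set G) ∧ ∀ r ∈ R, k * r * k⁻¹ = j * r * j⁻¹ := by
    intro j hj
    obtain ⟨k, hka, hkx, hkQ, -, hkV, hkj⟩ := N.torus j hj
    refine ⟨k, hka, hkx, hkQ, mem_normalizer_of_conj_mem fun c hc =>
      hCmem _ ((Subgroup.mem_normalizer_iff.1 hkV c).1 (hCV hc)) fun w hw => ?_, hkj⟩
    have hw' : k⁻¹ * w * k ∈ Q := by
      have := (Subgroup.mem_normalizer_iff.1 (inv_mem hkQ) w).1 hw
      rwa [inv_inv] at this
    have := (hCQ c hc _ hw').map (MulAut.conj k).toMonoidHom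
    simpa [mul_assoc] using this
  -- `C` is commutative
  have hγA : ∀ u ∈ A, ∀ b ∈ V, pol u b = 1 := fun u hu b hb => by
    rw [pol, ← (M.cent h b hb u hu).eq, mul_inv_cancel_right, mul_inv_cancel]
  have hγl : ∀ b ∈ V, ∀ c ∈ V, ∀ e ∈ V, pol (b * c) e = pol b e * pol c e := fun b hb c hc e he => by
    have h1 : pol c e ∈ R := M.pol_mem_R h hc he
    calc pol (b * c) e = (b * pol c e * b⁻¹) * pol b e := by simp only [pol]; group
      _ = pol c e * pol b e := by rw [N.conj_R hb h1]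
      _ = _ := (L.line.central _ (L.line.le h1) _ (M.pol_mem_R h hb he)).eq
  have hγs : ∀ b ∈ V, ∀ c ∈ V, pol c b = pol b c := fun b hb c hc => by
    rw [show pol c b = (pol b c)⁻¹ by simp only [pol]; group,
      L.square.inv_R (M.pol_mem_R h hb hc)]
  have hdep : ∀ b ∈ C, ∀ c ∈ C, pol b c = pol (τ (cls x i b)) c := fun b hb c hc => by
    have ht := hτC _ (L.cls_mem (hCm b hb))
    conv_lhs => rw [show b = τ (cls x i b) * ((τ (cls x i b))⁻¹ * b) by group]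
    rw [hγl _ (hCV ht) _ (N.A_le (hrep b hb)) c (hCV hc), hγA _ (hrep b hb) c (hCV hc), mul_one]
  have hγR : ∀ r ∈ R, ∀ s ∈ R, pol (τ r) (τ s) ∈ R := fun r hr s hs =>
    M.pol_mem_R h (hCV (hτC r hr)) (hCV (hτC s hs))
  have hl : ∀ r ∈ R, ∀ r' ∈ R, ∀ s ∈ R,
      pol (τ (r * r')) (τ s) = pol (τ r) (τ s) * pol (τ r') (τ s) := fun r hr r' hr' s hs => by
    have h1 := hdep _ (mul_mem (hτC r hr) (hτC r' hr')) _ (hτC s hs)
    rw [L.cls_mul (hCm _ (hτC r hr)) (hCm _ (hτC r' hr')), hτk r hr, hτk r' hr'] at h1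
    rw [← h1, hγl _ (hCV (hτC r hr)) _ (hCV (hτC r' hr')) _ (hCV (hτC s hs))]
  have hγ1 := LC.pairing_eq_one (fun r s => pol (τ r) (τ s)) hγR hl
    (fun r hr s hs s' hs' => by
      have e : ∀ r ∈ R, ∀ s ∈ R, pol (τ r) (τ s) = pol (τ s) (τ r) := fun r hr s hs =>
        hγs _ (hCV (hτC s hs)) _ (hCV (hτC r hr))
      rw [e r hr _ (mul_mem hs hs'), hl s hs s' hs' r hr, e r hr s hs, e r hr s' hs'])
    (fun r _ => by simp [pol])
    (fun j hj r hr s hs => by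
      obtain ⟨k, -, hkx, -, hkC, hkj⟩ := hlift j hj
      have hg1 : ∀ q ∈ R, k * τ q * k⁻¹ ∈ C ∧ cls x i (k * τ q * k⁻¹) = j * q * j⁻¹ := fun q hq =>
        ⟨(Subgroup.mem_normalizer_iff.1 hkC _).1 (hτC q hq),
          by rw [L.cls_conj hkx, hτk q hq, hkj q hq]⟩
      obtain ⟨h1, h1k⟩ := hg1 r hr
      obtain ⟨h2, h2k⟩ := hg1 s hs
      have hr' : j * r * j⁻¹ ∈ R := LC.J_conj_R hj hr
      have hs' : j * s * j⁻¹ ∈ R := LC.J_conj_R hj hs
      have e := hdep _ h1 _ h2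
      rw [h1k, hγs _ (hCV h2) _ (hCV (hτC _ hr')), hdep _ h2 _ (hτC _ hr'), h2k,
        hγs _ (hCV (hτC _ hr')) _ (hCV (hτC _ hs'))] at e
      rw [← e, ← hkj _ (hγR r hr s hs)]
      simp only [pol]; group)
  have hab : ∀ b ∈ C, ∀ c ∈ C, Commute b c := fun b hb c hc => by
    have hbR := L.cls_mem (hCm b hb)
    have hcR := L.cls_mem (hCm c hc)
    have h1 : pol b c = 1 := by
      rw [hdep b hb c hc, hγs _ (hCV hc) _ (hCV (hτC _ hbR)), hdep c hc _ (hτC _ hbR)]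
      exact hγ1 _ hcR _ hbR
    exact mul_inv_eq_iff_eq_mul.1 (mul_inv_eq_one.1 h1)
  -- the twist
  have hxC : ∀ c ∈ C, x * c * x ∈ C := fun c hc => by
    have hxi : x⁻¹ = x := inv_eq_of_mul_eq_one_right L.x_sq
    refine hCmem _ (by simpa [hxi] using (Subgroup.mem_normalizer_iff.1 N.x_mem c).1 (hCV hc))
      fun w hw => ?_
    have := (hCQ c hc w hw).map (MulAut.conj x).toMonoidHom
    simp only [MulEquiv.coe_toMonoidHom, MulAut.conj_apply, hxi] at this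
    rwa [show x * w * x = w by rw [(L.line.comm w hw).eq, mul_assoc, L.x_sq, mul_one]] at this
  set ρ : G → G := fun c => x * c * x * c with hρ
  have hρmul : ∀ b ∈ C, ∀ c ∈ C, ρ (b * c) = ρ b * ρ c := fun b hb c hc => by
    show x * (b * c) * x * (b * c) = x * b * x * b * (x * c * x * c)
    rw [show x * (b * c) * x = (x * b * x) * (x * c * x) by
      rw [show x * b * x * (x * c * x) = x * b * (x * x) * c * x by group, L.x_sq, mul_one]; group]
    exact (hab _ (hxC c hc) b hb).mul_mul_mul_comm _ _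
  have hρA : ∀ u ∈ A, ρ u = 1 := fun u hu => by
    show x * u * x * u = 1
    rw [L.inv u hu, inv_mul_cancel]
  set v := shift x g with hv
  have hvR := L.cls_mem (N.le M.shift_mem)
  set c₀ := τ (cls x i v) with hc₀
  have hc₀C := hτC _ hvR
  obtain ⟨w₀, hw₀, u₀, hu₀, hv₀⟩ : ∃ w ∈ Q, ∃ u ∈ A, w * (u * c₀) = v := by
    have h1 : v * c₀⁻¹ ∈ L.kerGroup := by
      refine N.zero h (mul_mem M.shift_mem (inv_mem (hCV hc₀C))) ?_
      rw [L.cls_mul (N.le M.shift_mem) (N.le (inv_mem (hCV hc₀C))), L.cls_inv (hCm _ hc₀C),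
        hτk _ hvR, L.square.sq _ hvR]
    obtain ⟨w, hw, u, hu, e⟩ := h1
    exact ⟨w, hw, u, hu, by rw [← mul_assoc, e, inv_mul_cancel_right]⟩
  set c₁ := u₀ * c₀ with hc₁
  have hc₁C : c₁ ∈ C := mul_mem (hAC hu₀) hc₀C
  have hc₁k : cls x i c₁ = cls x i v := by
    rw [hc₁, L.cls_mul (L.A_mem hu₀).1 (hCm _ hc₀C), (L.A_mem hu₀).2, one_mul, hτk _ hvR]
  have hρ₁ : ρ c₁ = w₀ * w₀ := by
    have h1 : x * v * x * v = 1 := by rw [hv, shift_inverted L.x_sq, inv_mul_cancel]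
    have h2 : x * v * x * v = w₀ * w₀ * ρ c₁ := by
      rw [← hv₀]
      calc x * (w₀ * c₁) * x * (w₀ * c₁) = (x * w₀) * c₁ * x * (w₀ * c₁) := by group
        _ = w₀ * (x * c₁ * x) * (w₀ * c₁) := by rw [(L.line.comm w₀ hw₀).eq]; group
        _ = _ := (hCQ _ (hxC _ hc₁C) w₀ hw₀).mul_mul_mul_comm _ _
    rw [h1] at h2
    rw [← inv_eq_of_mul_eq_one_right h2.symm, L.square.inv_R (L.line.sq_mem w₀ hw₀)]
  -- every class has its twist
  have hρconj : ∀ c ∈ C, cls x i c ≠ 1 → ∃ j ∈ J, ρ c = j * ρ c₁ * j⁻¹ := by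
    intro c hc hc1
    have hcR := L.cls_mem (hCm c hc)
    obtain ⟨j, hj, e⟩ := L.line.trans_J _ hvR _ hcR M.moved hc1
    obtain ⟨k, -, hkx, -, hkC, hkj⟩ := hlift j hj
    have h1 : k * c₁ * k⁻¹ ∈ C := (Subgroup.mem_normalizer_iff.1 hkC _).1 hc₁C
    have h2 : (k * c₁ * k⁻¹)⁻¹ * c ∈ A := by
      refine hzero _ (mul_mem (inv_mem h1) hc) ?_
      rw [L.cls_mul (hCm _ (inv_mem h1)) (hCm c hc), L.cls_inv (hCm _ h1), L.cls_conj hkx, hc₁k,
        hkj _ hvR, e, L.square.sq _ hcR]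
    refine ⟨j, hj, ?_⟩
    have e1 : ρ c = ρ (k * c₁ * k⁻¹) := by
      conv_lhs => rw [show c = (k * c₁ * k⁻¹) * ((k * c₁ * k⁻¹)⁻¹ * c) by group]
      rw [hρmul _ h1 _ (hAC h2), hρA _ h2, mul_one]
    rw [e1, ← hkj _ (hρ₁ ▸ L.line.sq_mem w₀ hw₀)]
    show x * (k * c₁ * k⁻¹) * x * (k * c₁ * k⁻¹) = k * (x * c₁ * x * c₁) * k⁻¹
    calc x * (k * c₁ * k⁻¹) * x * (k * c₁ * k⁻¹)
        = (x * k) * c₁ * (k⁻¹ * x) * (k * c₁ * k⁻¹) := by group
      _ = (k * x) * c₁ * (x * k⁻¹) * (k * c₁ * k⁻¹) := by rw [hkx.eq, hkx.inv_right.eq]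
      _ = _ := by group
  have hρR : ∀ c ∈ C, ρ c ∈ R := fun c hc => by
    rcases eq_or_ne (cls x i c) 1 with e | e
    · rw [hρA c (hzero c hc e)]; exact one_mem R
    obtain ⟨j, hj, e'⟩ := hρconj c hc e
    rw [e']
    exact LC.J_conj_R hj (hρ₁ ▸ L.line.sq_mem w₀ hw₀)
  have hpow : ∀ c ∈ C, c ^ 2 ^ (i + 1) = cls x i c := fun c hc => by
    have hs : shift x c = ρ c * (c * c)⁻¹ := by rw [shift, hρ]; group
    obtain ⟨m, hm⟩ : ∃ m, i = m + 1 := Nat.exists_eq_add_of_le' L.pos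
    have hcm : Commute (ρ c) (c * c)⁻¹ :=
      ((hab _ (hAC (L.R_le (hρR c hc))) c hc).mul_right (hab _ (hAC (L.R_le (hρR c hc))) c hc)).inv_right
    have e : cls x i c = (c ^ 2 ^ (i + 1))⁻¹ := by
      rw [cls, hs, hcm.mul_pow, inv_pow, pow_succ' 2 i, pow_mul c 2, pow_two c]
      rw [show (ρ c) ^ 2 ^ i = 1 by
        rw [hm, pow_succ', pow_mul, pow_two, L.square.sq _ (hρR c hc), one_pow], one_mul]
    rw [← L.square.inv_R (L.cls_mem (hCm c hc)), e, inv_inv]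
  have hexp : ∀ c ∈ C, c ^ 2 ^ (i + 1 + 1) = 1 := fun c hc => by
    rw [pow_succ 2 (i + 1), pow_mul, hpow c hc, pow_two, L.square.sq _ (L.cls_mem (hCm c hc))]
  have hroot : ∀ r ∈ R, ∃ c ∈ C, c ^ 2 ^ (i + 1) = r := fun r hr =>
    ⟨τ r, hτC r hr, by rw [hpow _ (hτC r hr), hτk r hr]⟩
  have hinvol : ∀ c ∈ C, c * c = 1 → c ∈ R := fun c hc hcc => by
    refine L.invol c (hzero c hc ?_) hcc
    rw [← hpow c hc, pow_succ', pow_mul, pow_two, hcc, one_pow]
  by_cases hρ1 : ρ c₁ = 1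
  · refine Or.inl ⟨C, ⟨L.line, L.below, by have := L.pos; omega, hCV.trans N.le_K,
      L.R_le.trans hAC, hab, hCQ, fun c hc => ?_, hinvol, hroot, hexp, hlift⟩, hAC, ?_⟩
    · refine eq_inv_of_mul_eq_one_left (?_ : ρ c = 1)
      rcases eq_or_ne (cls x i c) 1 with e | e
      · exact hρA c (hzero c hc e)
      obtain ⟨j, -, e'⟩ := hρconj c hc e
      rw [e', hρ1]; group
    · refine lt_of_le_of_ne (Subgroup.card_le_of_le hAC) fun e => M.moved ?_
      rw [← hc₁k]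
      exact (L.A_mem ((Subgroup.eq_of_le_of_card_ge hAC e.ge).ge hc₁C)).2
  · refine Or.inr ⟨C, ⟨N, M.top, M.x_mem, M.le_top, hCV, hAC, hab, hCQ, fun b hb => ?_, hρR,
      fun c hc hinv => ?_, hroot, hexp, hinvol⟩⟩
    · have hbR := L.cls_mem (N.le hb)
      have h1 : b * (τ (cls x i b))⁻¹ ∈ L.kerGroup := by
        refine N.zero h (mul_mem hb (inv_mem (hCV (hτC _ hbR)))) ?_
        rw [L.cls_mul (N.le hb) (N.le (inv_mem (hCV (hτC _ hbR)))), L.cls_inv (hCm _ (hτC _ hbR)),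
          hτk _ hbR, L.square.sq _ hbR]
      obtain ⟨w, hw, u, hu, e⟩ := h1
      exact ⟨w, hw, u * τ (cls x i b), mul_mem (hAC hu) (hτC _ hbR),
        by rw [← mul_assoc, e, inv_mul_cancel_right]⟩
    · by_contra hcA
      obtain ⟨j, -, e'⟩ := hρconj c hc fun e => hcA (hzero c hc e)
      refine hρ1 ?_
      rw [show ρ c = 1 by show x * c * x * c = 1; rw [hinv, inv_mul_cancel]] at e'
      exact conj_eq_one_iff.1 e'.symm

/-- Over each level there is one at which a maximal 2-subgroup has its squares in it or carries a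
twisted layer, once the centraliser of `Q` in a locally inner layer is onto. -/
theorem InvLevel.climb (L : InvLevel D a x K R Q J A i) (h : ClosedSetting D Ω)
    (hcentral : ∀ (A V : Subgroup G) (i : ℕ), Layer D a x K R Q J A V i →
      (∀ b ∈ V, ∀ w ∈ Q, ∃ t ∈ Q, pol b w = pol w t) →
      ∀ r ∈ R, ∃ b ∈ V, (∀ w ∈ Q, Commute b w) ∧ cls x i b = r) :
    ∃ (A' : Subgroup G) (i' : ℕ), A ≤ A' ∧ InvLevel D a x K R Q J A' i' ∧
      ((∃ S : Subgroup G, IsTopTwo S a ∧ x ∈ S ∧ Q ≤ S ∧ A' ≤ S ∧ ∀ t ∈ S ⊓ K, t * t ∈ A') ∨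
        ∃ V C S : Subgroup G, Twisted D a x K R Q J A' V C S i') := by
  suffices H : ∀ (n : ℕ) (A : Subgroup G) (i : ℕ), Nat.card G - Nat.card A ≤ n →
      InvLevel D a x K R Q J A i → ∃ (A' : Subgroup G) (i' : ℕ), A ≤ A' ∧
        InvLevel D a x K R Q J A' i' ∧
        ((∃ S : Subgroup G, IsTopTwo S a ∧ x ∈ S ∧ Q ≤ S ∧ A' ≤ S ∧ ∀ t ∈ S ⊓ K, t * t ∈ A') ∨
          ∃ V C S : Subgroup G, Twisted D a x K R Q J A' V C S i') from H _ A i le_rfl L
  intro n
  induction n using Nat.strong_induction_on with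
  | _ n ih =>
    intro A i hn L
    rcases L.cases h with hsq | ⟨V, S, g, M⟩
    · exact ⟨A, i, le_rfl, L, Or.inl hsq⟩
    rcases M.next_or_twisted h (hcentral A V i M.layer (M.locally_inner h)) with
      ⟨A', L', hle, hlt⟩ | ⟨C, hT⟩
    · have hA' : Nat.card A' ≤ Nat.card G := Subgroup.card_le_card_group A'
      obtain ⟨A'', i'', h1, h2, h3⟩ := ih (Nat.card G - Nat.card A') (by omega) A' (i + 1) le_rfl L'
      exact ⟨A'', i'', hle.trans h1, h2, h3⟩
    · exact ⟨A, i, le_rfl, L, Or.inr ⟨V, C, S, hT⟩⟩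

end CfsgLib.LocalEven.OnePointFront.Nonfull
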