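import Cfsg.Agent.Lib.LocalEven.OnePointFront.Nonfull.Curved.Shear
import Cfsg.Agent.Lib.LocalEven.TIEndgame.SuzukiSquare

/-!
# The square map of a base of a Suzuki line in coordinates

The base of the translations has coordinates `(u, w)`: `u` is the translation, `w` the class in
`Q / R`.  The square is `sqF θ c κ u w`, the commutator `polF θ κ`, and the elements inverted by
`x` are the solutions of `sqF θ c κ u w = u`.  Two of them differ by an element whose square is
the product of the two: these squares take every value at most twice as seen from `x`, and we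
show that this fails as seen from any other one of the solutions.
-/

set_option autoImplicit false
set_option linter.style.haveILetI false

namespace CfsgLib.LocalEven.OnePointFront.Nonfull.SuzukiForm

universe u

variable {F : Type u} [Field F]

/-- The square map. -/
def sqF (θ : F ≃+* F) (c κ u w : F) : F := c * u + w * θ w + κ * θ.symm (u * w)

/-- The commutator. -/
def polF (θ : F ≃+* F) (κ u w u' w' : F) : F :=
  κ * θ.symm (u * w') + κ * θ.symm (u' * w) + (w * θ w' + w' * θ w)

variable [CharP F 2] (θ : F ≃+* F)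

omit [CharP F 2] in
theorem sqF_add (c κ u w u' w' : F) :
    sqF θ c κ (u + u') (w + w') = sqF θ c κ u w + sqF θ c κ u' w' + polF θ κ u w u' w' := by
  simp only [sqF, polF, map_add, map_mul, add_mul, mul_add]
  ring

theorem polF_self (κ u w : F) : polF θ κ u w u w = 0 := by
  rw [polF]
  linear_combination (κ * θ.symm (u * w) + w * θ w) * (CharTwo.two_eq_zero : (2 : F) = 0)

omit [CharP F 2] in
theorem polF_comm (κ u w u' w' : F) : polF θ κ u w u' w' = polF θ κ u' w' u w := by
  simp only [polF]; ring

variable [Finite F] (hfix : ∀ y, θ y = y → y = 0 ∨ y = 1) (hone : ∀ y, θ y + y ≠ 1)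
include hfix hone

/-- The value set of `θ + 1` is a hyperplane not containing `1` and no scalar but `1` maps its
complement into itself. -/
theorem exists_mul_mem {k : F} (hk0 : k ≠ 0) (hk1 : k ≠ 1) :
    ∃ v y, θ y + y = k * (1 + θ v + v) ∧ y ≠ 0 := by
  suffices h : ∃ v y, θ y + y = k * (1 + θ v + v) by
    obtain ⟨v, y, h⟩ := h
    refine ⟨v, y, h, fun hy => ?_⟩
    subst hy
    rw [map_zero, add_zero] at h
    refine hone v (CharTwo.add_eq_zero.mp ?_)
    linear_combination ((mul_eq_zero.mp h.symm).resolve_left hk0)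
  by_contra hcon
  push Not at hcon
  set H := TIEndgame.SuzukiSquare.polarRange θ with hH
  have hidx : H.index = 2 := TIEndgame.SuzukiSquare.index_polarRange θ hfix
  have hout : ∀ v, k * (1 + (θ v + v)) ∉ H := fun v hv => by
    obtain ⟨y, hy⟩ := (TIEndgame.SuzukiSquare.mem_polarRange θ).1 hv
    exact hcon v y (by rw [hy]; ring)
  have hk : k ∉ H := by simpa using hout 0
  have h1 : (1 : F) ∉ H := fun h => by
    obtain ⟨y, hy⟩ := (TIEndgame.SuzukiSquare.mem_polarRange θ).1 h
    exact hone y hy
  have hmul : ∀ z, z ∈ H → k * z ∈ H := fun z hz => by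
    obtain ⟨v, rfl⟩ := (TIEndgame.SuzukiSquare.mem_polarRange θ).1 hz
    have := (AddSubgroup.add_mem_iff_of_index_two hidx (a := k * (1 + (θ v + v))) (b := k)).2
      (iff_of_false (hout v) hk)
    rwa [show k * (1 + (θ v + v)) + k = k * (θ v + v) by
      linear_combination k * (CharTwo.two_eq_zero : (2 : F) = 0)] at this
  have hk1' : k + 1 ∈ H := (AddSubgroup.add_mem_iff_of_index_two hidx).2 (iff_of_false hk h1)
  have hall : ∀ z, (k + 1) * z ∈ H := fun z => by
    by_cases hz : z ∈ H
    · rw [add_mul, one_mul]; exact add_mem (hmul z hz) hz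
    · have hz1 : z + 1 ∈ H := (AddSubgroup.add_mem_iff_of_index_two hidx).2 (iff_of_false hz h1)
      have e : (k + 1) * z = (k * (z + 1) + (z + 1)) + (k + 1) := by
        linear_combination (-(k + 1)) * (CharTwo.two_eq_zero : (2 : F) = 0)
      rw [e]
      exact add_mem (add_mem (hmul _ hz1) hz1) hk1'
  refine h1 ?_
  have := hall (k + 1)⁻¹
  rwa [mul_inv_cancel₀ (fun e => hk1 (CharTwo.add_eq_zero.mp e))] at this

omit hone in
/-- Two different solutions seen from the solution `(k, 1)` without shear. -/
theorem collision_zero {c k : F} (hc0 : c ≠ 0) (hone : ∀ y, θ y + y ≠ 1)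
    (hk : (1 + c) * k = 1) :
    ∃ w w', w ≠ w' ∧ sqF θ c 0 (k * (w * θ w) + k) (w + 1) = sqF θ c 0 (k * (w' * θ w') + k) (w' + 1) := by
  have hk0 : k ≠ 0 := fun e => by simp [e] at hk
  have hk1 : k ≠ 1 := fun e => hc0 (by subst e; linear_combination hk)
  obtain ⟨v, y, hy, hy0⟩ := exists_mul_mem θ hfix hone hk0 hk1
  set z := y⁻¹ with hz
  have hz0 : z ≠ 0 := inv_ne_zero hy0
  have hzy : z * y = 1 := inv_mul_cancel₀ hy0
  have hθzy : θ z * θ y = 1 := by rw [← map_mul, hzy, map_one]
  refine ⟨v * z + z, v * z, fun e => hz0 (by linear_combination e), ?_⟩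
  have key : z * θ z * k * (1 + θ v + v) + z + θ z = 0 := by
    linear_combination (-(z * θ z)) * hy + θ z * hzy + z * hθzy
      + (z + θ z) * (CharTwo.two_eq_zero : (2 : F) = 0)
  simp only [sqF, map_add, map_mul, map_one, zero_mul, add_zero]
  linear_combination key + (z * θ z * v + z * θ z * θ v + z * θ z) * hk
    + (z * θ z * (v + θ v + 1) - k * (z * θ z) * (1 + θ v + v)) *
      (CharTwo.two_eq_zero : (2 : F) = 0)

omit hfix hone

variable (hθ : ∀ y, θ (θ y) = y ^ 2)
include hθ

omit [Finite F] in
theorem one_notMem_range (y : F) : θ y + y ≠ 1 := fun e => by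
  have h := congrArg θ e
  rw [map_add, hθ, map_one] at h
  have hy : y * (y - 1) = 0 := by linear_combination h - e
  rcases mul_eq_zero.mp hy with e' | e'
  · rw [e', map_zero, add_zero] at e; exact zero_ne_one e
  · rw [sub_eq_zero.mp e', map_one, CharTwo.add_self_eq_zero] at e; exact zero_ne_one e

omit [CharP F 2] in
/-- The norm is onto. -/
theorem norm_surjective : Function.Surjective fun y => y * θ y := by
  refine Finite.injective_iff_surjective.1 fun a b e => ?_
  by_cases hb : b = 0
  · subst hb
    rw [zero_mul] at e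
    rcases mul_eq_zero.mp e with h | h
    · exact h
    · exact (map_eq_zero θ).1 h
  have hp : a / b * θ (a / b) = 1 := by
    rw [map_div₀, div_mul_div_comm, e, div_self (mul_ne_zero hb (by simpa using hb))]
  set p := a / b with hp'
  have hp0 : p ≠ 0 := fun h0 => by simp [h0] at hp
  have h2 := congrArg θ hp
  rw [map_mul, hθ, map_one] at h2
  have h3 : p * θ p * (p - 1) = 0 := by linear_combination h2 - hp
  exact (div_eq_one_iff_eq hb).1 (sub_eq_zero.1 ((mul_eq_zero.mp h3).resolve_left
    (mul_ne_zero hp0 (by simpa using hp0))))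

/-- Two different solutions and one in the first coordinate seen from the solution `(1, 0)` with a
shear and `c = 1`. -/
theorem collision_shear (hF : ∃ y : F, y * y ≠ y) {κ : F}
    (hκ : κ ≠ 0) :
    ∃ K w w', w ≠ 0 ∧ w' ≠ 0 ∧ w ≠ w' ∧
      (∀ v, sqF θ 1 κ (K * (v * θ v)) v = K * (v * θ v)) ∧
      sqF θ 1 κ (K * (w * θ w) + 1) w = sqF θ 1 κ (K * (w' * θ w') + 1) w' := by
  obtain ⟨v, hv⟩ := hF
  have hv0 : v ≠ 0 := fun e => hv (by rw [e, mul_zero])
  have hv1 : v + 1 ≠ 0 := fun e => hv (by rw [CharTwo.add_eq_zero.mp e, mul_one])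
  have hp : 1 + v + θ v ≠ 0 := fun e => one_notMem_range θ hθ v (by
    linear_combination e - (CharTwo.two_eq_zero : (2 : F) = 0))
  set K := θ κ⁻¹ with hK
  have hK0 : θ K ≠ 0 := by simpa [hK] using hκ
  have hθκ : θ κ ≠ 0 := by simpa using hκ
  obtain ⟨z, hz⟩ := norm_surjective θ hθ (θ κ / (θ K * θ (1 + v + θ v)))
  have hz0 : z ≠ 0 := fun e => by
    simp only [e, zero_mul] at hz
    rw [eq_comm, div_eq_zero_iff] at hz
    rcases hz with h | h
    · exact hθκ h
    · exact mul_ne_zero hK0 ((map_ne_zero θ).2 hp) h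
  have hz' : θ K * θ (1 + v + θ v) * (z * θ z) = θ κ := by
    rw [show z * θ z = θ κ / (θ K * θ (1 + v + θ v)) from hz,
      mul_div_cancel₀ _ (mul_ne_zero hK0 ((map_ne_zero θ).2 hp))]
  have key : K * (1 + v + θ v) * (z * θ z) = κ * θ.symm z := by
    refine θ.injective ?_
    simp only [map_mul, hθ, RingEquiv.apply_symm_apply]
    linear_combination z * hz'
  have hs : ∀ y, θ.symm (y * y) = θ y := fun y => θ.injective (by
    rw [RingEquiv.apply_symm_apply, hθ, pow_two])
  have hsh : ∀ u, κ * θ.symm (K * (u * θ u) * u) = u * θ u := fun u => by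
    rw [show K * (u * θ u) * u = θ κ⁻¹ * θ u * (u * u) by rw [hK]; ring, map_mul, map_mul,
      RingEquiv.symm_apply_apply, RingEquiv.symm_apply_apply, hs]
    field_simp
  refine ⟨K, v * z + z, v * z, ?_, mul_ne_zero hv0 hz0, fun e => hz0 (by linear_combination e),
    fun u => ?_, ?_⟩
  · rw [show v * z + z = (v + 1) * z by ring]
    exact mul_ne_zero hv1 hz0
  · rw [sqF, hsh]
    linear_combination (u * θ u) * (CharTwo.two_eq_zero : (2 : F) = 0)
  · have e : ∀ w, sqF θ 1 κ (K * (w * θ w) + 1) w = K * (w * θ w) + 1 + κ * θ.symm w := fun w => by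
      rw [sqF, show (K * (w * θ w) + 1) * w = K * (w * θ w) * w + w by ring, map_add, mul_add κ, hsh]
      linear_combination (w * θ w) * (CharTwo.two_eq_zero : (2 : F) = 0)
    rw [e, e]
    simp only [map_add, map_mul]
    linear_combination key + (κ * θ.symm z) * (CharTwo.two_eq_zero : (2 : F) = 0)

omit [Finite F] in
/-- With a shear no subgroup with a bijective projection on `w` is commutative. -/
theorem not_isotropic (hfix : ∀ y, θ y = y → y = 0 ∨ y = 1) (hF : ∃ y : F, y ^ 4 ≠ y) {κ : F}
    (L : F → F) : ¬ ∀ u w, polF θ κ (L u) u (L w) w = 0 := by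
  intro hL
  have h' : ∀ u w, θ κ * (L u * w + L w * u) + (θ u * w ^ 2 + θ w * u ^ 2) = 0 := fun u w => by
    have h := congrArg θ (hL u w)
    simp only [polF, map_add, map_mul, map_zero, RingEquiv.apply_symm_apply, hθ] at h
    linear_combination h
  set m := θ κ * L 1
  have hM : ∀ u, θ κ * L u = m * u + θ u + u ^ 2 := fun u => by
    have h := h' u 1
    rw [map_one] at h
    linear_combination h - (m * u + θ u + u ^ 2) * (CharTwo.two_eq_zero : (2 : F) = 0)
  have hI : ∀ u w, θ u * (w + w ^ 2) + u ^ 2 * (w + θ w) + u * (θ w + w ^ 2) = 0 := fun u w => by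
    linear_combination h' u w - w * hM u - u * hM w
      - (m * u * w) * (CharTwo.two_eq_zero : (2 : F) = 0)
  obtain ⟨v, hv⟩ := hF
  have hv2 : θ v ≠ v ^ 2 := fun e => hv (by
    have h := congrArg θ e
    rw [hθ, map_pow, e] at h
    have h2 : v = v ^ 2 := frobenius_inj F 2 (by simp only [frobenius_def]; exact h)
    linear_combination -(v ^ 2 + v + 1) * h2)
  have hθv : θ v ≠ v := fun e => by
    rcases hfix v e with rfl | rfl
    · exact hv (by simp)
    · exact hv (by simp)
  have hv0 : v + v ^ 2 ≠ 0 := fun e => by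
    have : v * (v + 1) = 0 := by linear_combination e
    rcases mul_eq_zero.mp this with rfl | h
    · exact hv (by simp)
    · exact hv (by rw [CharTwo.add_eq_zero.mp h]; simp)
  -- compare three multiples of the variable
  have hB : ∀ u, u ^ 2 * (v + θ v) * (v ^ 2 - θ v) + u * (θ v + v ^ 2) * (v - θ v) = 0 := fun u => by
    have h := hI (v * u) v
    rw [map_mul] at h
    linear_combination h - θ v * hI u v
  have h0 : (v + θ v) * (v ^ 2 - θ v) * (v ^ 2 - v) = 0 := by
    linear_combination hB v - v * hB 1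
  rcases mul_eq_zero.mp h0 with h1 | h1
  · rcases mul_eq_zero.mp h1 with h2 | h2
    · exact hθv (CharTwo.add_eq_zero.mp h2).symm
    · exact hv2 (sub_eq_zero.mp h2).symm
  · exact hv0 (by linear_combination h1 + v * (CharTwo.two_eq_zero : (2 : F) = 0))

end CfsgLib.LocalEven.OnePointFront.Nonfull.SuzukiForm
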