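import Cfsg.Agent.Lib.LocalEven.OnePointFront.Nonfull.Curved.Base
import Cfsg.Agent.Lib.LocalEven.OnePointFront.Nonfull.Curved.SuzukiForm
import Cfsg.Agent.Lib.LocalEven.OnePointFront.Nonfull.Linear.TowerClasses

/-!
# A Suzuki line in `K`: coordinates of the base

`ρ` is the coordinate on `R`, `uc b` that of the translation of `x` by `b` and `wc b` that of the
class of `b` in `Q / R`.  An element of a maximal 2-subgroup outside `B` gives one, `t`, normalising
`B` and `R` and carrying `x` to an inverted element `x b` with `b` outside `R`; `t` carries the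
inverted elements of `x B` to inverted elements.
-/

set_option autoImplicit false
set_option linter.style.haveILetI false
set_option linter.unusedSectionVars false

namespace CfsgLib.LocalEven.OnePointFront.Nonfull

open MulAction CfsgLib.LocalEven.TIEndgame CfsgLib.Involution SuzukiForm

universe u v

variable {G : Type u} {Ω : Type v} [Group G] [MulAction G Ω] {D : Set G} {a : Ω} {x : G}
  {K R Q J B : Subgroup G} {F : Type u} [Field F] {θ : F ≃+* F} {c κ : F} {ρ uc wc : G → F}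

/-- Coordinates of the base of a Suzuki line. -/
structure Coords (D : Set G) (a : Ω) (x : G) (K R Q J B : Subgroup G) (θ : F ≃+* F) (c κ : F)
    (ρ uc wc : G → F) : Prop where
  line : SuzukiLine D a x K R Q J
  base : CurvedBase D a x K R Q J B
  below : Q ≤ K
  char2 : CharP F 2
  finite : Finite F
  card : ∃ r : ℕ, Odd r ∧ 3 ≤ r ∧ Nat.card F = 2 ^ r
  fixed : ∀ y, θ y = y → y = 0 ∨ y = 1
  twist : κ ≠ 0 → ∀ y, θ (θ y) = y ^ 2
  ρ_mul : ∀ r ∈ R, ∀ s ∈ R, ρ (r * s) = ρ r + ρ s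
  ρ_inj : ∀ r ∈ R, ρ r = 0 → r = 1
  ρ_onto : ∀ y, ∃ r ∈ R, ρ r = y
  uc_mul : ∀ b ∈ B, ∀ b' ∈ B, uc (b * b') = uc b + uc b'
  wc_mul : ∀ b ∈ B, ∀ b' ∈ B, wc (b * b') = wc b + wc b'
  onto : ∀ y z, ∃ b ∈ B, uc b = y ∧ wc b = z
  kernel : ∀ b ∈ B, uc b = 0 → wc b = 0 → b ∈ R
  uc_shift : ∀ b ∈ B, uc b = ρ (shift x b)
  sq_mem : ∀ b ∈ B, b * b ∈ R
  sq : ∀ b ∈ B, ρ (b * b) = sqF θ c κ (uc b) (wc b)
  scale : ∀ μ : F, μ ≠ 0 → ∃ g : G, g • a = a ∧ Commute x g ∧
    g ∈ Subgroup.normalizer (B : Set G) ∧ g ∈ Subgroup.normalizer (R : Set G) ∧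
      ∀ b ∈ B, uc (g * b * g⁻¹) = μ * θ μ * uc b ∧ wc (g * b * g⁻¹) = μ * wc b

/-- An element carrying `x` to the inverted element `x b`. -/
structure Coords.Mover (x : G) (K R B : Subgroup G) (t b : G) : Prop where
  mem : t ∈ K
  normB : t ∈ Subgroup.normalizer (B : Set G)
  normR : t ∈ Subgroup.normalizer (R : Set G)
  b_mem : b ∈ B
  conj : t * x * t⁻¹ = x * b

namespace Coords

variable (C : Coords D a x K R Q J B θ c κ ρ uc wc)
include C

theorem x_sq : x * x = 1 := C.base.line.x_sq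

theorem x_inv : x⁻¹ = x := inv_eq_of_mul_eq_one_right C.x_sq

theorem Q_le : Q ≤ B := fun _ hq => C.base.inf_le ⟨C.below hq, hq⟩

theorem R_le : R ≤ B := C.base.line.le.trans C.Q_le

theorem R_comm {r b : G} (hr : r ∈ R) (hb : b ∈ B) : Commute b r :=
  (Subgroup.mem_centralizer_iff.1 (C.base.cent hb) r hr).symm

theorem ρ_one : ρ 1 = 0 := by
  have h := C.ρ_mul 1 (one_mem R) 1 (one_mem R)
  rw [mul_one] at h
  exact left_eq_add.1 h

theorem ρ_eq {r s : G} (hr : r ∈ R) (hs : s ∈ R) (e : ρ r = ρ s) : r = s := by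
  have := C.char2
  have h2 := C.ρ_inj (r * s) (mul_mem hr hs) (by rw [C.ρ_mul r hr s hs, e, CharTwo.add_self_eq_zero])
  rw [eq_inv_of_mul_eq_one_left h2, inv_eq_of_mul_eq_one_right (C.base.line.sq s hs)]

theorem coords_one : uc 1 = 0 ∧ wc 1 = 0 := by
  refine ⟨?_, ?_⟩
  · have h := C.uc_mul 1 (one_mem B) 1 (one_mem B)
    rw [mul_one] at h
    exact left_eq_add.1 h
  · have h := C.wc_mul 1 (one_mem B) 1 (one_mem B)
    rw [mul_one] at h
    exact left_eq_add.1 h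

theorem uc_inv {b : G} (hb : b ∈ B) : uc b⁻¹ = uc b := by
  have := C.char2
  have h := C.uc_mul b hb b⁻¹ (inv_mem hb)
  rw [mul_inv_cancel, C.coords_one.1] at h
  exact (CharTwo.add_eq_zero.1 h.symm).symm

theorem wc_inv {b : G} (hb : b ∈ B) : wc b⁻¹ = wc b := by
  have := C.char2
  have h := C.wc_mul b hb b⁻¹ (inv_mem hb)
  rw [mul_inv_cancel, C.coords_one.2] at h
  exact (CharTwo.add_eq_zero.1 h.symm).symm

theorem uc_Q {q : G} (hq : q ∈ Q) : uc q = 0 := by
  rw [C.uc_shift q (C.Q_le hq), (shift_eq_one C.x_sq).2 (C.base.line.comm q hq), C.ρ_one]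

theorem mem_Q {b : G} (hb : b ∈ B) (h : uc b = 0) : b ∈ Q := by
  refine (C.base.fix b hb ((shift_eq_one C.x_sq).1 ?_)).2
  exact C.ρ_inj _ (C.base.shift_mem b hb) (by rw [← C.uc_shift b hb, h])

theorem coords_R {r : G} (hr : r ∈ R) : uc r = 0 ∧ wc r = 0 := by
  have := C.char2
  refine ⟨C.uc_Q (C.base.line.le hr), ?_⟩
  obtain ⟨q, hq, rfl⟩ := C.base.line.sq_onto r hr
  rw [C.wc_mul q (C.Q_le hq) q (C.Q_le hq), CharTwo.add_self_eq_zero]

/-- Two elements with the same coordinates differ by an element of `R`. -/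
theorem mem_of_eq {b b' : G} (hb : b ∈ B) (hb' : b' ∈ B) (hu : uc b = uc b') (hw : wc b = wc b') :
    b⁻¹ * b' ∈ R := by
  have := C.char2
  refine C.kernel _ (mul_mem (inv_mem hb) hb') ?_ ?_
  · rw [C.uc_mul _ (inv_mem hb) _ hb', C.uc_inv hb, hu, CharTwo.add_self_eq_zero]
  · rw [C.wc_mul _ (inv_mem hb) _ hb', C.wc_inv hb, hw, CharTwo.add_self_eq_zero]

theorem squareGroup : SquareGroup R B where
  le := C.R_le
  sq := C.base.line.sq
  sq_mem := C.sq_mem
  central _ hb _ hr := C.R_comm hr hb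

theorem pol_eq {b b' : G} (hb : b ∈ B) (hb' : b' ∈ B) :
    ρ (pol b b') = polF θ κ (uc b) (wc b) (uc b') (wc b') := by
  have := C.char2
  have h := congrArg ρ (C.squareGroup.mul_sq hb hb')
  rw [C.sq _ (mul_mem hb hb'), C.uc_mul b hb b' hb', C.wc_mul b hb b' hb', sqF_add,
    C.ρ_mul _ (mul_mem (C.sq_mem b hb) (C.squareGroup.pol_mem hb hb')) _ (C.sq_mem b' hb'),
    C.ρ_mul _ (C.sq_mem b hb) _ (C.squareGroup.pol_mem hb hb'), C.sq b hb, C.sq b' hb'] at h
  linear_combination -h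

theorem commute_iff {b b' : G} (hb : b ∈ B) (hb' : b' ∈ B) :
    Commute b b' ↔ polF θ κ (uc b) (wc b) (uc b') (wc b') = 0 := by
  rw [← C.pol_eq hb hb']
  constructor
  · intro hc
    rw [show pol b b' = 1 by rw [pol, hc.eq]; group, C.ρ_one]
  · intro h0
    exact mul_inv_eq_iff_eq_mul.1 (mul_inv_eq_one.1 (C.ρ_inj _ (C.squareGroup.pol_mem hb hb') h0))

theorem conj_x {b : G} : x * b * x = shift x b * b := by simp only [shift]; group

theorem conj_x_mem {b : G} (hb : b ∈ B) : x * b * x ∈ B := by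
  rw [C.conj_x]; exact mul_mem (C.R_le (C.base.shift_mem b hb)) hb

theorem xb_sq {b : G} : (x * b) * (x * b) = shift x b * (b * b) := by simp only [shift]; group

/-- The inverted elements. -/
theorem inv_iff {b : G} (hb : b ∈ B) :
    (x * b) * (x * b) = 1 ↔ sqF θ c κ (uc b) (wc b) = uc b := by
  have := C.char2
  rw [C.xb_sq, ← C.sq b hb, C.uc_shift b hb]
  constructor
  · intro h
    rw [← C.ρ_eq (C.sq_mem b hb) (C.base.shift_mem b hb) ?_]
    rw [eq_inv_of_mul_eq_one_right h, inv_eq_of_mul_eq_one_right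
      (C.base.line.sq _ (C.base.shift_mem b hb))]
  · intro h
    rw [C.ρ_eq (C.sq_mem b hb) (C.base.shift_mem b hb) h, C.base.line.sq _ (C.base.shift_mem b hb)]

/-- `ρ` under the torus. -/
theorem ρ_conj {g : G} {μ : F} (hgx : Commute x g) (hgB : g ∈ Subgroup.normalizer (B : Set G))
    (hg : ∀ b ∈ B, uc (g * b * g⁻¹) = μ * θ μ * uc b) {r : G} (hr : r ∈ R) :
    ρ (g * r * g⁻¹) = μ * θ μ * ρ r := by
  obtain ⟨b, hb, rfl⟩ := C.base.onto r hr
  rw [← shift_conj hgx, ← C.uc_shift b hb, ← hg b hb,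
    C.uc_shift _ ((Subgroup.mem_normalizer_iff.1 hgB b).1 hb)]

/-- The torus carries movers to movers. -/
theorem mover_conj {t b g : G} (M : Mover x K R B t b) (hga : g • a = a) (hgx : Commute x g)
    (hgB : g ∈ Subgroup.normalizer (B : Set G)) (hgR : g ∈ Subgroup.normalizer (R : Set G)) :
    Mover x K R B (g * t * g⁻¹) (g * b * g⁻¹) where
  mem := C.base.line.conj_K hga M.mem
  normB := mul_mem (mul_mem hgB M.normB) (inv_mem hgB)
  normR := mul_mem (mul_mem hgR M.normR) (inv_mem hgR)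
  b_mem := (Subgroup.mem_normalizer_iff.1 hgB b).1 M.b_mem
  conj := by
    calc g * t * g⁻¹ * x * (g * t * g⁻¹)⁻¹ = g * (t * (g⁻¹ * (x * g)) * t⁻¹) * g⁻¹ := by group
      _ = g * (x * b) * g⁻¹ := by rw [hgx.eq, inv_mul_cancel_left, M.conj]
      _ = x * (g * b * g⁻¹) := by rw [← mul_assoc, ← hgx.eq]; group

theorem mover_inv {t b : G} (M : Mover x K R B t b) : (x * b) * (x * b) = 1 := by
  rw [← M.conj, show t * x * t⁻¹ * (t * x * t⁻¹) = t * (x * x) * t⁻¹ by group, C.x_sq]; group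

/-- An inverted element seen from `x b` comes from one seen from `x`. -/
theorem exists_pullback {t b y : G} (M : Mover x K R B t b) (hy : y ∈ B)
    (hyi : (x * y) * (x * y) = 1) :
    ∃ z ∈ B, t * z * t⁻¹ = b⁻¹ * y ∧ (x * z) * (x * z) = 1 := by
  refine ⟨t⁻¹ * (b⁻¹ * y) * t, ?_, by group, ?_⟩
  · have h := (Subgroup.mem_normalizer_iff.1 (inv_mem M.normB) _).1 (mul_mem (inv_mem M.b_mem) hy)
    rwa [inv_inv] at h
  · have e : x * (t⁻¹ * (b⁻¹ * y) * t) = t⁻¹ * (x * y) * t := by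
      calc x * (t⁻¹ * (b⁻¹ * y) * t) = t⁻¹ * (t * x * t⁻¹) * (b⁻¹ * y) * t := by group
        _ = _ := by rw [M.conj]; group
    rw [e, show t⁻¹ * (x * y) * t * (t⁻¹ * (x * y) * t) = t⁻¹ * ((x * y) * (x * y)) * t by group, hyi]
    group

/-- Two inverted elements with equal squares seen from `x b` give two with equal translation seen
from `x`, in different cosets of `R` if they were. -/
theorem pullback_uc {t b y y' z z' : G} (M : Mover x K R B t b) (hy : y ∈ B) (hy' : y' ∈ B)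
    (hz : z ∈ B) (hz' : z' ∈ B) (hzy : t * z * t⁻¹ = b⁻¹ * y) (hzy' : t * z' * t⁻¹ = b⁻¹ * y')
    (hi : (x * z) * (x * z) = 1) (hi' : (x * z') * (x * z') = 1)
    (he : sqF θ c κ (uc b + uc y) (wc b + wc y) = sqF θ c κ (uc b + uc y') (wc b + wc y')) :
    uc z = uc z' := by
  have := C.char2
  have hb := inv_mem M.b_mem
  rw [← (C.inv_iff hz).1 hi, ← (C.inv_iff hz').1 hi', ← C.sq z hz, ← C.sq z' hz']
  have h1 : (b⁻¹ * y) * (b⁻¹ * y) = (b⁻¹ * y') * (b⁻¹ * y') := by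
    refine C.ρ_eq (C.sq_mem _ (mul_mem hb hy)) (C.sq_mem _ (mul_mem hb hy')) ?_
    rw [C.sq _ (mul_mem hb hy), C.sq _ (mul_mem hb hy'), C.uc_mul _ hb y hy, C.uc_mul _ hb y' hy',
      C.wc_mul _ hb y hy, C.wc_mul _ hb y' hy', C.uc_inv M.b_mem, C.wc_inv M.b_mem]
    exact he
  rw [← hzy, ← hzy'] at h1
  refine congrArg ρ (mul_left_cancel (a := t) (mul_right_cancel (b := t⁻¹) ?_))
  calc t * (z * z) * t⁻¹ = t * z * t⁻¹ * (t * z * t⁻¹) := by group
    _ = _ := by rw [h1]; group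

/-- The pullback is injective modulo `R`. -/
theorem pullback_inj {t b y y' z z' : G} (M : Mover x K R B t b) (hy : y ∈ B) (hy' : y' ∈ B)
    (hz : z ∈ B) (hz' : z' ∈ B) (hzy : t * z * t⁻¹ = b⁻¹ * y) (hzy' : t * z' * t⁻¹ = b⁻¹ * y')
    (hu : uc z = uc z') (hw : wc z = wc z') : uc y = uc y' ∧ wc y = wc y' := by
  have h := (Subgroup.mem_normalizer_iff.1 M.normR _).1 (C.mem_of_eq hz hz' hu hw)
  rw [show t * (z⁻¹ * z') * t⁻¹ = (t * z * t⁻¹)⁻¹ * (t * z' * t⁻¹) by group, hzy, hzy',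
    show (b⁻¹ * y)⁻¹ * (b⁻¹ * y') = y⁻¹ * y' by group] at h
  obtain ⟨h1, h2⟩ := C.coords_R h
  have := C.char2
  rw [C.uc_mul _ (inv_mem hy) y' hy', C.uc_inv hy, CharTwo.add_eq_zero] at h1
  rw [C.wc_mul _ (inv_mem hy) y' hy', C.wc_inv hy, CharTwo.add_eq_zero] at h2
  exact ⟨h1, h2⟩

variable [Finite G] (h : ClosedSetting D Ω) {S : Subgroup G} (hS : IsTopTwo S a) (hxS : x ∈ S)
  (hBS : B ≤ S)
include h hS hxS hBS

/-- An element of the point group in `S` moving `x` inside `x R` lies in `B`. -/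
theorem mem_of_shift {t : G} (ht : t ∈ S ⊓ K) (htR : t ∈ Subgroup.normalizer (R : Set G))
    (hs : shift x t ∈ R) : t ∈ B := by
  set P := (moveGroup x K R C.x_sq) ⊓ S
  have hBP : B ≤ P := fun b hb => Subgroup.mem_inf.2 ⟨mem_moveGroup.2 ⟨C.base.le hb,
    Subgroup.centralizer_le_normalizer _ (C.base.cent hb), C.base.shift_mem b hb⟩, hBS hb⟩
  have e := C.base.maximal P (hS.1.to_le inf_le_right) hBP fun p hp =>
    ⟨(mem_moveGroup.1 hp.1).1, (mem_moveGroup.1 hp.1).2.2⟩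
  exact e ▸ Subgroup.mem_inf.2 ⟨mem_moveGroup.2 ⟨ht.2, htR, hs⟩, ht.1⟩

/-- A larger 2-group gives a mover. -/
theorem exists_mover (hlt : ¬ S ⊓ K ≤ B) :
    ∃ t ∈ S ⊓ K, ∃ b, b ∉ R ∧ Mover x K R B t b := by
  obtain ⟨t, ht, htB, htn, htd⟩ := exists_growth (K := K) (A := B) C.x_sq hxS hS.1
    (fun k hk => by have := C.base.line.conj_K C.base.line.fix hk; rwa [C.x_inv] at this)
    (C.base.line.x_notMem h) (le_inf hBS C.base.le) (fun _ hv => C.conj_x_mem hv) hlt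
  have hconj : t * x * t⁻¹ = x * disp x t := by
    calc t * x * t⁻¹ = (x * x) * (t * x * t⁻¹) := by rw [C.x_sq, one_mul]
      _ = _ := by simp only [disp]; group
  set b := disp x t with hb
  have hi : (x * b) * (x * b) = 1 := by
    rw [← hconj, show t * x * t⁻¹ * (t * x * t⁻¹) = t * (x * x) * t⁻¹ by group, C.x_sq]; group
  have htR : t ∈ Subgroup.normalizer (R : Set G) := by
    refine mem_normalizer_of_conj_mem fun r hr => ?_
    obtain ⟨b₁, hb₁, rfl⟩ := C.base.onto r hr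
    have hb₂ := (Subgroup.mem_normalizer_iff.1 htn b₁).1 hb₁
    set b₂ := t * b₁ * t⁻¹ with hb₂'
    have hxbx : x * b * x = b⁻¹ := eq_inv_of_mul_eq_one_left (by
      rwa [show x * b * x * b = x * b * (x * b) by group])
    rw [show t * shift x b₁ * t⁻¹ = (t * x * t⁻¹) * (b₂ * (t * x * t⁻¹) * b₂⁻¹) by
      rw [hb₂']; simp only [shift]; group, hconj,
      show x * b * (b₂ * (x * b) * b₂⁻¹) = (x * b * x) * (x * (b₂ * x * b₂⁻¹)) * (b₂ * b * b₂⁻¹) by
        calc x * b * (b₂ * (x * b) * b₂⁻¹) = x * b * 1 * b₂ * x * b * b₂⁻¹ := by group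
          _ = x * b * (x * x) * b₂ * x * b * b₂⁻¹ := by rw [C.x_sq]
          _ = _ := by group, hxbx]
    show b⁻¹ * shift x b₂ * (b₂ * b * b₂⁻¹) ∈ R
    have hs := C.base.shift_mem b₂ hb₂
    rw [(C.R_comm hs (inv_mem htd)).eq, mul_assoc,
      show b⁻¹ * (b₂ * b * b₂⁻¹) = pol b⁻¹ b₂ by simp only [pol]; group]
    exact mul_mem hs (C.squareGroup.pol_mem (inv_mem htd) hb₂)
  refine ⟨t, ht, b, fun hbR => htB (C.mem_of_shift h hS hxS hBS ht htR ?_), ⟨ht.2, htn, htR, htd, hconj⟩⟩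
  show shift x t ∈ R
  rw [show shift x t = b by rw [hb]; simp only [shift, disp]; group]
  exact hbR

end Coords

end CfsgLib.LocalEven.OnePointFront.Nonfull
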