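import Cfsg.Agent.Lib.LocalEven.OnePointFront.Nonfull.Curved.SuzukiForm

/-!
# Generation by squares over the field with eight elements

The field is identified with bit triples `a + b α + c α²`, `α³ = α + 1`, where the statement is
checked by evaluation.
-/

set_option autoImplicit false
set_option linter.unusedSectionVars false

namespace CfsgLib.LocalEven.OnePointFront.Nonfull.SuzukiForm.Eight

/-- Bit triples. -/
abbrev B3 := Bool × Bool × Bool

/-- Sum. -/
def add (x y : B3) : B3 := (xor x.1 y.1, xor x.2.1 y.2.1, xor x.2.2 y.2.2)

/-- Zero. -/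
def zero : B3 := (false, false, false)

/-- One. -/
def one : B3 := (true, false, false)

/-- The root. -/
def root : B3 := (false, true, false)

/-- Product modulo `α³ + α + 1`. -/
def mul (x y : B3) : B3 :=
  let t3 := xor (x.2.1 && y.2.2) (x.2.2 && y.2.1)
  let t4 := x.2.2 && y.2.2
  (xor (x.1 && y.1) t3,
    xor (xor (x.1 && y.2.1) (x.2.1 && y.1)) (xor t3 t4),
    xor (xor (xor (x.1 && y.2.2) (x.2.1 && y.2.1)) (x.2.2 && y.1)) t4)

/-- Square, the inverse of `θ`. -/
def sqr (x : B3) : B3 := mul x x

/-- Fourth power, the map `θ`. -/
def pow4 (x : B3) : B3 := sqr (sqr x)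

/-- The square map. -/
def sq (c k u w : B3) : B3 := add (add (mul c u) (mul w (pow4 w))) (mul k (sqr (mul u w)))

/-- The commutator. -/
def pol (k u w u' w' : B3) : B3 :=
  add (add (mul k (sqr (mul u w'))) (mul k (sqr (mul u' w))))
    (add (mul w (pow4 w')) (mul w' (pow4 w)))

/-- All triples. -/
def all8 : List B3 :=
  [zero, one, root, (true, true, false), (false, false, true), (true, false, true),
    (false, true, true), (true, true, true)]

/-- All pairs of triples. -/
def pairs : List (B3 × B3) := all8.flatMap fun u => all8.map fun w => (u, w)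

/-- The squares and the shifted squares of the two families. -/
def gens (c k s : B3) : List B3 :=
  (pairs.filter fun p => pol k s one p.1 p.2 == zero).map (fun p => sq c k p.1 p.2) ++
    (pairs.filter fun p => pol k s one p.1 p.2 == s).map fun p => add (sq c k p.1 p.2) p.1

/-- The group generated by a list. -/
def span : List B3 → List B3
  | [] => [zero]
  | x :: l => if (span l).contains x then span l else span l ++ (span l).map (add x)

/-- The statement, as a Boolean. -/
def test (c k s : B3) : Bool :=
  k == zero || !(sq c k s one == zero) ||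
    (pairs.any fun p => pol k s one p.1 p.2 == s && sq c k p.1 p.2 == p.1) ||
    all8.all fun y => (span (gens c k s)).contains y

theorem test_all : (all8.all fun c => all8.all fun k => all8.all fun s => test c k s) = true := by
  decide

theorem mem_all8 (x : B3) : x ∈ all8 := by revert x; decide

theorem test_eq (c k s : B3) : test c k s = true := by
  have h := test_all
  simp only [List.all_eq_true] at h
  exact h c (mem_all8 c) k (mem_all8 k) s (mem_all8 s)

theorem exists_inv : ∀ x : B3, x ≠ zero → ∃ y, mul x y = one := by decide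

universe u

variable {F : Type u} [Field F] (α : F)

/-- A bit in the field. -/
def bit (b : Bool) : F := bif b then 1 else 0

/-- The value of a triple. -/
def val (x : B3) : F := bit x.1 + bit x.2.1 * α + bit x.2.2 * α ^ 2

omit α in
theorem bit_and (a b : Bool) : (bit (a && b) : F) = bit a * bit b := by
  cases a <;> cases b <;> simp [bit]

theorem val_zero : val α zero = 0 := by simp [val, bit, zero]

theorem val_one : val α one = 1 := by simp [val, bit, one]

theorem val_root : val α root = α := by simp [val, bit, root]

variable [CharP F 2]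

omit α in
theorem bit_xor (a b : Bool) : (bit (xor a b) : F) = bit a + bit b := by
  cases a <;> cases b <;> simp [bit, CharTwo.add_self_eq_zero]

theorem val_add (x y : B3) : val α (add x y) = val α x + val α y := by
  simp only [val, add, bit_xor]; ring

variable {α} (hα : α ^ 3 + α + 1 = 0)
include hα

theorem val_mul (x y : B3) : val α (mul x y) = val α x * val α y := by
  simp only [val, mul, bit_xor, bit_and]
  linear_combination (-(bit x.2.1 * bit y.2.2 + bit x.2.2 * bit y.2.1 + bit x.2.2 * bit y.2.2 * α)) * hα
    + (bit x.2.1 * bit y.2.2 + bit x.2.2 * bit y.2.1 + bit x.2.2 * bit y.2.2 * α) * (1 + α) *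
      (CharTwo.two_eq_zero : (2 : F) = 0)

theorem val_sqr (x : B3) : val α (sqr x) = val α x ^ 2 := by rw [sqr, val_mul hα, pow_two]

theorem val_pow4 (x : B3) : val α (pow4 x) = val α x ^ 4 := by
  rw [pow4, val_sqr hα, val_sqr hα, ← pow_mul]

theorem val_injective : Function.Injective (val α) := by
  intro x y h
  by_contra hne
  have hd : add x y ≠ zero := by
    have key : ∀ a b : B3, a ≠ b → add a b ≠ zero := by decide
    exact key x y hne
  obtain ⟨z, hz⟩ := exists_inv _ hd
  have h1 := val_mul hα (add x y) z
  rw [hz, val_one, val_add, h, CharTwo.add_self_eq_zero, zero_mul] at h1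
  exact one_ne_zero h1

theorem val_surjective (h8 : ∀ y : F, y ^ 8 = y) : Function.Surjective (val α) := by
  intro y
  have h2 : (2 : F) = 0 := CharTwo.two_eq_zero
  have hp : y * (y + 1) * (y ^ 3 + y + 1) * (y ^ 3 + y ^ 2 + 1) = 0 := by
    linear_combination h8 y + (y + y ^ 2 + y ^ 3 + 2 * y ^ 4 + 2 * y ^ 5 + y ^ 6 + y ^ 7) * h2
  have hv : ∀ (a : B3), y = val α a → ∃ b, val α b = y := fun a e => ⟨a, e.symm⟩
  rcases mul_eq_zero.1 hp with hp | hp
  · rcases mul_eq_zero.1 hp with hp | hp
    · rcases mul_eq_zero.1 hp with hp | hp
      · exact hv zero (by rw [hp, val_zero])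
      · exact hv one (by rw [val_one]; exact CharTwo.add_eq_zero.1 hp)
    · have e : (y + α) * (y + α ^ 2) * (y + (α + α ^ 2)) = 0 := by
        linear_combination hp + (-1 + α + α ^ 2 + 3 * y + y * α) * hα +
          (-α ^ 2 - 2 * y - 2 * y * α + y ^ 2 * α + y ^ 2 * α ^ 2) * h2
      rcases mul_eq_zero.1 e with e | e
      · rcases mul_eq_zero.1 e with e | e
        · exact hv root (by rw [val_root]; exact CharTwo.add_eq_zero.1 e)
        · exact hv (false, false, true) (by
            rw [CharTwo.add_eq_zero.1 e]; simp [val, bit])
      · exact hv (false, true, true) (by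
          rw [CharTwo.add_eq_zero.1 e]; simp [val, bit])
  · have e : (y + (α + 1)) * (y + (α ^ 2 + 1)) * (y + (α ^ 2 + α + 1)) = 0 := by
      linear_combination hp + (2 + 2 * α + α ^ 2 + 3 * y + y * α) * hα +
        (-1 - α + 2 * y * α ^ 2 + y ^ 2 + y ^ 2 * α + y ^ 2 * α ^ 2) * h2
    rcases mul_eq_zero.1 e with e | e
    · rcases mul_eq_zero.1 e with e | e
      · exact hv (true, true, false) (by rw [CharTwo.add_eq_zero.1 e]; simp [val, bit, add_comm])
      · exact hv (true, false, true) (by rw [CharTwo.add_eq_zero.1 e]; simp [val, bit, add_comm])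
    · exact hv (true, true, true) (by rw [CharTwo.add_eq_zero.1 e]; simp [val, bit]; ring)

theorem span_mem {H : AddSubgroup F} :
    ∀ l : List B3, (∀ x ∈ l, val α x ∈ H) → ∀ y ∈ span l, val α y ∈ H := by
  intro l
  induction l with
  | nil => intro _ y hy; rw [List.mem_singleton.1 hy, val_zero]; exact zero_mem H
  | cons x l ih =>
    intro hl y hy
    have ih' := ih fun z hz => hl z (List.mem_cons_of_mem _ hz)
    simp only [span] at hy
    split at hy
    · exact ih' y hy
    · rcases List.mem_append.1 hy with hy | hy
      · exact ih' y hy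
      · obtain ⟨z, hz, rfl⟩ := List.mem_map.1 hy
        rw [val_add]
        exact add_mem (hl x List.mem_cons_self) (ih' z hz)

end CfsgLib.LocalEven.OnePointFront.Nonfull.SuzukiForm.Eight
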