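import Cfsg.Agent.Lib.LocalEven.OnePointFront.Nonfull.Curved.SuzukiForm
import Cfsg.Agent.Lib.LocalEven.OnePointFront.Nonfull.Curved.SuzukiGenerationSmall

/-!
# The squares of a centraliser in the base generate

For a solution `(s, 1)` of square zero the squares of the elements commuting with it and the shifted
squares of those moved to `x` generate everything, or two solutions meet.  Over at least 32 elements
the polar values of the first family alone, Moore determinants, generate; over eight elements this is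
checked by evaluation.
-/

set_option autoImplicit false
set_option linter.style.haveILetI false
set_option linter.unusedSectionVars false

namespace CfsgLib.LocalEven.OnePointFront.Nonfull.SuzukiForm

universe u

variable {F : Type u} [Field F] [Finite F]

/-- A field on which `y ↦ y ^ n` is the identity has at most `n` elements. -/
theorem card_le_of_pow_eq {n : ℕ} (hn : 1 < n) (h : ∀ y : F, y ^ n = y) : Nat.card F ≤ n := by
  classical
  haveI : Fintype F := Fintype.ofFinite F
  open Polynomial in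
  have hd : (X ^ n - X : Polynomial F).natDegree = n := FiniteField.X_pow_card_sub_X_natDegree_eq F hn
  open Polynomial in
  have hle : (Finset.univ : Finset F).val ≤ (X ^ n - X : Polynomial F).roots := by
    refine Multiset.le_iff_subset Finset.univ.nodup |>.2 fun y _ => ?_
    rw [mem_roots (FiniteField.X_pow_card_sub_X_ne_zero F hn)]
    simp [h y]
  have := (Multiset.card_le_card hle).trans (Polynomial.card_roots' _)
  rw [hd] at this
  simpa [Nat.card_eq_fintype_card] using this

variable [CharP F 2] (θ : F ≃+* F)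

/-- The trace to the prime field is invariant under automorphisms. -/
theorem trace_map (y : F) :
    letI := ZMod.algebra F 2
    Algebra.trace (ZMod 2) F (θ y) = Algebra.trace (ZMod 2) F y := by
  letI := ZMod.algebra F 2
  exact Algebra.trace_eq_of_algEquiv (AlgEquiv.ofRingEquiv (f := θ) fun r =>
    RingHom.congr_fun (RingHom.ext_zmod ((θ : F →+* F).comp (algebraMap (ZMod 2) F))
      (algebraMap (ZMod 2) F)) r) y

variable (hθ : ∀ y, θ (θ y) = y ^ 2)
include hθ

/-- Moore determinants generate over more than eight elements. -/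
theorem moore_top (h4 : ∃ y : F, y ^ 4 ≠ y) (h8 : ∃ y : F, y ^ 8 ≠ y) (H : AddSubgroup F)
    (hP : ∀ v w, v ^ 2 * w + v * w ^ 2 + v * θ w + w * θ v + v ^ 2 * θ w + w ^ 2 * θ v ∈ H) :
    H = ⊤ := by
  letI := ZMod.algebra F 2
  by_contra hne
  set S : Submodule (ZMod 2) F := AddSubgroup.toZModSubmodule 2 H with hS
  have hlt : S < ⊤ := lt_top_iff_ne_top.2 fun e => hne (eq_top_iff.2 fun y _ => by
    have : y ∈ S := e ▸ Submodule.mem_top
    exact this)
  obtain ⟨f, hf0, hf⟩ := Submodule.exists_le_ker_of_lt_top S hlt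
  have hnd := traceForm_nondegenerate (ZMod 2) F
  set l : F := ((Algebra.traceForm (ZMod 2) F).toDual hnd).symm f with hl
  set T := Algebra.trace (ZMod 2) F with hT
  have hlf : ∀ y, T (l * y) = f y := fun y => by
    have := LinearMap.BilinForm.apply_toDual_symm_apply (hB := hnd) f y
    rwa [Algebra.traceForm_apply] at this
  have hzero : ∀ y ∈ H, T (l * y) = 0 := fun y hy => (hlf y).trans (hf hy)
  have hl0 : l = 0 := by
    -- move all automorphisms to the other factor
    set ψ := θ.symm
    have hψ : ∀ y, θ (ψ y) = y := θ.apply_symm_apply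
    have ht1 : ∀ z w, T (z * θ w) = T (ψ z * w) := fun z w => by
      have h := trace_map θ (ψ z * w)
      rwa [map_mul θ, hψ] at h
    have ht2 : ∀ z w, T (z * w ^ 2) = T (ψ (ψ z) * w) := fun z w => by
      rw [← ht1 (ψ z) w, ← ht1 z (θ w), hθ]
    have hE : ∀ v, l * (v ^ 2 + θ v) + ψ (ψ (l * (v + θ v))) + ψ (l * (v + v ^ 2)) = 0 := fun v =>
      hnd.1 _ fun w => by
        rw [Algebra.traceForm_apply, add_mul, add_mul, map_add, map_add, ← hT, ← ht2, ← ht1,
          ← map_add, ← map_add]
        rw [← hzero _ (hP v w)]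
        congr 1; ring
    -- squared: a relation between the identity and three other homomorphisms
    have hR : ∀ v, l * v + l ^ 2 * v ^ 4 + (l ^ 2 + θ l) * θ v ^ 2 + (l + θ l) * θ v = 0 := fun v => by
      have e : θ (θ (l * (v ^ 2 + θ v) + ψ (ψ (l * (v + θ v))) + ψ (l * (v + v ^ 2)))) = 0 := by
        rw [hE v, map_zero, map_zero]
      rw [map_add, map_add, map_add, map_add, hψ (ψ _), hψ, hψ, hθ, map_mul, map_add, map_pow] at e
      linear_combination e - (l ^ 2 * v ^ 2 * θ v) * (CharTwo.two_eq_zero : (2 : F) = 0)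
    obtain ⟨g, -, hg⟩ := Shear.exists_gen (F := F)
    obtain ⟨y4, hy4⟩ := h4
    obtain ⟨y8, hy8⟩ := h8
    have hpow : ∀ {n : ℕ}, g ^ n = g → ∀ y : F, y ≠ 0 → y ^ n = y := fun {n} e y hy => by
      obtain ⟨k, rfl⟩ := hg y hy
      rw [← pow_mul, mul_comm, pow_mul, e]
    have hy4' : y4 ≠ 0 := fun e => hy4 (by rw [e]; simp)
    have hy8' : y8 ≠ 0 := fun e => hy8 (by rw [e]; simp)
    have n1 : g - g ^ 4 ≠ 0 := fun e => hy4 (hpow (sub_eq_zero.1 e).symm y4 hy4')
    have n2 : g - θ g ^ 2 ≠ 0 := fun e => hy8 (hpow (n := 8) (by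
      have e1 : θ g ^ 2 = g := (sub_eq_zero.1 e).symm
      have e2 := congrArg θ e1
      rw [map_pow, hθ] at e2
      calc g ^ 8 = ((g ^ 2) ^ 2) ^ 2 := by ring
        _ = θ g ^ 2 := by rw [e2]
        _ = g := e1) y8 hy8')
    have n3 : g - θ g ≠ 0 := fun e => by
      have e1 : θ g = g := (sub_eq_zero.1 e).symm
      have e2 : g ^ 2 = g := by rw [← hθ g, e1, e1]
      exact hy4 (hpow (n := 4) (by rw [show g ^ 4 = (g ^ 2) ^ 2 by ring, e2, e2]) y4 hy4')
    have h0 := hR 1
    have h1 := hR g
    have h2 := hR (g ^ 2)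
    have h3 := hR (g ^ 3)
    simp only [map_one, map_pow] at h0 h1 h2 h3
    have key : l * ((g - g ^ 4) * (g - θ g ^ 2) * (g - θ g)) = 0 := by
      linear_combination h3 - (g ^ 4 + θ g ^ 2 + θ g) * h2 +
        (g ^ 4 * θ g ^ 2 + g ^ 4 * θ g + θ g ^ 2 * θ g) * h1 - g ^ 4 * θ g ^ 2 * θ g * h0
    exact (mul_eq_zero.1 key).resolve_right (mul_ne_zero (mul_ne_zero n1 n2) n3)
  exact hf0 (LinearMap.ext fun y => by rw [← hlf y, hl0, zero_mul, map_zero, LinearMap.zero_apply])

/-- The case of eight elements. -/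
theorem generation_eight (h8 : ∀ y : F, y ^ 8 = y) (hcard : 8 ≤ Nat.card F) {c κ s : F}
    (hk : κ ≠ 0) (hd : sqF θ c κ s 1 = 0) :
    (∃ u w, polF θ κ s 1 u w = s ∧ sqF θ c κ u w = u) ∨
      ∀ H : AddSubgroup F, (∀ u w, polF θ κ s 1 u w = 0 → sqF θ c κ u w ∈ H) →
        (∀ u w, polF θ κ s 1 u w = s → sqF θ c κ u w + u ∈ H) → H = ⊤ := by
  have h2 : (2 : F) = 0 := CharTwo.two_eq_zero
  obtain ⟨α, hα⟩ : ∃ α : F, α ^ 3 + α + 1 = 0 := by
    by_contra hcon
    push Not at hcon
    obtain ⟨y, hy⟩ : ∃ y : F, y ^ 2 ≠ y := by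
      by_contra hall
      push Not at hall
      have := card_le_of_pow_eq (by norm_num) hall
      omega
    have hy0 : y ≠ 0 := fun e => hy (by rw [e]; simp)
    have hy1 : y + 1 ≠ 0 := fun e => hy (by rw [CharTwo.add_eq_zero.1 e]; simp)
    have hp : y * (y + 1) * (y ^ 3 + y + 1) * (y ^ 3 + y ^ 2 + 1) = 0 := by
      linear_combination h8 y +
        (y + y ^ 2 + y ^ 3 + 2 * y ^ 4 + 2 * y ^ 5 + y ^ 6 + y ^ 7) * h2
    rcases mul_eq_zero.1 hp with hp | hp
    · exact hcon y ((mul_eq_zero.1 hp).resolve_left (mul_ne_zero hy0 hy1))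
    · refine hcon y⁻¹ ?_
      field_simp
      linear_combination hp
  -- the automorphism is the fourth power, its inverse the square
  have h4 : θ α = α ^ 4 := by
    obtain ⟨e, he⟩ := Eight.val_surjective hα h8 (θ α)
    have e3 : Eight.val α (Eight.add (Eight.add (Eight.mul e (Eight.sqr e)) e) Eight.one) =
        Eight.val α Eight.zero := by
      rw [Eight.val_add, Eight.val_add, Eight.val_mul hα, Eight.val_sqr hα, he, Eight.val_one,
        Eight.val_zero, ← map_pow, ← map_mul, ← map_one θ, ← map_add, ← map_add, ← pow_succ',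
        hα, map_zero]
    have e2 : θ (θ α) = Eight.val α (Eight.sqr Eight.root) := by
      rw [hθ, Eight.val_sqr hα, Eight.val_root]
    have e1 : θ (Eight.val α e) = Eight.val α (Eight.add (Eight.add (e.1, false, false)
        (Eight.mul (e.2.1, false, false) e)) (Eight.mul (e.2.2, false, false) (Eight.sqr e))) := by
      have hb : ∀ b : Bool, θ (Eight.bit b) = Eight.bit b := fun b => by cases b <;> simp [Eight.bit]
      rw [Eight.val_add, Eight.val_add, Eight.val_mul hα, Eight.val_mul hα, Eight.val_sqr hα]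
      have hbv : ∀ b : Bool, Eight.val α (b, false, false) = Eight.bit b := fun b => by
        simp [Eight.val, Eight.bit]
      rw [hbv, hbv, hbv, he]
      conv_lhs => rw [← he]
      simp only [Eight.val, map_add, map_mul, map_pow, hb]
    rw [he, e2] at e1
    have key : ∀ e : Eight.B3, Eight.add (Eight.add (Eight.mul e (Eight.sqr e)) e) Eight.one = Eight.zero →
        Eight.sqr Eight.root = Eight.add (Eight.add (e.1, false, false)
          (Eight.mul (e.2.1, false, false) e)) (Eight.mul (e.2.2, false, false) (Eight.sqr e)) →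
        e = Eight.pow4 Eight.root := by decide
    rw [← he, key e (Eight.val_injective hα e3) (Eight.val_injective hα e1), Eight.val_pow4 hα,
      Eight.val_root]
  have hθ4 : ∀ y, θ y = y ^ 4 := fun y => by
    obtain ⟨b, rfl⟩ := Eight.val_surjective hα h8 y
    have hb : ∀ b : Bool, θ (Eight.bit b) = Eight.bit b := fun b => by cases b <;> simp [Eight.bit]
    have hb2 : ∀ b : Bool, (Eight.bit b : F) ^ 4 = Eight.bit b := fun b => by
      cases b <;> simp [Eight.bit]
    have hadd : ∀ p q : F, (p + q) ^ 4 = p ^ 4 + q ^ 4 := fun p q => by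
      rw [show 4 = 2 * 2 from rfl, pow_mul, CharTwo.add_sq, CharTwo.add_sq, ← pow_mul, ← pow_mul]
    simp only [Eight.val, map_add, map_mul, map_pow, hb, h4, hadd, mul_pow, hb2, ← pow_mul]
  have hψ : ∀ y, θ.symm y = y ^ 2 := fun y => θ.injective (by
    rw [RingEquiv.apply_symm_apply, hθ4, ← pow_mul, h8])
  obtain ⟨c', rfl⟩ := Eight.val_surjective hα h8 c
  obtain ⟨k', rfl⟩ := Eight.val_surjective hα h8 κ
  obtain ⟨s', rfl⟩ := Eight.val_surjective hα h8 s
  have hsq : ∀ u w, Eight.val α (Eight.sq c' k' u w) =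
      sqF θ (Eight.val α c') (Eight.val α k') (Eight.val α u) (Eight.val α w) := fun u w => by
    simp only [Eight.sq, sqF, Eight.val_add, Eight.val_mul hα, Eight.val_pow4 hα, Eight.val_sqr hα,
      hθ4, hψ]
  have hpol : ∀ u w, Eight.val α (Eight.pol k' s' Eight.one u w) =
      polF θ (Eight.val α k') (Eight.val α s') 1 (Eight.val α u) (Eight.val α w) := fun u w => by
    simp only [Eight.pol, polF, Eight.val_add, Eight.val_mul hα, Eight.val_pow4 hα,
      Eight.val_sqr hα, Eight.val_one, hθ4, hψ, one_pow, mul_one, one_mul]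
  have ht := Eight.test_eq c' k' s'
  simp only [Eight.test, Bool.or_eq_true, beq_iff_eq, Bool.not_eq_true', List.any_eq_true,
    List.all_eq_true, Bool.and_eq_true, List.contains_iff_mem] at ht
  rcases ht with ((ht | ht) | ⟨p, -, hp1, hp2⟩) | ht
  · exact absurd (by rw [ht, Eight.val_zero]) hk
  · refine absurd (Eight.val_injective hα ?_) (beq_eq_false_iff_ne.1 ht)
    rw [hsq, Eight.val_one, hd, Eight.val_zero]
  · exact Or.inl ⟨Eight.val α p.1, Eight.val α p.2, by rw [← hpol, hp1], by rw [← hsq, hp2]⟩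
  refine Or.inr fun H hA hB => eq_top_iff.2 fun y _ => ?_
  obtain ⟨z, rfl⟩ := Eight.val_surjective hα h8 y
  refine Eight.span_mem hα _ (fun v hv => ?_) z (ht z (Eight.mem_all8 z))
  simp only [Eight.gens, List.mem_append, List.mem_map, List.mem_filter, beq_iff_eq] at hv
  rcases hv with ⟨p, ⟨-, hp⟩, rfl⟩ | ⟨p, ⟨-, hp⟩, rfl⟩
  · rw [hsq]
    exact hA _ _ (by rw [← hpol, hp, Eight.val_zero])
  · rw [Eight.val_add, hsq]
    exact hB _ _ (by rw [← hpol, hp])

/-- The squares seen from a solution of square zero generate, or there is a second solution. -/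
theorem generation (hr : ∃ r, Odd r ∧ 3 ≤ r ∧ Nat.card F = 2 ^ r) {c κ s : F}
    (hk : κ ≠ 0) (hd : sqF θ c κ s 1 = 0) :
    (∃ u w, polF θ κ s 1 u w = s ∧ sqF θ c κ u w = u) ∨
      ∀ H : AddSubgroup F, (∀ u w, polF θ κ s 1 u w = 0 → sqF θ c κ u w ∈ H) →
        (∀ u w, polF θ κ s 1 u w = s → sqF θ c κ u w + u ∈ H) → H = ⊤ := by
  obtain ⟨r, -, hr3, hcard⟩ := hr
  have hq : 8 ≤ Nat.card F := hcard ▸ (Nat.pow_le_pow_right (by norm_num) hr3 : 2 ^ 3 ≤ 2 ^ r)
  by_cases h8 : ∀ y : F, y ^ 8 = y
  · exact generation_eight θ hθ h8 hq hk hd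
  push Not at h8
  have h4 : ∃ y : F, y ^ 4 ≠ y := by
    by_contra hall
    push Not at hall
    have := card_le_of_pow_eq (by norm_num) hall
    omega
  refine Or.inr fun H hA _ => ?_
  have h2 : (2 : F) = 0 := CharTwo.two_eq_zero
  set a : F := (θ κ)⁻¹
  have ha : θ κ * a = 1 := mul_inv_cancel₀ (by simpa using hk)
  let U : F → F := fun w => s * w + a * (w ^ 2 + θ w)
  have hU : ∀ w, polF θ κ s 1 (U w) w = 0 := fun w => θ.injective (by
    simp only [polF, U, map_add, map_mul, map_zero, map_one, RingEquiv.apply_symm_apply, hθ, mul_one,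
      one_mul]
    linear_combination (w ^ 2 + θ w) * ha + (θ κ * (s * w) + w ^ 2 + θ w) * h2)
  have hmap : H.map (θ : F ≃+* F).toAddEquiv.toAddMonoidHom = ⊤ := by
    refine moore_top θ hθ h4 h8 _ fun v w => ?_
    have hUadd : U (v + w) = U v + U w := by
      simp only [U, map_add, CharTwo.add_sq]; ring
    refine ⟨polF θ κ (U v) v (U w) w, ?_, ?_⟩
    · have e := sqF_add θ c κ (U v) v (U w) w
      rw [← hUadd] at e
      rw [show polF θ κ (U v) v (U w) w = sqF θ c κ (U (v + w)) (v + w) - sqF θ c κ (U v) v -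
        sqF θ c κ (U w) w by rw [e]; ring]
      exact sub_mem (sub_mem (hA _ _ (hU _)) (hA _ _ (hU _))) (hA _ _ (hU _))
    · show θ (polF θ κ (U v) v (U w) w) = _
      simp only [polF, U, map_add, map_mul, RingEquiv.apply_symm_apply, hθ]
      linear_combination ((v ^ 2 + θ v) * w + (w ^ 2 + θ w) * v) * ha + θ κ * (s * v * w) * h2
  refine eq_top_iff.2 fun y _ => ?_
  obtain ⟨z, hz, hzy⟩ := hmap.ge (AddSubgroup.mem_top (θ y))
  exact θ.injective hzy ▸ hz

end CfsgLib.LocalEven.OnePointFront.Nonfull.SuzukiForm
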