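import Cfsg.Agent.Lib.LocalEven.OnePointFront.Nonfull.Curved.SuzukiFrame

/-!
# A Suzuki line in `K`: no movers

A mover would carry the squares of the inverted elements seen from `x b` to those seen from `x`,
which take every value at most twice, and less often without shear.  With a shear it would also fix
the only commutative subgroup of order `|R|²` over `R`, so `b` lies there.  Hence `B` is the
intersection of a maximal 2-subgroup with `K`, unless there is no shear and `c` is `0` or `1`.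
-/

set_option autoImplicit false
set_option linter.style.haveILetI false
set_option linter.unusedSectionVars false

namespace CfsgLib.LocalEven.OnePointFront.Nonfull

open MulAction CfsgLib.LocalEven.TIEndgame CfsgLib.Involution SuzukiForm

universe u v

namespace SuzukiForm

variable {F : Type u} [Field F] [Finite F] [CharP F 2] {θ : F ≃+* F}

/-- An automorphism of a field of odd degree fixes what its square fixes. -/
theorem fixed_of_sq (hr : ∃ r : ℕ, Odd r ∧ 3 ≤ r ∧ Nat.card F = 2 ^ r) {y : F}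
    (h : θ (θ y) = y) : θ y = y := by
  obtain ⟨r, hodd, -, hcard⟩ := hr
  letI : Algebra (ZMod 2) F := ZMod.algebra F 2
  haveI : Fact (Nat.Prime 2) := ⟨Nat.prime_two⟩
  let σ : F ≃ₐ[ZMod 2] F := AlgEquiv.ofRingEquiv (f := θ) fun z => by
    show θ (algebraMap (ZMod 2) F z) = algebraMap (ZMod 2) F z
    rw [← RingEquiv.coe_toRingHom θ, ← RingHom.comp_apply]
    exact RingHom.congr_fun (Subsingleton.elim _ _) z
  have hfr : Nat.card (F ≃ₐ[ZMod 2] F) = r := by
    rw [IsGalois.card_aut_eq_finrank]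
    have := Module.natCard_eq_pow_finrank (K := ZMod 2) (V := F)
    rw [Nat.card_zmod, hcard] at this
    exact (Nat.pow_right_injective le_rfl this).symm
  have hpow : σ ^ r = 1 := hfr ▸ pow_card_eq_one'
  obtain ⟨m, rfl⟩ := hodd
  have h2 : ∀ k : ℕ, (σ ^ (2 * k)) y = y := by
    intro k
    induction k with
    | zero => rfl
    | succ k ih =>
      rw [show 2 * (k + 1) = 2 * k + 1 + 1 by ring, pow_succ, pow_succ, AlgEquiv.mul_apply,
        AlgEquiv.mul_apply]
      show (σ ^ (2 * k)) (θ (θ y)) = y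
      rw [h, ih]
  have h3 : (σ ^ (2 * m + 1)) y = y := by rw [hpow]; rfl
  rw [pow_succ', AlgEquiv.mul_apply, h2] at h3
  exact h3

variable (hr : ∃ r : ℕ, Odd r ∧ 3 ≤ r ∧ Nat.card F = 2 ^ r)
  (hfix : ∀ y, θ y = y → y = 0 ∨ y = 1)
include hr hfix

omit hfix in
theorem one_ne_add (y : F) : θ y + y ≠ 1 := fun e => by
  have e' : θ y = y + 1 := by linear_combination e - y * (CharTwo.two_eq_zero : (2 : F) = 0)
  have h := fixed_of_sq hr (θ := θ) (y := y) (by
    rw [e', map_add, map_one, e']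
    linear_combination (CharTwo.two_eq_zero : (2 : F) = 0))
  rw [e'] at h
  exact one_ne_zero (left_eq_add.1 h.symm)

theorem norm_inj {p q : F} (e : p * θ p = q * θ q) : p = q := by
  by_cases hq : q = 0
  · subst hq
    rw [zero_mul] at e
    rcases mul_eq_zero.mp e with h | h
    · exact h
    · exact (map_eq_zero θ).1 h
  set s := p / q with hs
  have h1 : s * θ s = 1 := by
    rw [hs, map_div₀, div_mul_div_comm, e, div_self (mul_ne_zero hq (by simpa using hq))]
  have h2 : θ s = s⁻¹ := eq_inv_of_mul_eq_one_right h1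
  have h3 := fixed_of_sq hr (θ := θ) (y := s) (by rw [h2, map_inv₀, h2, inv_inv])
  rcases hfix s h3 with e' | e'
  · rw [e', zero_mul] at h1; exact absurd h1 zero_ne_one
  · exact (div_eq_one_iff_eq hq).1 e'

theorem norm_surj : Function.Surjective fun p => p * θ p :=
  Finite.injective_iff_surjective.1 fun _ _ e => norm_inj hr hfix e

end SuzukiForm

variable {G : Type u} {Ω : Type v} [Group G] [MulAction G Ω] {D : Set G} {a : Ω} {x : G}
  {K R Q J B : Subgroup G} {F : Type u} [Field F] {θ : F ≃+* F} {c κ : F} {ρ uc wc : G → F}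

namespace Coords

variable (C : Coords D a x K R Q J B θ c κ ρ uc wc) [Finite G]
include C

/-- A mover may be scaled by the torus. -/
theorem exists_scaled {t b : G} (M : Mover x K R B t b) {μ : F} (hμ : μ ≠ 0) :
    ∃ t' b', Mover x K R B t' b' ∧ uc b' = μ * θ μ * uc b ∧ wc b' = μ * wc b := by
  obtain ⟨g, hga, hgx, hgB, hgR, hg⟩ := C.scale μ hμ
  exact ⟨_, _, C.mover_conj M hga hgx hgB hgR, (hg b M.b_mem).1, (hg b M.b_mem).2⟩

/-- With a shear a mover stays in the layer `wc = 0`. -/
theorem mover_wc (hκ : κ ≠ 0) {t b : G} (M : Mover x K R B t b) : wc b = 0 := by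
  haveI := C.char2
  haveI := C.finite
  have htB := Subgroup.mem_normalizer_iff.1 M.normB
  have htR := Subgroup.mem_normalizer_iff.1 M.normR
  have hbij : ∀ {y : F}, y ≠ 0 → ∀ w, κ * θ.symm (y * w) = 0 → w = 0 := fun hy w e => by
    rcases mul_eq_zero.mp e with h | h
    · exact absurd h hκ
    · exact (mul_eq_zero.mp ((map_eq_zero θ.symm).1 h)).resolve_left hy
  choose y hy hyu hyw using fun s : F => C.onto s 0
  set z : F → G := fun s => t * y s * t⁻¹ with hz
  have hzB : ∀ s, z s ∈ B := fun s => (htB _).1 (hy s)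
  have hcomm : ∀ s s', polF θ κ (uc (z s)) (wc (z s)) (uc (z s')) (wc (z s')) = 0 := fun s s' => by
    rw [← C.commute_iff (hzB s) (hzB s')]
    exact ((C.commute_iff (hy s) (hy s')).2 (by simp [polF, hyw])).map (MulAut.conj t).toMonoidHom
  -- the conjugate of the layer is the layer
  have hY : ∀ s, wc (z s) = 0 := by
    by_contra hne
    push Not at hne
    obtain ⟨s₁, hs₁⟩ := hne
    have hinj : ∀ s, wc (z s) = 0 → s = 0 := fun s hs => by
      by_contra hs0
      have hu : uc (z s) = 0 := by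
        have e := hcomm s s₁
        simp only [polF, hs, mul_zero, map_zero, zero_mul, add_zero] at e
        by_contra hu
        exact hs₁ (hbij hu _ e)
      have hR := (htR _).2 (C.kernel _ (hzB s) hu hs)
      exact hs0 (hyu s ▸ (C.coords_R hR).1)
    have hadd : ∀ s s', wc (z (s + s')) = wc (z s) + wc (z s') := by
      intro s s'
      have h := (htR _).1 (C.mem_of_eq (mul_mem (hy s) (hy s')) (hy (s + s'))
        (by rw [C.uc_mul _ (hy s) _ (hy s'), hyu, hyu, hyu])
        (by rw [C.wc_mul _ (hy s) _ (hy s'), hyw, hyw, hyw, add_zero]))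
      rw [show t * ((y s * y s')⁻¹ * y (s + s')) * t⁻¹ = (z s * z s')⁻¹ * z (s + s') by
        rw [hz]; group] at h
      have h' := (C.coords_R h).2
      rw [C.wc_mul _ (inv_mem (mul_mem (hzB s) (hzB s'))) _ (hzB _),
        C.wc_inv (mul_mem (hzB s) (hzB s')), C.wc_mul _ (hzB s) _ (hzB s'), CharTwo.add_eq_zero] at h'
      exact h'.symm
    have hsurj : Function.Surjective fun s => wc (z s) :=
      Finite.injective_iff_surjective.1 fun s s' e => CharTwo.add_eq_zero.1 (hinj _ (by
        rw [hadd, show wc (z s) = wc (z s') from e, CharTwo.add_self_eq_zero]))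
    choose σ hσ using hsurj
    have hF : ∃ v : F, v ^ 4 ≠ v := Shear.exists_quartic θ (C.twist hκ) (by
      obtain ⟨r, -, hr3, hcard⟩ := C.card
      by_contra hall
      push Not at hall
      have hsub : (Set.univ : Set F) ⊆ {0, 1} := fun v _ => by
        have e : v * (v + 1) = 0 := by
          linear_combination hall v + v * (CharTwo.two_eq_zero : (2 : F) = 0)
        rcases mul_eq_zero.mp e with h | h
        · exact Or.inl h
        · exact Or.inr (CharTwo.add_eq_zero.mp h)
      have := (Set.ncard_le_ncard hsub (Set.toFinite _)).trans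
        (Set.ncard_insert_le _ _)
      rw [Set.ncard_univ, hcard, Set.ncard_singleton] at this
      have h8 : 2 ^ 3 ≤ 2 ^ r := Nat.pow_le_pow_right (by norm_num) hr3
      omega)
    refine SuzukiForm.not_isotropic θ (C.twist hκ) C.fixed hF (κ := κ) (fun v => uc (z (σ v)))
      fun v v' => ?_
    have := hcomm (σ v) (σ v')
    simp only at hσ
    rwa [hσ, hσ] at this
  by_contra hw
  -- an element of the layer commuting with `x b`
  obtain ⟨-, s, hs0, hs⟩ := Shear.shear_fixed θ (C.twist hκ) hκ hw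
  obtain ⟨y₁, hy₁, hu₁, hw₁⟩ := C.onto s 0
  have hpre : ∃ s₀, z s₀ * y₁⁻¹ ∈ R := by
    have hinj : Function.Injective fun s => uc (z s) := fun s s' e => by
      have h := C.mem_of_eq (hzB s) (hzB s') e ((hY s).trans (hY s').symm)
      have h' := (htR ((y s)⁻¹ * y s')).2 (by
        rw [show t * ((y s)⁻¹ * y s') * t⁻¹ = (z s)⁻¹ * z s' by rw [hz]; group]; exact h)
      have h'' := (C.coords_R h').1
      rwa [C.uc_mul _ (inv_mem (hy s)) _ (hy s'), C.uc_inv (hy s), hyu, hyu, CharTwo.add_eq_zero] at h''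
    obtain ⟨s₀, e⟩ := Finite.injective_iff_surjective.1 hinj s
    refine ⟨s₀, C.kernel _ (mul_mem (hzB s₀) (inv_mem hy₁)) ?_ ?_⟩
    · rw [C.uc_mul _ (hzB s₀) _ (inv_mem hy₁), C.uc_inv hy₁, hu₁,
        show uc (z s₀) = s from e, CharTwo.add_self_eq_zero]
    · rw [C.wc_mul _ (hzB s₀) _ (inv_mem hy₁), C.wc_inv hy₁, hw₁, hY, add_zero]
  obtain ⟨s₀, hr⟩ := hpre
  have hz₁ : uc (z s₀) = s ∧ wc (z s₀) = 0 := by
    obtain ⟨h1, -⟩ := C.coords_R hr
    rw [C.uc_mul _ (hzB s₀) _ (inv_mem hy₁), C.uc_inv hy₁, hu₁, CharTwo.add_eq_zero] at h1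
    exact ⟨h1, hY _⟩
  -- it commutes with `x b`
  have hcx : Commute (x * b) (z s₀) := by
    have hp : shift x (z s₀) * pol b (z s₀) = 1 := by
      refine C.ρ_inj _ (mul_mem (C.base.shift_mem _ (hzB s₀))
        (C.squareGroup.pol_mem M.b_mem (hzB s₀))) ?_
      rw [C.ρ_mul _ (C.base.shift_mem _ (hzB s₀)) _ (C.squareGroup.pol_mem M.b_mem (hzB s₀)),
        ← C.uc_shift _ (hzB s₀), C.pol_eq M.b_mem (hzB s₀), hz₁.1, hz₁.2]
      simp only [polF, mul_zero, map_zero, zero_mul, zero_add, add_zero]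
      rw [mul_comm s (wc b), hs, CharTwo.add_self_eq_zero]
    refine mul_inv_eq_iff_eq_mul.1 ?_
    calc x * b * z s₀ * (x * b)⁻¹ = x * (b * z s₀ * b⁻¹ * (z s₀)⁻¹) * z s₀ * x⁻¹ := by group
      _ = x * (pol b (z s₀)) * z s₀ * x := by rw [C.x_inv]; rfl
      _ = pol b (z s₀) * (x * z s₀ * x) := by
          rw [(C.base.line.comm _ (C.base.line.le (C.squareGroup.pol_mem M.b_mem (hzB s₀)))).eq]
          group
      _ = _ := by
          rw [C.conj_x, ← mul_assoc, eq_inv_of_mul_eq_one_left hp,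
            mul_inv_cancel, one_mul]
  have hxy : Commute x (y s₀) := by
    rw [← M.conj] at hcx
    have h := hcx.map (MulAut.conj t⁻¹).toMonoidHom
    simpa [hz, mul_assoc] using h
  have h0 : s₀ = 0 := by
    rw [← hyu s₀, C.uc_shift _ (hy s₀), (shift_eq_one C.x_sq).2 hxy, C.ρ_one]
  have hR0 := (htR (y s₀)).1 (C.kernel _ (hy s₀) ((hyu s₀).trans h0) (hyw s₀))
  exact hs0 (hz₁.1.symm.trans (C.coords_R hR0).1)

/-- There are no movers, unless there is no shear and `c` is `0` or `1`. -/
theorem false_of_mover (hcase : ¬ (κ = 0 ∧ (c = 0 ∨ c = 1))) {t b : G} (M : Mover x K R B t b)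
    (hbR : b ∉ R) : False := by
  haveI := C.char2
  haveI := C.finite
  have hi := (C.inv_iff M.b_mem).1 (C.mover_inv M)
  by_cases hκ : κ = 0
  · subst hκ
    obtain ⟨hc0, hc1⟩ : c ≠ 0 ∧ c ≠ 1 :=
      ⟨fun e => hcase ⟨rfl, Or.inl e⟩, fun e => hcase ⟨rfl, Or.inr e⟩⟩
    have h1c : 1 + c ≠ 0 := fun e => hc1 (CharTwo.add_eq_zero.1 e).symm
    set k := (1 + c)⁻¹ with hk
    have hk' : (1 + c) * k = 1 := mul_inv_cancel₀ h1c
    have hk0 : k ≠ 0 := inv_ne_zero h1c
    have hsol : ∀ u w, sqF θ c 0 u w = u ↔ u = k * (w * θ w) := fun u w => by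
      simp only [sqF, zero_mul, add_zero]
      constructor
      · intro e
        linear_combination k * e - u * hk' + (u * k) * (CharTwo.two_eq_zero : (2 : F) = 0)
          - (w * θ w * k) * (CharTwo.two_eq_zero : (2 : F) = 0)
      · intro e
        rw [e]
        linear_combination (w * θ w) * hk'
          + (w * θ w - k * (w * θ w)) * (CharTwo.two_eq_zero : (2 : F) = 0)
    have hw : wc b ≠ 0 := fun e => hbR (C.kernel b M.b_mem (by
      rw [(hsol _ _).1 hi, e, zero_mul, mul_zero]) e)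
    obtain ⟨t', b', M', -, hw'⟩ := C.exists_scaled M (inv_ne_zero hw)
    rw [inv_mul_cancel₀ hw] at hw'
    have hu' : uc b' = k := by
      rw [(hsol _ _).1 ((C.inv_iff M'.b_mem).1 (C.mover_inv M')), hw', map_one, one_mul, mul_one]
    obtain ⟨w, w', hne, he⟩ := collision_zero θ C.fixed hc0 (one_ne_add C.card) hk'
    obtain ⟨y, hy, hyu, hyw⟩ := C.onto (k * (w * θ w)) w
    obtain ⟨y', hy', hyu', hyw'⟩ := C.onto (k * (w' * θ w')) w'
    obtain ⟨z, hz, hzy, hzi⟩ := C.exists_pullback M' hy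
      ((C.inv_iff hy).2 ((hsol _ _).2 (by rw [hyu, hyw])))
    obtain ⟨z', hz', hzy', hzi'⟩ := C.exists_pullback M' hy'
      ((C.inv_iff hy').2 ((hsol _ _).2 (by rw [hyu', hyw'])))
    have huz := C.pullback_uc M' hy hy' hz hz' hzy hzy' hzi hzi' (by
      rw [hu', hw', hyu, hyw, hyu', hyw', add_comm k, add_comm 1, add_comm k, add_comm 1]
      exact he)
    have hwz : wc z = wc z' := norm_inj C.card C.fixed (mul_left_cancel₀ hk0 (by
      rw [← (hsol _ _).1 ((C.inv_iff hz).1 hzi), ← (hsol _ _).1 ((C.inv_iff hz').1 hzi'), huz]))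
    have := (C.pullback_inj M' hy hy' hz hz' hzy hzy' huz hwz).2
    rw [hyw, hyw'] at this
    exact hne this
  · have hθ := C.twist hκ
    have hw := C.mover_wc hκ M
    have hu : uc b ≠ 0 := fun e => hbR (C.kernel b M.b_mem e hw)
    have hc1 : c = 1 := by
      simp only [sqF, hw, mul_zero, map_zero, zero_mul, add_zero] at hi
      exact mul_right_cancel₀ hu (hi.trans (one_mul _).symm)
    subst hc1
    obtain ⟨μ, hμ⟩ := norm_surj C.card C.fixed (uc b)⁻¹
    have hμ0 : μ ≠ 0 := fun e => by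
      simp only [e, zero_mul] at hμ
      exact inv_ne_zero hu hμ.symm
    obtain ⟨t', b', M', hu', hw'⟩ := C.exists_scaled M hμ0
    rw [show μ * θ μ = (uc b)⁻¹ from hμ, inv_mul_cancel₀ hu] at hu'
    rw [hw, mul_zero] at hw'
    obtain ⟨v₀, hv₀⟩ : ∃ v : F, v * v ≠ v := by
      by_contra hall
      push Not at hall
      exact hu (by
        obtain ⟨r, -, hr3, hcard⟩ := C.card
        exfalso
        have hsub : (Set.univ : Set F) ⊆ {0, 1} := fun v _ => by
          have e : v * (v + 1) = 0 := by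
            linear_combination hall v + v * (CharTwo.two_eq_zero : (2 : F) = 0)
          rcases mul_eq_zero.mp e with h | h
          · exact Or.inl h
          · exact Or.inr (CharTwo.add_eq_zero.mp h)
        have := (Set.ncard_le_ncard hsub (Set.toFinite _)).trans (Set.ncard_insert_le _ _)
        rw [Set.ncard_univ, hcard, Set.ncard_singleton] at this
        have h8 : 2 ^ 3 ≤ 2 ^ r := Nat.pow_le_pow_right (by norm_num) hr3
        omega)
    obtain ⟨L, w, w', hw0, hw0', hne, hL, he⟩ := collision_shear θ hθ ⟨v₀, hv₀⟩ hκ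
    have hsol : ∀ v u, v ≠ 0 → (sqF θ 1 κ u v = u ↔ u = L * (v * θ v)) := fun v u hv => by
      refine ⟨fun e => ?_, fun e => e ▸ hL v⟩
      have e2 := hL v
      simp only [sqF, one_mul] at e e2
      have e3 : θ.symm (u * v) = θ.symm (L * (v * θ v) * v) :=
        mul_left_cancel₀ hκ (by linear_combination e - e2)
      exact mul_right_cancel₀ hv (θ.symm.injective e3)
    obtain ⟨y, hy, hyu, hyw⟩ := C.onto (L * (w * θ w)) w
    obtain ⟨y', hy', hyu', hyw'⟩ := C.onto (L * (w' * θ w')) w'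
    obtain ⟨y'', hy'', hyu'', hyw''⟩ := C.onto (sqF θ 1 κ (L * (w * θ w) + 1) w + 1) 0
    obtain ⟨z, hz, hzy, hzi⟩ := C.exists_pullback M' hy
      ((C.inv_iff hy).2 (by rw [hyu, hyw]; exact hL w))
    obtain ⟨z', hz', hzy', hzi'⟩ := C.exists_pullback M' hy'
      ((C.inv_iff hy').2 (by rw [hyu', hyw']; exact hL w'))
    obtain ⟨z'', hz'', hzy'', hzi''⟩ := C.exists_pullback M' hy''
      ((C.inv_iff hy'').2 (by rw [hyu'', hyw'']; simp [sqF]))
    have h12 := C.pullback_uc M' hy hy' hz hz' hzy hzy' hzi hzi' (by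
      rw [hu', hw', hyu, hyw, hyu', hyw', zero_add, zero_add, add_comm 1, add_comm 1]; exact he)
    have h13 := C.pullback_uc M' hy hy'' hz hz'' hzy hzy'' hzi hzi'' (by
      rw [hu', hw', hyu, hyw, hyu'', hyw'', zero_add, zero_add, add_comm 1, add_comm 1 (sqF θ 1 κ _ w + 1),
        add_assoc, CharTwo.add_self_eq_zero, add_zero]
      simp [sqF])
    -- two of the three pullbacks coincide
    have hval : ∀ v, v ∈ B → (x * v) * (x * v) = 1 → wc v ≠ 0 → uc v = L * (wc v * θ (wc v)) :=
      fun v hv hvi hv0 => (hsol _ _ hv0).1 ((C.inv_iff hv).1 hvi)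
    have hsame : ∀ p q, p ∈ B → q ∈ B → (x * p) * (x * p) = 1 → (x * q) * (x * q) = 1 → uc p = uc q →
        wc p ≠ 0 → wc q ≠ 0 → wc p = wc q := fun p q hp hq hpi hqi e hp0 hq0 => by
      have hL0 : L ≠ 0 := fun e0 => by
        have := hL 1
        rw [e0] at this
        simp [sqF] at this
      exact norm_inj C.card C.fixed (mul_left_cancel₀ hL0 (by rw [← hval p hp hpi hp0, ← hval q hq hqi hq0, e]))
    have c12 := C.pullback_inj M' hy hy' hz hz' hzy hzy' h12
    have c13 := C.pullback_inj M' hy hy'' hz hz'' hzy hzy'' h13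
    have c23 := C.pullback_inj M' hy' hy'' hz' hz'' hzy' hzy'' (h12.symm.trans h13)
    rw [hyu, hyw, hyu', hyw'] at c12
    rw [hyu, hyw, hyu'', hyw''] at c13
    rw [hyu', hyw', hyu'', hyw''] at c23
    by_cases p1 : wc z = 0
    · by_cases p2 : wc z' = 0
      · exact hne (c12 (p1.trans p2.symm)).2
      · by_cases p3 : wc z'' = 0
        · exact hw0 (c13 (p1.trans p3.symm)).2
        · exact hw0' (c23 (hsame _ _ hz' hz'' hzi' hzi'' (h12.symm.trans h13) p2 p3)).2
    · by_cases p2 : wc z' = 0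
      · by_cases p3 : wc z'' = 0
        · exact hw0' (c23 (p2.trans p3.symm)).2
        · exact hw0 (c13 (hsame _ _ hz hz'' hzi hzi'' h13 p1 p3)).2
      · exact hne (c12 (hsame _ _ hz hz' hzi hzi' h12 p1 p2)).2

/-- So `B` is the intersection of a maximal 2-subgroup with `K`. -/
theorem inf_le_base (h : ClosedSetting D Ω) {S : Subgroup G} (hS : IsTopTwo S a) (hxS : x ∈ S)
    (hBS : B ≤ S) (hcase : ¬ (κ = 0 ∧ (c = 0 ∨ c = 1))) : S ⊓ K ≤ B := by
  by_contra hlt
  obtain ⟨t, -, b, hb, M⟩ := C.exists_mover h hS hxS hBS hlt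
  exact C.false_of_mover hcase M hb

end Coords

end CfsgLib.LocalEven.OnePointFront.Nonfull
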