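import Cfsg.Agent.Lib.LocalEven.OnePointFront.Nonfull.Curved.SuzukiTools

/-!
# Suzuki lines: levels centralising `Q`

A level is a homocyclic group `A ⊇ R` inverted by `x` and centralising `Q ≤ K`.  The elements of `K`
that normalise `Q` and `A`, centralise `R` and move `x` inside `x A` have a class in `R`, the map
`cls`, a homomorphism.  If one of them moves the class, a Sylow 2-subgroup `V` of them is regular on
the classes with kernel `Q A`, all squares and commutators of `V` lie in `A`, and the torus lifts to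
its normaliser: a `Layer`.
-/

set_option autoImplicit false
set_option linter.style.haveILetI false
set_option linter.unusedSectionVars false

namespace CfsgLib.LocalEven.OnePointFront.Nonfull

open MulAction CfsgLib.LocalEven.TIEndgame

universe u v

variable {G : Type u} [Group G]

/-- The class of `g x g⁻¹` in `x A`, for a level `A` of exponent `2 ^ (i + 1)`. -/
def cls (x : G) (i : ℕ) (g : G) : G := shift x g ^ 2 ^ i

variable [Finite G] {Ω : Type v} [MulAction G Ω] {D : Set G} {a : Ω} {x : G}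
  {K R Q J A V : Subgroup G} {i : ℕ}

/-- An inverted level inside the centraliser of `Q`. -/
structure InvLevel (D : Set G) (a : Ω) (x : G) (K R Q J A : Subgroup G) (i : ℕ) : Prop where
  line : SuzukiLine D a x K R Q J
  below : Q ≤ K
  pos : 1 ≤ i
  le : A ≤ K
  R_le : R ≤ A
  comm : ∀ u ∈ A, ∀ v ∈ A, Commute u v
  comm_Q : ∀ u ∈ A, ∀ g ∈ Q, Commute u g
  inv : ∀ u ∈ A, x * u * x = u⁻¹
  invol : ∀ u ∈ A, u * u = 1 → u ∈ R
  root : ∀ r ∈ R, ∃ u ∈ A, u ^ 2 ^ i = r
  exp : ∀ u ∈ A, u ^ 2 ^ (i + 1) = 1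
  torus : ∀ j ∈ J, ∃ g : G, g • a = a ∧ Commute x g ∧ g ∈ Subgroup.normalizer (Q : Set G) ∧
    g ∈ Subgroup.normalizer (A : Set G) ∧ ∀ r ∈ R, g * r * g⁻¹ = j * r * j⁻¹

namespace InvLevel

variable (L : InvLevel D a x K R Q J A i)
include L

theorem x_sq : x * x = 1 := L.line.toCurvedLine.x_sq

theorem square : SquareGroup R Q := L.line.toCurvedLine.squareGroup

theorem two : IsPGroup 2 A := fun u =>
  ⟨i + 1, Subtype.ext (by rw [Subgroup.coe_pow]; exact L.exp u u.2)⟩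

theorem pow_mem_R {u : G} (hu : u ∈ A) : u ^ 2 ^ i ∈ R :=
  L.invol _ (pow_mem hu _) (by rw [← pow_add, ← two_mul, ← pow_succ', L.exp u hu])

/-- An element of `A` killed by the class map is a square. -/
theorem exists_sq {u : G} (hu : u ∈ A) (h1 : u ^ 2 ^ i = 1) : ∃ w ∈ A, w * w = u := by
  suffices key : ∀ k ≤ i, ∀ u ∈ A, u ^ 2 ^ k = 1 → ∃ w ∈ A, w * w = u from key i le_rfl u hu h1
  intro k
  induction k with
  | zero => exact fun _ u _ hu => ⟨1, one_mem A, by simpa using hu.symm⟩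
  | succ k ih =>
    intro hk u hu hu1
    have hr : u ^ 2 ^ k ∈ R :=
      L.invol _ (pow_mem hu _) (by rw [← pow_add, ← two_mul, ← pow_succ', hu1])
    obtain ⟨w, hw, hwr⟩ := L.root _ hr
    obtain ⟨m, hm⟩ : ∃ m, i = k + 1 + m := Nat.exists_eq_add_of_le hk
    have hw' : w ^ 2 ^ (m + 1) ∈ A := pow_mem hw _
    obtain ⟨z, hz, hzu⟩ := ih (by omega) (u * (w ^ 2 ^ (m + 1))⁻¹) (mul_mem hu (inv_mem hw')) (by
      rw [(L.comm _ hu _ (inv_mem hw')).mul_pow, inv_pow, ← pow_mul, ← pow_add,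
        show m + 1 + k = i by omega, hwr, mul_inv_cancel])
    refine ⟨z * w ^ 2 ^ m, mul_mem hz (pow_mem hw _), ?_⟩
    rw [(L.comm _ hz _ (pow_mem hw _)).symm.mul_mul_mul_comm, hzu, ← pow_add, ← two_mul,
      ← pow_succ', inv_mul_cancel_right]

/-- `A` meets `Q` in `R`. -/
theorem inter {u : G} (hu : u ∈ A) (huQ : u ∈ Q) : u ∈ R := by
  refine L.invol u hu (mul_eq_one_iff_eq_inv.2 ?_)
  rw [← L.inv u hu, (L.line.comm u huQ).eq, mul_assoc, L.x_sq, mul_one]

/-- An element of `Q` centralising `Q` lies in `R`. -/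
theorem mem_R_of_central {q : G} (hq : q ∈ Q) (hc : ∀ p ∈ Q, Commute q p) : q ∈ R := by
  classical
  by_contra hqR
  obtain ⟨E, hE⟩ := L.square.exists_extend L.line.le le_rfl hq
  have hle : Q ≤ E := fun p hp => (hE p).2 <| by
    rcases L.line.sq_comm q hq hqR p hp (hc p hp) with h | h
    · exact Or.inl h
    · refine Or.inr ?_
      rw [show p * q⁻¹ = q * (q⁻¹ * p) * q⁻¹ by group, (L.line.central q hq _ h).eq,
        mul_inv_cancel_right]
      exact h
  have h1 := Subgroup.card_le_of_le hle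
  rw [L.square.card_extend hqR hE, L.line.card_Q, pow_two] at h1
  have := L.line.four
  nlinarith

/-- The product `Q A`. -/
def kerGroup : Subgroup G where
  carrier := {g | ∃ q ∈ Q, ∃ u ∈ A, q * u = g}
  one_mem' := ⟨1, one_mem Q, 1, one_mem A, one_mul 1⟩
  mul_mem' := by
    rintro _ _ ⟨q, hq, u, hu, rfl⟩ ⟨q', hq', u', hu', rfl⟩
    exact ⟨q * q', mul_mem hq hq', u * u', mul_mem hu hu',
      ((L.comm_Q u hu q' hq').mul_mul_mul_comm q u').symm⟩
  inv_mem' := by
    rintro _ ⟨q, hq, u, hu, rfl⟩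
    exact ⟨q⁻¹, inv_mem hq, u⁻¹, inv_mem hu, by
      rw [mul_inv_rev, (L.comm_Q u hu q hq).inv_inv.eq]⟩

theorem mem_kerGroup {g : G} : g ∈ L.kerGroup ↔ ∃ q ∈ Q, ∃ u ∈ A, q * u = g := Iff.rfl

theorem le_kerGroup : Q ≤ L.kerGroup ∧ A ≤ L.kerGroup :=
  ⟨fun q hq => ⟨q, hq, 1, one_mem A, mul_one q⟩, fun u hu => ⟨1, one_mem Q, u, hu, one_mul u⟩⟩

theorem kerGroup_eq : L.kerGroup = Q ⊔ A := le_antisymm
  (fun _ ⟨_, hq, _, hu, e⟩ => e ▸ mul_mem (Subgroup.mem_sup_left hq) (Subgroup.mem_sup_right hu))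
  (sup_le L.le_kerGroup.1 L.le_kerGroup.2)

/-- An element of `Q A` centralising `Q` lies in `A`. -/
theorem mem_A_of_centr {g : G} (hg : g ∈ L.kerGroup) (hc : ∀ p ∈ Q, Commute g p) : g ∈ A := by
  obtain ⟨q, hq, u, hu, rfl⟩ := hg
  refine mul_mem (L.R_le (L.mem_R_of_central hq fun p hp => ?_)) hu
  have h1 := (hc p hp).mul_left (L.comm_Q u hu p hp).inv_left
  rwa [mul_inv_cancel_right] at h1

/-- An element of `Q A` inverted by `x` lies in `A`. -/
theorem mem_A_of_inverted {g : G} (hg : g ∈ L.kerGroup) (hinv : x * g * x = g⁻¹) : g ∈ A := by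
  obtain ⟨q, hq, u, hu, rfl⟩ := hg
  refine mul_mem (L.R_le (L.line.involution q hq (mul_eq_one_iff_eq_inv.2 ?_))) hu
  have e : x * (q * u) * x = q * u⁻¹ := by
    calc x * (q * u) * x = (x * q) * u * x := by group
      _ = q * (x * u * x) := by rw [(L.line.comm q hq).eq]; group
      _ = _ := by rw [L.inv u hu]
  rw [e, mul_inv_rev, ← (L.comm_Q u hu q hq).inv_inv.symm.eq] at hinv
  exact mul_right_cancel hinv

theorem kerGroup_le : L.kerGroup ≤ K := L.kerGroup_eq ▸ sup_le L.below L.le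

theorem kerGroup_two : IsPGroup 2 L.kerGroup := by
  haveI : Fact (Nat.Prime 2) := ⟨Nat.prime_two⟩
  rw [L.kerGroup_eq]
  exact L.line.two.to_sup_of_normal_left' L.two fun u hu =>
    Subgroup.centralizer_le_normalizer _
      (Subgroup.mem_centralizer_iff.2 fun p hp => (L.comm_Q u hu p hp).eq.symm)

theorem conj_A {g u : G} (hg : g ∈ Subgroup.normalizer (A : Set G)) (hu : u ∈ A) :
    g * u * g⁻¹ ∈ A := (Subgroup.mem_normalizer_iff.1 hg u).1 hu

/-- The elements of `K` normalising `Q` and `A`, centralising `R` and moving `x` inside `x A`. -/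
def moves : Subgroup G where
  carrier := {g | g ∈ K ∧ g ∈ Subgroup.normalizer (Q : Set G) ∧
    g ∈ Subgroup.normalizer (A : Set G) ∧ (∀ r ∈ R, Commute g r) ∧ shift x g ∈ A}
  one_mem' := ⟨one_mem K, one_mem _, one_mem _, fun r _ => Commute.one_left r,
    by rw [shift_one L.x_sq]; exact one_mem A⟩
  mul_mem' := by
    rintro g k ⟨h1, h2, h3, h4, h5⟩ ⟨k1, k2, k3, k4, k5⟩
    refine ⟨mul_mem h1 k1, mul_mem h2 k2, mul_mem h3 k3,
      fun r hr => (h4 r hr).mul_left (k4 r hr), ?_⟩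
    rw [shift_mul L.x_sq]
    exact mul_mem h5 ((Subgroup.mem_normalizer_iff.1 h3 _).1 k5)
  inv_mem' := by
    rintro g ⟨h1, h2, h3, h4, h5⟩
    refine ⟨inv_mem h1, inv_mem h2, inv_mem h3, fun r hr => (h4 r hr).inv_left, ?_⟩
    rw [shift_inv L.x_sq]
    have := (Subgroup.mem_normalizer_iff.1 (inv_mem h3) _).1 h5
    rw [inv_inv] at this
    exact inv_mem this

theorem mem_moves {g : G} : g ∈ L.moves ↔ g ∈ K ∧ g ∈ Subgroup.normalizer (Q : Set G) ∧
    g ∈ Subgroup.normalizer (A : Set G) ∧ (∀ r ∈ R, Commute g r) ∧ shift x g ∈ A := Iff.rfl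

theorem cls_mem {g : G} (hg : g ∈ L.moves) : cls x i g ∈ R := L.pow_mem_R hg.2.2.2.2

theorem cls_mul {g k : G} (hg : g ∈ L.moves) (hk : k ∈ L.moves) :
    cls x i (g * k) = cls x i g * cls x i k := by
  rw [cls, shift_mul L.x_sq,
    (L.comm _ hg.2.2.2.2 _ (L.conj_A hg.2.2.1 hk.2.2.2.2)).mul_pow, conj_pow,
    (hg.2.2.2.1 _ (L.pow_mem_R hk.2.2.2.2)).eq, mul_inv_cancel_right]
  rfl

theorem cls_one : cls x i (1 : G) = 1 := by rw [cls, shift_one L.x_sq, one_pow]

theorem cls_inv {g : G} (hg : g ∈ L.moves) : cls x i g⁻¹ = cls x i g := by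
  have h1 := L.cls_mul hg (inv_mem hg)
  rw [mul_inv_cancel, L.cls_one] at h1
  rw [eq_inv_of_mul_eq_one_right h1.symm, L.square.inv_R (L.cls_mem hg)]

theorem shift_A {u : G} (hu : u ∈ A) : shift x u = u⁻¹ * u⁻¹ := by
  have e : x * (u * x * u⁻¹) = x * u * x * u⁻¹ := by group
  rw [shift, e, L.inv u hu]

theorem A_mem {u : G} (hu : u ∈ A) : u ∈ L.moves ∧ cls x i u = 1 := by
  have h1 := L.shift_A hu
  refine ⟨⟨L.le hu, ?_, Subgroup.le_normalizer hu, fun r hr => L.comm u hu r (L.R_le hr), ?_⟩, ?_⟩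
  · exact Subgroup.centralizer_le_normalizer _
      (Subgroup.mem_centralizer_iff.2 fun p hp => (L.comm_Q u hu p hp).eq.symm)
  · rw [h1]; exact mul_mem (inv_mem hu) (inv_mem hu)
  · rw [cls, h1, ← pow_two, ← pow_mul, ← pow_succ', L.exp _ (inv_mem hu)]

theorem Q_mem {q : G} (hq : q ∈ Q) : q ∈ L.moves ∧ cls x i q = 1 := by
  have h1 := (shift_eq_one L.x_sq).2 (L.line.comm q hq)
  refine ⟨⟨L.below hq, Subgroup.le_normalizer hq, ?_, L.line.central q hq, h1 ▸ one_mem A⟩,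
    by rw [cls, h1, one_pow]⟩
  exact Subgroup.centralizer_le_normalizer _
    (Subgroup.mem_centralizer_iff.2 fun u hu => (L.comm_Q u hu q hq).eq)

theorem ker_mem {g : G} (hg : g ∈ L.kerGroup) : g ∈ L.moves ∧ cls x i g = 1 := by
  obtain ⟨q, hq, u, hu, rfl⟩ := hg
  refine ⟨mul_mem (L.Q_mem hq).1 (L.A_mem hu).1, ?_⟩
  rw [L.cls_mul (L.Q_mem hq).1 (L.A_mem hu).1, (L.Q_mem hq).2, (L.A_mem hu).2, one_mul]

theorem kerGroup_le_moves : L.kerGroup ≤ L.moves := fun _ hg => (L.ker_mem hg).1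

/-- An element fixing the trivial class is, up to `A`, one commuting with `x`. -/
theorem exists_comm {g : G} (hg : g ∈ L.moves) (h1 : cls x i g = 1) :
    ∃ w ∈ A, Commute x (w * g) := by
  obtain ⟨w, hw, hwg⟩ := L.exists_sq hg.2.2.2.2 h1
  refine ⟨w, hw, (shift_eq_one L.x_sq).1 ?_⟩
  rw [shift_mul L.x_sq, L.shift_A hw, (L.comm w hw _ hg.2.2.2.2).eq, mul_inv_cancel_right, ← hwg]
  group

/-- In a 2-group of `K` containing `Q` and `A`, only `Q A` fixes the trivial class. -/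
theorem two_zero (h : ClosedSetting D Ω) {W : Subgroup G} (hW : IsPGroup 2 W) (hWK : W ≤ K)
    (hle : L.kerGroup ≤ W) {g : G} (hgW : g ∈ W) (hg : g ∈ L.moves) (h1 : cls x i g = 1) :
    g ∈ L.kerGroup := by
  obtain ⟨w, hw, hc⟩ := L.exists_comm hg h1
  have hwg := (L.line.toCurvedLine.mem_inf h hW hWK (inf_le_right.trans (L.le_kerGroup.1.trans hle))
    (mul_mem (hle (L.le_kerGroup.2 hw)) hgW) hc).2
  have h2 := mul_mem (inv_mem (L.le_kerGroup.2 hw)) (L.le_kerGroup.1 hwg)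
  rwa [inv_mul_cancel_left] at h2

/-- Elements at `a` commuting with `x` and normalising `Q` and `A` normalise `moves`. -/
theorem conj_moves {g : G} (hga : g • a = a) (hgx : Commute x g)
    (hgQ : g ∈ Subgroup.normalizer (Q : Set G)) (hgA : g ∈ Subgroup.normalizer (A : Set G)) {y : G}
    (hy : y ∈ L.moves) : g * y * g⁻¹ ∈ L.moves := by
  have hgR := L.line.toCurvedLine.mem_normalizer_R hgQ
  refine ⟨L.line.toCurvedLine.conj_K hga hy.1, mul_mem (mul_mem hgQ hy.2.1) (inv_mem hgQ),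
    mul_mem (mul_mem hgA hy.2.2.1) (inv_mem hgA), fun r hr => ?_, ?_⟩
  · have h1 := (Subgroup.mem_normalizer_iff.1 (inv_mem hgR) r).1 hr
    have := (hy.2.2.2.1 _ h1).map (MulAut.conj g).toMonoidHom
    simpa [mul_assoc] using this
  · rw [shift_conj hgx]
    exact L.conj_A hgA hy.2.2.2.2

theorem cls_conj {g : G} (hgx : Commute x g) (y : G) :
    cls x i (g * y * g⁻¹) = g * cls x i y * g⁻¹ := by
  rw [cls, shift_conj hgx, conj_pow]
  rfl

theorem x_normalizer : x ∈ Subgroup.normalizer (A : Set G) :=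
  mem_normalizer_of_conj_mem fun u hu => by
    rw [show x⁻¹ = x from inv_eq_of_mul_eq_one_right L.x_sq, L.inv u hu]
    exact inv_mem hu

theorem x_normalizer_Q : x ∈ Subgroup.normalizer (Q : Set G) :=
  mem_normalizer_of_conj_mem fun q hq => by rwa [(L.line.comm q hq).eq, mul_inv_cancel_right]

end InvLevel

/-- A 2-group regular on the classes of a level. -/
structure Layer (D : Set G) (a : Ω) (x : G) (K R Q J A V : Subgroup G) (i : ℕ) : Prop where
  level : InvLevel D a x K R Q J A i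
  le : V ≤ level.moves
  two : IsPGroup 2 V
  ker_le : level.kerGroup ≤ V
  x_mem : x ∈ Subgroup.normalizer (V : Set G)
  onto : ∀ r ∈ R, ∃ b ∈ V, cls x i b = r
  torus : ∀ j ∈ J, ∃ g : G, g • a = a ∧ Commute x g ∧ g ∈ Subgroup.normalizer (Q : Set G) ∧
    g ∈ Subgroup.normalizer (A : Set G) ∧ g ∈ Subgroup.normalizer (V : Set G) ∧
    ∀ r ∈ R, g * r * g⁻¹ = j * r * j⁻¹

/-- If some element moves the class, there is a layer. -/
theorem InvLevel.exists_layer (L : InvLevel D a x K R Q J A i) (h : ClosedSetting D Ω) {g₀ : G}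
    (hg₀ : g₀ ∈ L.moves) (hg₀1 : cls x i g₀ ≠ 1) : ∃ V, Layer D a x K R Q J A V i := by
  classical
  haveI : Fact (Nat.Prime 2) := ⟨Nat.prime_two⟩
  set H := L.moves with hH
  let φ : ↥H →* ↥R := MonoidHom.mk' (fun g => ⟨cls x i g, L.cls_mem g.2⟩)
    fun g k => Subtype.ext (L.cls_mul g.2 k.2)
  have hφ : Function.Surjective φ := by
    rintro ⟨r, hr⟩
    rcases eq_or_ne r 1 with rfl | hr1
    · exact ⟨1, Subtype.ext L.cls_one⟩
    obtain ⟨j, hj, e⟩ := L.line.trans_J _ (L.cls_mem hg₀) r hr hg₀1 hr1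
    obtain ⟨g, hga, hgx, hgQ, hgA, hgj⟩ := L.torus j hj
    exact ⟨⟨_, L.conj_moves hga hgx hgQ hgA hg₀⟩,
      Subtype.ext ((L.cls_conj hgx g₀).trans ((hgj _ (L.cls_mem hg₀)).trans e))⟩
  have hx2 : IsPGroup 2 (Subgroup.zpowers x) := Involution.Basic.isPGroup_zpowers_of_two L.line.bad.1
  have hxH : Subgroup.zpowers x ≤ Subgroup.normalizer (H : Set G) := Subgroup.zpowers_le.2
    (mem_normalizer_of_conj_mem fun y hy =>
      L.conj_moves L.line.fix (Commute.refl x) L.x_normalizer_Q L.x_normalizer hy)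
  obtain ⟨V, hVH, hV, hodd, hxV⟩ := exists_invariant hx2 hxH
  have hVn : V ≤ Subgroup.normalizer (L.kerGroup : Set G) := fun g hg =>
    mem_normalizer_of_conj_mem fun y hy => by
      obtain ⟨q, hq, u, hu, rfl⟩ := hy
      rw [show g * (q * u) * g⁻¹ = (g * q * g⁻¹) * (g * u * g⁻¹) by group]
      exact mul_mem (L.le_kerGroup.1 ((Subgroup.mem_normalizer_iff.1 (hVH hg).2.1 q).1 hq))
        (L.le_kerGroup.2 (L.conj_A (hVH hg).2.2.1 hu))
  have hker : L.kerGroup ≤ V := (le_sup_left (b := V)).trans (le_of_odd_relIndex hodd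
    (L.kerGroup_two.to_sup_of_normal_left' hV hVn) le_sup_right (sup_le L.kerGroup_le_moves hVH))
  have honto : ∀ r ∈ R, ∃ b ∈ V, cls x i b = r := by
    set W := (V.subgroupOf H).map φ with hW
    have hWodd : Odd W.index :=
      Odd.of_dvd_nat hodd (Subgroup.index_map_dvd (V.subgroupOf H) hφ)
    obtain ⟨n, hn⟩ := (L.line.two.to_le L.line.le).index W
    have hW1 : W.index = 1 := by
      rcases n with _ | n
      · simpa using hn
      · rw [hn] at hWodd
        exact absurd hWodd (Nat.not_odd_iff_even.2 ⟨2 ^ n, by ring⟩)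
    intro r hr
    obtain ⟨g, hg, e⟩ := (Subgroup.index_eq_one.1 hW1).ge (Subgroup.mem_top (⟨r, hr⟩ : R))
    exact ⟨g, Subgroup.mem_subgroupOf.1 hg, congrArg Subtype.val e⟩
  refine ⟨V, ⟨L, hVH, hV, hker, hxV (Subgroup.mem_zpowers x), honto, fun j hj => ?_⟩⟩
  obtain ⟨g, hga, hgx, hgQ, hgA, hgj⟩ := L.torus j hj
  obtain ⟨d, hd, hdg⟩ := exists_mul_mem_normalizer hV (hVH.trans Subgroup.le_normalizer)
    (by rwa [inf_eq_left.2 hVH])
    (g := g) fun v hv => Subgroup.mem_sup_left (L.conj_moves hga hgx hgQ hgA (hVH hv))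
  obtain ⟨b, hb, hbd⟩ := honto _ (L.cls_mem hd)
  obtain ⟨w, hw, hwc⟩ := L.exists_comm (mul_mem (inv_mem (hVH hb)) hd) (by
    rw [L.cls_mul (inv_mem (hVH hb)) hd, L.cls_inv (hVH hb), hbd, L.square.sq _ (L.cls_mem hd)])
  set c := w * (b⁻¹ * d) with hc
  have hcm : c ∈ L.moves := mul_mem (L.A_mem hw).1 (mul_mem (inv_mem (hVH hb)) hd)
  refine ⟨c * g, ?_, hwc.mul_right hgx, mul_mem hcm.2.1 hgQ, mul_mem hcm.2.2.1 hgA, ?_,
    fun r hr => ?_⟩
  · rw [mul_smul, hga, mem_stabilizer_iff.1 (L.line.point.le hcm.1)]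
  · rw [show c * g = w * b⁻¹ * (d * g) by rw [hc]; group]
    exact mul_mem (Subgroup.le_normalizer (mul_mem (hker (L.le_kerGroup.2 hw)) (inv_mem hb))) hdg
  · have h1 : j * r * j⁻¹ ∈ R := L.line.toCurvedLine.J_conj_R hj hr
    rw [show c * g * r * (c * g)⁻¹ = c * (g * r * g⁻¹) * c⁻¹ by group, hgj r hr,
      (hcm.2.2.2.1 _ h1).eq, mul_inv_cancel_right]

namespace Layer

variable (M : Layer D a x K R Q J A V i) (h : ClosedSetting D Ω)
include M

theorem le_K : V ≤ K := fun _ hb => (M.le hb).1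

theorem Q_le : Q ≤ V := M.level.le_kerGroup.1.trans M.ker_le

theorem A_le : A ≤ V := M.level.le_kerGroup.2.trans M.ker_le

theorem conj_R {b : G} (hb : b ∈ V) {r : G} (hr : r ∈ R) : b * r * b⁻¹ = r := by
  rw [((M.le hb).2.2.2.1 r hr).eq, mul_inv_cancel_right]

/-- The shear of an element of the layer. -/
theorem pol_mem {b w : G} (hb : b ∈ V) (hw : w ∈ Q) : pol b w ∈ R :=
  M.level.line.actsTriv (M.le hb).2.1 (M.le hb).2.2.2.1 w hw

theorem conj_Q {b w : G} (hb : b ∈ V) (hw : w ∈ Q) : b * w * b⁻¹ = pol b w * w := by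
  rw [pol, inv_mul_cancel_right]

theorem pol_mul {b c w : G} (hb : b ∈ V) (hc : c ∈ V) (hw : w ∈ Q) :
    pol (b * c) w = pol c w * pol b w := by
  calc pol (b * c) w = (b * pol c w * b⁻¹) * pol b w := by simp only [pol]; group
    _ = _ := by rw [M.conj_R hb (M.pol_mem hc hw)]

theorem pol_one (w : G) : pol (1 : G) w = 1 := SquareGroup.pol_one w

theorem pol_inv {b w : G} (hb : b ∈ V) (hw : w ∈ Q) : pol b⁻¹ w = pol b w := by
  have h1 := M.pol_mul hb (inv_mem hb) hw
  rw [mul_inv_cancel, M.pol_one] at h1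
  rw [eq_inv_of_mul_eq_one_left h1.symm, M.level.square.inv_R (M.pol_mem hb hw)]

theorem pol_mul_right {b w w' : G} (hb : b ∈ V) (hw : w ∈ Q) (hw' : w' ∈ Q) :
    pol b (w * w') = pol b w * pol b w' := by
  calc pol b (w * w') = pol b w * (w * pol b w' * w⁻¹) := by simp only [pol]; group
    _ = _ := by rw [(M.level.line.central w hw _ (M.pol_mem hb hw')).eq, mul_inv_cancel_right]

theorem pol_R {b r : G} (hb : b ∈ V) (hr : r ∈ R) : pol b r = 1 := by
  rw [pol, M.conj_R hb hr, mul_inv_cancel]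

include h in
/-- Only `Q A` fixes the trivial class. -/
theorem zero {b : G} (hb : b ∈ V) (h1 : cls x i b = 1) : b ∈ M.level.kerGroup :=
  M.level.two_zero h M.two M.le_K M.ker_le hb (M.le hb) h1

include h in
/-- The elements centralising `Q` and fixing the trivial class lie in `A`. -/
theorem zero_A {b : G} (hb : b ∈ V) (h1 : cls x i b = 1) (hc : ∀ w ∈ Q, pol b w = 1) : b ∈ A :=
  M.level.mem_A_of_centr (M.zero h hb h1) fun w hw =>
    mul_inv_eq_iff_eq_mul.1 (mul_inv_eq_one.1 (hc w hw))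

include h in
theorem sq_mem_A {b : G} (hb : b ∈ V) : b * b ∈ A :=
  M.zero_A h (mul_mem hb hb)
    (by rw [M.level.cls_mul (M.le hb) (M.le hb), M.level.square.sq _ (M.level.cls_mem (M.le hb))])
    fun w hw => by rw [M.pol_mul hb hb hw, M.level.square.sq _ (M.pol_mem hb hw)]

include h in
theorem pol_mem_A {b c : G} (hb : b ∈ V) (hc : c ∈ V) : pol b c ∈ A := by
  have hbi := inv_mem hb
  have hci := inv_mem hc
  have hbc := mul_mem hb hc
  refine M.zero_A h (mul_mem (mul_mem hbc hbi) hci) ?_ fun w hw => ?_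
  · have hRb := M.level.cls_mem (M.le hb)
    have hRc := M.level.cls_mem (M.le hc)
    show cls x i (b * c * b⁻¹ * c⁻¹) = 1
    rw [M.level.cls_mul (M.le (mul_mem hbc hbi)) (M.le hci), M.level.cls_mul (M.le hbc) (M.le hbi),
      M.level.cls_mul (M.le hb) (M.le hc), M.level.cls_inv (M.le hb), M.level.cls_inv (M.le hc),
      (M.level.line.central _ (M.level.line.le hRb) _ hRc).eq, mul_assoc (cls x i c),
      M.level.square.sq _ hRb, mul_one, M.level.square.sq _ hRc]
  · have hRb := M.pol_mem hb hw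
    have hRc := M.pol_mem hc hw
    rw [show pol b c = b * c * b⁻¹ * c⁻¹ from rfl, M.pol_mul (mul_mem hbc hbi) hci hw,
      M.pol_mul hbc hbi hw, M.pol_mul hb hc hw, M.pol_inv hb hw, M.pol_inv hc hw,
      ← (M.level.line.central _ (M.level.line.le hRb) _ (mul_mem hRc hRb)).eq.symm,
      mul_assoc (pol c w), M.level.square.sq _ hRb, mul_one, M.level.square.sq _ hRc]

/-- Every translation in `x A` is realised exactly. -/
theorem exists_shift {v : G} (hv : v ∈ A) : ∃ b ∈ V, shift x b = v := by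
  obtain ⟨b, hb, hbe⟩ := M.onto _ (M.level.pow_mem_R hv)
  have hs := (M.le hb).2.2.2.2
  obtain ⟨w, hw, hwe⟩ := M.level.exists_sq (mul_mem hs (inv_mem hv)) (by
    rw [(M.level.comm _ hs _ (inv_mem hv)).mul_pow, inv_pow]
    exact mul_inv_eq_one.2 hbe)
  refine ⟨w * b, mul_mem (M.A_le hw) hb, ?_⟩
  rw [shift_mul M.level.x_sq, M.level.shift_A hw, (M.level.comm w hw _ hs).eq, mul_inv_cancel_right,
    ← mul_inv_rev, hwe, mul_inv_rev, inv_inv, inv_mul_cancel_right]

end Layer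

end CfsgLib.LocalEven.OnePointFront.Nonfull
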