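import Cfsg.Agent.Lib.LocalEven.OnePointFront.Nonfull.Curved.SuzukiGrowth
import Cfsg.Agent.Lib.LocalEven.OnePointFront.Nonfull.Curved.SuzukiGeneration
import Cfsg.Agent.Lib.LocalEven.OnePointFront.Nonfull.Linear.FieldInvolution
import Cfsg.Agent.Lib.LocalEven.OnePointFront.Nonfull.Good

/-!
# A Suzuki line in `K`: the member outside `R`

If `B` is the intersection of a maximal 2-subgroup with `K` there is a member `d` in `B` outside
`R`, and it is conjugate in `K` to an element of `R = omCentre B`.  The centraliser of `d` in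
`B⟨x⟩` then conjugates into `B⟨x⟩`, whose squares lie in `R`: so the squares of that centraliser do
not generate `R`.  But they do, or a bad involution centralises more members than `x`.
-/

set_option autoImplicit false
set_option linter.style.haveILetI false
set_option linter.unusedSectionVars false

namespace CfsgLib.LocalEven.OnePointFront.Nonfull

open MulAction CfsgLib.LocalEven.TIEndgame CfsgLib.Involution SuzukiForm

universe u

variable {G Ω : Type u} [Group G] [MulAction G Ω] {D : Set G} {a : Ω} {x : G}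
  {K R Q J B S : Subgroup G} {F : Type u} [Field F] {θ : F ≃+* F} {c κ : F} {ρ uc wc : G → F}

namespace Coords

variable (C : Coords D a x K R Q J B θ c κ ρ uc wc)
include C

/-- `x v` commutes with `e` exactly if the translation by `e` cancels the commutator. -/
theorem commute_xb_iff {v e : G} (hv : v ∈ B) (he : e ∈ B) :
    Commute e (x * v) ↔ polF θ κ (uc v) (wc v) (uc e) (wc e) = uc e := by
  haveI := C.char2
  have hp := C.squareGroup.pol_mem hv he
  have hconj : x * v * e * (x * v)⁻¹ = pol v e * shift x e * e := by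
    calc x * v * e * (x * v)⁻¹ = x * (v * e * v⁻¹ * e⁻¹) * e * x⁻¹ := by group
      _ = pol v e * (x * e * x) := by
          rw [C.x_inv, show v * e * v⁻¹ * e⁻¹ = pol v e from rfl,
            (C.base.line.comm _ (C.base.line.le hp)).eq]
          group
      _ = _ := by rw [C.conj_x, mul_assoc]
  rw [← C.pol_eq hv he, C.uc_shift e he]
  constructor
  · intro hc
    have h1 : pol v e * shift x e = 1 := by
      rw [← mul_eq_right (b := e), ← hconj, ← hc.eq, mul_inv_cancel_right]
    refine CharTwo.add_eq_zero.1 ?_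
    rw [← C.ρ_mul _ hp _ (C.base.shift_mem e he), h1, C.ρ_one]
  · intro h
    have h1 : pol v e * shift x e = 1 := by
      rw [C.ρ_eq hp (C.base.shift_mem e he) h, C.base.line.sq _ (C.base.shift_mem e he)]
    rw [h1, one_mul] at hconj
    exact (mul_inv_eq_iff_eq_mul.1 hconj).symm

omit C in
/-- The part commuting with `e` of what `sqF` and `polF` see. -/
theorem commute_of_pol (C : Coords D a x K R Q J B θ c κ ρ uc wc) {v e : G} (hv : v ∈ B) (he : e ∈ B)
    (h : polF θ κ (uc e) (wc e) (uc v) (wc v) = 0) : Commute e v := (C.commute_iff he hv).2 h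

variable [Finite G]

/-- Without full bad involutions a member lies in `B` outside `R`. -/
theorem exists_member (hnf : NoFull D Ω) (hS : IsTopTwo S a) (hxS : x ∈ S) (hT : S ⊓ K ≤ B) :
    ∃ d ∈ B, d ∈ D ∧ d • a = a ∧ d ∉ R := by
  by_contra hno
  push Not at hno
  refine hnf x ⟨C.base.line.bad, a, S, hS, hxS, fun d hd hdS => ?_⟩
  have hda : d • a = a := mem_stabilizer_iff.1 (hS.2.1 hdS)
  have hdB : d ∈ B := hT ⟨hdS, C.base.line.point.dat_le d ⟨hd, hda⟩⟩
  exact C.base.line.comm d (C.base.line.le (hno d hdB hd hda))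

/-- Outside the case without shear and `c = 0` the central involutions of `B` form `R`. -/
theorem omCentre_eq (hcase : ¬ (κ = 0 ∧ c = 0)) : omCentre B = R := by
  haveI := C.char2
  haveI := C.finite
  refine le_antisymm (fun e he => ?_) fun r hr =>
    ⟨C.R_le hr, C.base.line.sq r hr, fun s hs => (C.R_comm hr hs).symm⟩
  obtain ⟨heB, hee, hec⟩ := he
  have hpol : ∀ y z, polF θ κ (uc e) (wc e) y z = 0 := fun y z => by
    obtain ⟨v, hv, rfl, rfl⟩ := C.onto y z
    exact (C.commute_iff heB hv).1 (hec v hv)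
  have hsq : sqF θ c κ (uc e) (wc e) = 0 := by rw [← C.sq e heB, hee, C.ρ_one]
  have hw : wc e = 0 := by
    by_contra hw
    by_cases hκ : κ = 0
    · obtain ⟨v, hv⟩ : ∃ v : F, v ≠ 0 ∧ v ≠ 1 := by
        by_contra hall
        push Not at hall
        obtain ⟨r, -, hr3, hcard⟩ := C.card
        have hsub : (Set.univ : Set F) ⊆ {0, 1} := fun v _ => by
          by_cases h0 : v = 0
          · exact Or.inl h0
          · exact Or.inr (hall v h0)
        have := (Set.ncard_le_ncard hsub (Set.toFinite _)).trans (Set.ncard_insert_le _ _)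
        rw [Set.ncard_univ, hcard, Set.ncard_singleton] at this
        have h8 : 2 ^ 3 ≤ 2 ^ r := Nat.pow_le_pow_right (by norm_num) hr3
        omega
      have h := hpol 0 (v * wc e)
      simp only [polF, hκ, zero_mul, zero_add, map_mul] at h
      have h' : wc e * θ (wc e) * (θ v + v) = 0 := by linear_combination h
      rcases C.fixed v (CharTwo.add_eq_zero.1 ((mul_eq_zero.mp h').resolve_left
        (mul_ne_zero hw ((map_ne_zero θ).2 hw)))) with e' | e'
      · exact hv.1 e'
      · exact hv.2 e'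
    · have h := hpol 1 0
      simp only [polF, mul_zero, map_zero, one_mul, zero_mul, zero_add, add_zero] at h
      rcases mul_eq_zero.mp h with h' | h'
      · exact hκ h'
      · exact hw ((map_eq_zero θ.symm).1 h')
  refine C.kernel e heB ?_ hw
  by_contra hu
  by_cases hκ : κ = 0
  · simp only [sqF, hw, hκ, mul_zero, zero_mul, add_zero] at hsq
    exact hcase ⟨hκ, (mul_eq_zero.mp hsq).resolve_right hu⟩
  · have h := hpol 0 1
    simp only [polF, hw, mul_zero, map_zero, mul_one, zero_mul, add_zero] at h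
    rcases mul_eq_zero.mp h with h' | h'
    · exact hκ h'
    · exact hu ((map_eq_zero θ.symm).1 h')

variable [Finite Ω] (h : ClosedSetting D Ω)
include h

/-- A member outside `R` does not have a centraliser in `B⟨x⟩` whose squares generate `R`. -/
theorem false_of_generate (hS : IsTopTwo S a) (hxS : x ∈ S) (hT : S ⊓ K = B)
    (hZ : omCentre B = R) {d : G} (hd : d ∈ dat D a) (hdR : d ∉ R)
    (hgen : ∀ H : Subgroup G, H ≤ R → (∀ v ∈ B, Commute d v → v * v ∈ H) →
      (∀ v ∈ B, Commute d (x * v) → (x * v) * (x * v) ∈ H) → R ≤ H) : False := by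
  classical
  haveI : Fact (Nat.Prime 2) := ⟨Nat.prime_two⟩
  have L := C.base.line
  obtain ⟨b, -, hba⟩ := L.exists_other
  have hxn : ∀ v ∈ B, x * v * x ∈ B := fun v hv => C.conj_x_mem hv
  have hxK : ∀ v ∈ K, x * v * x ∈ K := fun v hv => by
    have := L.conj_K L.fix hv
    rwa [C.x_inv] at this
  set W := extend x B C.x_sq hxn with hWdef
  set M₁ := extend x K C.x_sq hxK with hM₁
  have hBS : B ≤ S := hT ▸ inf_le_left
  have hW2 : IsPGroup 2 W := hS.1.to_le fun g hg => by
    rcases mem_extend.1 hg with hg | hg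
    · exact hBS hg
    · have := S.mul_mem (hBS hg) (S.inv_mem hxS)
      rwa [mul_inv_cancel_right] at this
  have hWM : W ≤ M₁ := fun g hg => mem_extend.2 ((mem_extend.1 hg).imp
    (fun hg => C.base.le hg) fun hg => C.base.le hg)
  have hodd : Odd (B.relIndex K) := hT ▸ odd_relIndex_inf L.point.le L.point.conj hS
  have hmaxW : ∀ P : Subgroup G, IsPGroup 2 P → W ≤ P → P ≤ M₁ → P ≤ W := by
    intro P hP hWP hPM p hp
    have hBP : B ≤ P ⊓ K := le_inf (fun v hv => hWP (mem_extend.2 (Or.inl hv))) C.base.le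
    have hle := le_of_odd_relIndex hodd (hP.to_le inf_le_left) hBP inf_le_right
    rcases mem_extend.1 (hPM hp) with hk | hk
    · exact mem_extend.2 (Or.inl (hle ⟨hp, hk⟩))
    · exact mem_extend.2 (Or.inr (hle ⟨P.mul_mem hp (hWP (mem_extend.2 (Or.inr
        (by rw [C.x_sq]; exact one_mem B)))), hk⟩))
  -- the squares of `W`
  have hsqW : ∀ g ∈ W, g * g ∈ R := by
    intro g hg
    rcases mem_extend.1 hg with hg | hg
    · exact C.sq_mem g hg
    · have e : g * g = (g * x) * (x * (g * x) * x) := by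
        calc g * g = g * (x * x) * g * (x * x) := by rw [C.x_sq, mul_one, mul_one]
          _ = _ := by group
      rw [e, C.conj_x, ← mul_assoc, (C.R_comm (C.base.shift_mem _ hg) hg).eq, mul_assoc]
      exact mul_mem (C.base.shift_mem _ hg) (C.sq_mem _ hg)
  -- a member of `R` conjugate to `d` in `K`
  obtain ⟨z, hz, hzc⟩ := h.covers a S hS.1 hS.2.1
  have hzR : z ∈ R := by
    have hzS : z ∈ S := by
      have h2 : IsPGroup 2 ↥(S ⊔ Subgroup.zpowers z) := by
        refine hS.1.to_sup_of_normal_left' ?_ (Subgroup.zpowers_le.2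
          (Subgroup.centralizer_le_normalizer _ (Subgroup.mem_centralizer_iff.2 fun y hy =>
            (hzc y hy).eq)))
        exact IsPGroup.of_card_dvd_pow (n := 1) (by
          rw [Nat.card_zpowers, h.orderOf_eq z hz.1, pow_one])
      have := hS.2.2 _ h2 (sup_le hS.2.1 (Subgroup.zpowers_le.2 (mem_stabilizer_iff.2 hz.2)))
        le_sup_left
      rw [← this]
      exact Subgroup.mem_sup_right (Subgroup.mem_zpowers z)
    rw [← hZ]
    exact ⟨hT ▸ ⟨hzS, L.point.dat_le z hz⟩, h.toOnePoint.mul_self hz.1,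
      fun s hs => (hzc s (hBS hs)).symm⟩
  obtain ⟨g, hg, hge⟩ := h.toOnePoint.exists_conj_swapCore (Ne.symm hba) hz hd
    (OnePoint.dat_nonempty h.covers b)
  have hga : g • a = a := mem_stabilizer_iff.1 (swapCore_le a b hg).1
  obtain ⟨d₀, hd₀, hn⟩ := exists_mul_mem_normalizer C.base.two
    (C.base.le.trans Subgroup.le_normalizer) (by rwa [inf_eq_left.2 C.base.le])
    (g := g) fun v hv => Subgroup.mem_sup_left (L.conj_K hga (C.base.le hv))
  set z' := d₀ * d * d₀⁻¹ with hz'
  have hz'R : z' ∈ R := by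
    have h1 := normalizer_le_omCentre B hn
    rw [hZ] at h1
    have h2 := (Subgroup.mem_normalizer_iff.1 h1 z).1 hzR
    rwa [show d₀ * g * z * (d₀ * g)⁻¹ = d₀ * (g * z * g⁻¹) * d₀⁻¹ by group, hge] at h2
  -- the centraliser of `d` goes into `W`
  set C₁ := M₁ ⊓ Subgroup.centralizer ({z'} : Set G) with hC₁
  have hWC : W ≤ C₁ := fun v hv => Subgroup.mem_inf.2 ⟨hWM hv,
    Subgroup.mem_centralizer_singleton_iff.2 (by
      rcases mem_extend.1 hv with hv | hv
      · exact (C.R_comm hz'R hv).eq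
      · rw [show v = v * x * x by rw [mul_assoc, C.x_sq, mul_one]]
        exact ((C.R_comm hz'R hv).mul_left (L.comm z' (L.le hz'R))).eq)⟩
  set V₀ := W ⊓ Subgroup.centralizer ({d} : Set G) with hV₀
  have hd₀M : d₀ ∈ M₁ := mem_extend.2 (Or.inl hd₀)
  have hV₀C : V₀.map (MulAut.conj d₀).toMonoidHom ≤ C₁ := by
    rintro _ ⟨v, hv, rfl⟩
    refine Subgroup.mem_inf.2 ⟨mul_mem (mul_mem hd₀M (hWM hv.1)) (inv_mem hd₀M),
      Subgroup.mem_centralizer_singleton_iff.2 ?_⟩
    exact ((show Commute v d from Subgroup.mem_centralizer_singleton_iff.1 hv.2).map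
      (MulAut.conj d₀).toMonoidHom).eq
  obtain ⟨P, hP⟩ := (hW2.of_equiv (Subgroup.subgroupOfEquivOfLe hWC).symm).exists_le_sylow
  have hPW : (P : Subgroup ↥C₁).map C₁.subtype ≤ W := hmaxW _ (P.2.map _)
    (fun v hv => ⟨⟨v, hWC hv⟩, hP (Subgroup.mem_subgroupOf.2 hv), rfl⟩)
    ((Subgroup.map_subtype_le _).trans inf_le_left)
  obtain ⟨k, hk⟩ := Involution.Basic.exists_conj_le P
    ((((hW2.to_le inf_le_left : IsPGroup 2 V₀).map _).comap_subtype (K := C₁)))
  set e : G := (k : G) * d₀ with he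
  have hed : e * d * e⁻¹ = z' := by
    have h1 : (k : G) * z' * (k : G)⁻¹ = z' := mul_inv_eq_iff_eq_mul.2
      (Subgroup.mem_centralizer_singleton_iff.1 k.2.2)
    rw [he, show (k : G) * d₀ * d * ((k : G) * d₀)⁻¹ = (k : G) * (d₀ * d * d₀⁻¹) * (k : G)⁻¹ by group]
    exact h1
  have hconjW : ∀ v ∈ V₀, e * v * e⁻¹ ∈ W := by
    intro v hv
    have h1 := hk _ (show (⟨_, hV₀C ⟨v, hv, rfl⟩⟩ : ↥C₁) ∈
      (V₀.map (MulAut.conj d₀).toMonoidHom).subgroupOf C₁ from ⟨v, hv, rfl⟩)
    have h2 := hPW ⟨_, h1, rfl⟩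
    simpa [he, mul_assoc] using h2
  -- so `e` normalises `R`
  set H := R.comap (MulAut.conj e).toMonoidHom ⊓ R with hH
  have hmem : ∀ v ∈ V₀, v * v ∈ H := fun v hv => Subgroup.mem_inf.2 ⟨by
    show e * (v * v) * e⁻¹ ∈ R
    rw [show e * (v * v) * e⁻¹ = e * v * e⁻¹ * (e * v * e⁻¹) by group]
    exact hsqW _ (hconjW v hv), hsqW v hv.1⟩
  have hRH : R ≤ H := hgen H inf_le_right (fun v hv hc => hmem v (Subgroup.mem_inf.2
      ⟨mem_extend.2 (Or.inl hv), Subgroup.mem_centralizer_singleton_iff.2 hc.symm.eq⟩))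
    fun v hv hc => hmem _ (Subgroup.mem_inf.2
      ⟨mem_extend.2 (Or.inr (by rw [show x * v * x = x * v * x from rfl]; exact hxn v hv)),
        Subgroup.mem_centralizer_singleton_iff.2 hc.symm.eq⟩)
  obtain ⟨r, hr⟩ := Finite.injective_iff_surjective.1
    (show Function.Injective (fun r : ↥R => (⟨e * r * e⁻¹, (hRH r.2).1⟩ : ↥R)) from
      fun r s e' => Subtype.ext (mul_left_cancel (mul_right_cancel (congrArg Subtype.val e'))))
    ⟨z', hz'R⟩
  have hrz : e * (r : G) * e⁻¹ = z' := congrArg Subtype.val hr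
  rw [← hed] at hrz
  exact hdR (mul_left_cancel (mul_right_cancel hrz) ▸ r.2)

variable [FaithfulSMul G Ω]

/-- No inverted element gives a bad involution commuting with a member outside `R`. -/
theorem false_of_commute (hrank : MaxRank D Ω R) {d v : G} (hd : d ∈ B) (hdd : d * d = 1)
    (hdR : d ∉ R) (hv : v ∈ B) (hvi : (x * v) * (x * v) = 1) (hc : Commute d (x * v)) : False := by
  have L := C.base.line
  have hx1 : x * v ≠ 1 := fun e => L.x_notMem h (by
    rw [eq_inv_of_mul_eq_one_left e]; exact inv_mem (C.base.le hv))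
  have h2 : orderOf (x * v) = 2 := orderOf_eq_prime (by rw [pow_two]; exact hvi) hx1
  have hva : (x * v) • a = a := by
    rw [mul_smul, mem_stabilizer_iff.1 (L.point.le (C.base.le hv)), L.fix]
  have hbad : IsBad Ω (x * v) := by
    rcases h.mem_or_bad h2 hva with hD | hb
    · refine absurd ?_ (L.x_notMem h)
      have := K.mul_mem (L.point.dat_le _ ⟨hD, hva⟩) (K.inv_mem (C.base.le hv))
      rwa [mul_inv_cancel_right] at this
    · exact hb
  set U := extend d R hdd fun r hr => by
    rw [(C.R_comm hr hd).eq, mul_assoc, hdd, mul_one]; exact hr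
  have hUB : U ≤ B := fun g hg => by
    rcases mem_extend.1 hg with hg | hg
    · exact C.R_le hg
    · have := B.mul_mem (C.R_le hg) (B.inv_mem hd)
      rwa [mul_inv_cancel_right] at this
  have hUsq : ∀ g ∈ U, g * g = 1 := fun g hg => by
    rcases mem_extend.1 hg with hg | hg
    · exact L.sq g hg
    · rw [show g = g * d * d by rw [mul_assoc, hdd, mul_one],
        show g * d * d * (g * d * d) = g * d * (d * (g * d)) * d by group,
        (C.R_comm hg hd).eq, show g * d * (g * d * d) * d = g * d * (g * d) * (d * d) by group, hdd,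
        mul_one, L.sq _ hg]
  have hle := hrank (x * v) a U hbad hUsq
    (fun g hg hg1 => L.point.invol_mem g (C.base.le (hUB hg))
      (orderOf_eq_prime (by rw [pow_two]; exact hUsq g hg) hg1))
    (fun g hg => by
      have hR : ∀ r ∈ R, Commute (x * v) r := fun r hr => (L.comm r (L.le hr)).mul_left (C.R_comm hr hv)
      rcases mem_extend.1 hg with hg | hg
      · exact hR g hg
      · rw [show g = g * d * d by rw [mul_assoc, hdd, mul_one]]
        exact (hR _ hg).mul_right hc.symm)
  have hRU : R ≤ U := fun r hr => mem_extend.2 (Or.inl hr)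
  have heq := Subgroup.eq_of_le_of_card_ge hRU hle
  exact hdR (heq ▸ mem_extend.2 (Or.inr (by rw [hdd]; exact one_mem R)))

/-- So `B` is not the intersection of a maximal 2-subgroup with `K`. -/
theorem false_of_inf_eq (hnf : NoFull D Ω) (hrank : MaxRank D Ω R) (hcase : ¬ (κ = 0 ∧ c = 0))
    (hS : IsTopTwo S a) (hxS : x ∈ S) (hT : S ⊓ K = B) : False := by
  haveI := C.char2
  haveI := C.finite
  have L := C.base.line
  have hZ := C.omCentre_eq hcase
  obtain ⟨d, hdB, hdD, hda, hdR⟩ := C.exists_member hnf hS hxS hT.le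
  have hdd : d * d = 1 := h.toOnePoint.mul_self hdD
  by_cases hκ : κ = 0
  · subst hκ
    have hc0 : c ≠ 0 := fun e => hcase ⟨rfl, e⟩
    refine C.false_of_generate h hS hxS hT hZ ⟨hdD, hda⟩ hdR fun H hHR h1 _ r hr => ?_
    -- a scaled element of the layer `wc = 0`
    by_cases hw : wc d = 0
    · refine absurd ?_ hdR
      refine C.kernel d hdB ?_ hw
      have := C.sq d hdB
      rw [hdd, C.ρ_one] at this
      simp only [sqF, hw, mul_zero, zero_mul, map_zero, add_zero] at this
      exact (mul_eq_zero.mp this.symm).resolve_left hc0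
    obtain ⟨v, hv, hu, hwv⟩ := C.onto (c⁻¹ * ρ r) 0
    have hc : Commute d v := C.commute_of_pol hv hdB (by simp [polF, hwv])
    have e : v * v = r := C.ρ_eq (C.sq_mem v hv) hr (by
      rw [C.sq v hv, hu, hwv]
      simp only [sqF, mul_zero, zero_mul, map_zero, add_zero, mul_inv_cancel_left₀ hc0])
    exact e ▸ h1 v hv hc
  · have hθ := C.twist hκ
    obtain ⟨d₁, hd₁, hw₁, hd₁d₁⟩ : ∃ d₁ ∈ B, wc d₁ = 1 ∧ d₁ * d₁ = 1 := by
      by_cases hw : wc d = 0
      · have hu : uc d ≠ 0 := fun e => hdR (C.kernel d hdB e hw)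
        have hs := C.sq d hdB
        rw [hdd, C.ρ_one] at hs
        simp only [sqF, hw, mul_zero, zero_mul, map_zero, add_zero] at hs
        have hc0 : c = 0 := (mul_eq_zero.mp hs.symm).resolve_right hu
        obtain ⟨v, hv, huv, hwv⟩ := C.onto (θ κ⁻¹) 1
        refine ⟨v, hv, hwv, C.ρ_inj _ (C.sq_mem v hv) ?_⟩
        rw [C.sq v hv, huv, hwv, sqF, hc0, zero_mul, zero_add, map_one, mul_one, mul_one,
          RingEquiv.symm_apply_apply, mul_inv_cancel₀ hκ, CharTwo.add_self_eq_zero]
      · obtain ⟨g, hga, -, hgB, -, hg⟩ := C.scale (wc d)⁻¹ (inv_ne_zero hw)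
        refine ⟨g * d * g⁻¹, (Subgroup.mem_normalizer_iff.1 hgB d).1 hdB,
          by rw [(hg d hdB).2, inv_mul_cancel₀ hw], ?_⟩
        rw [show g * d * g⁻¹ * (g * d * g⁻¹) = g * (d * d) * g⁻¹ by group, hdd]; group
    have hd₁R : d₁ ∉ R := fun hr => one_ne_zero (hw₁.symm.trans (C.coords_R hr).2)
    have hd₁1 : d₁ ≠ 1 := fun e => hd₁R (e ▸ one_mem R)
    have hd₁D := L.point.invol_mem d₁ (C.base.le hd₁) (orderOf_eq_prime (by rw [pow_two]; exact hd₁d₁) hd₁1)
    have hsq : sqF θ c κ (uc d₁) 1 = 0 := by rw [← hw₁, ← C.sq d₁ hd₁, hd₁d₁, C.ρ_one]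
    rcases SuzukiForm.generation θ hθ C.card hκ hsq with ⟨y, w, hp, hi⟩ | hgenF
    · obtain ⟨v, hv, rfl, rfl⟩ := C.onto y w
      refine C.false_of_commute h hrank hd₁ hd₁d₁ hd₁R hv ((C.inv_iff hv).2 hi)
        ((C.commute_xb_iff hv hd₁).2 ?_)
      rwa [polF_comm, hw₁]
    · refine C.false_of_generate h hS hxS hT hZ hd₁D hd₁R fun H hHR h1 h2 r hr => ?_
      let H' : AddSubgroup F :=
        { carrier := {y | ∃ s ∈ H, ρ s = y}
          zero_mem' := ⟨1, one_mem H, C.ρ_one⟩
          add_mem' := by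
            rintro _ _ ⟨s, hs, rfl⟩ ⟨s', hs', rfl⟩
            exact ⟨s * s', mul_mem hs hs', C.ρ_mul s (hHR hs) s' (hHR hs')⟩
          neg_mem' := by
            rintro _ ⟨s, hs, rfl⟩
            exact ⟨s, hs, (CharTwo.neg_eq _).symm⟩ }
      have htop : H' = ⊤ := hgenF H' (fun y w hp => by
          obtain ⟨v, hv, rfl, rfl⟩ := C.onto y w
          exact ⟨v * v, h1 v hv (C.commute_of_pol hv hd₁ (by rw [hw₁]; exact hp)), C.sq v hv⟩)
        (fun y w hp => by
          obtain ⟨v, hv, rfl, rfl⟩ := C.onto y w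
          refine ⟨_, h2 v hv ((C.commute_xb_iff hv hd₁).2 (by rwa [polF_comm, hw₁])), ?_⟩
          rw [C.xb_sq, C.ρ_mul _ (C.base.shift_mem v hv) _ (C.sq_mem v hv), C.sq v hv,
            ← C.uc_shift v hv, add_comm])
      obtain ⟨s, hs, e⟩ : ρ r ∈ H' := htop.symm ▸ AddSubgroup.mem_top _
      exact C.ρ_eq (hHR hs) hr e ▸ hs

end Coords

end CfsgLib.LocalEven.OnePointFront.Nonfull
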