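import Cfsg.Agent.Lib.LocalEven.OnePointFront.Nonfull.Curved.SuzukiLevel
import Cfsg.Agent.Lib.LocalEven.OnePointFront.Nonfull.Linear.Algebra

/-!
# Suzuki lines: an inverted element moving the class

At a level either some maximal 2-subgroup `S ⊇ Q A⟨x⟩` has all squares of `S ⊓ K` in `A`, or an
element of `S ⊓ K` normalising a layer `V` carries `x` to `x v` with `v ∈ V` moving the class: a
`Mover`.  Then `V` centralises `A`, its commutators lie in `R` and its shears on `Q` are locally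
inner.
-/

set_option autoImplicit false
set_option linter.style.haveILetI false
set_option linter.unusedSectionVars false

namespace CfsgLib.LocalEven.OnePointFront.Nonfull

open MulAction CfsgLib.LocalEven.TIEndgame

universe u v

variable {G : Type u} [Group G]

theorem shift_eq_disp (x g : G) : shift x g = disp x g := by
  rw [disp, shift]; group

/-- A translation of an involution is inverted by it. -/
theorem shift_inverted {x : G} (hx : x * x = 1) (g : G) :
    x * shift x g * x = (shift x g)⁻¹ := by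
  have h1 : (x * shift x g) * (x * shift x g) = 1 := by
    rw [← conj_eq_mul_shift hx, show g * x * g⁻¹ * (g * x * g⁻¹) = g * (x * x) * g⁻¹ by group, hx]
    group
  rw [← mul_assoc] at h1
  exact eq_inv_of_mul_eq_one_left h1

variable [Finite G] {Ω : Type v} [MulAction G Ω] {D : Set G} {a : Ω} {x : G}
  {K R Q J A V S : Subgroup G} {i : ℕ} {g : G}

/-- A biadditive alternating pairing on `R` commuting with the torus is trivial. -/
theorem CurvedLine.pairing_eq_one (L : CurvedLine D a x K R Q J) (f : G → G → G)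
    (hmem : ∀ r ∈ R, ∀ s ∈ R, f r s ∈ R)
    (hl : ∀ r ∈ R, ∀ r' ∈ R, ∀ s ∈ R, f (r * r') s = f r s * f r' s)
    (hr : ∀ r ∈ R, ∀ s ∈ R, ∀ s' ∈ R, f r (s * s') = f r s * f r s')
    (halt : ∀ r ∈ R, f r r = 1)
    (heq : ∀ j ∈ J, ∀ r ∈ R, ∀ s ∈ R, f (j * r * j⁻¹) (j * s * j⁻¹) = j * f r s * j⁻¹) :
    ∀ r ∈ R, ∀ s ∈ R, f r s = 1 := by
  letI : CommGroup R :=
    { (inferInstance : Group R) with
      mul_comm := fun r s => Subtype.ext (L.central r (L.le r.2) s s.2).eq }
  let ρ : J →* MulAut R :=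
    R.normalizerMonoidHom.comp (Subgroup.inclusion (L.norm_J.trans inf_le_left))
  have hρ : ∀ (j : J) (r : R), ((ρ j r : R) : G) = (j : G) * r * (j : G)⁻¹ := fun _ _ => rfl
  have hJ : LinearAlgebra.Scalars ρ.range := by
    refine ⟨fun r => Subtype.ext (L.sq r r.2), ?_, fun r s hr hs => ?_⟩
    · rintro _ ⟨j, rfl⟩ _ ⟨k, rfl⟩
      refine MulEquiv.ext fun r => Subtype.ext ?_
      show ((ρ j (ρ k r) : R) : G) = ((ρ k (ρ j r) : R) : G)
      rw [hρ, hρ, hρ, hρ]
      exact L.abel_J j j.2 k k.2 r r.2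
    · obtain ⟨j, hj, e⟩ := L.trans_J r r.2 s s.2 (fun e => hr (Subtype.ext e))
        (fun e => hs (Subtype.ext e))
      exact ⟨ρ ⟨j, hj⟩, ⟨⟨j, hj⟩, rfl⟩, Subtype.ext (by rw [hρ]; exact e)⟩
  have key := hJ.phi (fun r s : R => (⟨f r s, hmem r r.2 s s.2⟩ : R))
    (fun r r' s => Subtype.ext (hl r r.2 r' r'.2 s s.2))
    (fun r s s' => Subtype.ext (hr r r.2 s s.2 s' s'.2))
    (fun r => Subtype.ext (halt r r.2)) (fun j hj r s => by
      obtain ⟨j, rfl⟩ := hj
      refine Subtype.ext ?_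
      show f ((ρ j r : R) : G) ((ρ j s : R) : G) = ((ρ j _ : R) : G)
      rw [hρ, hρ, hρ]
      exact heq j j.2 r r.2 s s.2)
  intro r hr s hs
  exact congrArg Subtype.val (key ⟨r, hr⟩ ⟨s, hs⟩)

/-- An element of a maximal 2-subgroup carries `x` to an element moving the class of a layer. -/
structure Mover (D : Set G) (a : Ω) (x : G) (K R Q J A V S : Subgroup G) (g : G) (i : ℕ) : Prop
    where
  layer : Layer D a x K R Q J A V i
  top : IsTopTwo S a
  x_mem : x ∈ S
  le_top : V ≤ S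
  mem : g ∈ S ⊓ K
  norm : g ∈ Subgroup.normalizer (V : Set G)
  shift_mem : shift x g ∈ V
  moved : cls x i (shift x g) ≠ 1

/-- Either the squares of a maximal 2-subgroup lie in `A`, or there is a mover. -/
theorem InvLevel.cases (L : InvLevel D a x K R Q J A i) (h : ClosedSetting D Ω) :
    (∃ S : Subgroup G, IsTopTwo S a ∧ x ∈ S ∧ Q ≤ S ∧ A ≤ S ∧ ∀ t ∈ S ⊓ K, t * t ∈ A) ∨
      ∃ (V S : Subgroup G) (g : G), Mover D a x K R Q J A V S g i := by
  haveI : Fact (Nat.Prime 2) := ⟨Nat.prime_two⟩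
  have LC := L.line.toCurvedLine
  have hxinv : x⁻¹ = x := inv_eq_of_mul_eq_one_right L.x_sq
  have hKn : ∀ k ∈ K, x * k * x ∈ K := fun k hk => by simpa [hxinv] using LC.conj_K L.line.fix hk
  have htop : ∀ W : Subgroup G, IsPGroup 2 W → W ≤ K → x ∈ Subgroup.normalizer (W : Set G) →
      ∃ S, IsTopTwo S a ∧ W ≤ S ∧ x ∈ S := by
    intro W hW hWK hxW
    obtain ⟨S, hS, hle⟩ := exists_top_two (hW.to_sup_of_normal_left'
        (Involution.Basic.isPGroup_zpowers_of_two L.line.bad.1) (Subgroup.zpowers_le.2 hxW))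
      (sup_le (hWK.trans LC.point.le) (Subgroup.zpowers_le.2 (mem_stabilizer_iff.2 L.line.fix)))
    exact ⟨S, hS, le_sup_left.trans hle, hle (Subgroup.mem_sup_right (Subgroup.mem_zpowers x))⟩
  by_cases hmove : ∃ g₀ ∈ L.moves, cls x i g₀ ≠ 1
  · obtain ⟨g₀, hg₀, hg₀1⟩ := hmove
    obtain ⟨V, M⟩ := L.exists_layer h hg₀ hg₀1
    obtain ⟨S, hS, hVS, hxS⟩ := htop V M.two M.le_K M.x_mem
    by_cases hsub : S ⊓ K ≤ V
    · exact Or.inl ⟨S, hS, hxS, M.Q_le.trans hVS, M.A_le.trans hVS,
        fun t ht => M.sq_mem_A h (hsub ht)⟩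
    refine Or.inr ?_
    obtain ⟨g, hg, hgV, hgn, hgd⟩ := exists_growth (K := K) (A := V) L.x_sq hxS hS.1 hKn
      (LC.x_notMem h) (le_inf hVS M.le_K)
      (fun v hv => by simpa [hxinv] using (Subgroup.mem_normalizer_iff.1 M.x_mem v).1 hv) hsub
    rw [← shift_eq_disp] at hgd
    refine ⟨V, S, g, ⟨M, hS, hxS, hVS, hg, hgn, hgd, fun hk => hgV ?_⟩⟩
    have hvA := L.mem_A_of_inverted (M.zero h hgd hk) (shift_inverted L.x_sq g)
    obtain ⟨b, hb, hbe⟩ := M.exists_shift hvA
    have hq := (LC.mem_inf h (hS.1.to_le (inf_le_left : S ⊓ K ≤ S)) inf_le_right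
      (le_inf ((inf_le_right.trans M.Q_le).trans hVS) inf_le_left)
      (mul_mem (inv_mem (Subgroup.mem_inf.2 ⟨hVS hb, M.le_K hb⟩)) hg)
      ((shift_eq_iff L.x_sq).1 hbe)).2
    have := mul_mem hb (M.Q_le hq)
    rwa [mul_inv_cancel_left] at this
  · push Not at hmove
    have hxW : x ∈ Subgroup.normalizer (L.kerGroup : Set G) := mem_normalizer_of_conj_mem fun y hy => by
      obtain ⟨q, hq, u, hu, rfl⟩ := hy
      rw [show x * (q * u) * x⁻¹ = (x * q * x⁻¹) * (x * u * x⁻¹) by group]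
      exact mul_mem (L.le_kerGroup.1 ((Subgroup.mem_normalizer_iff.1 L.x_normalizer_Q q).1 hq))
        (L.le_kerGroup.2 (L.conj_A L.x_normalizer hu))
    obtain ⟨S, hS, hWS, hxS⟩ := htop L.kerGroup L.kerGroup_two L.kerGroup_le hxW
    refine Or.inl ⟨S, hS, hxS, L.le_kerGroup.1.trans hWS, L.le_kerGroup.2.trans hWS, fun t ht => ?_⟩
    suffices hsub : S ⊓ K ≤ L.kerGroup by
      obtain ⟨q, hq, u, hu, rfl⟩ := hsub ht
      rw [(L.comm_Q u hu q hq).mul_mul_mul_comm q u]
      exact mul_mem (L.R_le (L.line.sq_mem q hq)) (mul_mem hu hu)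
    by_contra hsub
    obtain ⟨g, hg, hgW, hgn, hgd⟩ := exists_growth (K := K) (A := L.kerGroup) L.x_sq hxS hS.1 hKn
      (LC.x_notMem h) (le_inf hWS L.kerGroup_le)
      (fun v hv => by simpa [hxinv] using (Subgroup.mem_normalizer_iff.1 hxW v).1 hv) hsub
    rw [← shift_eq_disp] at hgd
    have hv := L.mem_A_of_inverted hgd (shift_inverted L.x_sq g)
    have hgQ : g ∈ Subgroup.normalizer (Q : Set G) := by
      refine mem_normalizer_of_conj_mem fun w hw => ?_
      set z := g * w * g⁻¹ with hz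
      have hzW : z ∈ L.kerGroup := (Subgroup.mem_normalizer_iff.1 hgn w).1 (L.le_kerGroup.1 hw)
      have hcz : Commute (x * shift x g) z := by
        rw [← conj_eq_mul_shift L.x_sq, hz]
        have := (L.line.comm w hw).map (MulAut.conj g).toMonoidHom
        simpa [mul_assoc] using this
      obtain ⟨q, hq, u, hu, e⟩ := hzW
      have hvz : Commute (shift x g) z := e ▸
        ((L.comm_Q _ hv q hq).mul_right (L.comm _ hv u hu))
      have hxz : Commute x z := by
        have h2 := hcz.mul_left hvz.inv_left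
        rwa [mul_inv_cancel_right] at h2
      have hxu : Commute x u := by
        rw [← e] at hxz
        have h2 := (L.line.comm q hq).inv_right.mul_right hxz
        rwa [inv_mul_cancel_left] at h2
      have huR : u ∈ R := L.invol u hu (mul_eq_one_iff_eq_inv.2
        (by rw [← L.inv u hu, hxu.eq, mul_assoc, L.x_sq, mul_one]))
      exact e ▸ mul_mem hq (L.line.le huR)
    have hgA : g ∈ Subgroup.normalizer (A : Set G) := by
      refine mem_normalizer_of_conj_mem fun u hu => L.mem_A_of_centr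
        ((Subgroup.mem_normalizer_iff.1 hgn u).1 (L.le_kerGroup.2 hu)) fun p hp => ?_
      have hp' : g⁻¹ * p * g ∈ Q := by
        have := (Subgroup.mem_normalizer_iff.1 (inv_mem hgQ) p).1 hp
        rwa [inv_inv] at this
      have := (L.comm_Q u hu _ hp').map (MulAut.conj g).toMonoidHom
      simpa [mul_assoc] using this
    obtain ⟨n, hn⟩ := hS.1 ⟨g, hg.1⟩
    have hgm : g ∈ L.moves := ⟨hg.2, hgQ, hgA,
      L.line.commute_two hgQ ⟨n, congrArg Subtype.val hn⟩, hv⟩
    exact hgW (L.two_zero h (hS.1.to_le inf_le_left) inf_le_right (le_inf hWS L.kerGroup_le) hg hgm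
      (hmove g hgm))

namespace Layer

variable (M : Layer D a x K R Q J A V i) (h : ClosedSetting D Ω)
include M h

/-- What normalises a layer normalises `R`. -/
theorem conj_mem_R {n r : G} (hn : n ∈ Subgroup.normalizer (V : Set G)) (hr : r ∈ R) :
    n * r * n⁻¹ ∈ R := by
  obtain ⟨q, hq, rfl⟩ := M.level.line.sq_onto r hr
  refine M.level.invol _ ?_ ?_
  · rw [show n * (q * q) * n⁻¹ = n * q * n⁻¹ * (n * q * n⁻¹) by group]
    exact M.sq_mem_A h ((Subgroup.mem_normalizer_iff.1 hn q).1 (M.Q_le hq))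
  · rw [show n * (q * q) * n⁻¹ * (n * (q * q) * n⁻¹) = n * ((q * q) * (q * q)) * n⁻¹ by group,
      M.level.square.sq _ hr]
    group

end Layer

namespace Mover

variable (M : Mover D a x K R Q J A V S g i) (h : ClosedSetting D Ω)
include M h

/-- An inverted element in every class. -/
theorem exists_inverted : ∀ r ∈ R, ∃ t ∈ V, x * t * x = t⁻¹ ∧ cls x i t = r := by
  intro r hr
  have L := M.layer.level
  rcases eq_or_ne r 1 with rfl | hr1
  · exact ⟨1, one_mem V, by rw [mul_one, L.x_sq, inv_one], L.cls_one⟩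
  have hvR := L.cls_mem (M.layer.le M.shift_mem)
  obtain ⟨j, hj, e⟩ := L.line.trans_J _ hvR r hr M.moved hr1
  obtain ⟨k, hka, hkx, hkQ, hkA, hkV, hkj⟩ := M.layer.torus j hj
  refine ⟨k * shift x g * k⁻¹, (Subgroup.mem_normalizer_iff.1 hkV _).1 M.shift_mem, ?_,
    by rw [L.cls_conj hkx, hkj _ hvR, e]⟩
  calc x * (k * shift x g * k⁻¹) * x = (x * k) * shift x g * (k⁻¹ * x) := by group
    _ = (k * x) * shift x g * (x * k⁻¹) := by rw [hkx.eq, hkx.inv_right.eq]
    _ = k * (x * shift x g * x) * k⁻¹ := by group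
    _ = _ := by rw [shift_inverted L.x_sq]; group

/-- The layer centralises `A`. -/
theorem cent : ∀ b ∈ V, ∀ u ∈ A, Commute b u := by
  classical
  set N := M.layer with hN
  have L := N.level
  choose! τ hτV hτi hτk using M.exists_inverted h
  have hm : ∀ b ∈ V, b ∈ L.moves := fun b hb => N.le hb
  have hcR : ∀ b ∈ V, ∀ r ∈ R, b * r * b⁻¹ = r := fun b hb r hr => N.conj_R hb hr
  have hrep : ∀ b ∈ V, (τ (cls x i b))⁻¹ * b ∈ L.kerGroup := fun b hb => by
    have ht := hτV _ (L.cls_mem (hm b hb))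
    refine N.zero h (mul_mem (inv_mem ht) hb) ?_
    rw [L.cls_mul (hm _ (inv_mem ht)) (hm b hb), L.cls_inv (hm _ ht), hτk _ (L.cls_mem (hm b hb)),
      L.square.sq _ (L.cls_mem (hm b hb))]
  have hnA : ∀ b ∈ V, ∀ u ∈ A, b * u * b⁻¹ ∈ A := fun b hb u hu => L.conj_A (hm b hb).2.2.1 hu
  have hdA : ∀ b ∈ V, ∀ u ∈ A, pol b u ∈ A := fun b hb u hu =>
    mul_mem (hnA b hb u hu) (inv_mem hu)
  have hdpow : ∀ b ∈ V, ∀ u ∈ A, ∀ n : ℕ, pol b u ^ n = pol b (u ^ n) := fun b hb u hu n => by
    rw [pol, (L.comm _ (hnA b hb u hu) _ (inv_mem hu)).mul_pow, conj_pow, inv_pow]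
    rfl
  have hdR : ∀ b ∈ V, ∀ r ∈ R, pol b r = 1 := fun b hb r hr => by
    rw [pol, hcR b hb r hr, mul_inv_cancel]
  have key : ∀ j ≤ i + 1, ∀ b ∈ V, ∀ u ∈ A, pol b u ^ 2 ^ (i + 1 - j) = 1 := by
    intro j
    induction j with
    | zero => exact fun _ b hb u hu => L.exp _ (hdA b hb u hu)
    | succ j ih =>
      intro hj b hb u hu
      rcases Nat.eq_zero_or_pos j with hj0 | hj0
      · subst hj0
        rw [show i + 1 - (0 + 1) = i by omega, hdpow b hb u hu]
        exact hdR b hb _ (L.pow_mem_R hu)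
      have ih' := ih (by omega)
      rw [show i + 1 - (j + 1) = i - j by omega]
      set n := 2 ^ (i - j) with hn
      have hn2 : ∀ b ∈ V, ∀ u ∈ A, (pol b u ^ n) * (pol b u ^ n) = 1 := fun b hb u hu => by
        rw [← pow_add, ← two_mul, hn, ← pow_succ', show i - j + 1 = i + 1 - j by omega]
        exact ih' b hb u hu
      have hβR : ∀ b ∈ V, ∀ u ∈ A, pol b u ^ n ∈ R := fun b hb u hu =>
        L.invol _ (pow_mem (hdA b hb u hu) _) (hn2 b hb u hu)
      have hright : ∀ b ∈ V, ∀ u ∈ A, ∀ w ∈ A, pol b (u * w) ^ n = pol b u ^ n * pol b w ^ n := by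
        intro b hb u hu w hw
        rw [← (L.comm _ (hdA b hb u hu) _ (hdA b hb w hw)).mul_pow]
        congr 1
        calc pol b (u * w) = b * u * b⁻¹ * (pol b w * u⁻¹) := by simp only [pol]; group
          _ = _ := by
            rw [(L.comm _ (hdA b hb w hw) _ (inv_mem hu)).eq, ← mul_assoc]
            rfl
      have hleft : ∀ b ∈ V, ∀ c ∈ V, ∀ u ∈ A, pol (b * c) u ^ n = pol c u ^ n * pol b u ^ n := by
        intro b hb c hc u hu
        have h1 := hdA c hc u hu
        have e : pol (b * c) u = pol b (pol c u) * pol c u * pol b u := by simp only [pol]; group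
        rw [e, (L.comm _ (mul_mem (hdA b hb _ h1) h1) _ (hdA b hb u hu)).mul_pow,
          (L.comm _ (hdA b hb _ h1) _ h1).mul_pow, hdpow b hb _ h1 n, hdR b hb _ (hβR c hc u hu),
          one_mul]
      have hker1 : ∀ k ∈ L.kerGroup, ∀ u ∈ A, pol k u ^ n = 1 := by
        rintro _ ⟨q, hq, w, hw, rfl⟩ u hu
        have hc : Commute (q * w) u := (L.comm_Q u hu q hq).symm.mul_left (L.comm w hw u hu)
        rw [pol, hc.eq, mul_inv_cancel_right, mul_inv_cancel, one_pow]
      have hdep_b : ∀ b ∈ V, ∀ u ∈ A, pol b u ^ n = pol (τ (cls x i b)) u ^ n := by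
        intro b hb u hu
        have ht := hτV _ (L.cls_mem (hm b hb))
        conv_lhs => rw [show b = τ (cls x i b) * ((τ (cls x i b))⁻¹ * b) by group]
        rw [hleft _ ht _ (N.ker_le (hrep b hb)) u hu, hker1 _ (hrep b hb) u hu, one_mul]
      have hdep_u : ∀ b ∈ V, ∀ u ∈ A, ∀ w ∈ A, u ^ 2 ^ i = w ^ 2 ^ i →
          pol b u ^ n = pol b w ^ n := by
        intro b hb u hu w hw e
        obtain ⟨z, hz, hze⟩ := L.exists_sq (mul_mem (inv_mem hw) hu) (by
          rw [(L.comm _ (inv_mem hw) _ hu).mul_pow, inv_pow, e, inv_mul_cancel])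
        rw [show u = w * (z * z) by rw [hze, mul_inv_cancel_left],
          hright b hb w hw _ (mul_mem hz hz), hright b hb z hz z hz, hn2 b hb z hz, mul_one]
      choose! σ hσA hσr using L.root
      have hf := L.line.toCurvedLine.pairing_eq_one (fun r s => pol (τ r) (σ s) ^ n)
        (fun r hr s hs => hβR _ (hτV r hr) _ (hσA s hs))
        (fun r hr r' hr' s hs => by
          have hb := mul_mem (hτV r hr) (hτV r' hr')
          have h1 := hdep_b _ hb _ (hσA s hs)
          rw [L.cls_mul (hm _ (hτV r hr)) (hm _ (hτV r' hr')), hτk r hr, hτk r' hr'] at h1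
          rw [← h1, hleft _ (hτV r hr) _ (hτV r' hr') _ (hσA s hs)]
          exact (L.comm _ (L.R_le (hβR _ (hτV r' hr') _ (hσA s hs))) _
            (L.R_le (hβR _ (hτV r hr) _ (hσA s hs)))).eq)
        (fun r hr s hs s' hs' => by
          rw [← hright _ (hτV r hr) _ (hσA s hs) _ (hσA s' hs')]
          refine hdep_u _ (hτV r hr) _ (hσA _ (mul_mem hs hs')) _
            (mul_mem (hσA s hs) (hσA s' hs')) ?_
          rw [hσr _ (mul_mem hs hs'), (L.comm _ (hσA s hs) _ (hσA s' hs')).mul_pow, hσr s hs,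
            hσr s' hs'])
        (fun r hr => by
          have ht := hτV r hr
          have hs : shift x (τ r) = (τ r)⁻¹ * (τ r)⁻¹ := by
            rw [shift_eq_disp, disp, hτi r hr]
          have hu : (τ r)⁻¹ * (τ r)⁻¹ ∈ A := hs ▸ (hm _ ht).2.2.2.2
          have he : ((τ r)⁻¹ * (τ r)⁻¹) ^ 2 ^ i = r := by rw [← hs]; exact hτk r hr
          rw [hdep_u _ ht _ (hσA r hr) _ hu (by rw [hσr r hr, he]),
            show pol (τ r) ((τ r)⁻¹ * (τ r)⁻¹) = 1 by simp only [pol]; group, one_pow])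
        (fun k hk r hr s hs => by
          obtain ⟨c, hca, hcx, hcQ, hcA, hcV, hcj⟩ := N.torus k hk
          have hτg : c * τ r * c⁻¹ ∈ V := (Subgroup.mem_normalizer_iff.1 hcV _).1 (hτV r hr)
          have hσg : c * σ s * c⁻¹ ∈ A := L.conj_A hcA (hσA s hs)
          have hr' : k * r * k⁻¹ ∈ R := L.line.toCurvedLine.J_conj_R hk hr
          have hs' : k * s * k⁻¹ ∈ R := L.line.toCurvedLine.J_conj_R hk hs
          have e1 : cls x i (c * τ r * c⁻¹) = k * r * k⁻¹ := by
            rw [L.cls_conj hcx, hτk r hr, hcj r hr]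
          have h1 := hdep_b _ hτg _ hσg
          rw [e1] at h1
          rw [hdep_u _ (hτV _ hr') _ (hσA _ hs') _ hσg (by
              rw [hσr _ hs', conj_pow, hσr s hs, hcj s hs]),
            ← h1, ← hcj _ (hβR _ (hτV r hr) _ (hσA s hs)), ← conj_pow]
          congr 1
          simp only [pol]; group)
      rw [hdep_b b hb u hu,
        hdep_u _ (hτV _ (L.cls_mem (hm b hb))) u hu _ (hσA _ (L.pow_mem_R hu))
          (hσr _ (L.pow_mem_R hu)).symm]
      exact hf _ (L.cls_mem (hm b hb)) _ (L.pow_mem_R hu)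
  intro b hb u hu
  have h1 := key (i + 1) le_rfl b hb u hu
  rw [Nat.sub_self, pow_zero, pow_one, pol, mul_inv_eq_one, mul_inv_eq_iff_eq_mul] at h1
  exact h1

/-- The commutators of the layer lie in `R`. -/
theorem pol_mem_R {b c : G} (hb : b ∈ V) (hc : c ∈ V) : pol b c ∈ R := by
  have hd := M.layer.pol_mem_A h hb hc
  refine M.layer.level.invol _ hd ?_
  have h1 : pol (b * b) c = 1 := by
    rw [pol, ← (M.cent h c hc _ (M.layer.sq_mem_A h hb)).eq, mul_inv_cancel_right, mul_inv_cancel]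
  rw [← h1]
  calc pol b c * pol b c = b * pol b c * b⁻¹ * pol b c := by
        rw [(M.cent h b hb _ hd).eq, mul_inv_cancel_right]
    _ = _ := by simp only [pol]; group

/-- An element normalising `V` and moving `x` inside `x V` carries `Q` into `Q A`. -/
theorem conj_Q_form {n : G} (hn : n ∈ Subgroup.normalizer (V : Set G)) (hs : shift x n ∈ V) {w : G}
    (hw : w ∈ Q) : ∃ p ∈ Q, ∃ u ∈ A, n * w * n⁻¹ = p * u ∧ u * u = pol (shift x n) p := by
  have L := M.layer.level
  set z := n * w * n⁻¹ with hz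
  set v := shift x n with hv
  have hzV : z ∈ V := (Subgroup.mem_normalizer_iff.1 hn w).1 (M.layer.Q_le hw)
  have hcz : Commute (x * v) z := by
    rw [hv, ← conj_eq_mul_shift L.x_sq, hz]
    have := (L.line.comm w hw).map (MulAut.conj n).toMonoidHom
    simpa [mul_assoc] using this
  have hxzx : x * z * x = v * z * v⁻¹ := by
    calc x * z * x = x * (z * (x * v)) * v⁻¹ := by group
      _ = x * ((x * v) * z) * v⁻¹ := by rw [hcz.eq]
      _ = (x * x) * (v * z) * v⁻¹ := by group
      _ = _ := by rw [L.x_sq, one_mul]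
  have hsz : shift x z = pol v z := by rw [shift_eq_disp, disp, hxzx]; rfl
  have hcls : cls x i z = 1 := by
    obtain ⟨m, hm⟩ : ∃ m, i = m + 1 := Nat.exists_eq_add_of_le' L.pos
    rw [cls, hsz, hm, pow_succ', pow_mul, pow_two, L.square.sq _ (M.pol_mem_R h hs hzV), one_pow]
  obtain ⟨p, hp, u, hu, e⟩ := M.layer.zero h hzV hcls
  refine ⟨p, hp, u, hu, e.symm, ?_⟩
  have hδ : pol v p ∈ R := M.layer.pol_mem hs hp
  have e1 : x * z * x = p * u⁻¹ := by
    rw [← e]
    calc x * (p * u) * x = (x * p) * u * x := by group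
      _ = p * (x * u * x) := by rw [(L.line.comm p hp).eq]; group
      _ = _ := by rw [L.inv u hu]
  have e2 : v * z * v⁻¹ = p * (pol v p * u) := by
    rw [← e]
    calc v * (p * u) * v⁻¹ = v * p * v⁻¹ * (v * u * v⁻¹) := by group
      _ = pol v p * p * u := by
        rw [(M.cent h v hs u hu).eq, mul_inv_cancel_right, M.layer.conj_Q hs hp]
      _ = p * (pol v p * u) := by rw [← (L.line.central p hp _ hδ).eq, mul_assoc]
  have e3 : u⁻¹ = pol v p * u := mul_left_cancel (e1.symm.trans (hxzx.trans e2))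
  calc u * u = pol v p * (pol v p * u) * u := by
        rw [← mul_assoc (pol v p), L.square.sq _ hδ, one_mul]
    _ = pol v p := by rw [← e3, mul_assoc, inv_mul_cancel, mul_one]

/-- `p ↦ p² δ(p)` is injective modulo `R`, for the shear `δ` of the translation. -/
theorem injective_shear : ∀ p ∈ Q, ∀ p' ∈ Q,
    p * p * pol (shift x g) p = p' * p' * pol (shift x g) p' → p⁻¹ * p' ∈ R := by
  classical
  have N := M.layer
  have L := N.level
  set v := shift x g with hv
  have hΦR : ∀ p ∈ Q, p * p * pol v p ∈ R := fun p hp =>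
    mul_mem (L.line.sq_mem p hp) (N.pol_mem M.shift_mem hp)
  have hwd : ∀ p ∈ Q, ∀ r ∈ R, (p * r) * (p * r) * pol v (p * r) = p * p * pol v p := fun p hp r hr => by
    rw [L.square.mul_sq hp (L.line.le hr), L.square.pol_R hp hr, mul_one, L.square.sq r hr, mul_one,
      N.pol_mul_right M.shift_mem hp (L.line.le hr), N.pol_R M.shift_mem hr, mul_one]
  let Φ : ↥Q ⧸ R.subgroupOf Q → ↥R := Quotient.lift (fun p : ↥Q => (⟨_, hΦR p p.2⟩ : ↥R))
    fun p p' hpp => Subtype.ext <| by
      have hr := Subgroup.mem_subgroupOf.1 (QuotientGroup.leftRel_apply.1 hpp)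
      have := hwd p p.2 _ hr
      simp only [Subgroup.coe_mul, Subgroup.coe_inv, mul_inv_cancel_left] at this
      exact this.symm
  have hsurj : Function.Surjective Φ := by
    rintro ⟨r, hr⟩
    have hr' : g⁻¹ * r * g ∈ R := by
      have := N.conj_mem_R h (inv_mem M.norm) hr
      rwa [inv_inv] at this
    obtain ⟨w, hw, hwe⟩ := L.line.sq_onto _ hr'
    obtain ⟨p, hp, u, hu, e, hue⟩ := M.conj_Q_form h M.norm M.shift_mem hw
    refine ⟨QuotientGroup.mk (⟨p, hp⟩ : ↥Q), Subtype.ext ?_⟩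
    show p * p * pol v p = r
    rw [← hue, ← (L.comm_Q u hu p hp).mul_mul_mul_comm p u, ← e,
      show g * w * g⁻¹ * (g * w * g⁻¹) = g * (w * w) * g⁻¹ by group, hwe]
    group
  have hbij := hsurj.bijective_of_nat_card_le (le_of_eq (by
    have h1 := Subgroup.card_eq_card_quotient_mul_card_subgroup (R.subgroupOf Q)
    rw [Nat.card_congr (Subgroup.subgroupOfEquivOfLe L.line.le).toEquiv, L.line.card_Q, pow_two] at h1
    exact (Nat.eq_of_mul_eq_mul_right Nat.card_pos h1).symm))
  intro p hp p' hp' e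
  exact Subgroup.mem_subgroupOf.1 (QuotientGroup.eq.1
    (hbij.1 (a₁ := QuotientGroup.mk (⟨p, hp⟩ : ↥Q)) (a₂ := QuotientGroup.mk (⟨p', hp'⟩ : ↥Q))
      (Subtype.ext e)))

/-- The shears of the layer are locally inner. -/
theorem locally_inner : ∀ b ∈ V, ∀ w ∈ Q, ∃ t ∈ Q, pol b w = pol w t := by
  have N := M.layer
  have L := N.level
  set v := shift x g with hv
  intro b hb w hw
  have hbR := L.cls_mem (N.le hb)
  have hker : ∀ k ∈ L.kerGroup, ∀ p ∈ Q, ∃ t ∈ Q, pol k p = pol p t := by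
    rintro _ ⟨q, hq, u, hu, rfl⟩ p hp
    refine ⟨q, hq, ?_⟩
    rw [N.pol_mul (N.Q_le hq) (N.A_le hu) hp, show pol u p = 1 by
      rw [pol, (L.comm_Q u hu p hp).eq, mul_inv_cancel_right, mul_inv_cancel], one_mul,
      L.square.pol_symm hp hq]
  rcases eq_or_ne (cls x i b) 1 with e1 | e1
  · exact hker b (N.zero h hb e1) w hw
  obtain ⟨j, hj, e⟩ := L.line.trans_J _ (L.cls_mem (N.le M.shift_mem)) _ hbR M.moved e1
  obtain ⟨k, hka, hkx, hkQ, hkA, hkV, hkj⟩ := N.torus j hj
  set b' := k * v * k⁻¹ with hb'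
  have hb'V : b' ∈ V := (Subgroup.mem_normalizer_iff.1 hkV v).1 M.shift_mem
  have hrep : b'⁻¹ * b ∈ L.kerGroup := by
    refine N.zero h (mul_mem (inv_mem hb'V) hb) ?_
    rw [L.cls_mul (N.le (inv_mem hb'V)) (N.le hb), L.cls_inv (N.le hb'V), hb', L.cls_conj hkx,
      hkj _ (L.cls_mem (N.le M.shift_mem)), e, L.square.sq _ hbR]
  have hw' : k⁻¹ * w * k ∈ Q := by
    have := (Subgroup.mem_normalizer_iff.1 (inv_mem hkQ) w).1 hw
    rwa [inv_inv] at this
  obtain ⟨t, ht, hte⟩ := L.line.exists_pol_of_injective (pol v)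
    (fun p hp => N.pol_mem M.shift_mem hp)
    (fun p hp p' hp' => N.pol_mul_right M.shift_mem hp hp') (fun r hr => N.pol_R M.shift_mem hr)
    (M.injective_shear h) hw'
  obtain ⟨t', ht', hte'⟩ := hker _ hrep w hw
  have h3 : pol b' w = pol w (k * t * k⁻¹) := by
    have := congrArg (fun z => k * z * k⁻¹) hte
    simp only [pol] at this ⊢
    rw [hb']
    group at this ⊢
    exact this
  have hkt : k * t * k⁻¹ ∈ Q := (Subgroup.mem_normalizer_iff.1 hkQ t).1 ht
  refine ⟨t' * (k * t * k⁻¹), mul_mem ht' hkt, ?_⟩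
  rw [show b = b' * (b'⁻¹ * b) by group, N.pol_mul hb'V (N.ker_le hrep) hw, hte', h3,
    L.square.pol_mul_right hw ht' hkt]

end Mover

end CfsgLib.LocalEven.OnePointFront.Nonfull
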