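import Cfsg.Agent.Lib.LocalEven.OnePointFront.Nonfull.Curved.Base
import Cfsg.Agent.Lib.LocalEven.OnePointFront.Nonfull.Linear.TowerBase

/-!
# Suzuki lines: tools for the layers inverted by `x`

* a 2-element normalising `Q` centralises `R` and acts trivially on `Q / R`;
* if `p ↦ p² δ(p)` is injective modulo `R` for a homomorphism `δ : Q → R` killing `R`, then `δ` is
  locally inner: `δ w` is a commutator with `w`;
* an involutive map of `Q / R` fixes at least a square root of it;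
* bounds for the order of a commutative group from roots and exponent.
-/

set_option autoImplicit false
set_option linter.style.haveILetI false
set_option linter.unusedSectionVars false

namespace CfsgLib.LocalEven.OnePointFront.Nonfull

open MulAction CfsgLib.LocalEven.TIEndgame

universe u v

variable {G : Type u} [Group G] [Finite G]

namespace SquareGroup

variable {R Q : Subgroup G}

/-- A map acting as an involutive endomorphism on `Q / R` fixes at least a square root of it. -/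
theorem exists_fixed_map (S : SquareGroup R Q) (σ : G → G) (hσ : ∀ u ∈ Q, σ u ∈ Q)
    (hmul : ∀ u ∈ Q, ∀ w ∈ Q, (σ (u * w))⁻¹ * (σ u * σ w) ∈ R) (hσR : ∀ r ∈ R, σ r ∈ R)
    (hinv : ∀ u ∈ Q, u⁻¹ * σ (σ u) ∈ R) :
    ∃ E : Subgroup G, R ≤ E ∧ E ≤ Q ∧ (∀ e, e ∈ E ↔ e ∈ Q ∧ e⁻¹ * σ e ∈ R) ∧
      Nat.card Q * Nat.card R ≤ Nat.card E * Nat.card E := by
  classical
  haveI : (R.subgroupOf Q).Normal := ⟨fun r hr g => by
    show (g : G) * r * (g : G)⁻¹ ∈ R
    have hr' : (r : G) ∈ R := hr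
    rw [(S.central g g.2 _ hr').eq, mul_inv_cancel_right]
    exact hr'⟩
  letI : CommGroup (↥Q ⧸ R.subgroupOf Q) :=
    { (inferInstance : Group (↥Q ⧸ R.subgroupOf Q)) with
      mul_comm := fun p q => by
        obtain ⟨p, rfl⟩ := QuotientGroup.mk'_surjective _ p
        obtain ⟨q, rfl⟩ := QuotientGroup.mk'_surjective _ q
        rw [← map_mul, ← map_mul]
        refine QuotientGroup.eq.2 (Subgroup.mem_subgroupOf.2 ?_)
        show ((p : G) * q)⁻¹ * ((q : G) * p) ∈ R
        have h1 := S.pol_mem (inv_mem q.2) (inv_mem p.2)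
        simpa [pol, mul_assoc] using h1 }
  set π : ↥Q →* ↥Q ⧸ R.subgroupOf Q := QuotientGroup.mk' _ with hπ
  have hπeq : ∀ {u w : ↥Q}, (u : G)⁻¹ * w ∈ R → π u = π w := fun h =>
    QuotientGroup.eq.2 (Subgroup.mem_subgroupOf.2 h)
  let τ : ↥Q →* ↥Q ⧸ R.subgroupOf Q := MonoidHom.mk' (fun u => π ⟨σ u, hσ u u.2⟩) fun u w => by
    rw [← map_mul]
    exact hπeq (hmul u u.2 w w.2)
  have hker : R.subgroupOf Q ≤ τ.ker := fun r hr => MonoidHom.mem_ker.2 ((QuotientGroup.eq_one_iff _).2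
    (Subgroup.mem_subgroupOf.2 (hσR r hr)))
  let τ' := QuotientGroup.lift (R.subgroupOf Q) τ hker
  let f := τ' * MonoidHom.id (↥Q ⧸ R.subgroupOf Q)
  have hsq : ∀ p : ↥Q ⧸ R.subgroupOf Q, p * p = 1 := fun p => by
    obtain ⟨p, rfl⟩ := QuotientGroup.mk'_surjective _ p
    rw [← map_mul]
    exact (QuotientGroup.eq_one_iff _).2 (Subgroup.mem_subgroupOf.2 (S.sq_mem p p.2))
  have hττ : ∀ p, τ' (τ' p) = p := fun p => by
    obtain ⟨p, rfl⟩ := QuotientGroup.mk'_surjective _ p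
    exact (hπeq (w := ⟨σ (σ p), hσ _ (hσ p p.2)⟩) (hinv p p.2)).symm
  have hle : f.range ≤ f.ker := by
    rintro _ ⟨p, rfl⟩
    show τ' (τ' p * p) * (τ' p * p) = 1
    rw [map_mul, hττ, mul_comm p, hsq]
  have hcard : Nat.card (↥Q ⧸ R.subgroupOf Q) ≤ Nat.card f.ker * Nat.card f.ker := by
    rw [Subgroup.card_eq_card_quotient_mul_card_subgroup f.ker,
      Nat.card_congr (QuotientGroup.quotientKerEquivRange f).toEquiv]
    exact Nat.mul_le_mul_right _ (Subgroup.card_le_of_le hle)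
  have hQ : Nat.card Q = Nat.card (↥Q ⧸ R.subgroupOf Q) * Nat.card R := by
    rw [Subgroup.card_eq_card_quotient_mul_card_subgroup (R.subgroupOf Q),
      Nat.card_congr (Subgroup.subgroupOfEquivOfLe S.le).toEquiv]
  set E : Subgroup G := (f.ker.comap π).map Q.subtype with hE
  have hmem : ∀ e, e ∈ E ↔ e ∈ Q ∧ e⁻¹ * σ e ∈ R := by
    intro e
    have key : ∀ u : ↥Q, f (π u) = 1 ↔ (u : G)⁻¹ * σ u ∈ R := fun u => by
      show π ⟨σ u, hσ u u.2⟩ * π u = 1 ↔ _
      rw [mul_eq_one_iff_eq_inv, eq_comm,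
        inv_eq_of_mul_eq_one_right (hsq (π u))]
      exact QuotientGroup.eq.trans Subgroup.mem_subgroupOf
    constructor
    · rintro ⟨u, hu, rfl⟩
      exact ⟨u.2, (key u).1 hu⟩
    · rintro ⟨he, h⟩
      exact ⟨⟨e, he⟩, (key _).2 h, rfl⟩
  have hcE : Nat.card E = Nat.card f.ker * Nat.card R := by
    have h1 := (f.ker.comap π).card_mul_index
    rw [Subgroup.index_comap_of_surjective f.ker (QuotientGroup.mk'_surjective _), hQ,
      ← f.ker.card_mul_index, mul_right_comm] at h1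
    rw [hE, Subgroup.card_map_of_injective Q.subtype_injective]
    exact Nat.eq_of_mul_eq_mul_right
      (Nat.pos_of_ne_zero (Subgroup.index_ne_zero_of_finite (H := f.ker))) h1
  refine ⟨E, fun r hr => (hmem r).2 ⟨S.le hr, mul_mem (inv_mem hr) (hσR r hr)⟩,
    Subgroup.map_subtype_le _, hmem, ?_⟩
  rw [hQ, hcE, mul_assoc]
  calc Nat.card (↥Q ⧸ R.subgroupOf Q) * (Nat.card R * Nat.card R)
      ≤ Nat.card f.ker * Nat.card f.ker * (Nat.card R * Nat.card R) := Nat.mul_le_mul_right _ hcard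
    _ = _ := by ring

end SquareGroup

/-- Squaring on a commutative subgroup. -/
def sqImage (C : Subgroup G) (hc : ∀ u ∈ C, ∀ v ∈ C, Commute u v) : Subgroup G where
  carrier := {w | ∃ u ∈ C, u * u = w}
  one_mem' := ⟨1, one_mem C, one_mul 1⟩
  mul_mem' := by
    rintro _ _ ⟨u, hu, rfl⟩ ⟨v, hv, rfl⟩
    exact ⟨u * v, mul_mem hu hv, (hc u hu v hv).symm.mul_mul_mul_comm u v⟩
  inv_mem' := by
    rintro _ ⟨u, hu, rfl⟩
    exact ⟨u⁻¹, inv_mem hu, (mul_inv_rev u u).symm⟩

/-- The elements of order at most two of a commutative subgroup. -/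
def sqKer (C : Subgroup G) (hc : ∀ u ∈ C, ∀ v ∈ C, Commute u v) : Subgroup G where
  carrier := {w | w ∈ C ∧ w * w = 1}
  one_mem' := ⟨one_mem C, one_mul 1⟩
  mul_mem' := by
    rintro u v ⟨hu, hu1⟩ ⟨hv, hv1⟩
    exact ⟨mul_mem hu hv, by rw [(hc u hu v hv).symm.mul_mul_mul_comm, hu1, hv1, one_mul]⟩
  inv_mem' := by
    rintro u ⟨hu, hu1⟩
    exact ⟨inv_mem hu, by rw [← mul_inv_rev, hu1, inv_one]⟩

theorem card_sqImage (C : Subgroup G) (hc : ∀ u ∈ C, ∀ v ∈ C, Commute u v) :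
    Nat.card C = Nat.card (sqKer C hc) * Nat.card (sqImage C hc) := by
  rw [card_fibres (fun w hw => hw.1 : sqKer C hc ≤ C) (fun u => u * u) fun g hg k hk => ?_]
  · exact congrArg _ (Nat.card_congr (Equiv.setCongr (Set.ext fun w =>
      ⟨fun ⟨u, hu, e⟩ => ⟨u, hu, e⟩, fun ⟨u, hu, e⟩ => ⟨u, hu, e⟩⟩)))
  · have e : g⁻¹ * k * (g⁻¹ * k) = g⁻¹ * g⁻¹ * (k * k) :=
      (hc k hk _ (inv_mem hg)).mul_mul_mul_comm _ _
    constructor
    · intro h
      exact ⟨mul_mem (inv_mem hg) hk, by rw [e, ← mul_inv_rev, show k * k = g * g from h.symm,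
        inv_mul_cancel]⟩
    · rintro ⟨-, h⟩
      rw [e, ← mul_inv_rev, inv_mul_eq_one] at h
      exact h

/-- A commutative group in which the elements of exponent two `R` have roots of depth `k`. -/
theorem pow_le_card_of_roots {C R : Subgroup G} (hc : ∀ u ∈ C, ∀ v ∈ C, Commute u v) (hRC : R ≤ C)
    (hsq : ∀ r ∈ R, r * r = 1) (k : ℕ) (hroot : ∀ r ∈ R, ∃ u ∈ C, u ^ 2 ^ k = r) :
    Nat.card R ^ (k + 1) ≤ Nat.card C := by
  induction k generalizing C with
  | zero => simpa using Subgroup.card_le_of_le hRC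
  | succ k ih =>
    have hsub : sqImage C hc ≤ C := by rintro _ ⟨u, hu, rfl⟩; exact mul_mem hu hu
    have h1 : Nat.card R ≤ Nat.card (sqKer C hc) :=
      Subgroup.card_le_of_le fun r hr => ⟨hRC hr, hsq r hr⟩
    have h2 : Nat.card R ^ (k + 1) ≤ Nat.card (sqImage C hc) := by
      refine ih (fun u hu v hv => hc u (hsub hu) v (hsub hv)) ?_ fun r hr => ?_
      · intro r hr
        obtain ⟨u, hu, e⟩ := hroot r hr
        exact ⟨u ^ 2 ^ k, pow_mem hu _, by rw [← pow_add, ← two_mul, ← pow_succ', e]⟩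
      · obtain ⟨u, hu, e⟩ := hroot r hr
        exact ⟨u * u, ⟨u, hu, rfl⟩, by rw [← pow_two, ← pow_mul, ← pow_succ', e]⟩
    rw [card_sqImage C hc, pow_succ']
    exact Nat.mul_le_mul h1 h2

/-- A commutative group of exponent `2 ^ k` with its elements of order at most two in `U`. -/
theorem card_le_pow_of_exponent {C U : Subgroup G} (hc : ∀ u ∈ C, ∀ v ∈ C, Commute u v)
    (hU : ∀ u ∈ C, u * u = 1 → u ∈ U) (k : ℕ) (hexp : ∀ u ∈ C, u ^ 2 ^ k = 1) :
    Nat.card C ≤ Nat.card U ^ k := by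
  induction k generalizing C with
  | zero =>
    have : C = ⊥ := (Subgroup.eq_bot_iff_forall C).2 fun u hu => by simpa using hexp u hu
    rw [this, Subgroup.card_bot, pow_zero]
  | succ k ih =>
    have hsub : sqImage C hc ≤ C := by rintro _ ⟨u, hu, rfl⟩; exact mul_mem hu hu
    have h1 : Nat.card (sqKer C hc) ≤ Nat.card U :=
      Subgroup.card_le_of_le fun r hr => hU r hr.1 hr.2
    have h2 : Nat.card (sqImage C hc) ≤ Nat.card U ^ k := by
      refine ih (fun u hu v hv => hc u (hsub hu) v (hsub hv)) (fun u hu => hU u (hsub hu)) ?_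
      rintro _ ⟨u, hu, rfl⟩
      rw [← pow_two, ← pow_mul, ← pow_succ']
      exact hexp u hu
    rw [card_sqImage C hc, pow_succ']
    exact Nat.mul_le_mul h1 h2

variable {Ω : Type v} [MulAction G Ω] {D : Set G} {a : Ω} {x : G} {K R Q J : Subgroup G}

namespace SuzukiLine

variable (L : SuzukiLine D a x K R Q J)
include L

/-- A 2-element normalising `Q` centralises `R`. -/
theorem commute_two {t : G} (hQ : t ∈ Subgroup.normalizer (Q : Set G))
    (h2 : ∃ n : ℕ, t ^ 2 ^ n = 1) : ∀ r ∈ R, Commute t r := by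
  obtain ⟨n, hn⟩ := h2
  induction n generalizing t with
  | zero =>
    rw [pow_zero, pow_one] at hn
    subst hn
    exact fun r _ => Commute.one_left r
  | succ n ih =>
    refine L.commute hQ (L.actsTriv (mul_mem hQ hQ) (ih (mul_mem hQ hQ) ?_))
    rwa [← pow_two, ← pow_mul, ← pow_succ']

/-- The commutators with an element outside `R` are at least half of `R`. -/
theorem mul_mem_pol {w : G} (hw : w ∈ Q) (hwR : w ∉ R) {r s : G} (hr : r ∈ R) (hs : s ∈ R)
    (hr' : ∀ t ∈ Q, pol w t ≠ r) (hs' : ∀ t ∈ Q, pol w t ≠ s) : ∃ t ∈ Q, pol w t = r * s := by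
  classical
  set S := L.toCurvedLine.squareGroup with hS
  let f : ↥Q →* ↥R :=
    { toFun := fun t => ⟨pol w t, S.pol_mem hw t.2⟩
      map_one' := Subtype.ext (SquareGroup.pol_one_right w)
      map_mul' := fun t t' => Subtype.ext (S.pol_mul_right hw t.2 t'.2) }
  obtain ⟨E, hE⟩ := S.exists_extend L.le le_rfl hw
  have hker : Nat.card f.ker ≤ 2 * Nat.card R := by
    rw [← S.card_extend hwR hE, ← Subgroup.card_map_of_injective Q.subtype_injective]
    refine Subgroup.card_le_of_le ?_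
    rintro _ ⟨k, hk, rfl⟩
    have hk1 : pol w (k : G) = 1 := congrArg Subtype.val hk
    have hcomm : Commute w (k : G) := mul_inv_eq_iff_eq_mul.1 (mul_inv_eq_one.1 hk1)
    rw [hE]
    rcases L.sq_comm w hw hwR k k.2 hcomm with h | h
    · exact Or.inl h
    · refine Or.inr ?_
      show (k : G) * w⁻¹ ∈ R
      rw [show (k : G) * w⁻¹ = w * (w⁻¹ * k) * w⁻¹ by group, (L.central w hw _ h).eq,
        mul_inv_cancel_right]
      exact h
  have h2 := Subgroup.card_eq_card_quotient_mul_card_subgroup f.ker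
  rw [Nat.card_congr (QuotientGroup.quotientKerEquivRange f).toEquiv, L.card_Q] at h2
  set H := f.range.map R.subtype with hH
  have hHR : H ≤ R := Subgroup.map_subtype_le _
  have hnot : ∀ {p : G}, (∀ t ∈ Q, pol w t ≠ p) → p ∉ H := by
    rintro p hp ⟨_, ⟨t, rfl⟩, e⟩
    exact hp t t.2 e
  have hhyp : IsHyper R H := by
    refine ⟨hHR, le_antisymm ?_ ?_⟩
    · rw [hH, Subgroup.card_map_of_injective R.subtype_injective]
      refine Nat.le_of_mul_le_mul_right ?_ (Nat.card_pos (α := R))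
      calc Nat.card R * Nat.card R = Nat.card f.range * Nat.card f.ker := by rw [← h2, pow_two]
        _ ≤ Nat.card f.range * (2 * Nat.card R) := Nat.mul_le_mul_left _ hker
        _ = _ := by ring
    · obtain ⟨m, hm⟩ := Subgroup.card_dvd_of_le hHR
      rcases m with _ | _ | m
      · rw [mul_zero] at hm
        exact absurd hm Nat.card_pos.ne'
      · rw [zero_add, mul_one] at hm
        exact absurd ((Subgroup.eq_of_le_of_card_ge hHR hm.le).ge hr) (hnot hr')
      · rw [hm, mul_comm 2]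
        exact Nat.mul_le_mul_left _ (by omega)
  obtain ⟨_, ⟨t, rfl⟩, e⟩ :=
    SquareGroup.mul_mem_of_not_mem hhyp hr hs (hnot hr') (hnot hs')
  exact ⟨t, t.2, e⟩

/-- If `p ↦ p² δ(p)` is injective modulo `R`, then `δ w` is a commutator with `w`. -/
theorem exists_pol_of_injective (δ : G → G) (hmem : ∀ p ∈ Q, δ p ∈ R)
    (hmul : ∀ p ∈ Q, ∀ p' ∈ Q, δ (p * p') = δ p * δ p') (hker : ∀ r ∈ R, δ r = 1)
    (hinj : ∀ p ∈ Q, ∀ p' ∈ Q, p * p * δ p = p' * p' * δ p' → p⁻¹ * p' ∈ R) {w : G} (hw : w ∈ Q) :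
    ∃ t ∈ Q, δ w = pol w t := by
  set S := L.toCurvedLine.squareGroup with hS
  by_cases hwR : w ∈ R
  · exact ⟨1, one_mem _, by rw [hker w hwR, SquareGroup.pol_one_right]⟩
  by_contra hne
  push Not at hne
  have hwn : ∀ t ∈ Q, pol w t ≠ w * w := fun t ht e => by
    refine hwR ?_
    have h1 : t⁻¹ * (t * w) ∈ R := L.sq_inj t ht _ (mul_mem ht hw) (by
      rw [S.mul_sq ht hw, ← S.pol_symm ht hw, e, mul_assoc, S.sq _ (S.sq_mem w hw), mul_one])
    rwa [inv_mul_cancel_left] at h1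
  obtain ⟨t, ht, e⟩ := L.mul_mem_pol hw hwR (hmem w hw) (S.sq_mem w hw)
    (fun t ht e => hne t ht e.symm) hwn
  refine hwR ?_
  have h1 : t⁻¹ * (t * w) ∈ R := hinj t ht _ (mul_mem ht hw) (by
    have hc : Commute (δ w) (w * w) := L.central _ (L.le (hmem w hw)) _ (S.sq_mem w hw)
    have hc' : Commute (δ w) (δ t) := L.central _ (L.le (hmem w hw)) _ (hmem t ht)
    rw [S.mul_sq ht hw, ← S.pol_symm ht hw, e, hmul t ht w hw, mul_assoc _ (δ w * (w * w)),
      mul_assoc (t * t), mul_assoc (δ w), S.sq _ (S.sq_mem w hw), mul_one, ← mul_assoc (t * t),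
      mul_assoc (t * t) (δ w), ← mul_assoc (δ w), hc'.eq, mul_assoc (δ t), S.sq _ (hmem w hw),
      mul_one])
  rwa [inv_mul_cancel_left] at h1

end SuzukiLine

end CfsgLib.LocalEven.OnePointFront.Nonfull
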