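import Cfsg.Agent.Lib.LocalEven.OnePointFront.Nonfull.Curved.SuzukiMover

/-!
# Suzuki lines: twisted layers

The layer `V` is `Q C` with `C ⊇ A` commutative, centralising `Q`, and `x` maps `c ∈ C` to `c⁻¹`
times an element of `R` that is `1` only on `A`.
-/

set_option autoImplicit false
set_option linter.style.haveILetI false
set_option linter.unusedSectionVars false

namespace CfsgLib.LocalEven.OnePointFront.Nonfull

open MulAction CfsgLib.LocalEven.TIEndgame

universe u v

variable {G : Type u} [Group G] [Finite G] {Ω : Type v} [MulAction G Ω] {D : Set G} {a : Ω} {x : G}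
  {K R Q J A V C S : Subgroup G} {i : ℕ}

/-- A twisted layer in a maximal 2-subgroup. -/
structure Twisted (D : Set G) (a : Ω) (x : G) (K R Q J A V C S : Subgroup G) (i : ℕ) : Prop where
  layer : Layer D a x K R Q J A V i
  top : IsTopTwo S a
  x_mem : x ∈ S
  le_top : V ≤ S
  C_le : C ≤ V
  A_le : A ≤ C
  comm : ∀ b ∈ C, ∀ c ∈ C, Commute b c
  comm_Q : ∀ c ∈ C, ∀ w ∈ Q, Commute c w
  cover : ∀ b ∈ V, ∃ w ∈ Q, ∃ c ∈ C, w * c = b
  twist : ∀ c ∈ C, x * c * x * c ∈ R
  untwist : ∀ c ∈ C, x * c * x = c⁻¹ → c ∈ A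
  root : ∀ r ∈ R, ∃ c ∈ C, c ^ 2 ^ (i + 1) = r
  exp : ∀ c ∈ C, c ^ 2 ^ (i + 2) = 1
  invol : ∀ c ∈ C, c * c = 1 → c ∈ R

namespace Twisted

variable (M : Twisted D a x K R Q J A V C S i)
include M

theorem C_K : C ≤ K := fun _ hc => M.layer.le_K (M.C_le hc)

theorem R_C : R ≤ C := M.layer.level.R_le.trans M.A_le

/-- A twisted layer centralises `C`. -/
theorem cent {b c : G} (hb : b ∈ V) (hc : c ∈ C) : Commute b c := by
  obtain ⟨w, hw, d, hd, rfl⟩ := M.cover b hb
  exact (M.comm_Q c hc w hw).symm.mul_left (M.comm d hd c hc)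

end Twisted

end CfsgLib.LocalEven.OnePointFront.Nonfull
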