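import Cfsg.Agent.Lib.LocalEven.OnePointFront.Nonfull.Curved.Base
import Cfsg.Agent.Lib.LocalEven.OnePointFront.Nonfull.Linear.TowerClasses
import Mathlib.GroupTheory.Perm.Cycle.Type

/-!
# Unitary lines: the elements of a base fixed by the torus element centralising `R`

A power `j` of the norm-one element has order a power of an odd prime `p` and fixes nothing outside
`R` on `Q / R`.  A 2-group of `K` normalising a `p`-group containing `j` meets the centraliser of
`x` in `R`.  If the part `U` of a base centralised by `j` is elementary, the 2-subgroups of `K`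
normalising `U` centralise it, and `U` is the group of central involutions of a Sylow 2-subgroup of
`K`: so `x` moves a central member.
-/

set_option autoImplicit false
set_option linter.style.haveILetI false

namespace CfsgLib.LocalEven.OnePointFront.Nonfull

open MulAction CfsgLib.LocalEven.TIEndgame CfsgLib.Involution
open scoped Pointwise

universe u v

variable {G : Type u} [Group G]

theorem disp_eq_shift (x g : G) : disp x g = shift x g := by
  rw [disp, shift]; group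

/-- If `t` normalises `H` and `c ∈ H` then `(c t)^n ∈ H t^n`. -/
theorem mul_pow_mul_inv_mem {H : Subgroup G} {c t : G} (hc : c ∈ H)
    (ht : ∀ y ∈ H, t * y * t⁻¹ ∈ H) (n : ℕ) : (c * t) ^ n * (t ^ n)⁻¹ ∈ H := by
  induction n with
  | zero => simp [one_mem]
  | succ n ih =>
    rw [pow_succ' (c * t), pow_succ' t, show c * t * (c * t) ^ n * (t * t ^ n)⁻¹ =
      c * (t * ((c * t) ^ n * (t ^ n)⁻¹) * t⁻¹) by group]
    exact mul_mem hc (ht _ ih)

/-- A class fixed by `s` is fixed by its powers. -/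
theorem pow_fix_class {R : Subgroup G} {s g : G} (hs : ∀ r ∈ R, s * r * s⁻¹ ∈ R)
    (hg : s * g * s⁻¹ * g⁻¹ ∈ R) (n : ℕ) : s ^ n * g * (s ^ n)⁻¹ * g⁻¹ ∈ R := by
  induction n with
  | zero => simp [one_mem]
  | succ n ih =>
    rw [pow_succ', show s * s ^ n * g * (s * s ^ n)⁻¹ * g⁻¹ =
      s * (s ^ n * g * (s ^ n)⁻¹ * g⁻¹) * s⁻¹ * (s * g * s⁻¹ * g⁻¹) by group]
    exact mul_mem (hs _ ih) hg

/-- An element of prime power order fixing only `R` on `Q / R`, at `a` and centralising `x`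
and `R`. -/
structure PrimaryFixer {Ω : Type v} [MulAction G Ω] (a : Ω) (x : G) (R Q : Subgroup G) (p : ℕ)
    (j : G) : Prop where
  prime : p.Prime
  ne_two : p ≠ 2
  order : ∃ k, orderOf j = p ^ k
  fix : j • a = a
  comm : Commute x j
  central : ∀ r ∈ R, Commute j r
  normQ : j ∈ Subgroup.normalizer (Q : Set G)
  fpf : ∀ g ∈ Q, j * g * j⁻¹ * g⁻¹ ∈ R → g ∈ R

variable {Ω : Type v} [MulAction G Ω] {D : Set G} {a : Ω} {x j : G} {K R Q J : Subgroup G} {p : ℕ}

theorem PrimaryFixer.isPGroup_zpowers (F : PrimaryFixer a x R Q p j) :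
    IsPGroup p ↥(Subgroup.zpowers j) := by
  obtain ⟨k, hk⟩ := F.order
  exact IsPGroup.of_card ((Nat.card_zpowers j).trans hk)

namespace CurvedLine

variable [Finite G] (L : CurvedLine D a x K R Q J)
include L

/-- An element of the torus centralising `R` fixes only `R` or all of `Q / R`. -/
theorem fpf_or_trivGroup {k : G} (hk : k ∈ J) (hR : ∀ r ∈ R, Commute k r) :
    (∀ g ∈ Q, k * g * k⁻¹ * g⁻¹ ∈ R → g ∈ R) ∨ k ∈ trivGroup R Q := by
  have hJR : ∀ i ∈ J, ∀ r ∈ R, i * r * i⁻¹ ∈ R := fun i hi r hr => L.J_conj_R hi hr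
  let V : Subgroup G :=
    { carrier := {g | g ∈ Q ∧ k * g * k⁻¹ * g⁻¹ ∈ R}
      one_mem' := ⟨one_mem _, by simp⟩
      mul_mem' := by
        rintro g e ⟨hg, hg'⟩ ⟨he, he'⟩
        refine ⟨mul_mem hg he, ?_⟩
        rw [show k * (g * e) * k⁻¹ * (g * e)⁻¹ =
          k * g * k⁻¹ * g⁻¹ * (g * (k * e * k⁻¹ * e⁻¹) * g⁻¹) by group]
        refine mul_mem hg' ?_
        rwa [(L.central g hg _ he').eq, mul_inv_cancel_right]
      inv_mem' := by
        rintro g ⟨hg, hg'⟩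
        refine ⟨inv_mem hg, ?_⟩
        rw [show k * g⁻¹ * k⁻¹ * g⁻¹⁻¹ = g⁻¹ * (k * g * k⁻¹ * g⁻¹)⁻¹ * g⁻¹⁻¹ by group,
          (L.central _ (inv_mem hg) _ (inv_mem hg')).eq, mul_inv_cancel_right]
        exact inv_mem hg' }
  rcases L.irred V (fun r hr => ⟨L.le hr, by
      rw [(hR r hr).eq, mul_inv_cancel_right, mul_inv_cancel]; exact one_mem _⟩)
    (fun g hg => hg.1) (fun i hi => mem_normalizer_of_conj_mem fun g hg => by
      obtain ⟨hgQ, hg'⟩ := hg
      refine ⟨L.J_conj_Q hi hgQ, ?_⟩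
      have hw := L.abel_Q i hi k hk g hgQ
      rw [show k * (i * g * i⁻¹) * k⁻¹ * (i * g * i⁻¹)⁻¹ = i * (k * g * k⁻¹ * g⁻¹) * i⁻¹ *
        ((i * g * i⁻¹) * ((i * (k * g * k⁻¹) * i⁻¹)⁻¹ * (k * (i * g * i⁻¹) * k⁻¹)) *
          (i * g * i⁻¹)⁻¹) by group]
      refine mul_mem (hJR i hi _ hg') ?_
      rw [(L.central _ (L.J_conj_Q hi hgQ) _ hw).eq, mul_inv_cancel_right]
      exact hw) with e | e
  · exact Or.inl fun g hg hg' => e.le ⟨hg, hg'⟩
  · exact Or.inr (mem_trivGroup.2 ⟨(Subgroup.mem_inf.1 (L.norm_J hk)).2,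
      (Subgroup.mem_inf.1 (L.norm_J hk)).1, fun g hg => (e.ge hg).2⟩)

/-- An element of the torus with the properties of the norm-one element has a power of prime power
order with them. -/
theorem exists_primary {k : G} (hk : k ∈ J) (hodd : Odd (orderOf k))
    (hR : ∀ r ∈ R, Commute k r) (hfpf : ∀ g ∈ Q, k * g * k⁻¹ * g⁻¹ ∈ R → g ∈ R) :
    ∃ p j, j ∈ J ∧ PrimaryFixer a x R Q p j := by
  induction hn : orderOf k using Nat.strong_induction_on generalizing k with
  | _ n ih =>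
    have hnT : k ∉ trivGroup R Q := fun hT =>
      L.ne (le_antisymm (fun g hg => hfpf g hg ((mem_trivGroup.1 hT).2.2 g hg)) L.le)
    have hn1 : orderOf k ≠ 1 := fun e => hnT (by rw [orderOf_eq_one_iff.1 e]; exact one_mem _)
    have hn0 : orderOf k ≠ 0 := (orderOf_pos k).ne'
    set p := (orderOf k).minFac with hp
    have hpp : p.Prime := Nat.minFac_prime hn1
    have hp2 : p ≠ 2 := fun e => Nat.not_even_iff_odd.2 hodd
      (even_iff_two_dvd.2 (e ▸ Nat.minFac_dvd _))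
    obtain ⟨e, m, hm, hem⟩ := Nat.exists_eq_pow_mul_and_not_dvd hn0 p hpp.ne_one
    have hm0 : m ≠ 0 := fun e0 => hn0 (by rw [hem, e0, mul_zero])
    have he0 : e ≠ 0 := fun e0 => hm (by
      have := Nat.minFac_dvd (orderOf k)
      rw [← hp] at this
      rwa [hem, e0, pow_zero, one_mul] at this)
    have ho1 : orderOf (k ^ m) = p ^ e := by
      rw [orderOf_pow_of_dvd hm0 (hem ▸ dvd_mul_left m _), hem,
        Nat.mul_div_cancel _ (Nat.pos_of_ne_zero hm0)]
    rcases L.fpf_or_trivGroup (pow_mem hk m) (fun r hr => (hR r hr).pow_left m) with h1 | h1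
    · exact ⟨p, k ^ m, pow_mem hk m, hpp, hp2, ⟨e, ho1⟩, L.fix_J _ (pow_mem hk m),
        L.comm_J _ (pow_mem hk m), fun r hr => (hR r hr).pow_left m,
        (Subgroup.mem_inf.1 (L.norm_J (pow_mem hk m))).2, h1⟩
    rcases L.fpf_or_trivGroup (pow_mem hk (p ^ e)) (fun r hr => (hR r hr).pow_left _) with h2 | h2
    · have ho2 : orderOf (k ^ (p ^ e)) = m := by
        rw [orderOf_pow_of_dvd (pow_ne_zero _ hpp.ne_zero) (hem ▸ dvd_mul_right _ m), hem,
          Nat.mul_div_cancel_left _ (pow_pos hpp.pos _)]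
      refine ih m ?_ (pow_mem hk _) (ho2 ▸ (Nat.odd_mul.1 (hem ▸ hodd)).2)
        (fun r hr => (hR r hr).pow_left _) h2 ho2
      rw [← hn, hem]
      exact lt_mul_of_one_lt_left (Nat.pos_of_ne_zero hm0) (Nat.one_lt_pow he0 hpp.one_lt)
    refine absurd ?_ hnT
    have hcop : Int.gcd (m : ℤ) ((p ^ e : ℕ) : ℤ) = 1 := by
      rw [Int.gcd_natCast_natCast]
      exact ((hpp.coprime_iff_not_dvd.2 hm).pow_left e).symm
    have h3 := (trivGroup R Q).mul_mem
      ((trivGroup R Q).zpow_mem h1 (Int.gcdA m ((p ^ e : ℕ) : ℤ)))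
      ((trivGroup R Q).zpow_mem h2 (Int.gcdB m ((p ^ e : ℕ) : ℤ)))
    rwa [← zpow_natCast k m, ← zpow_natCast k (p ^ e), ← zpow_mul, ← zpow_mul, ← zpow_add,
      ← Int.gcd_eq_gcd_ab, hcop, Nat.cast_one, zpow_one] at h3

/-- A 2-group of `K` normalising a `p`-group containing the fixer meets the centraliser of `x`
in `R`. -/
theorem mem_R_of_normalizer (h : ClosedSetting D Ω) (F : PrimaryFixer a x R Q p j) {P : Subgroup G}
    (hP : IsPGroup p P) (hPa : P ≤ stabilizer G a) (hjP : j ∈ P) {V : Subgroup G}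
    (hV : IsPGroup 2 V) (hVK : V ≤ K) (hRV : R ≤ V) {v : G} (hv : v ∈ V) (hvx : Commute x v)
    (hvP : v ∈ Subgroup.normalizer (P : Set G)) : v ∈ R := by
  haveI : Fact p.Prime := ⟨F.prime⟩
  haveI : Fact (Nat.Prime 2) := ⟨Nat.prime_two⟩
  obtain ⟨b, hb, hba⟩ := L.exists_other
  set P' := P ⊓ Subgroup.centralizer ({x} : Set G) with hP'
  have hcomm : ∀ g ∈ P', Commute x g := fun g hg =>
    (Subgroup.mem_centralizer_singleton_iff.1 hg.2).symm
  let α := {c : Ω // x • c = c ∧ c ≠ a}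
  letI : MulAction ↥P' α :=
    { smul := fun g c => ⟨(g : G) • (c : Ω), by
        rw [← mul_smul, (hcomm g g.2).eq, mul_smul, c.2.1],
        fun e => c.2.2 (smul_left_cancel (g : G) (e.trans (mem_stabilizer_iff.1 (hPa g.2.1)).symm))⟩
      one_smul := fun c => Subtype.ext (one_smul G (c : Ω))
      mul_smul := fun g g' c => Subtype.ext (mul_smul (g : G) (g' : G) (c : Ω)) }
  have hcard : Nat.card α = Nat.card Q := by
    refine (Nat.card_eq_of_bijective (fun q : Q => (⟨(q : G) • b, by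
      rw [← mul_smul, (L.comm q q.2).eq, mul_smul, hb],
      fun e => hba (smul_left_cancel (q : G) (e.trans (L.fix_Q q q.2).symm))⟩ : α)) ⟨?_, ?_⟩).symm
    · intro q q' e
      have e' : (q : G) • b = (q' : G) • b := congrArg Subtype.val e
      exact Subtype.ext (inv_mul_eq_one.1 (L.semiregular _ (mul_mem (inv_mem q.2) q'.2) b hb hba
        (by rw [mul_smul, ← e', inv_smul_smul])))
    · rintro ⟨c, hc, hca⟩
      obtain ⟨q, hq, e⟩ := L.trans b c hb hc hba hca
      exact ⟨⟨q, hq⟩, Subtype.ext e⟩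
  have hnd : ¬ p ∣ Nat.card α := by
    obtain ⟨n, hn⟩ := L.two.exists_card_eq
    rw [hcard, hn]
    exact fun hd => F.ne_two ((Nat.prime_dvd_prime_iff_eq F.prime Nat.prime_two).1
      (F.prime.dvd_of_dvd_pow hd))
  obtain ⟨⟨c, hc, hca⟩, hfix⟩ :=
    (hP.to_le (inf_le_left : P' ≤ P)).nonempty_fixed_point_of_prime_not_dvd_card α hnd
  have hfix' : ∀ g ∈ P', g • c = c := fun g hg => congrArg Subtype.val (hfix ⟨g, hg⟩)
  have hjP' : j ∈ P' := ⟨hjP, Subgroup.mem_centralizer_singleton_iff.2 F.comm.symm.eq⟩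
  have hjv : j • (v • c) = v • c := by
    have h1 : v⁻¹ * j * v ∈ P' := by
      refine ⟨?_, Subgroup.mem_centralizer_singleton_iff.2
        ((hvx.inv_right.mul_right F.comm).mul_right hvx).symm.eq⟩
      have := (Subgroup.mem_normalizer_iff.1 (inv_mem hvP) j).1 hjP
      rwa [inv_inv] at this
    calc j • (v • c) = v • ((v⁻¹ * j * v) • c) := by
          rw [← mul_smul, ← mul_smul, ← mul_assoc, ← mul_assoc, mul_inv_cancel, one_mul]
      _ = v • c := by rw [hfix' _ h1]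
  have hva : v • a = a := mem_stabilizer_iff.1 (L.point.le (hVK hv))
  obtain ⟨q, hq, hqc⟩ := L.trans c (v • c) hc (by rw [← mul_smul, hvx.eq, mul_smul, hc]) hca
    (fun e => hca (smul_left_cancel v (e.trans hva.symm)))
  have hqR : q ∈ R := by
    have hjq := (Subgroup.mem_normalizer_iff.1 F.normQ q).1 hq
    have h1 : q⁻¹ * (j * q * j⁻¹) = 1 := by
      refine L.semiregular _ (mul_mem (inv_mem hq) hjq) c hc hca ?_
      have hjc : j⁻¹ • c = c := inv_smul_eq_iff.2 (hfix' j hjP').symm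
      rw [mul_smul, mul_smul, mul_smul, hjc, hqc, hjv, ← hqc, inv_smul_smul]
    refine F.fpf q hq ?_
    rw [← inv_mul_eq_one.1 h1, mul_inv_cancel]
    exact one_mem _
  have hw : q⁻¹ * v ∈ V := mul_mem (inv_mem (hRV hqR)) hv
  obtain ⟨n, hn⟩ := hV ⟨_, hw⟩
  have h1 := L.eq_one_of_fix h (hVK hw) ⟨n, congrArg Subtype.val hn⟩
    (by rw [mul_smul, ← hqc, inv_smul_smul]) hca
  exact inv_mul_eq_one.1 h1 ▸ hqR

/-- A 2-group of `K` over an elementary `U` realising the translations, in which `x` centralises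
only `R`, is `U`. -/
theorem le_of_translations (h : ClosedSetting D Ω) {U V : Subgroup G}
    (hU2 : ∀ u ∈ U, u * u = 1) (hRU : R ≤ U) (hsh : ∀ u ∈ U, shift x u ∈ R)
    (honto : ∀ r ∈ R, ∃ u ∈ U, shift x u = r) (hV : IsPGroup 2 V) (hVK : V ≤ K) (hUV : U ≤ V)
    (hxV : x ∈ Subgroup.normalizer (V : Set G)) (hfix : ∀ v ∈ V, Commute x v → v ∈ R) :
    V ≤ U := by
  by_contra hlt
  haveI : Fact (Nat.Prime 2) := ⟨Nat.prime_two⟩
  have hxx := L.x_sq
  have hxi : x⁻¹ = x := inv_eq_of_mul_eq_one_right hxx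
  set S := V ⊔ Subgroup.zpowers x with hS
  have hS2 : IsPGroup 2 S := hV.to_sup_of_normal_left'
    (Involution.Basic.isPGroup_zpowers_of_two L.bad.1) (Subgroup.zpowers_le.2 hxV)
  have hxS : x ∈ S := Subgroup.mem_sup_right (Subgroup.mem_zpowers x)
  have hVn : ∀ v ∈ V, x * v * x ∈ V := fun v hv => by
    simpa [hxi] using (Subgroup.mem_normalizer_iff.1 hxV v).1 hv
  have hUn : ∀ u ∈ U, x * u * x ∈ U := fun u hu => by
    rw [show x * u * x = shift x u * u by rw [shift]; group]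
    exact mul_mem (hRU (hsh u hu)) hu
  obtain ⟨g, hg, hgU, -, hd⟩ := exists_growth (K := V) (A := U) hxx hxS hS2 hVn
    (fun hx => L.x_notMem h (hVK hx)) (le_inf (hUV.trans le_sup_left) hUV) hUn
    (fun hsub => hlt ((le_inf le_sup_left le_rfl).trans hsub))
  rw [disp_eq_shift] at hd
  set y := shift x g with hy
  have hcomm : Commute x y := by
    have h1 : x * y * (x * y) = 1 := by
      rw [← conj_eq_mul_shift hxx,
        show g * x * g⁻¹ * (g * x * g⁻¹) = g * (x * x) * g⁻¹ by group, hxx]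
      group
    show x * y = y * x
    calc x * y = (x * y)⁻¹ := (inv_eq_of_mul_eq_one_right h1).symm
      _ = y * x := by rw [mul_inv_rev, hxi, inv_eq_of_mul_eq_one_right (hU2 y hd)]
  obtain ⟨u, hu, e⟩ := honto y (hfix y (hUV hd) hcomm)
  have h1 := hRU (hfix _ (mul_mem (inv_mem (hUV hu)) hg.2) ((shift_eq_iff hxx).1 (e.trans hy)))
  exact hgU (by simpa using mul_mem hu h1)

/-- A 2-subgroup of `K` normalising a `p`-group containing the fixer and containing `U`, inside a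
subgroup normalised by `x`, has odd index only if it is `U`. -/
theorem odd_relIndex_of_fixer (h : ClosedSetting D Ω) (F : PrimaryFixer a x R Q p j)
    {P U M : Subgroup G} (hP : IsPGroup p P) (hPa : P ≤ stabilizer G a) (hjP : j ∈ P)
    (hRU : R ≤ U) (hU2 : ∀ u ∈ U, u * u = 1) (hsh : ∀ u ∈ U, shift x u ∈ R)
    (honto : ∀ r ∈ R, ∃ u ∈ U, shift x u = r) (hMP : M ≤ Subgroup.normalizer (P : Set G))
    (hM2 : ∀ g ∈ M, (∃ n : ℕ, g ^ 2 ^ n = 1) → g ∈ K) (hUM : U ≤ M)
    (hxM : x ∈ Subgroup.normalizer (M : Set G)) : Odd (U.relIndex M) := by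
  haveI : Fact (Nat.Prime 2) := ⟨Nat.prime_two⟩
  have hU : IsPGroup 2 U := fun u => ⟨1, Subtype.ext (by simpa [pow_two] using hU2 u u.2)⟩
  have hxU : x ∈ Subgroup.normalizer (U : Set G) := mem_normalizer_of_conj_mem fun u hu => by
    rw [inv_eq_of_mul_eq_one_right L.x_sq, show x * u * x = shift x u * u by rw [shift]; group]
    exact mul_mem (hRU (hsh u hu)) hu
  obtain ⟨W, hWM, hW, hodd, hinv⟩ := exists_invariant (N := M)
    (hU.to_sup_of_normal_left' (Involution.Basic.isPGroup_zpowers_of_two L.bad.1)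
      (Subgroup.zpowers_le.2 hxU))
    (sup_le (hUM.trans Subgroup.le_normalizer) (Subgroup.zpowers_le.2 hxM))
  have hUW : U ≤ W := (le_sup_right (a := W)).trans (le_of_odd_relIndex hodd
    (hW.to_sup_of_normal_left' hU (le_sup_left.trans hinv)) le_sup_left (sup_le hWM hUM))
  have hWK : W ≤ K := fun g hg => by
    obtain ⟨n, hn⟩ := hW ⟨g, hg⟩
    exact hM2 g (hWM hg) ⟨n, congrArg Subtype.val hn⟩
  have hle := L.le_of_translations h hU2 hRU hsh honto hW hWK hUW
    (hinv (Subgroup.mem_sup_right (Subgroup.mem_zpowers x)))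
    (fun v hv hvx => L.mem_R_of_normalizer h F hP hPa hjP hW hWK (hRU.trans hUW) hv hvx
      (hMP (hWM hv)))
  rwa [le_antisymm hle hUW] at hodd

/-- The 2-elements of `K` normalising an elementary `U` centralised by the fixer centralise it. -/
theorem centralises_of_fixer (h : ClosedSetting D Ω) (F : PrimaryFixer a x R Q p j)
    {U : Subgroup G} (hUK : U ≤ K) (hRU : R ≤ U) (hU2 : ∀ u ∈ U, u * u = 1)
    (hsh : ∀ u ∈ U, shift x u ∈ R) (honto : ∀ r ∈ R, ∃ u ∈ U, shift x u = r)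
    (hjU : ∀ u ∈ U, Commute j u) {v : G} (hvK : v ∈ K)
    (hvU : v ∈ Subgroup.normalizer (U : Set G)) (hv2 : ∃ n : ℕ, v ^ 2 ^ n = 1) :
    v ∈ Subgroup.centralizer (U : Set G) := by
  haveI : Fact p.Prime := ⟨F.prime⟩
  haveI : Fact (Nat.Prime 2) := ⟨Nat.prime_two⟩
  have hxx := L.x_sq
  have hUc : ∀ u ∈ U, ∀ w ∈ U, Commute u w := fun u hu w hw => by
    have hi : ∀ z ∈ U, z⁻¹ = z := fun z hz => inv_eq_of_mul_eq_one_right (hU2 z hz)
    show u * w = w * u
    calc u * w = (u * w)⁻¹ := (hi _ (mul_mem hu hw)).symm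
      _ = w * u := by rw [mul_inv_rev, hi u hu, hi w hw]
  have hxU : x ∈ Subgroup.normalizer (U : Set G) := mem_normalizer_of_conj_mem fun u hu => by
    rw [inv_eq_of_mul_eq_one_right hxx, show x * u * x = shift x u * u by rw [shift]; group]
    exact mul_mem (hRU (hsh u hu)) hu
  have hUnU : U ≤ Subgroup.normalizer (U : Set G) := Subgroup.le_normalizer
  have hconjC : ∀ g ∈ Subgroup.normalizer (U : Set G), ∀ y ∈ Subgroup.centralizer (U : Set G),
      g * y * g⁻¹ ∈ Subgroup.centralizer (U : Set G) := fun g hg y hy =>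
    Subgroup.mem_centralizer_iff.2 fun u hu => by
      have hu' := (Subgroup.mem_normalizer_iff.1 (inv_mem hg) u).1 hu
      calc u * (g * y * g⁻¹) = g * ((g⁻¹ * u * g⁻¹⁻¹) * y) * g⁻¹ := by group
        _ = g * (y * (g⁻¹ * u * g⁻¹⁻¹)) * g⁻¹ := by rw [Subgroup.mem_centralizer_iff.1 hy _ hu']
        _ = g * y * g⁻¹ * u := by group
  -- the group `H`
  set Z := Subgroup.zpowers j with hZ
  have hjK : j ∈ Subgroup.normalizer (K : Set G) :=
    mem_normalizer_of_conj_mem fun y hy => L.conj_K F.fix hy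
  have hZK : Z ≤ Subgroup.normalizer (K : Set G) := Subgroup.zpowers_le.2 hjK
  set H := (K ⊔ Z) ⊓ Subgroup.centralizer (U : Set G) with hH
  have hHa : H ≤ stabilizer G a :=
    inf_le_left.trans (sup_le L.point.le (Subgroup.zpowers_le.2 (mem_stabilizer_iff.2 F.fix)))
  have hjH : j ∈ H := ⟨Subgroup.mem_sup_right (Subgroup.mem_zpowers j),
    Subgroup.mem_centralizer_iff.2 fun u hu => (hjU u hu).eq.symm⟩
  have hHn : ∀ g ∈ K, g ∈ Subgroup.normalizer (U : Set G) → ∀ y ∈ H, g * y * g⁻¹ ∈ H :=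
    fun g hg hgU y hy => Subgroup.mem_inf.2 ⟨mul_mem (mul_mem (Subgroup.mem_sup_left hg) hy.1)
      (inv_mem (Subgroup.mem_sup_left hg)), hconjC g hgU y hy.2⟩
  have hxH : x ∈ Subgroup.normalizer (H : Set G) := mem_normalizer_of_conj_mem fun y hy => by
    refine ⟨?_, hconjC x hxU y hy.2⟩
    have hle : K ⊔ Z ≤ (K ⊔ Z).comap (MulAut.conj x).toMonoidHom :=
      sup_le (fun k hk => Subgroup.mem_sup_left (L.conj_K L.fix hk))
        (Subgroup.zpowers_le.2 (show x * j * x⁻¹ ∈ K ⊔ Z by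
          rw [F.comm.eq, mul_inv_cancel_right]
          exact Subgroup.mem_sup_right (Subgroup.mem_zpowers j)))
    exact hle hy.1
  obtain ⟨k, hk⟩ := F.order
  have hH2 : ∀ g ∈ K ⊔ Z, (∃ n : ℕ, g ^ 2 ^ n = 1) → g ∈ K := by
    rintro g hg ⟨n, hn⟩
    obtain ⟨c, hc, t, ht, rfl⟩ : ∃ c ∈ K, ∃ t ∈ Z, c * t = g := by
      rw [← SetLike.mem_coe, Subgroup.coe_mul_of_right_le_normalizer_left K Z hZK] at hg
      exact Set.mem_mul.1 hg
    have h1 := mul_pow_mul_inv_mem hc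
      (fun y hy => (Subgroup.mem_normalizer_iff.1 (hZK ht) y).1 hy) (p ^ k)
    have ht1 : t ^ p ^ k = 1 := by
      obtain ⟨i, rfl⟩ := Subgroup.mem_zpowers_iff.1 ht
      rw [← zpow_natCast (j ^ i), zpow_comm, zpow_natCast, ← hk, pow_orderOf_eq_one, one_zpow]
    rw [ht1, inv_one, mul_one] at h1
    have hcop : (p ^ k).Coprime (orderOf (c * t)) :=
      Nat.Coprime.coprime_dvd_right (orderOf_dvd_of_pow_eq_one hn)
        (((Nat.coprime_primes F.prime Nat.prime_two).2 F.ne_two).pow k n)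
    obtain ⟨m, hm⟩ := exists_pow_eq_self_of_coprime hcop
    rw [← hm]
    exact pow_mem h1 m
  have hUH : U ≤ H := fun u hu => ⟨Subgroup.mem_sup_left (hUK hu),
    Subgroup.mem_centralizer_iff.2 fun w hw => (hUc w hw u hu).eq⟩
  -- a maximal `p`-subgroup of `H` over `j` normalised by `x`
  obtain ⟨P, hle, hPmax⟩ := Set.Finite.exists_le_maximal
    (Set.toFinite {P : Subgroup G | IsPGroup p P ∧ P ≤ H ∧ x ∈ Subgroup.normalizer (P : Set G)})
    (show Z ∈ _ from ⟨F.isPGroup_zpowers, Subgroup.zpowers_le.2 hjH,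
      Subgroup.centralizer_le_normalizer _ (Subgroup.mem_centralizer_iff.2 fun t ht => by
        obtain ⟨i, rfl⟩ := Subgroup.mem_zpowers_iff.1 ht
        exact (F.comm.zpow_right i).eq.symm)⟩)
  obtain ⟨hP, hPH, hxP⟩ := hPmax.prop
  have hjP : j ∈ P := hle (Subgroup.mem_zpowers j)
  have hPa : P ≤ stabilizer G a := hPH.trans hHa
  have hcU : ∀ u ∈ U, ∀ y ∈ H, u * y * u⁻¹ = y := fun u hu y hy => by
    rw [Subgroup.mem_centralizer_iff.1 hy.2 u hu, mul_inv_cancel_right]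
  have hUP : U ≤ Subgroup.normalizer (P : Set G) := fun u hu =>
    mem_normalizer_of_conj_mem fun y hy => by rwa [hcU u hu y (hPH hy)]
  set M := H ⊓ Subgroup.normalizer (P : Set G) with hM
  have hPM : P ≤ M := le_inf hPH Subgroup.le_normalizer
  have hUM : U ≤ M := le_inf hUH hUP
  have hxM : x ∈ Subgroup.normalizer (M : Set G) := mem_normalizer_of_conj_mem fun y hy =>
    Subgroup.mem_inf.2 ⟨(Subgroup.mem_normalizer_iff.1 hxH y).1 hy.1, mul_mem (mul_mem hxP hy.2) (inv_mem hxP)⟩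
  have hoddM : Odd (U.relIndex M) := L.odd_relIndex_of_fixer h F hP hPa hjP hRU hU2 hsh honto
    inf_le_right (fun g hg => hH2 g hg.1.1) hUM hxM
  -- `x` fixes a Sylow `p`-subgroup of `M`, so this is `P`
  set φ : MulAut ↥M := Subgroup.normalizerMonoidHom M ⟨x, hxM⟩ with hφ
  have hφ2 : φ * φ = 1 := by
    rw [hφ, ← map_mul, show (⟨x, hxM⟩ : ↥(Subgroup.normalizer (M : Set G))) * ⟨x, hxM⟩ = 1 from
      Subtype.ext hxx, map_one]
  obtain ⟨S₀⟩ : Nonempty (Sylow p ↥M) := inferInstance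
  letI : Fintype (Sylow p ↥M) := Fintype.ofFinite _
  have hnd : ¬ 2 ∣ Fintype.card (Sylow p ↥M) := by
    rw [← Nat.card_eq_fintype_card, S₀.card_eq_index_normalizer]
    have hle' : U.subgroupOf M ≤ Subgroup.normalizer ((S₀ : Subgroup ↥M) : Set ↥M) := fun u hu =>
      mem_normalizer_of_conj_mem fun y hy => by
        rwa [show u * y * u⁻¹ = y from
          Subtype.ext (hcU u (Subgroup.mem_subgroupOf.1 hu) y y.2.1)]
    intro hd
    exact Nat.not_even_iff_odd.2 hoddM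
      (even_iff_two_dvd.2 (hd.trans (Subgroup.index_dvd_of_le hle')))
  have hinvol : Function.Involutive fun S : Sylow p ↥M => φ • S := fun S => by
    show φ • φ • S = S
    rw [← mul_smul, hφ2, one_smul]
  obtain ⟨S₁, hS₁⟩ := Equiv.Perm.exists_fixed_point_of_prime (p := 2) (n := 1) hnd
    (σ := hinvol.toPerm _) (Equiv.ext fun S => by
      simpa [pow_succ, Equiv.Perm.mul_apply] using hinvol S)
  have hS₁' : φ • S₁ = S₁ := hS₁
  set P₁ := (S₁ : Subgroup ↥M).map M.subtype with hP₁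
  have hxP₁ : x ∈ Subgroup.normalizer (P₁ : Set G) := mem_normalizer_of_conj_mem fun y hy => by
    obtain ⟨s, hs, rfl⟩ := hy
    refine ⟨φ • s, ?_, ?_⟩
    · have h1 : φ • s ∈ φ • (S₁ : Subgroup ↥M) := Subgroup.smul_mem_pointwise_smul s φ _ hs
      exact (congrArg (fun S : Sylow p ↥M => (S : Subgroup ↥M)) hS₁').le h1
    · simp [hφ]
  have hPP₁ : P ≤ P₁ := fun y hy => by
    haveI : (P.subgroupOf M).Normal := ⟨fun z hz g => Subgroup.mem_subgroupOf.2
      ((Subgroup.mem_normalizer_iff.1 g.2.2 z).1 (Subgroup.mem_subgroupOf.1 hz))⟩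
    have h1 := S₁.3 (S₁.2.to_sup_of_normal_right
      (hP.of_equiv (Subgroup.subgroupOfEquivOfLe hPM).symm)) le_sup_left
    exact ⟨⟨y, hPM hy⟩, h1.le (Subgroup.mem_sup_right (Subgroup.mem_subgroupOf.2 hy)), rfl⟩
  have hP₁P : P₁ ≤ P := hPmax.2
    (show P₁ ∈ {P : Subgroup G | IsPGroup p P ∧ P ≤ H ∧ x ∈ Subgroup.normalizer (P : Set G)} from
      ⟨S₁.2.map _, (Subgroup.map_subtype_le _).trans inf_le_left, hxP₁⟩) hPP₁
  -- so `P` is a Sylow `p`-subgroup of `H`
  obtain ⟨S₂, hS₂⟩ := (hP.of_equiv (Subgroup.subgroupOfEquivOfLe hPH).symm).exists_le_sylow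
  set P₂ := (S₂ : Subgroup ↥H).map H.subtype with hP₂
  have hPP₂ : P ≤ P₂ := fun y hy => ⟨⟨y, hPH hy⟩, hS₂ (Subgroup.mem_subgroupOf.2 hy), rfl⟩
  have hP₂P : P₂ ≤ P := by
    by_contra hlt
    haveI : Group.IsNilpotent ↥P₂ := (S₂.2.map _ : IsPGroup p P₂).isNilpotent
    have hlt' : P.subgroupOf P₂ < ⊤ := lt_top_iff_ne_top.2 fun e =>
      hlt (Subgroup.subgroupOf_eq_top.1 e)
    obtain ⟨y, hy, hyP⟩ :=
      SetLike.exists_of_lt (Group.normalizerCondition_of_isNilpotent (G := ↥P₂) _ hlt')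
    have hyn : (y : G) ∈ Subgroup.normalizer (P : Set G) := mem_normalizer_of_conj_mem fun z hz =>
      Subgroup.mem_subgroupOf.1 ((Subgroup.mem_normalizer_iff.1 hy ⟨z, hPP₂ hz⟩).1
        (Subgroup.mem_subgroupOf.2 hz))
    have hW : IsPGroup p ↥(P₂ ⊓ M : Subgroup G) := (S₂.2.map _ : IsPGroup p P₂).to_le inf_le_left
    have hyM : (y : G) ∈ P₂ ⊓ M := ⟨y.2, Subgroup.map_subtype_le _ y.2, hyn⟩
    have h1 := S₁.3 (hW.of_equiv (Subgroup.subgroupOfEquivOfLe inf_le_right).symm) (fun z hz =>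
      Subgroup.mem_subgroupOf.2 ⟨hPP₂ (hP₁P ⟨z, hz, rfl⟩), z.2⟩)
    exact hyP (Subgroup.mem_subgroupOf.2
      (hP₁P ⟨⟨y, hyM.2⟩, h1.le (Subgroup.mem_subgroupOf.2 hyM), rfl⟩))
  -- Frattini
  set P' := P.map (MulAut.conj v).toMonoidHom with hP'
  have hP'H : P' ≤ H := by
    rintro _ ⟨y, hy, rfl⟩
    exact hHn v hvK hvU y (hPH hy)
  obtain ⟨g, hg⟩ := Involution.Basic.exists_conj_le S₂
    ((hP.map _).of_equiv (Subgroup.subgroupOfEquivOfLe hP'H).symm : IsPGroup p (P'.subgroupOf H))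
  obtain ⟨t, ht, c, hc, htc⟩ : ∃ t ∈ Z, ∃ c ∈ K, t * c = (g : G) := by
    have h1 : (g : G) ∈ Z ⊔ K := sup_comm K Z ▸ g.2.1
    rw [← SetLike.mem_coe, Subgroup.coe_mul_of_left_le_normalizer_right Z K hZK] at h1
    exact Set.mem_mul.1 h1
  have htH : t ∈ H := (Subgroup.zpowers_le.2 hjH) ht
  have hcC : c ∈ Subgroup.centralizer (U : Set G) := by
    rw [show c = t⁻¹ * g by rw [← htc, inv_mul_cancel_left]]
    exact mul_mem (inv_mem htH.2) g.2.2
  have hmP : c * v ∈ Subgroup.normalizer (P : Set G) := mem_normalizer_of_conj_mem fun y hy => by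
    have hy' : v * y * v⁻¹ ∈ P' := ⟨y, hy, rfl⟩
    have h1 := hP₂P ⟨_, hg ⟨_, hP'H hy'⟩ (Subgroup.mem_subgroupOf.2 hy'), rfl⟩
    have htP : t ∈ P := hle ht
    have h2 := mul_mem (mul_mem (inv_mem htP) h1) htP
    simp only [Subgroup.coe_subtype, Subgroup.coe_mul, Subgroup.coe_inv, ← htc] at h2
    rwa [show t⁻¹ * (t * c * (v * y * v⁻¹) * (t * c)⁻¹) * t = c * v * y * (c * v)⁻¹ by group] at h2
  set N := K ⊓ Subgroup.normalizer (U : Set G) ⊓ Subgroup.normalizer (P : Set G) with hN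
  have hUN : U ≤ N := le_inf (le_inf hUK hUnU) hUP
  have hxN : x ∈ Subgroup.normalizer (N : Set G) := mem_normalizer_of_conj_mem fun y hy =>
    Subgroup.mem_inf.2 ⟨Subgroup.mem_inf.2 ⟨L.conj_K L.fix hy.1.1, mul_mem (mul_mem hxU hy.1.2) (inv_mem hxU)⟩,
      mul_mem (mul_mem hxP hy.2) (inv_mem hxP)⟩
  have hoddN : Odd (U.relIndex N) := L.odd_relIndex_of_fixer h F hP hPa hjP hRU hU2 hsh honto
    inf_le_right (fun g hg _ => hg.1.1) hUN hxN
  set C := K ⊓ Subgroup.centralizer (U : Set G) with hC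
  haveI : (C.subgroupOf N).Normal := ⟨fun z hz g => Subgroup.mem_subgroupOf.2
    (Subgroup.mem_inf.2 ⟨mul_mem (mul_mem g.2.1.1 (Subgroup.mem_subgroupOf.1 hz).1)
      (inv_mem g.2.1.1), hconjC g g.2.1.2 z (Subgroup.mem_subgroupOf.1 hz).2⟩)⟩
  have hidx : Odd (C.subgroupOf N).index := by
    refine Odd.of_dvd_nat hoddN (Subgroup.index_dvd_of_le ?_)
    exact fun u hu => Subgroup.mem_subgroupOf.2
      ⟨hUK (Subgroup.mem_subgroupOf.1 hu), (hUH (Subgroup.mem_subgroupOf.1 hu)).2⟩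
  set i := (C.subgroupOf N).index with hi
  have hmN : c * v ∈ N := ⟨⟨mul_mem hc hvK, mul_mem (Subgroup.centralizer_le_normalizer _ hcC) hvU⟩,
    hmP⟩
  have h1 : (c * v) ^ i ∈ C :=
    Subgroup.mem_subgroupOf.1 ((C.subgroupOf N).pow_index_mem ⟨c * v, hmN⟩)
  have h2 := mul_pow_mul_inv_mem (H := C) ⟨hc, hcC⟩ (t := v)
    (fun y hy => ⟨L.conj_K (mem_stabilizer_iff.1 (L.point.le hvK)) hy.1, hconjC v hvU y hy.2⟩) i
  have h3 : v ^ i ∈ C := by
    have := mul_mem (inv_mem h2) h1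
    simpa using this
  obtain ⟨n, hn⟩ := hv2
  obtain ⟨m, hm⟩ := exists_pow_eq_self_of_coprime (x := v) (n := i)
    (Nat.Coprime.coprime_dvd_right (orderOf_dvd_of_pow_eq_one hn) (hidx.coprime_two_right.pow_right n))
  rw [← hm]
  exact pow_mem h3.2 m

/-- An elementary `U` centralised by the fixer and normalised by `Q ≤ K` is the group of central
involutions of a Sylow 2-subgroup of `K`. -/
theorem exists_top_omCentre (h : ClosedSetting D Ω) (F : PrimaryFixer a x R Q p j) (hQK : Q ≤ K)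
    {U : Subgroup G} (hUK : U ≤ K) (hRU : R ≤ U) (hU2 : ∀ u ∈ U, u * u = 1)
    (hsh : ∀ u ∈ U, shift x u ∈ R) (honto : ∀ r ∈ R, ∃ u ∈ U, shift x u = r)
    (hjU : ∀ u ∈ U, Commute j u) (hQU : Q ≤ Subgroup.normalizer (U : Set G)) :
    ∃ S : Subgroup G, IsTopTwo S a ∧ x ∈ S ∧ Q ≤ S ∧ omCentre (S ⊓ K) = U := by
  haveI : Fact (Nat.Prime 2) := ⟨Nat.prime_two⟩
  have hxx := L.x_sq
  have hxi : x⁻¹ = x := inv_eq_of_mul_eq_one_right hxx
  have hU : IsPGroup 2 U := fun u => ⟨1, Subtype.ext (by simpa [pow_two] using hU2 u u.2)⟩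
  have hxU : x ∈ Subgroup.normalizer (U : Set G) := mem_normalizer_of_conj_mem fun u hu => by
    rw [hxi, show x * u * x = shift x u * u by rw [shift]; group]
    exact mul_mem (hRU (hsh u hu)) hu
  set N := K ⊓ Subgroup.normalizer (U : Set G) with hN
  have hxN : x ∈ Subgroup.normalizer (N : Set G) := mem_normalizer_of_conj_mem fun y hy =>
    Subgroup.mem_inf.2 ⟨L.conj_K L.fix hy.1, mul_mem (mul_mem hxU hy.2) (inv_mem hxU)⟩
  have hxQ : Subgroup.zpowers x ≤ Subgroup.normalizer (Q : Set G) :=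
    Subgroup.zpowers_le.2 (Subgroup.centralizer_le_normalizer _
      (Subgroup.mem_centralizer_iff.2 fun q hq => (L.comm q hq).eq.symm))
  obtain ⟨E, hEN, hE, hodd, hinv⟩ := exists_invariant (N := N)
    (L.two.to_sup_of_normal_left' (Involution.Basic.isPGroup_zpowers_of_two L.bad.1) hxQ)
    (sup_le ((le_inf hQK hQU).trans Subgroup.le_normalizer) (Subgroup.zpowers_le.2 hxN))
  have hQE : Q ≤ E := (le_sup_right (a := E)).trans (le_of_odd_relIndex hodd
    (hE.to_sup_of_normal_left' L.two (le_sup_left.trans hinv)) le_sup_left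
    (sup_le hEN (le_inf hQK hQU)))
  have hEc : ∀ e ∈ E, ∀ u ∈ U, Commute u e := fun e he u hu => by
    obtain ⟨n, hn⟩ := hE ⟨e, he⟩
    exact Subgroup.mem_centralizer_iff.1 (L.centralises_of_fixer h F hUK hRU hU2 hsh honto hjU
      (hEN he).1 (hEN he).2 ⟨n, congrArg Subtype.val hn⟩) u hu
  have hUnE : U ≤ Subgroup.normalizer (E : Set G) := fun u hu =>
    mem_normalizer_of_conj_mem fun e he => by
      rwa [(hEc e he u hu).eq, mul_inv_cancel_right]
  have hUE : U ≤ E := (le_sup_right (a := E)).trans (le_of_odd_relIndex hodd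
    (hE.to_sup_of_normal_left' hU hUnE) le_sup_left
    (sup_le hEN (le_inf hUK Subgroup.le_normalizer)))
  have hxE : x ∈ Subgroup.normalizer (E : Set G) :=
    hinv (Subgroup.mem_sup_right (Subgroup.mem_zpowers x))
  -- the central involutions of `E`
  have hEK : E ≤ K := hEN.trans inf_le_left
  have hfix : ∀ w ∈ omCentre E, Commute x w → w ∈ R := fun w hw hxw =>
    L.involution w (L.mem_inf h hE hEK (inf_le_right.trans hQE) hw.1 hxw).2 hw.2.1
  have hW : omCentre E = U := by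
    refine le_antisymm (fun w hw => ?_) fun u hu => ⟨hUE hu, hU2 u hu, fun e he => hEc e he u hu⟩
    have hw' := (Subgroup.mem_normalizer_iff.1 (normalizer_le_omCentre E hxE) w).1 hw
    have hy : shift x w ∈ omCentre E := by
      rw [show shift x w = x * w * x⁻¹ * w⁻¹ by rw [hxi, shift]; group]
      exact mul_mem hw' (inv_mem hw)
    have hc : Commute x (shift x w) := by
      have h1 : x * shift x w * (x * shift x w) = 1 := by
        rw [← conj_eq_mul_shift hxx,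
          show w * x * w⁻¹ * (w * x * w⁻¹) = w * (x * x) * w⁻¹ by group, hxx]
        group
      show x * shift x w = shift x w * x
      calc x * shift x w = (x * shift x w)⁻¹ := (inv_eq_of_mul_eq_one_right h1).symm
        _ = shift x w * x := by rw [mul_inv_rev, hxi, inv_eq_of_mul_eq_one_right hy.2.1]
    obtain ⟨u, hu, e⟩ := honto _ (hfix _ hy hc)
    have hu' : u ∈ omCentre E := ⟨hUE hu, hU2 u hu, fun e he => hEc e he u hu⟩
    have h1 := hRU (hfix _ (mul_mem (inv_mem hu') hw) ((shift_eq_iff hxx).1 e))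
    simpa using mul_mem hu h1
  obtain ⟨S, hS, hle⟩ := exists_top_two (hE.to_sup_of_normal_left'
    (Involution.Basic.isPGroup_zpowers_of_two L.bad.1) (Subgroup.zpowers_le.2 hxE))
    (sup_le (hEK.trans L.point.le) (Subgroup.zpowers_le.2 (mem_stabilizer_iff.2 L.fix)))
  have hxS : x ∈ S := hle (Subgroup.mem_sup_right (Subgroup.mem_zpowers x))
  have hES : E ≤ S ⊓ K := le_inf (le_sup_left.trans hle) hEK
  have hTE : S ⊓ K ≤ E := by
    by_contra hlt
    obtain ⟨g, hg, hgE, hgn, -⟩ := exists_growth (K := K) (A := E) hxx hxS hS.1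
      (fun k hk => by simpa [hxi] using L.conj_K L.fix hk) (L.x_notMem h) hES
      (fun e he => by simpa [hxi] using (Subgroup.mem_normalizer_iff.1 hxE e).1 he) hlt
    have h1 := le_of_odd_relIndex hodd
      (hS.1.to_le (inf_le_left.trans inf_le_left) :
        IsPGroup 2 ↥(S ⊓ K ⊓ Subgroup.normalizer (E : Set G) : Subgroup G))
      (le_inf hES Subgroup.le_normalizer)
      (fun y hy => ⟨hy.1.2, hW ▸ normalizer_le_omCentre E hy.2⟩)
    exact hgE (h1 ⟨hg, hgn⟩)
  exact ⟨S, hS, hxS, hQE.trans (hES.trans inf_le_left), by rw [le_antisymm hTE hES, hW]⟩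

end CurvedLine

namespace CurvedBase

variable [Finite G] {B : Subgroup G}

/-- On a unitary line a fixer normalises the base. -/
theorem exists_fixer (M : CurvedBase D a x K R Q J B) (U : UnitaryLine D a x K R Q J) :
    ∃ p j, PrimaryFixer a x R Q p j ∧ j ∈ Subgroup.normalizer (B : Set G) := by
  have L := M.line
  obtain ⟨n₁, hn₁, hodd, hR, hfpf⟩ := U.norm_one
  obtain ⟨p, h₀, hh, F⟩ := L.exists_primary hn₁ hodd hR hfpf
  haveI : Fact p.Prime := ⟨F.prime⟩
  obtain ⟨c, hcK, hcx, hcR, hcT, hg⟩ := M.torus h₀ hh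
  set g := c * h₀ with hgdef
  obtain ⟨e, m, hm, hem⟩ :=
    Nat.exists_eq_pow_mul_and_not_dvd (orderOf_pos g).ne' p F.prime.ne_one
  have hm0 : m ≠ 0 := fun e0 => hm (e0 ▸ dvd_zero p)
  have hga : g • a = a := by
    rw [hgdef, mul_smul, F.fix, mem_stabilizer_iff.1 (L.point.le hcK)]
  have hgR : ∀ r ∈ R, Commute g r := fun r hr =>
    Commute.mul_left (show Commute c r from (Subgroup.mem_centralizer_iff.1 hcR r hr).symm)
      (F.central r hr)
  have hgQ : g ∈ Subgroup.normalizer (Q : Set G) := mul_mem (mem_trivGroup.1 hcT).1 F.normQ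
  have hnR : ∀ {t : G}, t ∈ Subgroup.normalizer (Q : Set G) →
      t ∈ Subgroup.normalizer (R : Set G) := fun ht => L.mem_normalizer_R ht
  have hT : ∀ y ∈ trivGroup R Q, h₀ * y * h₀⁻¹ ∈ trivGroup R Q := by
    intro y hy
    obtain ⟨h1, h2, h3⟩ := mem_trivGroup.1 hy
    refine mem_trivGroup.2 ⟨mul_mem (mul_mem F.normQ h1) (inv_mem F.normQ),
      mul_mem (mul_mem (hnR F.normQ) h2) (inv_mem (hnR F.normQ)), fun q hq => ?_⟩
    have hq' := (Subgroup.mem_normalizer_iff.1 (inv_mem F.normQ) q).1 hq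
    rw [show h₀ * y * h₀⁻¹ * q * (h₀ * y * h₀⁻¹)⁻¹ * q⁻¹ =
      h₀ * (y * (h₀⁻¹ * q * h₀⁻¹⁻¹) * y⁻¹ * (h₀⁻¹ * q * h₀⁻¹⁻¹)⁻¹) * h₀⁻¹ by group]
    exact (Subgroup.mem_normalizer_iff.1 (hnR F.normQ) _).1 (h3 _ hq')
  refine ⟨p, g ^ m, ⟨F.prime, F.ne_two, ⟨e, ?_⟩,
    mem_stabilizer_iff.1 (pow_mem (mem_stabilizer_iff.2 hga) m), (hcx.mul_right F.comm).pow_right m,
    fun r hr => (hgR r hr).pow_left m, pow_mem hgQ m, fun q hq hqR => ?_⟩, pow_mem hg m⟩
  · rw [orderOf_pow_of_dvd hm0 (hem ▸ dvd_mul_left m _), hem,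
      Nat.mul_div_cancel _ (Nat.pos_of_ne_zero hm0)]
  set y := g ^ m * (h₀ ^ m)⁻¹ with hy
  have hyT : y ∈ trivGroup R Q := mul_pow_mul_inv_mem hcT hT m
  set q' := h₀ ^ m * q * (h₀ ^ m)⁻¹ with hq'
  have hq'Q : q' ∈ Q := (Subgroup.mem_normalizer_iff.1 (pow_mem F.normQ m) q).1 hq
  have h1 : q' * q⁻¹ ∈ R := by
    rw [show q' * q⁻¹ = (y * q' * y⁻¹ * q'⁻¹)⁻¹ * (g ^ m * q * (g ^ m)⁻¹ * q⁻¹) by
      rw [hq', hy]; group]
    exact mul_mem (inv_mem ((mem_trivGroup.1 hyT).2.2 q' hq'Q)) hqR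
  obtain ⟨k, hk⟩ := F.order
  obtain ⟨i, hi⟩ := exists_pow_eq_self_of_coprime (x := h₀) (n := m)
    (hk ▸ ((F.prime.coprime_iff_not_dvd.2 hm).pow_left k).symm)
  refine F.fpf q hq ?_
  have := pow_fix_class (s := h₀ ^ m) (g := q) (fun r hr => by
    rwa [((F.central r hr).pow_left m).eq, mul_inv_cancel_right]) h1 i
  rwa [hi] at this

variable (M : CurvedBase D a x K R Q J B) (F : PrimaryFixer a x R Q p j)
include M F

/-- The part of the base centralised by the fixer realises all translations. -/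
theorem exists_shift_fixed (hQK : Q ≤ K) (hjB : j ∈ Subgroup.normalizer (B : Set G)) {r : G}
    (hr : r ∈ R) : ∃ u ∈ B, Commute j u ∧ shift x u = r := by
  haveI : Fact p.Prime := ⟨F.prime⟩
  obtain ⟨b, hb, hbr⟩ := M.onto r hr
  have hxx := M.line.x_sq
  set Z := Subgroup.zpowers j with hZ
  let α := {y : G // y ∈ B ∧ shift x y = r}
  have hZB : Z ≤ Subgroup.normalizer (B : Set G) := Subgroup.zpowers_le.2 hjB
  letI : MulAction ↥Z α :=
    { smul := fun g y => ⟨(g : G) * y * (g : G)⁻¹,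
        (Subgroup.mem_normalizer_iff.1 (hZB g.2) _).1 y.2.1, by
          obtain ⟨i, hi⟩ := Subgroup.mem_zpowers_iff.1 g.2
          rw [← hi, shift_conj (F.comm.zpow_right i), y.2.2, ((F.central r hr).zpow_left i).eq,
            mul_inv_cancel_right]⟩
      one_smul := fun y => Subtype.ext (by show (1 : G) * y * (1 : G)⁻¹ = y; simp)
      mul_smul := fun g g' y => Subtype.ext (by
        show ((g : G) * g') * y * ((g : G) * g')⁻¹ = g * (g' * y * (g' : G)⁻¹) * (g : G)⁻¹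
        group) }
  have hcard : Nat.card α = Nat.card Q := by
    refine (Nat.card_eq_of_bijective (fun q : Q => (⟨b * q,
      mul_mem hb (M.inf_le ⟨hQK q.2, q.2⟩), by
        rw [shift_mul hxx, (shift_eq_one hxx).2 (M.line.comm q q.2), hbr, mul_one, mul_inv_cancel,
          mul_one]⟩ : α)) ⟨?_, ?_⟩).symm
    · intro q q' e
      exact Subtype.ext (mul_left_cancel (congrArg Subtype.val e : b * (q : G) = b * q'))
    · rintro ⟨y, hy, hyr⟩
      exact ⟨⟨_, (M.fix _ (mul_mem (inv_mem hb) hy) ((shift_eq_iff hxx).1 (hbr.trans hyr.symm))).2⟩,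
        Subtype.ext (mul_inv_cancel_left b y)⟩
  have hnd : ¬ p ∣ Nat.card α := by
    obtain ⟨n, hn⟩ := M.line.two.exists_card_eq
    rw [hcard, hn]
    exact fun hd => F.ne_two ((Nat.prime_dvd_prime_iff_eq F.prime Nat.prime_two).1
      (F.prime.dvd_of_dvd_pow hd))
  obtain ⟨⟨u, hu, hur⟩, hfix⟩ := F.isPGroup_zpowers.nonempty_fixed_point_of_prime_not_dvd_card α hnd
  exact ⟨u, hu, mul_inv_eq_iff_eq_mul.1
    (congrArg Subtype.val (hfix ⟨j, Subgroup.mem_zpowers j⟩)), hur⟩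

/-- If the part of the base centralised by the fixer is elementary, `x` moves a central member of
some maximal 2-subgroup containing it. -/
theorem exists_moved_of_elementary (h : ClosedSetting D Ω) (hQK : Q ≤ K)
    (hjB : j ∈ Subgroup.normalizer (B : Set G))
    (hsq : ∀ u ∈ B, Commute j u → u * u = 1) :
    ∃ S : Subgroup G, IsTopTwo S a ∧ x ∈ S ∧ Q ≤ S ∧ R ≤ omCentre (S ⊓ K) ∧
      ∃ z ∈ omCentre (S ⊓ K), ¬ Commute x z := by
  have L := M.line
  set U := B ⊓ Subgroup.centralizer ({j} : Set G) with hU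
  have hjU : ∀ u ∈ U, Commute j u := fun u hu =>
    (Subgroup.mem_centralizer_singleton_iff.1 hu.2).symm
  have hRU : R ≤ U := fun r hr => ⟨M.inf_le ⟨L.le_K hr, L.le hr⟩,
    Subgroup.mem_centralizer_singleton_iff.2 (F.central r hr).symm.eq⟩
  have honto : ∀ r ∈ R, ∃ u ∈ U, shift x u = r := fun r hr => by
    obtain ⟨u, hu, hju, e⟩ := M.exists_shift_fixed F hQK hjB hr
    exact ⟨u, ⟨hu, Subgroup.mem_centralizer_singleton_iff.2 hju.symm.eq⟩, e⟩
  have hQU : Q ≤ Subgroup.normalizer (U : Set G) := fun q hq =>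
    mem_normalizer_of_conj_mem fun u hu => by
      rw [show q * u * q⁻¹ = (u * q * u⁻¹ * q⁻¹)⁻¹ * u by group]
      exact mul_mem (inv_mem (hRU (M.triv u hu.1 q hq))) hu
  obtain ⟨S, hS, hxS, hQS, e⟩ := L.exists_top_omCentre h F hQK (inf_le_left.trans M.le) hRU
    (fun u hu => hsq u hu.1 (hjU u hu)) (fun u hu => M.shift_mem u hu.1) honto hjU hQU
  refine ⟨S, hS, hxS, hQS, e ▸ hRU, ?_⟩
  haveI : Nontrivial R := Finite.one_lt_card_iff_nontrivial.1 (by have := L.four; omega)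
  obtain ⟨r, hr⟩ := exists_ne (1 : R)
  obtain ⟨u, hu, hur⟩ := honto r r.2
  exact ⟨u, e.symm ▸ hu, fun hc => hr (Subtype.ext (hur ▸ (shift_eq_one L.x_sq).2 hc))⟩

end CurvedBase

end CfsgLib.LocalEven.OnePointFront.Nonfull
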