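import Cfsg.Agent.Lib.LocalEven.OnePointFront.Nonfull.Curved.Rigid

/-!
# Unitary lines: no bad involution shifts `x` out of `R` along `Q`

If `e` centralises `Q` and every element of `R` is the square of an element of `K` centralising `Q`,
commuting with `e` and inverted by `x`, then `x e q` is not bad for `q ∈ Q \ R`: it would centralise
a member outside `R`, against the maximal rank.  The norm-one element gives two square roots of
`q * q` in different classes modulo `R`.
-/

set_option autoImplicit false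
set_option linter.style.haveILetI false

namespace CfsgLib.LocalEven.OnePointFront.Nonfull

open MulAction CfsgLib.LocalEven.TIEndgame CfsgLib.Involution

universe u v

variable {G : Type u} {Ω : Type v} [Group G] [Finite G] [MulAction G Ω] {D : Set G} {a : Ω} {x : G}
  {K R Q J : Subgroup G}

/-- An involution of `K` centralising `R` and commuting with a bad involution at `a` centralising `R`
lies in `R`, by the maximal rank. -/
theorem mem_of_maxRank (hK : PointGroup D a K) (hmax : MaxRank D Ω R) (hRsq : ∀ r ∈ R, r * r = 1)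
    (hRK : R ≤ K) {y u : G} (hy : IsBad Ω y) (hyR : ∀ r ∈ R, Commute y r) (hu : u ∈ K)
    (hu2 : u * u = 1) (huR : ∀ r ∈ R, Commute u r) (hyu : Commute y u) : u ∈ R := by
  by_contra hne
  have hui : u⁻¹ = u := inv_eq_of_mul_eq_one_right hu2
  have hinv : ∀ r ∈ R, r⁻¹ = r := fun r hr => inv_eq_of_mul_eq_one_right (hRsq r hr)
  let U : Subgroup G :=
    { carrier := {g | g ∈ R ∨ u * g ∈ R}
      one_mem' := Or.inl R.one_mem
      mul_mem' := by
        rintro g k (hg | hg) (hk | hk)
        · exact Or.inl (mul_mem hg hk)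
        · exact Or.inr (by rw [← mul_assoc, (huR g hg).eq, mul_assoc]; exact mul_mem hg hk)
        · exact Or.inr (by rw [← mul_assoc]; exact mul_mem hg hk)
        · refine Or.inl ?_
          have e1 : g * k = u * g * (u * k) :=
            calc g * k = u * (u * g) * k := by rw [← mul_assoc u u g, hu2, one_mul]
              _ = u * g * u * k := by rw [(huR _ hg).eq]
              _ = _ := mul_assoc _ _ _
          rw [e1]
          exact mul_mem hg hk
      inv_mem' := by
        rintro g (hg | hg)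
        · exact Or.inl (inv_mem hg)
        · refine Or.inr ?_
          have h1 : g = u * (u * g) := by rw [← mul_assoc, hu2, one_mul]
          rw [h1, mul_inv_rev, hinv _ hg, hui, ← mul_assoc, (huR _ hg).eq, mul_assoc, hu2, mul_one]
          exact hg }
  have hform : ∀ g ∈ U, g ∈ R ∨ ∃ r ∈ R, g = u * r := by
    rintro g (hg | hg)
    · exact Or.inl hg
    · exact Or.inr ⟨u * g, hg, by rw [← mul_assoc, hu2, one_mul]⟩
  have hsqU : ∀ g ∈ U, g * g = 1 := by
    intro g hg
    rcases hform g hg with hg | ⟨r, hr, rfl⟩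
    · exact hRsq g hg
    · rw [show u * r * (u * r) = u * (r * u) * r by group, ← (huR r hr).eq,
        show u * (u * r) * r = (u * u) * (r * r) by group, hu2, hRsq r hr, one_mul]
  have hKU : U ≤ K := by
    intro g hg
    rcases hform g hg with hg | ⟨r, hr, rfl⟩
    exacts [hRK hg, mul_mem hu (hRK hr)]
  have hle := hmax y a U hy hsqU
    (fun g hg hg1 => hK.invol_mem g (hKU hg)
      (orderOf_eq_prime (by rw [pow_two]; exact hsqU g hg) hg1))
    (fun g hg => by
      rcases hform g hg with hg | ⟨r, hr, rfl⟩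
      exacts [hyR g hg, hyu.mul_right (hyR r hr)])
  refine hne ?_
  have hRU : R ≤ U := fun r hr => Or.inl hr
  rw [Subgroup.eq_of_le_of_card_ge hRU hle]
  exact Or.inr (by rw [hu2]; exact R.one_mem)

/-- No bad involution `x e q` with `q` in `Q` outside `R`. -/
theorem UnitaryLine.false_of_shifted (L : UnitaryLine D a x K R Q J) (hmax : MaxRank D Ω R)
    (hQK : Q ≤ K) {e q : G} (heQ : ∀ g ∈ Q, Commute e g) (hq : q ∈ Q) (hqR : q ∉ R)
    (hbad : IsBad Ω (x * (e * q)))
    (hroot : ∀ r ∈ R, ∃ w ∈ K, w * w = r ∧ x * w * x = w⁻¹ ∧ Commute w e ∧ ∀ g ∈ Q, Commute w g) :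
    False := by
  have C := L.toCurvedLine
  obtain ⟨j, hj, -, hjR, hfpf⟩ := L.norm_one
  have hx2 : x * x = 1 := Dihedral.mul_self C.bad.1
  have hxi : x⁻¹ = x := inv_eq_of_mul_eq_one_right hx2
  have hc : ∀ r ∈ R, ∀ g ∈ Q, g * r = r * g := fun r hr g hg => (C.central g hg r hr).eq
  set q' := j * q * j⁻¹ with hq'
  have hq'Q : q' ∈ Q := C.J_conj_Q hj hq
  have hqq : q' * q' = q * q := by
    rw [show q' * q' = j * (q * q) * j⁻¹ by rw [hq']; group, (hjR _ (C.sq_mem q hq)).eq,
      mul_inv_cancel_right]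
  set q₁ := q'⁻¹ * q with hq₁
  have hq₁Q : q₁ ∈ Q := mul_mem (inv_mem hq'Q) hq
  have hq₁R : q₁ ∉ R := by
    intro h1
    refine hqR (hfpf q hq ?_)
    show q' * q⁻¹ ∈ R
    have : q' * q⁻¹ = q₁⁻¹ := by
      rw [hq₁, mul_inv_rev, inv_inv]
      have h2 := hc q₁ h1 q' hq'Q
      rw [hq₁, ← mul_assoc, mul_inv_cancel, one_mul] at h2
      calc q' * q⁻¹ = q⁻¹ * (q * q') * q⁻¹ := by group
        _ = q⁻¹ * (q'⁻¹ * q * q' * q') * q⁻¹ := by rw [← h2]
        _ = q⁻¹ * (q'⁻¹ * q * (q' * q')) * q⁻¹ := by group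
        _ = q⁻¹ * (q'⁻¹ * q * (q * q)) * q⁻¹ := by rw [hqq]
        _ = q⁻¹ * (q'⁻¹ * (q * q) * q) * q⁻¹ := by group
        _ = q⁻¹ * (q'⁻¹ * (q' * q') * q) * q⁻¹ := by rw [hqq]
        _ = q⁻¹ * q' := by group
    rw [this]
    exact inv_mem h1
  set r := q₁ * q₁ with hr
  have hrR : r ∈ R := C.sq_mem q₁ hq₁Q
  have hr2 : r * r = 1 := C.sq r hrR
  have hrc : q * q₁ * q⁻¹ = r * q₁ := by
    have h1 : r = q * q'⁻¹ * q * q'⁻¹ := by
      calc r = q' * r * q'⁻¹ := by rw [hc r hrR q' hq'Q, mul_inv_cancel_right]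
        _ = _ := by rw [hr, hq₁]; group
    calc q * q₁ * q⁻¹ = q * q'⁻¹ := by rw [hq₁]; group
      _ = q * q'⁻¹ * q * (q * q)⁻¹ * q := by group
      _ = q * q'⁻¹ * q * (q' * q')⁻¹ * q := by rw [hqq]
      _ = r * q₁ := by rw [h1, hq₁]; group
  obtain ⟨w, hwK, hww, hxw, hwe, hwQ⟩ := hroot r hrR
  have hwr : Commute w r := hwQ r (C.le hrR)
  set u := q₁ * w with hu
  have huu : u * u = 1 := by
    rw [hu, show q₁ * w * (q₁ * w) = q₁ * (w * q₁) * w by group, (hwQ q₁ hq₁Q).eq,
      show q₁ * (q₁ * w) * w = (q₁ * q₁) * (w * w) by group, hww, ← hr, hr2]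
  have huR : u ∉ R := by
    intro h1
    -- otherwise `q₁` would be central in `Q`, so an involution
    have hq₁c : Commute q q₁ := by
      rw [show q₁ = u * w⁻¹ by rw [hu]; group]
      exact (C.central q hq u h1).mul_right (hwQ q hq).symm.inv_right
    have h3 : r = 1 := by
      have := hrc
      rw [hq₁c.eq, mul_inv_cancel_right] at this
      exact mul_right_cancel (this.symm.trans (one_mul q₁).symm)
    exact hq₁R (C.involution q₁ hq₁Q h3)
  have hconj : Commute (x * (e * q)) u := by
    have h1 : (e * q) * u * (e * q)⁻¹ = r * q₁ * w := by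
      calc (e * q) * u * (e * q)⁻¹ = e * ((q * q₁ * q⁻¹) * (q * w * q⁻¹)) * e⁻¹ := by
            rw [hu]; group
        _ = e * (r * q₁ * w) * e⁻¹ := by
            rw [hrc, show q * w * q⁻¹ = w by rw [← (hwQ q hq).eq, mul_inv_cancel_right]]
        _ = r * q₁ * w := by
            rw [(((heQ r (C.le hrR)).mul_right (heQ q₁ hq₁Q)).mul_right hwe.symm).eq,
              mul_inv_cancel_right]
    have hxr : x * r * x = r := by
      rw [(C.comm r (C.le hrR)).eq, mul_assoc, hx2, mul_one]
    have hxq : x * q₁ * x = q₁ := by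
      rw [(C.comm q₁ hq₁Q).eq, mul_assoc, hx2, mul_one]
    have h2 : x * (r * q₁ * w) * x = u := by
      calc x * (r * q₁ * w) * x = (x * r * x) * (x * q₁ * x) * (x * w * x) := by
            rw [show x * r * x * (x * q₁ * x) * (x * w * x) =
              x * r * (x * x) * q₁ * (x * x) * w * x by group, hx2]; group
        _ = r * q₁ * w⁻¹ := by rw [hxr, hxq, hxw]
        _ = q₁ * (r * w⁻¹) := by rw [← hc r hrR q₁ hq₁Q, mul_assoc]
        _ = u := by rw [← hww, hu]; group
    show x * (e * q) * u = u * (x * (e * q))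
    rw [← mul_inv_eq_iff_eq_mul]
    calc x * (e * q) * u * (x * (e * q))⁻¹ = x * ((e * q) * u * (e * q)⁻¹) * x := by
          rw [mul_inv_rev, hxi]; group
      _ = u := by rw [h1, h2]
  refine huR (mem_of_maxRank C.point hmax C.sq ((C.le).trans hQK) hbad (fun s hs => ?_)
    (mul_mem (hQK hq₁Q) hwK) huu (fun s hs => (C.central q₁ hq₁Q s hs).mul_left (hwQ s (C.le hs)))
    hconj)
  exact (C.comm s (C.le hs)).mul_left ((heQ s (C.le hs)).mul_left (C.central q hq s hs))

end CfsgLib.LocalEven.OnePointFront.Nonfull
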